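import Cfsg.Agent.Lib.Blocks.CentralChar

/-!
# Inflation of characters along a surjective homomorphism, and its central characters
-/

set_option autoImplicit false
set_option linter.unusedSectionVars false

namespace CfsgLib.Blocks

open Cfsg
open scoped ComplexConjugate CfsgLib.Char

variable {G G' : Type*} [Group G] [Group G']

theorem isIrreducible_comp_of_surjective {V : Type*} [AddCommGroup V] [Module ℂ V]
    (ρ : Representation ℂ G' V) (f : G →* G') (hf : Function.Surjective f) :
    (Representation.IsIrreducible (ρ.comp f : Representation ℂ G V)) ↔ ρ.IsIrreducible := by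
  let e : Subrepresentation ρ ≃o Subrepresentation (ρ.comp f : Representation ℂ G V) :=
    { toFun := fun A => ⟨A.toSubmodule, fun g v hv => A.apply_mem_toSubmodule (f g) hv⟩
      invFun := fun A => ⟨A.toSubmodule, fun g' v hv => by
        obtain ⟨g, rfl⟩ := hf g'
        exact A.apply_mem_toSubmodule g hv⟩
      left_inv := fun A => Subrepresentation.toSubmodule_injective rfl
      right_inv := fun A => Subrepresentation.toSubmodule_injective rfl
      map_rel_iff' := Iff.rfl }
  exact (OrderIso.isSimpleOrder_iff e).symm

theorem isIrrCharacter_comp_of_surjective {η : G' → ℂ} (hη : IsIrrCharacter G' η) (f : G →* G')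
    (hf : Function.Surjective f) : IsIrrCharacter G (η ∘ f) := by
  obtain ⟨n, ρ, hρ, rfl⟩ := hη
  exact ⟨n, ρ.comp f, (isIrreducible_comp_of_surjective ρ f hf).mpr hρ, rfl⟩

/-- Inflation of an irreducible character along a surjection. -/
noncomputable def inflate (f : G →* G') (hf : Function.Surjective f) (η : IrrCharacter G') :
    IrrCharacter G := ⟨(η : G' → ℂ) ∘ f, isIrrCharacter_comp_of_surjective η.2 f hf⟩

theorem inflate_injective (f : G →* G') (hf : Function.Surjective f) :
    Function.Injective (inflate f hf) := fun _ _ h =>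
  Subtype.ext (hf.injective_comp_right (congrArg Subtype.val h))

/-- The size of a class is a multiple of the size of its image class, by the size of the part of
the class lying over the image of the chosen element. -/
theorem card_class_eq_fiber_mul [Finite G] (f : G →* G') (hf : Function.Surjective f) (g : G) :
    Nat.card {h : G // IsConj g h} =
      Nat.card {h : G // IsConj g h ∧ f h = f g} * Nat.card {h' : G' // IsConj (f g) h'} := by
  classical
  have : Finite G' := Finite.of_surjective f hf
  set π : {h : G // IsConj g h} → {h' : G' // IsConj (f g) h'} :=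
    fun h => ⟨f h.1, f.map_isConj h.2⟩ with hπ
  have hfib : ∀ y, Nat.card {x // π x = y} = Nat.card {h : G // IsConj g h ∧ f h = f g} := fun y => by
    obtain ⟨c', hc'⟩ := isConj_iff.mp y.2
    obtain ⟨c, rfl⟩ := hf c'
    let e : {h : G // IsConj g h ∧ f h = f g} ≃ {x // π x = y} :=
      { toFun := fun h => ⟨⟨c * h.1 * c⁻¹, h.2.1.trans (isConj_iff.mpr ⟨c, rfl⟩)⟩,
          Subtype.ext (by simp [hπ, h.2.2, hc'])⟩
        invFun := fun x => ⟨c⁻¹ * x.1.1 * c, x.1.2.trans (isConj_iff.mpr ⟨c⁻¹, by group⟩), by
          have hx : f x.1.1 = y.1 := congrArg Subtype.val x.2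
          rw [map_mul, map_mul, map_inv, hx, ← hc']
          group⟩
        left_inv := fun h => Subtype.ext (by group)
        right_inv := fun x => Subtype.ext (Subtype.ext (by group)) }
    exact (Nat.card_congr e).symm
  have : Fintype {h' : G' // IsConj (f g) h'} := Fintype.ofFinite _
  rw [Nat.card_congr (Equiv.sigmaFiberEquiv π).symm, Nat.card_sigma,
    Finset.sum_congr rfl fun y _ => hfib y]
  rw [Finset.sum_const, Finset.card_univ, smul_eq_mul, mul_comm, Nat.card_eq_fintype_card (α := {h' : G' // IsConj (f g) h'})]

theorem index_centralizer_eq_fiber_mul [Finite G] (f : G →* G') (hf : Function.Surjective f) (g : G) :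
    (Subgroup.centralizer ({g} : Set G)).index =
      Nat.card {h : G // IsConj g h ∧ f h = f g} * (Subgroup.centralizer ({f g} : Set G')).index := by
  rw [index_centralizer_eq_card, index_centralizer_eq_card, card_class_eq_fiber_mul f hf g]

/-- The central character of an inflated function. -/
theorem centralChar_comp [Finite G] (f : G →* G') (hf : Function.Surjective f) (η : G' → ℂ) (g : G) :
    centralChar (η ∘ f) g =
      (Nat.card {h : G // IsConj g h ∧ f h = f g} : ℂ) * centralChar η (f g) := by
  simp only [centralChar, Function.comp_apply, map_one, index_centralizer_eq_fiber_mul f hf g,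
    Nat.cast_mul]
  ring

/-- An irreducible character with a normal subgroup in its kernel comes from the quotient. -/
theorem exists_inflate_eq (N : Subgroup G) [N.Normal] {n : ℕ}
    (ρ : Representation ℂ G (Fin n → ℂ)) [hρ : ρ.IsIrreducible] (hN : ∀ u ∈ N, ρ u = 1) :
    ∃ η : IrrCharacter (G ⧸ N), ρ.character = (η : G ⧸ N → ℂ) ∘ QuotientGroup.mk := by
  let σ : Representation ℂ (G ⧸ N) (Fin n → ℂ) := QuotientGroup.lift N ρ fun u hu => hN u hu
  have hσ : σ.IsIrreducible :=
    (isIrreducible_comp_of_surjective σ (QuotientGroup.mk' N) (QuotientGroup.mk'_surjective N)).mp hρ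
  exact ⟨⟨σ.character, n, σ, hσ, rfl⟩, rfl⟩

/-- An irreducible character taking the value of the degree on a normal subgroup comes from the
quotient. -/
theorem exists_inflate_eq_of_ker [Finite G] (N : Subgroup G) [N.Normal] (χ : IrrCharacter G)
    (hN : ∀ u ∈ N, (χ : G → ℂ) u = (χ : G → ℂ) 1) :
    ∃ η : IrrCharacter (G ⧸ N), χ = inflate (QuotientGroup.mk' N) (QuotientGroup.mk'_surjective N) η := by
  obtain ⟨n, ρ, hρ, hχ⟩ := χ.2
  obtain ⟨η, hη⟩ := exists_inflate_eq N ρ fun u hu => by
    have := hN u hu
    rw [← hχ, Representation.char_one] at this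
    exact (Char.character_eq_finrank_iff ρ u).mp this
  exact ⟨η, Subtype.ext (hχ ▸ hη)⟩

end CfsgLib.Blocks
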