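import Mathlib
import Cfsg.Prelude.Def_Blocks

/-!
# The local ring at a maximal ideal of the algebraic integers

`MemLocalRing M` is a subring `locRing M` of `ℂ`, `MemLocalIdeal M` its maximal ideal `locIdeal M`,
and `res M` is the map to the residue field.
-/

set_option autoImplicit false
set_option linter.unusedSectionVars false

namespace CfsgLib.Blocks

open Cfsg

variable {M : Ideal AlgInt}

/-! ### Prime ideals -/

section Prime

variable [hMp : M.IsPrime]

theorem one_notMem : (1 : AlgInt) ∉ M := fun h => hMp.ne_top ((Ideal.eq_top_iff_one M).mpr h)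

theorem coe_ne_zero_of_notMem {b : AlgInt} (hb : b ∉ M) : (b : ℂ) ≠ 0 := fun h => by
  have : b = 0 := Subtype.ext h
  exact hb (this ▸ M.zero_mem)

theorem mul_notMem {a b : AlgInt} (ha : a ∉ M) (hb : b ∉ M) : a * b ∉ M := fun h =>
  (hMp.mem_or_mem h).elim ha hb

theorem memLocalRing_coe (a : AlgInt) : MemLocalRing M (a : ℂ) :=
  ⟨a, 1, one_notMem, by simp⟩

theorem memLocalRing_of_isIntegral {z : ℂ} (h : IsIntegral ℤ z) : MemLocalRing M z :=
  memLocalRing_coe ⟨z, h⟩

theorem memLocalRing_natCast (n : ℕ) : MemLocalRing M (n : ℂ) :=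
  memLocalRing_of_isIntegral (isIntegral_algebraMap (x := (n : ℤ)))

theorem memLocalRing_intCast (n : ℤ) : MemLocalRing M (n : ℂ) :=
  memLocalRing_of_isIntegral (isIntegral_algebraMap (x := n))

theorem memLocalRing_zero : MemLocalRing M (0 : ℂ) := memLocalRing_of_isIntegral isIntegral_zero

theorem memLocalRing_one : MemLocalRing M (1 : ℂ) := memLocalRing_of_isIntegral isIntegral_one

theorem memLocalRing_add {z w : ℂ} (hz : MemLocalRing M z) (hw : MemLocalRing M w) :
    MemLocalRing M (z + w) := by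
  obtain ⟨a, b, hb, rfl⟩ := hz
  obtain ⟨c, d, hd, rfl⟩ := hw
  refine ⟨a * d + c * b, b * d, mul_notMem hb hd, ?_⟩
  have := coe_ne_zero_of_notMem hb
  have := coe_ne_zero_of_notMem hd
  push_cast
  field_simp

theorem memLocalRing_neg {z : ℂ} (hz : MemLocalRing M z) : MemLocalRing M (-z) := by
  obtain ⟨a, b, hb, rfl⟩ := hz
  exact ⟨-a, b, hb, by push_cast; ring⟩

theorem memLocalRing_mul {z w : ℂ} (hz : MemLocalRing M z) (hw : MemLocalRing M w) :
    MemLocalRing M (z * w) := by
  obtain ⟨a, b, hb, rfl⟩ := hz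
  obtain ⟨c, d, hd, rfl⟩ := hw
  refine ⟨a * c, b * d, mul_notMem hb hd, ?_⟩
  push_cast
  exact mul_div_mul_comm _ _ _ _

variable (M) in
/-- The local ring at `M`, as a subring of `ℂ`. -/
def locRing : Subring ℂ where
  carrier := {z | MemLocalRing M z}
  zero_mem' := memLocalRing_zero
  one_mem' := memLocalRing_one
  add_mem' := memLocalRing_add
  neg_mem' := memLocalRing_neg
  mul_mem' := memLocalRing_mul

theorem mem_locRing {z : ℂ} : z ∈ locRing M ↔ MemLocalRing M z := Iff.rfl

theorem memLocalRing_sub {z w : ℂ} (hz : MemLocalRing M z) (hw : MemLocalRing M w) :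
    MemLocalRing M (z - w) := (locRing M).sub_mem hz hw

theorem memLocalRing_pow {z : ℂ} (hz : MemLocalRing M z) (n : ℕ) : MemLocalRing M (z ^ n) :=
  (locRing M).pow_mem hz n

theorem memLocalRing_sum {ι : Type*} (s : Finset ι) (f : ι → ℂ)
    (h : ∀ i ∈ s, MemLocalRing M (f i)) : MemLocalRing M (∑ i ∈ s, f i) :=
  (locRing M).sum_mem h

theorem memLocalRing_prod {ι : Type*} (s : Finset ι) (f : ι → ℂ)
    (h : ∀ i ∈ s, MemLocalRing M (f i)) : MemLocalRing M (∏ i ∈ s, f i) :=
  (locRing M).prod_mem h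

omit hMp in
theorem memLocalRing_of_memLocalIdeal {z : ℂ} (hz : MemLocalIdeal M z) : MemLocalRing M z := by
  obtain ⟨a, b, -, hb, rfl⟩ := hz
  exact ⟨a, b, hb, rfl⟩

theorem memLocalIdeal_of_mem {a : AlgInt} (ha : a ∈ M) : MemLocalIdeal M (a : ℂ) :=
  ⟨a, 1, ha, one_notMem, by simp⟩

theorem memLocalIdeal_coe_iff {a : AlgInt} : MemLocalIdeal M (a : ℂ) ↔ a ∈ M := by
  refine ⟨?_, memLocalIdeal_of_mem⟩
  rintro ⟨c, b, hc, hb, h⟩
  rw [div_eq_iff (coe_ne_zero_of_notMem hb)] at h
  have hcab : c = a * b := Subtype.ext (by push_cast; exact h)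
  exact (hMp.mem_or_mem (hcab ▸ hc)).resolve_right hb

theorem memLocalIdeal_zero : MemLocalIdeal M (0 : ℂ) := by
  simpa using memLocalIdeal_of_mem (M := M) M.zero_mem

theorem memLocalIdeal_add {z w : ℂ} (hz : MemLocalIdeal M z) (hw : MemLocalIdeal M w) :
    MemLocalIdeal M (z + w) := by
  obtain ⟨a, b, ha, hb, rfl⟩ := hz
  obtain ⟨c, d, hc, hd, rfl⟩ := hw
  refine ⟨a * d + c * b, b * d, M.add_mem (M.mul_mem_right _ ha) (M.mul_mem_right _ hc),
    mul_notMem hb hd, ?_⟩
  have := coe_ne_zero_of_notMem hb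
  have := coe_ne_zero_of_notMem hd
  push_cast
  field_simp

theorem memLocalIdeal_mul_right {z w : ℂ} (hz : MemLocalIdeal M z) (hw : MemLocalRing M w) :
    MemLocalIdeal M (z * w) := by
  obtain ⟨a, b, ha, hb, rfl⟩ := hz
  obtain ⟨c, d, hd, rfl⟩ := hw
  refine ⟨a * c, b * d, M.mul_mem_right _ ha, mul_notMem hb hd, ?_⟩
  push_cast
  exact mul_div_mul_comm _ _ _ _

theorem memLocalIdeal_mul_left {z w : ℂ} (hz : MemLocalRing M z) (hw : MemLocalIdeal M w) :
    MemLocalIdeal M (z * w) := mul_comm w z ▸ memLocalIdeal_mul_right hw hz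

theorem memLocalIdeal_neg {z : ℂ} (hz : MemLocalIdeal M z) : MemLocalIdeal M (-z) := by
  obtain ⟨a, b, ha, hb, rfl⟩ := hz
  exact ⟨-a, b, M.neg_mem ha, hb, by push_cast; ring⟩

theorem memLocalIdeal_sub {z w : ℂ} (hz : MemLocalIdeal M z) (hw : MemLocalIdeal M w) :
    MemLocalIdeal M (z - w) := sub_eq_add_neg z w ▸ memLocalIdeal_add hz (memLocalIdeal_neg hw)

theorem memLocalIdeal_sum {ι : Type*} (s : Finset ι) (f : ι → ℂ)
    (h : ∀ i ∈ s, MemLocalIdeal M (f i)) : MemLocalIdeal M (∑ i ∈ s, f i) :=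
  Finset.sum_induction f (MemLocalIdeal M) (fun _ _ => memLocalIdeal_add) memLocalIdeal_zero h

theorem not_memLocalIdeal_one : ¬ MemLocalIdeal M (1 : ℂ) := fun h =>
  one_notMem ((memLocalIdeal_coe_iff (a := (1 : AlgInt))).mp (by simpa using h))

theorem memLocalIdeal_sub_comm {z w : ℂ} (h : MemLocalIdeal M (z - w)) :
    MemLocalIdeal M (w - z) := neg_sub z w ▸ memLocalIdeal_neg h

theorem memLocalIdeal_sub_trans {z w v : ℂ} (h₁ : MemLocalIdeal M (z - w))
    (h₂ : MemLocalIdeal M (w - v)) : MemLocalIdeal M (z - v) :=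
  sub_add_sub_cancel z w v ▸ memLocalIdeal_add h₁ h₂

theorem memLocalIdeal_sub_self (z : ℂ) : MemLocalIdeal M (z - z) := by
  rw [sub_self]
  exact memLocalIdeal_zero

theorem memLocalIdeal_iff_of_sub {z w : ℂ} (h : MemLocalIdeal M (z - w)) :
    MemLocalIdeal M z ↔ MemLocalIdeal M w := by
  refine ⟨fun hz => ?_, fun hw => ?_⟩
  · simpa using memLocalIdeal_sub hz h
  · simpa using memLocalIdeal_add h hw

/-- A local integer outside the local ideal is invertible in the local ring. -/
theorem memLocalRing_inv {z : ℂ} (hz : MemLocalRing M z) (hnz : ¬ MemLocalIdeal M z) :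
    MemLocalRing M z⁻¹ := by
  obtain ⟨a, b, hb, rfl⟩ := hz
  exact ⟨b, a, fun ha => hnz ⟨a, b, ha, hb, rfl⟩, (inv_div _ _).symm⟩

theorem ne_zero_of_not_memLocalIdeal {z : ℂ} (hnz : ¬ MemLocalIdeal M z) : z ≠ 0 := fun h =>
  hnz (h ▸ memLocalIdeal_zero)

theorem not_memLocalIdeal_inv {z : ℂ} (hz : MemLocalRing M z) (hnz : ¬ MemLocalIdeal M z) :
    ¬ MemLocalIdeal M z⁻¹ := fun h => by
  apply not_memLocalIdeal_one (M := M)
  rw [← mul_inv_cancel₀ (ne_zero_of_not_memLocalIdeal hnz)]
  exact memLocalIdeal_mul_left hz h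

variable (M) in
/-- The maximal ideal of the local ring at `M`. -/
def locIdeal : Ideal (locRing M) where
  carrier := {z | MemLocalIdeal M (z : ℂ)}
  zero_mem' := memLocalIdeal_zero
  add_mem' := fun ha hb => memLocalIdeal_add ha hb
  smul_mem' := fun c _ hz => memLocalIdeal_mul_left c.2 hz

theorem mem_locIdeal {z : locRing M} : z ∈ locIdeal M ↔ MemLocalIdeal M (z : ℂ) := Iff.rfl

theorem isUnit_iff_not_mem_locIdeal {z : locRing M} : IsUnit z ↔ z ∉ locIdeal M := by
  refine ⟨fun h hz => ?_, fun h => ?_⟩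
  · have := Ideal.eq_top_of_isUnit_mem _ hz h
    exact not_memLocalIdeal_one ((Ideal.eq_top_iff_one _).mp this)
  · exact .of_mul_eq_one (⟨(z : ℂ)⁻¹, memLocalRing_inv z.2 h⟩ : locRing M)
      (Subtype.ext (mul_inv_cancel₀ (ne_zero_of_not_memLocalIdeal h)))

instance instIsMaximalLocIdeal : (locIdeal M).IsMaximal := by
  refine ⟨⟨fun h => not_memLocalIdeal_one ((Ideal.eq_top_iff_one _).mp h), fun J hJ => ?_⟩⟩
  obtain ⟨z, hzJ, hz⟩ := SetLike.exists_of_lt hJ
  exact J.eq_top_of_isUnit_mem hzJ (isUnit_iff_not_mem_locIdeal.mpr hz)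

theorem memLocalIdeal_or_of_mul {z w : ℂ} (hz : MemLocalRing M z) (hw : MemLocalRing M w)
    (h : MemLocalIdeal M (z * w)) : MemLocalIdeal M z ∨ MemLocalIdeal M w :=
  (instIsMaximalLocIdeal (M := M)).isPrime.mem_or_mem
    (x := (⟨z, hz⟩ : locRing M)) (y := ⟨w, hw⟩) h

theorem memLocalIdeal_of_pow {z : ℂ} (hz : MemLocalRing M z) {n : ℕ}
    (h : MemLocalIdeal M (z ^ n)) : MemLocalIdeal M z :=
  (instIsMaximalLocIdeal (M := M)).isPrime.mem_of_pow_mem n (r := (⟨z, hz⟩ : locRing M)) h

theorem exists_memLocalIdeal_of_prod {ι : Type*} {s : Finset ι} {f : ι → ℂ}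
    (hf : ∀ i ∈ s, MemLocalRing M (f i)) (h : MemLocalIdeal M (∏ i ∈ s, f i)) :
    ∃ i ∈ s, MemLocalIdeal M (f i) := by
  classical
  induction s using Finset.induction with
  | empty => exact absurd (by simpa using h) (not_memLocalIdeal_one (M := M))
  | insert a t hat ih =>
    rw [Finset.prod_insert hat] at h
    rcases memLocalIdeal_or_of_mul (hf a (Finset.mem_insert_self a t))
      (memLocalRing_prod t f fun i hi => hf i (Finset.mem_insert_of_mem hi)) h with h | h
    · exact ⟨a, Finset.mem_insert_self a t, h⟩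
    · obtain ⟨i, hi, h⟩ := ih (fun i hi => hf i (Finset.mem_insert_of_mem hi)) h
      exact ⟨i, Finset.mem_insert_of_mem hi, h⟩

theorem memLocalIdeal_mul_sub_mul {a b c d : ℂ} (ha : MemLocalRing M a) (hd : MemLocalRing M d)
    (h₁ : MemLocalIdeal M (a - c)) (h₂ : MemLocalIdeal M (b - d)) :
    MemLocalIdeal M (a * b - c * d) := by
  have : a * b - c * d = a * (b - d) + (a - c) * d := by ring
  exact this ▸ memLocalIdeal_add (memLocalIdeal_mul_left ha h₂) (memLocalIdeal_mul_right h₁ hd)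

/-! ### The residue field -/

variable (M) in
/-- The residue field at `M`. -/
abbrev ResField : Type := locRing M ⧸ locIdeal M

noncomputable instance instFieldResField : Field (ResField M) := Ideal.Quotient.field _

variable (M) in
/-- The residue of a local integer; junk value `0` outside the local ring. -/
noncomputable def res (z : ℂ) : ResField M :=
  open Classical in
  if h : MemLocalRing M z then Ideal.Quotient.mk (locIdeal M) ⟨z, h⟩ else 0

theorem res_coe (z : locRing M) : res M (z : ℂ) = Ideal.Quotient.mk (locIdeal M) z :=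
  dif_pos z.2

theorem res_mk {z : ℂ} (h : MemLocalRing M z) :
    res M z = Ideal.Quotient.mk (locIdeal M) ⟨z, h⟩ := dif_pos h

theorem res_zero : res M 0 = 0 := (res_mk memLocalRing_zero).trans (map_zero _)

theorem res_one : res M 1 = 1 := (res_mk memLocalRing_one).trans (map_one _)

theorem res_add {z w : ℂ} (hz : MemLocalRing M z) (hw : MemLocalRing M w) :
    res M (z + w) = res M z + res M w := by
  rw [res_mk hz, res_mk hw, res_mk (memLocalRing_add hz hw), ← map_add]
  rfl

theorem res_mul {z w : ℂ} (hz : MemLocalRing M z) (hw : MemLocalRing M w) :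
    res M (z * w) = res M z * res M w := by
  rw [res_mk hz, res_mk hw, res_mk (memLocalRing_mul hz hw), ← map_mul]
  rfl

theorem res_sub {z w : ℂ} (hz : MemLocalRing M z) (hw : MemLocalRing M w) :
    res M (z - w) = res M z - res M w := by
  rw [res_mk hz, res_mk hw, res_mk (memLocalRing_sub hz hw), ← map_sub]
  rfl

theorem res_eq_zero_iff {z : ℂ} (hz : MemLocalRing M z) : res M z = 0 ↔ MemLocalIdeal M z := by
  rw [res_mk hz, Ideal.Quotient.eq_zero_iff_mem]
  rfl

theorem res_eq_zero {z : ℂ} (hz : MemLocalIdeal M z) : res M z = 0 :=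
  (res_eq_zero_iff (memLocalRing_of_memLocalIdeal hz)).mpr hz

theorem res_eq_iff {z w : ℂ} (hz : MemLocalRing M z) (hw : MemLocalRing M w) :
    res M z = res M w ↔ MemLocalIdeal M (z - w) := by
  rw [← res_eq_zero_iff (memLocalRing_sub hz hw), res_sub hz hw, sub_eq_zero]

theorem res_sum {ι : Type*} (s : Finset ι) (f : ι → ℂ) (h : ∀ i ∈ s, MemLocalRing M (f i)) :
    res M (∑ i ∈ s, f i) = ∑ i ∈ s, res M (f i) := by
  classical
  induction s using Finset.induction with
  | empty => simp [res_zero]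
  | insert a t hat ih =>
    have ht : ∀ i ∈ t, MemLocalRing M (f i) := fun i hi => h i (Finset.mem_insert_of_mem hi)
    rw [Finset.sum_insert hat, Finset.sum_insert hat,
      res_add (h a (Finset.mem_insert_self a t)) (memLocalRing_sum t f ht), ih ht]

end Prime

/-! ### The prime below `M` -/

section Modular

variable {p : ℕ} (hM : IsPModular p M)
include hM

theorem isPrime_of_isPModular : M.IsPrime := hM.2.1.isPrime

theorem memLocalIdeal_p : MemLocalIdeal M (p : ℂ) := by
  have := isPrime_of_isPModular hM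
  simpa using memLocalIdeal_of_mem (M := M) hM.2.2

theorem natCast_mem_iff {n : ℕ} : (n : AlgInt) ∈ M ↔ p ∣ n := by
  have := isPrime_of_isPModular hM
  refine ⟨fun h => ?_, fun ⟨c, hc⟩ => ?_⟩
  · by_contra hn
    have hcop : Nat.gcd p n = 1 := (hM.1.coprime_iff_not_dvd.mpr hn)
    have hbez := Nat.gcd_eq_gcd_ab p n
    rw [hcop] at hbez
    have h1 : (1 : AlgInt) ∈ M := by
      have hcast : (1 : AlgInt) = (p : AlgInt) * (Nat.gcdA p n : AlgInt)
          + (n : AlgInt) * (Nat.gcdB p n : AlgInt) := by exact_mod_cast hbez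
      rw [hcast]
      exact M.add_mem (M.mul_mem_right _ hM.2.2) (M.mul_mem_right _ h)
    exact one_notMem h1
  · rw [hc, Nat.cast_mul]
    exact M.mul_mem_right _ hM.2.2

theorem memLocalIdeal_natCast_iff {n : ℕ} : MemLocalIdeal M (n : ℂ) ↔ p ∣ n := by
  have := isPrime_of_isPModular hM
  rw [← natCast_mem_iff hM, ← memLocalIdeal_coe_iff]
  simp

theorem memLocalRing_natCast_inv {n : ℕ} (hn : ¬ p ∣ n) : MemLocalRing M (n : ℂ)⁻¹ := by
  have := isPrime_of_isPModular hM
  exact memLocalRing_inv (memLocalRing_natCast n) fun h => hn ((memLocalIdeal_natCast_iff hM).mp h)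

/-- If `n / p ^ k` is a local integer then `p ^ k ∣ n`. -/
theorem pow_dvd_of_memLocalRing {n k : ℕ} (h : MemLocalRing M ((n : ℂ) / (p : ℂ) ^ k)) :
    p ^ k ∣ n := by
  have := isPrime_of_isPModular hM
  have hp0 : (p : ℂ) ≠ 0 := Nat.cast_ne_zero.mpr hM.1.ne_zero
  induction k generalizing n with
  | zero => simp
  | succ k ih =>
    have hn : MemLocalIdeal M (n : ℂ) := by
      have := memLocalIdeal_mul_right (w := (p : ℂ) ^ k * ((n : ℂ) / (p : ℂ) ^ (k + 1)))
        (memLocalIdeal_p hM) (memLocalRing_mul (memLocalRing_pow (memLocalRing_natCast p) k) h)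
      convert this using 1
      field_simp
      ring
    obtain ⟨c, rfl⟩ := (memLocalIdeal_natCast_iff hM).mp hn
    rw [pow_succ']
    refine mul_dvd_mul_left p (ih ?_)
    convert h using 1
    push_cast
    field_simp
    ring

theorem charP_resField : letI := isPrime_of_isPModular hM; CharP (ResField M) p := by
  have := isPrime_of_isPModular hM
  refine CharP.charP_iff_prime_eq_zero hM.1 |>.mpr ?_
  have h : ((p : locRing M)) ∈ locIdeal M := by
    rw [mem_locIdeal]
    simpa using memLocalIdeal_p hM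
  rw [← map_natCast (Ideal.Quotient.mk (locIdeal M)), Ideal.Quotient.eq_zero_iff_mem]
  exact h

/-- A root of unity of `p`-power order is congruent to one. -/
theorem memLocalIdeal_root_sub_one {ζ : ℂ} {k : ℕ} (hζ : ζ ^ p ^ k = 1) :
    MemLocalIdeal M (ζ - 1) := by
  have := isPrime_of_isPModular hM
  have hint : IsIntegral ℤ ζ := IsIntegral.of_pow (pow_pos hM.1.pos k) (hζ ▸ isIntegral_one)
  have hz : MemLocalRing M ζ := memLocalRing_of_isIntegral hint
  have := charP_resField hM
  have : Fact p.Prime := ⟨hM.1⟩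
  rw [← res_eq_iff hz memLocalRing_one, res_one]
  have hpow : res M ζ ^ p ^ k = 1 := by
    rw [res_mk hz, ← map_pow, show (⟨ζ, hz⟩ : locRing M) ^ p ^ k = 1 from Subtype.ext (by simpa using hζ),
      map_one]
  have : (res M ζ - 1) ^ p ^ k = 0 := by rw [sub_pow_char_pow, hpow, one_pow, sub_self]
  exact sub_eq_zero.mp (eq_zero_of_pow_eq_zero this)

end Modular

end CfsgLib.Blocks
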