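import Cfsg.Agent.Lib.Blocks.CentralChar
import Cfsg.Agent.Lib.Blocks.LocalRing

/-!
# Blocks, their idempotents, and the centre of the group ring over the local ring

`ZO M G` is the centre of the group ring over `locRing M`, seen inside the functions on the
irreducible characters.
-/

set_option autoImplicit false
set_option linter.unusedSectionVars false

namespace CfsgLib.Blocks

open Cfsg
open scoped ComplexConjugate CfsgLib.Char

variable {M : Ideal AlgInt} [hMp : M.IsPrime] {G : Type*} [Group G]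

/-! ### Elementary properties of blocks -/

theorem sameBlock_refl (χ : G → ℂ) : SameBlock M χ χ := fun _ => memLocalIdeal_sub_self _

theorem SameBlock.symm {χ ψ : G → ℂ} (h : SameBlock M χ ψ) : SameBlock M ψ χ := fun g =>
  memLocalIdeal_sub_comm (h g)

theorem SameBlock.trans {χ ψ η : G → ℂ} (h₁ : SameBlock M χ ψ) (h₂ : SameBlock M ψ η) :
    SameBlock M χ η := fun g => memLocalIdeal_sub_trans (h₁ g) (h₂ g)

theorem mem_blockOf_iff {χ : G → ℂ} {ψ : IrrCharacter G} :
    ψ ∈ blockOf M χ ↔ SameBlock M χ (ψ : G → ℂ) := Iff.rfl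

theorem mem_blockOf_self (χ : IrrCharacter G) : χ ∈ blockOf M (χ : G → ℂ) := sameBlock_refl _

theorem blockOf_eq_of_sameBlock {χ ψ : G → ℂ} (h : SameBlock M χ ψ) :
    blockOf M χ = blockOf M ψ :=
  Set.ext fun _ => ⟨fun h' => SameBlock.trans (SameBlock.symm h) h', fun h' => SameBlock.trans h h'⟩

theorem isPBlock_blockOf (χ : IrrCharacter G) : IsPBlock M (blockOf M (χ : G → ℂ)) := ⟨χ, rfl⟩

theorem IsPBlock.nonempty {B : Set (IrrCharacter G)} (hB : IsPBlock M B) : B.Nonempty := by
  obtain ⟨χ, rfl⟩ := hB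
  exact ⟨χ, mem_blockOf_self χ⟩

theorem IsPBlock.sameBlock {B : Set (IrrCharacter G)} (hB : IsPBlock M B) {χ ψ : IrrCharacter G}
    (hχ : χ ∈ B) (hψ : ψ ∈ B) : SameBlock M (χ : G → ℂ) (ψ : G → ℂ) := by
  obtain ⟨η, rfl⟩ := hB
  exact SameBlock.trans (SameBlock.symm hχ) hψ

theorem IsPBlock.mem_of_sameBlock {B : Set (IrrCharacter G)} (hB : IsPBlock M B)
    {χ ψ : IrrCharacter G} (hχ : χ ∈ B) (h : SameBlock M (χ : G → ℂ) (ψ : G → ℂ)) : ψ ∈ B := by
  obtain ⟨η, rfl⟩ := hB
  exact SameBlock.trans hχ h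

theorem IsPBlock.eq_blockOf {B : Set (IrrCharacter G)} (hB : IsPBlock M B) {χ : IrrCharacter G}
    (hχ : χ ∈ B) : B = blockOf M (χ : G → ℂ) :=
  Set.ext fun _ => ⟨fun h => IsPBlock.sameBlock hB hχ h, fun h => IsPBlock.mem_of_sameBlock hB hχ h⟩

theorem IsPBlock.eq_of_mem_of_mem {B B' : Set (IrrCharacter G)} (hB : IsPBlock M B)
    (hB' : IsPBlock M B') {χ : IrrCharacter G} (h : χ ∈ B) (h' : χ ∈ B') : B = B' :=
  (IsPBlock.eq_blockOf hB h).trans (IsPBlock.eq_blockOf hB' h').symm

/-- The trivial character, as an irreducible character. -/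
noncomputable def trivIrr (G : Type*) [Group G] : IrrCharacter G :=
  ⟨fun _ => 1, Char.isIrrCharacter_one⟩

theorem principalBlock_eq : principalBlock M G = blockOf M (trivIrr G : G → ℂ) := rfl

theorem isPBlock_principalBlock : IsPBlock M (principalBlock M G) := ⟨trivIrr G, rfl⟩

theorem centralChar_one_fun (g : G) :
    centralChar (fun _ : G => (1 : ℂ)) g =
      ((Subgroup.centralizer ({g} : Set G)).index : ℂ) := by
  simp [centralChar]

theorem mem_principalBlock_iff {χ : IrrCharacter G} :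
    χ ∈ principalBlock M G ↔ ∀ g : G, MemLocalIdeal M
      (centralChar (χ : G → ℂ) g - ((Subgroup.centralizer ({g} : Set G)).index : ℂ)) := by
  refine forall_congr' fun g => ?_
  rw [centralChar_one_fun]
  exact ⟨memLocalIdeal_sub_comm, memLocalIdeal_sub_comm⟩

/-! ### The centre over the local ring -/

variable [Fintype G]

theorem memLocalRing_centralChar (χ : IrrCharacter G) (g : G) :
    MemLocalRing M (centralChar (χ : G → ℂ) g) :=
  memLocalRing_of_isIntegral (isIntegral_centralChar χ g)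

theorem memLocalRing_omega (χ : IrrCharacter G) {f : G → ℂ} (hf : IsClassFunction G f)
    (hloc : ∀ g, MemLocalRing M (f g)) : MemLocalRing M (omega (χ : G → ℂ) f) := by
  have : Fintype (ConjClasses G) := Fintype.ofFinite _
  rw [omega_eq_sum_classes χ hf]
  exact memLocalRing_sum _ _ fun c _ =>
    memLocalRing_mul (hloc _) (memLocalRing_centralChar χ _)

theorem memLocalRing_classInd (g h : G) : MemLocalRing M (classInd g h) := by
  classical
  unfold classInd
  split
  exacts [memLocalRing_one, memLocalRing_zero]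

variable (M G) in
/-- The centre of the group ring over the local ring. -/
def ZO : Subring (IrrCharacter G → ℂ) where
  carrier := {v | ∀ g, MemLocalRing M (ofOmega v g)}
  zero_mem' := fun g => by
    rw [← zero_smul ℂ (0 : IrrCharacter G → ℂ), ofOmega_smul, zero_smul]
    exact memLocalRing_zero
  one_mem' := fun g => by rw [ofOmega_one]; exact memLocalRing_classInd 1 g
  add_mem' := fun hv hw g => by rw [ofOmega_add]; exact memLocalRing_add (hv g) (hw g)
  neg_mem' := fun {v} hv g => by
    rw [← neg_one_smul ℂ v, ofOmega_smul, Pi.smul_apply, neg_one_smul]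
    exact memLocalRing_neg (hv g)
  mul_mem' := fun hv hw g => by
    rw [ofOmega_mul]
    exact memLocalRing_sum _ _ fun x _ => memLocalRing_mul (hv x) (hw _)

theorem mem_ZO {v : IrrCharacter G → ℂ} : v ∈ ZO M G ↔ ∀ g, MemLocalRing M (ofOmega v g) :=
  Iff.rfl

theorem omega_mem_ZO {f : G → ℂ} (hf : IsClassFunction G f) (hloc : ∀ g, MemLocalRing M (f g)) :
    (fun χ : IrrCharacter G => omega (χ : G → ℂ) f) ∈ ZO M G := fun g => by
  rw [ofOmega_omega hf]
  exact hloc g

theorem centralChar_mem_ZO (g : G) :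
    (fun χ : IrrCharacter G => centralChar (χ : G → ℂ) g) ∈ ZO M G := by
  simp only [← omega_classInd]
  exact omega_mem_ZO (isClassFunction_classInd g) (memLocalRing_classInd g)

theorem smul_mem_ZO {c : ℂ} (hc : MemLocalRing M c) {v : IrrCharacter G → ℂ} (hv : v ∈ ZO M G) :
    c • v ∈ ZO M G := fun g => by
  rw [ofOmega_smul]
  exact memLocalRing_mul hc (hv g)

theorem memLocalRing_of_mem_ZO {v : IrrCharacter G → ℂ} (hv : v ∈ ZO M G) (χ : IrrCharacter G) :
    MemLocalRing M (v χ) :=
  omega_ofOmega v χ ▸ memLocalRing_omega χ (isClassFunction_ofOmega v) hv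

theorem sub_mem_localIdeal_of_sameBlock {χ ψ : IrrCharacter G}
    (h : SameBlock M (χ : G → ℂ) (ψ : G → ℂ)) {f : G → ℂ} (hf : IsClassFunction G f)
    (hloc : ∀ g, MemLocalRing M (f g)) :
    MemLocalIdeal M (omega (χ : G → ℂ) f - omega (ψ : G → ℂ) f) := by
  have : Fintype (ConjClasses G) := Fintype.ofFinite _
  rw [omega_eq_sum_classes χ hf, omega_eq_sum_classes ψ hf, ← Finset.sum_sub_distrib]
  refine memLocalIdeal_sum _ _ fun c _ => ?_
  rw [← mul_sub]
  exact memLocalIdeal_mul_left (hloc _) (h _)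

/-- Elements of the centre are congruent on the members of a block. -/
theorem ZO_congr {χ ψ : IrrCharacter G} (h : SameBlock M (χ : G → ℂ) (ψ : G → ℂ))
    {v : IrrCharacter G → ℂ} (hv : v ∈ ZO M G) : MemLocalIdeal M (v χ - v ψ) := by
  have := sub_mem_localIdeal_of_sameBlock h (isClassFunction_ofOmega v) hv
  rwa [omega_ofOmega, omega_ofOmega] at this

/-- A union of blocks. -/
def IsBlockUnion (M : Ideal AlgInt) (S : Set (IrrCharacter G)) : Prop :=
  ∀ χ ∈ S, ∀ ψ : IrrCharacter G, SameBlock M (χ : G → ℂ) (ψ : G → ℂ) → ψ ∈ S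

theorem IsPBlock.isBlockUnion {B : Set (IrrCharacter G)} (hB : IsPBlock M B) :
    IsBlockUnion M B := fun _ hχ _ h => IsPBlock.mem_of_sameBlock hB hχ h

/-- The vector of a set of irreducible characters. -/
noncomputable def indVec (S : Set (IrrCharacter G)) : IrrCharacter G → ℂ :=
  S.indicator 1

theorem indVec_of_mem {S : Set (IrrCharacter G)} {χ : IrrCharacter G} (h : χ ∈ S) :
    indVec S χ = 1 := Set.indicator_of_mem h _

theorem indVec_of_notMem {S : Set (IrrCharacter G)} {χ : IrrCharacter G} (h : χ ∉ S) :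
    indVec S χ = 0 := Set.indicator_of_notMem h _

theorem ofOmega_indVec (S : Set (IrrCharacter G)) : ofOmega (indVec S) = blockCoeff S := by
  classical
  funext g
  rw [ofOmega, blockCoeff, finsum_mem_eq_sum_of_inter_support_eq
    (t := Finset.univ.filter (· ∈ S)) _ (by simp), Finset.sum_filter]
  congr 1
  refine Finset.sum_congr rfl fun χ _ => ?_
  by_cases h : χ ∈ S
  · rw [if_pos h, indVec_of_mem h, one_mul]
  · rw [if_neg h, indVec_of_notMem h, zero_mul, zero_mul]

theorem isClassFunction_blockCoeff (S : Set (IrrCharacter G)) :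
    IsClassFunction G (blockCoeff S) := ofOmega_indVec S ▸ isClassFunction_ofOmega _

theorem omega_blockCoeff (S : Set (IrrCharacter G)) (χ : IrrCharacter G) :
    omega (χ : G → ℂ) (blockCoeff S) = indVec S χ := by
  rw [← ofOmega_indVec, omega_ofOmega]

/-- The idempotent of a union of blocks lies in the centre over the local ring. -/
theorem indVec_mem_ZO {S : Set (IrrCharacter G)} (hS : IsBlockUnion M S) : indVec S ∈ ZO M G := by
  classical
  have hsep : ∀ χ ψ : IrrCharacter G, χ ∈ S → ψ ∉ S →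
      ∃ v ∈ ZO M G, v χ = 1 ∧ v ψ = 0 := fun χ ψ hχ hψ => by
    obtain ⟨g, hg⟩ : ∃ g, ¬ MemLocalIdeal M
        (centralChar (χ : G → ℂ) g - centralChar (ψ : G → ℂ) g) := by
      by_contra h
      push Not at h
      exact hψ (hS χ hχ ψ h)
    set c := centralChar (χ : G → ℂ) g - centralChar (ψ : G → ℂ) g
    refine ⟨c⁻¹ • ((fun η : IrrCharacter G => centralChar (η : G → ℂ) g)
      - centralChar (ψ : G → ℂ) g • 1), smul_mem_ZO (memLocalRing_inv
        (memLocalRing_sub (memLocalRing_centralChar χ g) (memLocalRing_centralChar ψ g)) hg)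
        (sub_mem (centralChar_mem_ZO g) (smul_mem_ZO (memLocalRing_centralChar ψ g) (one_mem _))),
      ?_, ?_⟩
    · simp [c, inv_mul_cancel₀ (ne_zero_of_not_memLocalIdeal hg)]
    · simp
  choose! L hLmem hL1 hL0 using hsep
  set Sf : Finset (IrrCharacter G) := Finset.univ.filter (· ∈ S)
  set Tf : Finset (IrrCharacter G) := Finset.univ.filter (· ∉ S)
  have key : indVec S = 1 - ∏ χ ∈ Sf, (1 - ∏ ψ ∈ Tf, L χ ψ) := by
    funext η
    simp only [Pi.sub_apply, Pi.one_apply, Finset.prod_apply]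
    by_cases hη : η ∈ S
    · rw [indVec_of_mem hη, Finset.prod_eq_zero (i := η) (by simp [Sf, hη]), sub_zero]
      rw [sub_eq_zero, eq_comm, Finset.prod_eq_one]
      exact fun ψ hψ => hL1 η ψ hη (by simpa [Tf] using hψ)
    · rw [indVec_of_notMem hη, Finset.prod_eq_one, sub_self]
      intro χ hχ
      rw [Finset.prod_eq_zero (f := fun c => L χ c η) (i := η) (by simp [Tf, hη])
        (hL0 χ η (by simpa [Sf] using hχ) hη),
        sub_zero]
  rw [key]
  refine sub_mem (one_mem _) (prod_mem fun χ hχ => sub_mem (one_mem _) (prod_mem fun ψ hψ => ?_))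
  exact hLmem χ ψ (by simpa [Sf] using hχ) (by simpa [Tf] using hψ)

/-- The block idempotent coefficients are local integers. -/
theorem memLocalRing_blockCoeff {S : Set (IrrCharacter G)} (hS : IsBlockUnion M S) (g : G) :
    MemLocalRing M (blockCoeff S g) := ofOmega_indVec S ▸ indVec_mem_ZO hS g

theorem IsPBlock.memLocalRing_blockCoeff {B : Set (IrrCharacter G)} (hB : IsPBlock M B) (g : G) :
    MemLocalRing M (blockCoeff B g) :=
  Blocks.memLocalRing_blockCoeff (IsPBlock.isBlockUnion hB) g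

/-- An idempotent of the centre is the vector of a union of blocks. -/
theorem exists_blockUnion_of_idempotent {v : IrrCharacter G → ℂ} (hv : v ∈ ZO M G)
    (hvv : v * v = v) : ∃ S, IsBlockUnion M S ∧ v = indVec S := by
  have h01 : ∀ χ, v χ = 0 ∨ v χ = 1 := fun χ => by
    have := congrFun hvv χ
    rw [Pi.mul_apply] at this
    rcases eq_or_ne (v χ) 0 with h | h
    · exact Or.inl h
    · exact Or.inr (mul_left_cancel₀ h (this.trans (mul_one _).symm))
  refine ⟨{χ | v χ = 1}, fun χ hχ ψ h => ?_, funext fun χ => ?_⟩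
  · refine (h01 ψ).resolve_left fun h0 => not_memLocalIdeal_one (M := M) ?_
    have := ZO_congr h hv
    rwa [show v χ = 1 from hχ, h0, sub_zero] at this
  · rcases h01 χ with h | h
    · rw [indVec_of_notMem (by simp [h]), h]
    · rw [indVec_of_mem (show χ ∈ {χ | v χ = 1} from h), h]

/-- If `v` is a unit at a block, the block idempotent is a multiple of `v`. -/
theorem exists_mul_eq_indVec {B : Set (IrrCharacter G)} (hB : IsPBlock M B)
    {v : IrrCharacter G → ℂ} (hv : v ∈ ZO M G) {χ : IrrCharacter G} (hχ : χ ∈ B)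
    (hu : ¬ MemLocalIdeal M (v χ)) : ∃ w ∈ ZO M G, v * w = indVec B := by
  classical
  have hunit : ∀ ψ ∈ B, ¬ MemLocalIdeal M (v ψ) := fun ψ hψ h => hu
    ((memLocalIdeal_iff_of_sub (ZO_congr (IsPBlock.sameBlock hB hχ hψ) hv)).mpr h)
  have key : ∀ s : Finset (IrrCharacter G), (∀ ψ ∈ s, ψ ∈ B) →
      ∃ R ∈ ZO M G, ∏ ψ ∈ s, (1 - (v ψ)⁻¹ • v) = 1 - v * R := fun s hs => by
    induction s using Finset.induction with
    | empty => exact ⟨0, zero_mem _, by simp⟩
    | insert a t hat ih =>
      obtain ⟨R, hR, hRe⟩ := ih fun ψ hψ => hs ψ (Finset.mem_insert_of_mem hψ)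
      have ha := hs a (Finset.mem_insert_self a t)
      have hinv := memLocalRing_inv (memLocalRing_of_mem_ZO hv a) (hunit a ha)
      refine ⟨R + (v a)⁻¹ • (1 - v * R), add_mem hR (smul_mem_ZO hinv
        (sub_mem (one_mem _) (mul_mem hv hR))), ?_⟩
      rw [Finset.prod_insert hat, hRe]
      funext η
      simp only [Pi.mul_apply, Pi.sub_apply, Pi.one_apply, Pi.smul_apply, Pi.add_apply, smul_eq_mul]
      ring
  obtain ⟨R, hR, hRe⟩ := key (Finset.univ.filter (· ∈ B)) (by simp)
  refine ⟨R * indVec B, mul_mem hR (indVec_mem_ZO (IsPBlock.isBlockUnion hB)), funext fun η => ?_⟩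
  rw [← mul_assoc, Pi.mul_apply]
  by_cases hη : η ∈ B
  · have h0 := congrFun hRe η
    rw [Finset.prod_apply, Finset.prod_eq_zero (i := η) (by simp [hη]) (by
      simp [inv_mul_cancel₀ (ne_zero_of_not_memLocalIdeal (hunit η hη))])] at h0
    rw [show (v * R) η = 1 from (sub_eq_zero.mp h0.symm).symm, one_mul]
  · rw [indVec_of_notMem hη, mul_zero]

variable (M G) in
/-- The blocks of `G`. -/
noncomputable def blocks : Finset (Set (IrrCharacter G)) :=
  open Classical in
  Finset.univ.image fun χ : IrrCharacter G => blockOf M (χ : G → ℂ)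

theorem mem_blocks {B : Set (IrrCharacter G)} : B ∈ blocks M G ↔ IsPBlock M B := by
  classical
  simp [blocks, IsPBlock, eq_comm]

theorem sum_indVec_blocks : ∑ B ∈ blocks M G, indVec B = 1 := by
  classical
  funext χ
  rw [Finset.sum_apply, Finset.sum_eq_single (blockOf M (χ : G → ℂ))]
  · exact indVec_of_mem (mem_blockOf_self χ)
  · intro B hB hne
    exact indVec_of_notMem fun h => hne (IsPBlock.eq_blockOf (mem_blocks.mp hB) h)
  · exact fun h => absurd (mem_blocks.mpr (isPBlock_blockOf χ)) h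

theorem sum_blockCoeff_blocks (g : G) : ∑ B ∈ blocks M G, blockCoeff B g = deltaOne g := by
  have h : omega (trivIrr G : G → ℂ) (deltaOne : G → ℂ) = 1 := omega_deltaOne _
  rw [← ofOmega_one, ← sum_indVec_blocks (M := M), ofOmega, Finset.mul_sum]
  simp only [Finset.sum_apply, Finset.sum_mul, Finset.mul_sum]
  rw [Finset.sum_comm]
  refine Finset.sum_congr rfl fun B _ => ?_
  rw [← ofOmega_indVec, ofOmega, Finset.mul_sum]

/-- Evaluation of the centre at `χ`, modulo the ideal. -/
noncomputable def resHom (χ : IrrCharacter G) : ZO M G →+* ResField M where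
  toFun v := res M ((v : IrrCharacter G → ℂ) χ)
  map_one' := res_one
  map_zero' := res_zero
  map_add' v w := res_add (memLocalRing_of_mem_ZO v.2 χ) (memLocalRing_of_mem_ZO w.2 χ)
  map_mul' v w := res_mul (memLocalRing_of_mem_ZO v.2 χ) (memLocalRing_of_mem_ZO w.2 χ)

/-- Every homomorphism of the centre to the residue field that is the residue map on scalars is the
central character of exactly one block. -/
theorem exists_block_of_hom (φ : ZO M G →+* ResField M)
    (hφ : ∀ (c : ℂ) (hc : MemLocalRing M c),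
      φ ⟨c • 1, smul_mem_ZO hc (one_mem _)⟩ = res M c) :
    ∃! B, IsPBlock M B ∧ ∀ χ ∈ B, φ = resHom χ := by
  classical
  have hsum : ∃ B ∈ (blocks M G).attach,
      φ ⟨indVec B.1, indVec_mem_ZO (IsPBlock.isBlockUnion (mem_blocks.mp B.2))⟩ ≠ 0 := by
    refine Finset.exists_ne_zero_of_sum_ne_zero ?_
    rw [← map_sum, show (∑ B ∈ (blocks M G).attach, (⟨indVec B.1, indVec_mem_ZO
      (IsPBlock.isBlockUnion (mem_blocks.mp B.2))⟩ : ZO M G)) = 1 from Subtype.ext (by
        rw [AddSubmonoidClass.coe_finsetSum, OneMemClass.coe_one, ← sum_indVec_blocks (M := M)]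
        exact Finset.sum_attach (blocks M G) indVec), map_one]
    exact one_ne_zero
  obtain ⟨⟨B, hBmem⟩, -, hne⟩ := hsum
  have hB := mem_blocks.mp hBmem
  have huniq : ∀ B', IsPBlock M B' → (∀ χ ∈ B', φ = resHom χ) → B' = B := fun B' hB' h' => by
    obtain ⟨χ, hχ⟩ := IsPBlock.nonempty hB'
    by_contra hne'
    apply hne
    have : χ ∉ B := fun h => hne' (IsPBlock.eq_of_mem_of_mem hB' hB hχ h)
    rw [h' χ hχ]
    show res M (indVec B χ) = 0
    rw [indVec_of_notMem this, res_zero]
  refine ⟨B, ⟨hB, fun χ hχ => RingHom.ext fun v => ?_⟩, fun B' h => huniq B' h.1 h.2⟩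
  have key : ∏ ψ ∈ Finset.univ.filter (· ∈ B),
      ((v : ZO M G) - ⟨((v : IrrCharacter G → ℂ) ψ) • 1, smul_mem_ZO (memLocalRing_of_mem_ZO v.2 ψ)
        (one_mem _)⟩) * ⟨indVec B, indVec_mem_ZO (IsPBlock.isBlockUnion hB)⟩ ^ 1 = 0 := by
    refine Subtype.ext (funext fun η => ?_)
    rw [SubmonoidClass.coe_finsetProd, Finset.prod_apply, ZeroMemClass.coe_zero, Pi.zero_apply]
    by_cases hη : η ∈ B
    · exact Finset.prod_eq_zero (i := η) (by simp [hη]) (by simp)
    · exact Finset.prod_eq_zero (i := χ) (by simp [hχ]) (by simp [indVec_of_notMem hη])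
  have h0 := congrArg φ key
  rw [map_prod, map_zero, Finset.prod_eq_zero_iff] at h0
  obtain ⟨ψ, hψ, h0⟩ := h0
  rw [map_mul, map_pow, pow_one, mul_eq_zero, or_iff_left hne, map_sub, sub_eq_zero,
    hφ _ (memLocalRing_of_mem_ZO v.2 ψ)] at h0
  rw [h0]
  show _ = res M ((v : IrrCharacter G → ℂ) χ)
  exact (res_eq_iff (memLocalRing_of_mem_ZO v.2 ψ) (memLocalRing_of_mem_ZO v.2 χ)).mpr
    (ZO_congr (IsPBlock.sameBlock hB (Finset.mem_filter.mp hψ).2 hχ) v.2)

end CfsgLib.Blocks
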