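import Cfsg.Agent.S4611
import Cfsg.Agent.Lib.Fitting.Basic
import Cfsg.Agent.Lib.PSolvable.Constrained

/-!
# The principal block of a `p`-solvable group; `p`-length one
-/

set_option autoImplicit false
set_option linter.style.haveILetI false
set_option linter.unusedSectionVars false

namespace CfsgLib.Blocks

open Cfsg
open scoped CfsgLib.Char

variable {p : ℕ} [hp : Fact p.Prime] {M : Ideal AlgInt} {G : Type*} [Group G] [Finite G]

/-- The principal block of a `p`-solvable group consists of the characters of `G ⧸ O_{p'}(G)`. -/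
theorem mem_principalBlock_iff_of_pSolvable (hM : IsPModular p M) (hsol : IsPSolvable p G)
    [(pPrimeCore p G).Normal] (χ : IrrCharacter G) :
    χ ∈ principalBlock M G ↔ ∃ η : IrrCharacter (G ⧸ pPrimeCore p G),
      χ = inflate (QuotientGroup.mk' (pPrimeCore p G))
        (QuotientGroup.mk'_surjective (pPrimeCore p G)) η := by
  classical
  haveI := Fintype.ofFinite G
  haveI := isPrime_of_isPModular hM
  have hs := QuotientGroup.mk'_surjective (pPrimeCore p G)
  constructor
  · exact fun h => exists_inflate_eq_of_ker _ χ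
      (trivial_on_of_mem_principalBlock hM _ (not_dvd_card_pPrimeCore hp.out) h)
  · rintro ⟨η, rfl⟩
    have hC := PSolvable.centralizer_pCore_le (PSolvable.isPSolvable_of_surjective _ hs hsol)
      (PSolvable.pPrimeCore_eq_bot_of_ker hs (QuotientGroup.ker_mk' _))
    exact sameBlock_inflate _ hs (η := trivIrr (G ⧸ pPrimeCore p G))
      (Cfsg.Agent.S4611.one_block hM hC η)

/-- The image of a Sylow subgroup in the quotient by `O_{p'}(G)`. -/
theorem sylow_map_mk' (P : Sylow p G) [(pPrimeCore p G).Normal] :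
    IsPGroup p ((P : Subgroup G).map (QuotientGroup.mk' (pPrimeCore p G))) ∧
      ¬ p ∣ ((P : Subgroup G).map (QuotientGroup.mk' (pPrimeCore p G))).index :=
  ⟨P.isPGroup'.map _, fun h => P.not_dvd_index (h.trans
    ((P : Subgroup G).index_map_dvd (QuotientGroup.mk'_surjective _)))⟩

theorem upperPSeries_one : (upperPSeries p G 1).1 = pPrimeCore p G := by
  haveI := (upperPSeries p G 0).2
  show (pPrimeCore p (G ⧸ (⊥ : Subgroup G))).comap (QuotientGroup.mk' ⊥) = _
  rw [← PSolvable.map_equiv_pPrimeCore (QuotientGroup.quotientBot (G := G))]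
  ext g
  simp only [Subgroup.mem_comap, Subgroup.mem_map]
  exact ⟨fun hg => ⟨_, hg, rfl⟩, fun ⟨q, hq, hqg⟩ => by
    have : q = (g : G ⧸ (⊥ : Subgroup G)) := QuotientGroup.quotientBot.injective hqg
    rw [QuotientGroup.mk'_apply, ← this]; exact hq⟩

theorem upperPSeries_three_eq_top_iff {U W : Subgroup G} [U.Normal] [W.Normal]
    (hW : W = (pCore p (G ⧸ U)).comap (QuotientGroup.mk' U)) :
    (pPrimeCore p (G ⧸ W)).comap (QuotientGroup.mk' W) = ⊤ ↔ ¬ p ∣ (pCore p (G ⧸ U)).index := by
  have hidx : W.index = (pCore p (G ⧸ U)).index := by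
    rw [hW, Subgroup.index_comap_of_surjective _ (QuotientGroup.mk'_surjective U)]
  have hs := QuotientGroup.mk'_surjective W
  rw [← hidx, ← hp.out.coprime_iff_not_dvd, Nat.coprime_comm]
  constructor
  · intro h
    have h1 : pPrimeCore p (G ⧸ W) = ⊤ := eq_top_iff.mpr fun q _ => by
      obtain ⟨g, rfl⟩ := hs q
      exact Subgroup.mem_comap.mp (h ▸ Subgroup.mem_top g)
    have h2 := Transfer.pPrimeCore_coprime (G := G ⧸ W) p
    rwa [h1, Subgroup.card_top] at h2
  · intro h
    refine eq_top_iff.mpr fun g _ => Subgroup.mem_comap.mpr ?_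
    exact Transfer.le_pPrimeCore (p := p) (inferInstance : (⊤ : Subgroup (G ⧸ W)).Normal)
      (by rw [Subgroup.card_top]; exact h) (Subgroup.mem_top _)

/-- `p`-length one means that a Sylow subgroup is normal modulo `O_{p'}(G)`. -/
theorem pLengthLE_one_iff (P : Sylow p G) [(pPrimeCore p G).Normal] :
    PLengthLE p 1 G ↔
      ((P : Subgroup G).map (QuotientGroup.mk' (pPrimeCore p G))).Normal := by
  have key : PLengthLE p 1 G ↔ ¬ p ∣ (pCore p (G ⧸ (upperPSeries p G 1).1)).index :=
    upperPSeries_three_eq_top_iff (U := (upperPSeries p G 1).1) (W := (upperPSeries p G 2).1) rfl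
  have key' : PLengthLE p 1 G ↔ ¬ p ∣ (pCore p (G ⧸ pPrimeCore p G)).index := by
    have : ∀ (U : Subgroup G) [U.Normal], U = pPrimeCore p G →
        (¬ p ∣ (pCore p (G ⧸ U)).index ↔ ¬ p ∣ (pCore p (G ⧸ pPrimeCore p G)).index) := by
      intro U _ hU
      subst hU
      exact Iff.rfl
    exact key.trans (this _ upperPSeries_one)
  rw [key']
  obtain ⟨hR, hRi⟩ := sylow_map_mk' P
  set R := (P : Subgroup G).map (QuotientGroup.mk' (pPrimeCore p G))
  have hle : pCore p (G ⧸ pPrimeCore p G) ≤ R :=
    (Fitting.pCore_eq_iInf_sylow (G := G ⧸ pPrimeCore p G) p).le.trans (iInf_le _ (hR.toSylow hRi))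
  haveI := Fitting.pCore_normal (G := G ⧸ pPrimeCore p G) p
  constructor
  · intro h
    have he : pCore p (G ⧸ pPrimeCore p G) = R := by
      have h1 := Sylow.card_eq_multiplicity ((Fitting.pCore_isPGroup p).toSylow h)
      have h2 := Sylow.card_eq_multiplicity (hR.toSylow hRi)
      exact Subgroup.eq_of_le_of_card_ge hle (h2.trans h1.symm).le
    rw [← he]; infer_instance
  · intro h
    rwa [le_antisymm hle (Fitting.le_pCore h hR)]

end CfsgLib.Blocks
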