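import Cfsg.Agent.Lib.Blocks.Pairs

/-!
# Conjugation of Brauer pairs and pairs of the principal block
-/

set_option autoImplicit false
set_option linter.unusedSectionVars false

namespace CfsgLib.Blocks

open Cfsg
open scoped ComplexConjugate CfsgLib.Char

variable {p : ℕ} {M : Ideal AlgInt} {G : Type*} [Group G] [Fintype G] [M.IsPrime]

/-- The conjugate by `x` of a Brauer pair index. -/
noncomputable def conjPair (x : G) (a : BrauerPairIdx G) : BrauerPairIdx G :=
  ⟨a.1.map (MulAut.conj x).toMonoidHom, conjBlock a.1 x a.2⟩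

theorem mem_map_conj_iff {Q : Subgroup G} {x g : G} :
    g ∈ Q.map (MulAut.conj x).toMonoidHom ↔ x⁻¹ * g * x ∈ Q := by
  rw [Subgroup.mem_map_equiv]
  simp [mul_assoc]

theorem centralizer_conj_iff {Q Q' : Subgroup G} {x : G}
    (hQ : Q' = Q.map (MulAut.conj x).toMonoidHom) (g : G) :
    x * g * x⁻¹ ∈ Subgroup.centralizer (Q' : Set G) ↔ g ∈ Subgroup.centralizer (Q : Set G) := by
  subst hQ
  exact centralizer_map_conj_iff Q x g

theorem map_conj_map (Q : Subgroup G) (x y : G) :
    (Q.map (MulAut.conj x).toMonoidHom).map (MulAut.conj y).toMonoidHom =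
      Q.map (MulAut.conj (y * x)).toMonoidHom := by
  ext g
  simp [mem_map_conj_iff, mul_assoc]

theorem map_conj_one (Q : Subgroup G) : Q.map (MulAut.conj (1 : G)).toMonoidHom = Q := by
  ext g
  simp [mem_map_conj_iff]

theorem map_conj_eq_of_mem_normalizer {Q : Subgroup G} {x : G}
    (hx : x ∈ Subgroup.normalizer (Q : Set G)) : Q.map (MulAut.conj x).toMonoidHom = Q := by
  ext g
  rw [mem_map_conj_iff]
  simpa using Subgroup.mem_normalizer_iff.mp (inv_mem hx) g |>.symm

theorem isBrauerPair_conj {Q Q' : Subgroup G} {x : G}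
    (hQ : Q' = Q.map (MulAut.conj x).toMonoidHom)
    {f : Set (IrrCharacter (Subgroup.centralizer (Q : Set G)))} (h : IsBrauerPair p M Q f) :
    IsBrauerPair p M Q' (conjSet x (Subgroup.centralizer (Q : Set G))
      (Subgroup.centralizer (Q' : Set G)) f) :=
  ⟨hQ ▸ h.1.map _, isPBlock_conjSet (centralizer_conj_iff hQ) h.2⟩

theorem isBrauerPairOf_conj {Q Q' : Subgroup G} {x : G}
    (hQ : Q' = Q.map (MulAut.conj x).toMonoidHom) {B : Set (IrrCharacter G)}
    {f : Set (IrrCharacter (Subgroup.centralizer (Q : Set G)))}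
    (h : IsBrauerPairOf p M B Q f) :
    IsBrauerPairOf p M B Q' (conjSet x (Subgroup.centralizer (Q : Set G))
      (Subgroup.centralizer (Q' : Set G)) f) := by
  have hC := centralizer_conj_iff hQ
  refine ⟨isBrauerPair_conj hQ h.1, h.2.1, ?_⟩
  rw [conjSet_eq_image hC]
  rintro _ ⟨ξ, hξ, rfl⟩
  rw [brauerOmega_conj hC (β := blockCoeff B) (fun g => isClassFunction_blockCoeff B g x) ξ]
  exact h.2.2 ξ hξ

theorem isNormalSubpair_conj {Q Q' P P' : Subgroup G} {x : G}
    (hQ : Q' = Q.map (MulAut.conj x).toMonoidHom) (hP : P' = P.map (MulAut.conj x).toMonoidHom)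
    {f : Set (IrrCharacter (Subgroup.centralizer (Q : Set G)))}
    {e : Set (IrrCharacter (Subgroup.centralizer (P : Set G)))}
    (h : IsNormalSubpair p M Q f P e) :
    IsNormalSubpair p M Q'
      (conjSet x (Subgroup.centralizer (Q : Set G)) (Subgroup.centralizer (Q' : Set G)) f) P'
      (conjSet x (Subgroup.centralizer (P : Set G)) (Subgroup.centralizer (P' : Set G)) e) := by
  have hC := centralizer_conj_iff hQ
  have hD := centralizer_conj_iff hP
  obtain ⟨hQf, hPe, hQP, hPN, hst, hω⟩ := h
  have hN : P' ≤ Subgroup.normalizer (Q' : Set G) := fun z hz => by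
    rw [hP, mem_map_conj_iff] at hz
    refine Subgroup.mem_normalizer_iff.mpr fun g => ?_
    rw [hQ, mem_map_conj_iff, mem_map_conj_iff,
      Subgroup.mem_normalizer_iff.mp (hPN hz) (x⁻¹ * g * x)]
    simp [mul_assoc]
  refine ⟨isBrauerPair_conj hQ hQf, isBrauerPair_conj hP hPe, hQ ▸ hP ▸ Subgroup.map_mono hQP, hN,
    fun z hz => ?_, ?_⟩
  · have hz' : x⁻¹ * z * x ∈ P := by rwa [hP, mem_map_conj_iff] at hz
    obtain ⟨hn, he⟩ := stabilizesBlock_iff.mp (hst _ hz')
    refine stabilizesBlock_iff.mpr ⟨mem_normalizer_centralizer (hN hz), ?_⟩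
    rw [conjSet_conjSet hC (conj_mem_iff_of_mem_normalizer (mem_normalizer_centralizer (hN hz)))]
    conv_rhs => rw [← he, conjSet_conjSet (conj_mem_iff_of_mem_normalizer hn) hC]
    rw [show x * (x⁻¹ * z * x) = z * x by group]
  · rw [conjSet_eq_image hD]
    rintro _ ⟨ξ, hξ, rfl⟩
    rw [brauerOmega_conj hD (β := subgroupBlockCoeff (Subgroup.centralizer (Q : Set G)) f)
      (subgroupBlockCoeff_conjSet hC f) ξ]
    exact hω ξ hξ

theorem subpairLE_conjPair (x : G) {a b : BrauerPairIdx G}
    (h : Relation.ReflTransGen (NormalSubpairRel p M) a b) :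
    Relation.ReflTransGen (NormalSubpairRel p M) (conjPair x a) (conjPair x b) :=
  h.lift (conjPair x) fun _ _ hcd => isNormalSubpair_conj rfl rfl hcd

theorem conjPair_conjPair (x y : G) (a : BrauerPairIdx G) :
    conjPair y (conjPair x a) = conjPair (y * x) a := by
  obtain ⟨Q, f⟩ := a
  have key : ∀ Q' : Subgroup G,
      Q' = (Q.map (MulAut.conj x).toMonoidHom).map (MulAut.conj y).toMonoidHom →
      conjPair y (conjPair x ⟨Q, f⟩) = ⟨Q', conjSet (y * x) (Subgroup.centralizer (Q : Set G))
        (Subgroup.centralizer (Q' : Set G)) f⟩ := by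
    rintro Q' rfl
    show Sigma.mk _ _ = Sigma.mk _ _
    congr 1
    exact conjSet_conjSet (centralizer_conj_iff rfl) (centralizer_conj_iff rfl) f
  exact key _ (map_conj_map Q x y).symm

theorem conjPair_of_mem_normalizer {Q : Subgroup G} {x : G}
    (hx : x ∈ Subgroup.normalizer (Q : Set G))
    (f : Set (IrrCharacter (Subgroup.centralizer (Q : Set G)))) :
    conjPair x ⟨Q, f⟩ =
      ⟨Q, conjSet x (Subgroup.centralizer (Q : Set G)) (Subgroup.centralizer (Q : Set G)) f⟩ := by
  have key : ∀ Q' : Subgroup G, Q' = Q.map (MulAut.conj x).toMonoidHom →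
      conjPair x ⟨Q, f⟩ = ⟨Q', conjSet x (Subgroup.centralizer (Q : Set G))
        (Subgroup.centralizer (Q' : Set G)) f⟩ := by
    rintro Q' rfl
    rfl
  exact key Q (map_conj_eq_of_mem_normalizer hx).symm

theorem conjPair_one (a : BrauerPairIdx G) : conjPair 1 a = a := by
  obtain ⟨Q, f⟩ := a
  rw [conjPair_of_mem_normalizer (one_mem _), conjSet_of_mem (one_mem _)]

theorem isBrauerPairOf_conjPair (x : G) {B : Set (IrrCharacter G)} {a : BrauerPairIdx G}
    (h : IsBrauerPairOf p M B a.1 a.2) :
    IsBrauerPairOf p M B (conjPair x a).1 (conjPair x a).2 :=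
  isBrauerPairOf_conj rfl h

/-- Every Brauer pair of a block lies below a maximal one. -/
theorem exists_maximal_pair_above (hM : IsPModular p M) {B : Set (IrrCharacter G)} {Q : Subgroup G}
    {f : Set (IrrCharacter (Subgroup.centralizer (Q : Set G)))} (h : IsBrauerPairOf p M B Q f) :
    ∃ a : BrauerPairIdx G, IsMaximalBrauerPair p M B a.1 a.2 ∧ SubpairLE p M Q f a.1 a.2 := by
  classical
  set S := {R : Subgroup G | ∃ g : Set (IrrCharacter (Subgroup.centralizer (R : Set G))),
    IsBrauerPairOf p M B R g ∧ SubpairLE p M Q f R g}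
  obtain ⟨R, -, hR⟩ := (Set.toFinite S).exists_le_maximal
    (show Q ∈ S from ⟨f, h, Relation.ReflTransGen.refl⟩)
  obtain ⟨g, hg, hle⟩ := hR.1
  refine ⟨⟨R, g⟩, ⟨hg, fun R' g' hg' hle' => ?_⟩, hle⟩
  exact le_antisymm (hR.2 ⟨g', hg', hle.trans hle'⟩ (SubpairLE.le hle')) (SubpairLE.le hle')

theorem isMaximalBrauerPair_conjPair (x : G) {B : Set (IrrCharacter G)} {a : BrauerPairIdx G}
    (h : IsMaximalBrauerPair p M B a.1 a.2) :
    IsMaximalBrauerPair p M B (conjPair x a).1 (conjPair x a).2 := by
  refine ⟨isBrauerPairOf_conjPair x h.1, fun R g hg hle => ?_⟩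
  have h1 := isBrauerPairOf_conjPair x⁻¹ (a := ⟨R, g⟩) hg
  have h2 := subpairLE_conjPair x⁻¹ hle
  rw [Sigma.eta, conjPair_conjPair, inv_mul_cancel, conjPair_one] at h2
  have h3 := h.2 _ _ h1 h2
  show R = a.1.map (MulAut.conj x).toMonoidHom
  rw [← h3]
  show R = (R.map (MulAut.conj x⁻¹).toMonoidHom).map (MulAut.conj x).toMonoidHom
  rw [map_conj_map, mul_inv_cancel, map_conj_one]

section Principal

/-- A `P`-invariant sum over `G` is congruent to its part on `C_G(P)`. -/
theorem sum_congr_centralizer (hM : IsPModular p M) {P : Subgroup G} (hP : IsPGroup p P)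
    [Fintype (Subgroup.centralizer (P : Set G))] {β : G → ℂ} (hl : ∀ g, MemLocalRing M (β g))
    (hi : ∀ x ∈ P, ∀ g, β (x * g * x⁻¹) = β g) :
    MemLocalIdeal M (∑ g, β g - ∑ c : Subgroup.centralizer (P : Set G), β (c : G)) := by
  classical
  let act : MulAction P G := MulAction.compHom G ((MulAut.conj : G →* MulAut G).comp P.subtype)
  have hfix : ∀ y : G, y ∈ MulAction.fixedPoints P G ↔ y ∈ Subgroup.centralizer (P : Set G) :=
    fun y => by
      rw [Subgroup.mem_centralizer_iff]
      exact ⟨fun H q hq => mul_inv_eq_iff_eq_mul.mp (H ⟨q, hq⟩),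
        fun H q => mul_inv_eq_iff_eq_mul.mpr (H q q.2)⟩
  have hkey := memLocalIdeal_sum_sub_fixed (α := G) hM hP hl (fun q y => hi q q.2 y)
  rwa [show ∑ a : G with a ∈ MulAction.fixedPoints P G, β a =
    ∑ c : Subgroup.centralizer (P : Set G), β (c : G) from
      Finset.sum_subtype _ (fun y => by simp [hfix]) β] at hkey

theorem trivIrr_mem_principalBlock (H : Type*) [Group H] : trivIrr H ∈ principalBlock M H :=
  mem_blockOf_self (trivIrr H)

theorem sum_blockCoeff_principal (H : Type*) [Group H] [Fintype H] :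
    ∑ c : H, blockCoeff (principalBlock M H) c = 1 := by
  have h := omega_blockCoeff (principalBlock M H) (trivIrr H)
  rw [indVec_of_mem (trivIrr_mem_principalBlock H), omega] at h
  simpa [trivIrr] using h

theorem conjSet_principalBlock {K K' : Subgroup G} {x : G} (h : ∀ g, x * g * x⁻¹ ∈ K' ↔ g ∈ K) :
    conjSet x K K' (principalBlock M K) = principalBlock M K' := by
  refine IsPBlock.eq_of_mem_of_mem (isPBlock_conjSet h isPBlock_principalBlock)
    isPBlock_principalBlock (χ := trivIrr K') ?_ (trivIrr_mem_principalBlock K')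
  rw [conjSet_eq_image h]
  exact ⟨trivIrr K, trivIrr_mem_principalBlock K, Subtype.ext (funext fun c => rfl)⟩

theorem brauerOmega_triv (P : Subgroup G) [Fintype (Subgroup.centralizer (P : Set G))] (β : G → ℂ) :
    brauerOmega P β (trivIrr (Subgroup.centralizer (P : Set G)) :
      Subgroup.centralizer (P : Set G) → ℂ) = ∑ c : Subgroup.centralizer (P : Set G), β (c : G) := by
  rw [brauerOmega, finsum_eq_sum_of_fintype]
  simp [trivIrr]

/-- The principal pairs are pairs of the principal block. -/
theorem isBrauerPairOf_principal (hM : IsPModular p M) {Q : Subgroup G} (hQ : IsPGroup p Q) :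
    IsBrauerPairOf p M (principalBlock M G) Q
      (principalBlock M (Subgroup.centralizer (Q : Set G))) := by
  classical
  have hst : IsStableFun M Q (blockCoeff (principalBlock M G)) :=
    isStableFun_blockCoeff isPBlock_principalBlock Q
  refine isBrauerPairOf_of_res isPBlock_principalBlock ⟨hQ, isPBlock_principalBlock⟩
    (trivIrr_mem_principalBlock _) ?_
  rw [← res_one, res_eq_iff (memLocalRing_brauerOmega hst _) memLocalRing_one, brauerOmega_triv,
    ← sum_blockCoeff_principal (M := M) G]
  exact memLocalIdeal_sub_comm (sum_congr_centralizer hM hQ hst.loc hst.conjP)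

/-- The principal pairs are nested. -/
theorem isNormalSubpair_principal (hM : IsPModular p M) {Q P : Subgroup G} (hP : IsPGroup p P)
    (hQP : Q ≤ P) (hPN : P ≤ Subgroup.normalizer (Q : Set G)) :
    IsNormalSubpair p M Q (principalBlock M (Subgroup.centralizer (Q : Set G))) P
      (principalBlock M (Subgroup.centralizer (P : Set G))) := by
  classical
  have hstab : ∀ x ∈ P, StabilizesBlock (Subgroup.centralizer (Q : Set G))
      (principalBlock M (Subgroup.centralizer (Q : Set G))) x := fun x hx =>
    stabilizesBlock_iff.mpr ⟨mem_normalizer_centralizer (hPN hx),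
      conjSet_principalBlock (conj_mem_iff_of_mem_normalizer (mem_normalizer_centralizer (hPN hx)))⟩
  have hst := isStableFun_subgroupBlockCoeff hQP isPBlock_principalBlock hstab
  refine isNormalSubpair_of_res ⟨hP, isPBlock_principalBlock⟩ hQP hPN isPBlock_principalBlock hstab
    (trivIrr_mem_principalBlock _) ?_
  rw [← res_one, res_eq_iff (memLocalRing_brauerOmega hst _) memLocalRing_one, brauerOmega_triv,
    ← sum_blockCoeff_principal (M := M) (Subgroup.centralizer (Q : Set G))]
  have h := sum_congr_centralizer hM hP hst.loc hst.conjP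
  have e : ∑ g, subgroupBlockCoeff (Subgroup.centralizer (Q : Set G))
      (principalBlock M (Subgroup.centralizer (Q : Set G))) g =
      ∑ c, blockCoeff (principalBlock M (Subgroup.centralizer (Q : Set G))) c := by
    simp only [subgroupBlockCoeff_eq]
    have := sum_extendByZero_mul (Subgroup.centralizer (Q : Set G))
      (blockCoeff (principalBlock M (Subgroup.centralizer (Q : Set G)))) (fun _ => 1)
    simpa using this
  rw [e] at h
  exact memLocalIdeal_sub_comm h

/-- Every pair below a principal pair is principal. -/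
theorem eq_principal_of_subpairLE (hM : IsPModular p M) {Q P : Subgroup G} (hP : IsPGroup p P)
    {f : Set (IrrCharacter (Subgroup.centralizer (Q : Set G)))}
    (h : SubpairLE p M Q f P (principalBlock M (Subgroup.centralizer (P : Set G)))) :
    f = principalBlock M (Subgroup.centralizer (Q : Set G)) := by
  have key : ∀ a b : BrauerPairIdx G, Relation.ReflTransGen (NormalSubpairRel p M) a b →
      b.2 = principalBlock M (Subgroup.centralizer (b.1 : Set G)) →
      a.2 = principalBlock M (Subgroup.centralizer (a.1 : Set G)) := fun a b hab => by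
    induction hab with
    | refl => exact id
    | @tail b c _ hbc ih =>
      intro hc
      obtain ⟨R, g⟩ := b
      obtain ⟨R', g'⟩ := c
      obtain rfl : g' = principalBlock M (Subgroup.centralizer (R' : Set G)) := hc
      have h' : IsNormalSubpair p M R g R'
          (principalBlock M (Subgroup.centralizer (R' : Set G))) := hbc
      exact ih ((existsUnique_normalSubpair hM h'.2.1 h'.2.2.1 h'.2.2.2.1).unique h'
        (isNormalSubpair_principal hM h'.2.1.1 h'.2.2.1 h'.2.2.2.1))
  exact key _ _ h rfl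

end Principal

end CfsgLib.Blocks
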