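import Cfsg.Agent.Lib.Blocks.Idempotent

/-!
# Idempotents and `p`-singular elements: Osima's theorem and weak block orthogonality

An idempotent of the group ring over the local ring has zero sum over every `p`-singular class;
hence block idempotents vanish at `p`-singular elements and the sum over a block of
`χ x * conj (χ y)` is zero for `x` regular and `y` singular.
-/

set_option autoImplicit false
set_option linter.unusedSectionVars false

namespace CfsgLib.Blocks

open Cfsg
open scoped ComplexConjugate CfsgLib.Char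

variable {p : ℕ} {M : Ideal AlgInt} (hM : IsPModular p M) {G : Type*} [Group G] [Fintype G]

include hM in
/-- Congruent idempotent matrices over the local ring have equal traces. -/
theorem trace_eq_of_idempotent_congr {ι : Type*} [Fintype ι] [DecidableEq ι]
    {E F : Matrix ι ι ℂ} (hE : E * E = E) (hF : F * F = F)
    (hEl : ∀ i j, MemLocalRing M (E i j)) (hFl : ∀ i j, MemLocalRing M (F i j))
    (hEF : ∀ i j, MemLocalIdeal M (E i j - F i j)) : E.trace = F.trace := by
  have := isPrime_of_isPModular hM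
  set U : Matrix ι ι ℂ := E * F + (1 - E) * (1 - F)
  have hEU : E * U = E * F := by
    simp only [U, mul_add, ← Matrix.mul_assoc, hE, mul_sub, mul_one, sub_self, zero_mul, add_zero]
  have hUF : U * F = E * F := by
    simp only [U, add_mul, Matrix.mul_assoc, hF, sub_mul, one_mul, sub_self, mul_zero, add_zero]
  set E' : Matrix ι ι (locRing M) := Matrix.of fun i j => ⟨E i j, hEl i j⟩
  set F' : Matrix ι ι (locRing M) := Matrix.of fun i j => ⟨F i j, hFl i j⟩
  have hE'e : E' * E' = E' :=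
    Matrix.map_injective (f := (locRing M).subtype) Subtype.val_injective
      ((Matrix.map_mul).trans hE)
  set U' : Matrix ι ι (locRing M) := E' * F' + (1 - E') * (1 - F')
  have hres : U'.map (Ideal.Quotient.mk (locIdeal M)) = 1 := by
    set φ := (Ideal.Quotient.mk (locIdeal M)).mapMatrix (m := ι)
    have heq : φ F' = φ E' := by
      ext i j
      exact (Ideal.Quotient.eq).mpr (memLocalIdeal_sub_comm (hEF i j))
    show φ U' = 1
    rw [map_add, map_mul, map_mul, map_sub, map_sub, heq, map_one, ← map_mul, hE'e]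
    have hid : φ E' * φ E' = φ E' := by rw [← map_mul, hE'e]
    simp only [mul_sub, sub_mul, one_mul, mul_one, hid, sub_self, sub_zero, add_sub_cancel]
  have hdet : U.det ≠ 0 := by
    have hUU : U = U'.map (locRing M).subtype := by
      show U = (locRing M).subtype.mapMatrix U'
      rw [map_add, map_mul, map_mul, map_sub, map_sub, map_one]
      rfl
    rw [hUU]
    show ((locRing M).subtype.mapMatrix U').det ≠ 0
    rw [← RingHom.map_det]
    intro h
    have h0 : U'.det = 0 := Subtype.ext h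
    have h1 := RingHom.map_det (Ideal.Quotient.mk (locIdeal M)) U'
    rw [h0, map_zero, RingHom.mapMatrix_apply, hres, Matrix.det_one] at h1
    exact zero_ne_one h1
  have hu : IsUnit U.det := isUnit_iff_ne_zero.mpr hdet
  calc E.trace = (E * U * U⁻¹).trace := by
        rw [Matrix.mul_assoc, Matrix.mul_nonsing_inv _ hu, mul_one]
    _ = (U * F * U⁻¹).trace := by rw [hEU, hUF]
    _ = (U⁻¹ * (U * F)).trace := Matrix.trace_mul_comm _ _
    _ = F.trace := by rw [← Matrix.mul_assoc, Matrix.nonsing_inv_mul _ hu, one_mul]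

omit hM

theorem sum_geom_eq_zero {m : ℕ} {μ : ℂ} (hμ : μ ^ m = 1) (h1 : μ ≠ 1) :
    ∑ j ∈ Finset.range m, μ ^ j = 0 := by
  rw [geom_sum_eq h1, hμ, sub_self, zero_div]

include hM in
/-- An idempotent of the group ring over the local ring has zero sum over the conjugates of a
`p`-singular element (Zassenhaus). -/
theorem sum_conj_eq_zero_of_idempotent {e : G → ℂ} (hel : ∀ x, MemLocalRing M (e x))
    (hee : conv e e = e) {g : G} (hg : ¬ IsPRegular p g) :
    ∑ x : G, e (x * g * x⁻¹) = 0 := by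
  classical
  have := isPrime_of_isPModular hM
  have hpm : p ∣ orderOf g := not_not.mp hg
  set H := Subgroup.zpowers g
  set m := orderOf g with hm_def
  have hm : 0 < m := orderOf_pos g
  haveI : NeZero m := ⟨hm.ne'⟩
  have : Fintype (G ⧸ H) := Fintype.ofFinite _
  set r : G ⧸ H → G := Quotient.out
  have hr : ∀ q, (r q : G ⧸ H) = q := Quotient.out_eq
  have hbij : Function.Bijective fun aq : Fin m × (G ⧸ H) => g ^ (aq.1 : ℕ) * (r aq.2)⁻¹ := by
    rw [Fintype.bijective_iff_injective_and_card]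
    refine ⟨fun aq bs h => ?_, ?_⟩
    · obtain ⟨a, q⟩ := aq
      obtain ⟨b, s⟩ := bs
      have h2 : (r q)⁻¹ * r s = (g ^ (a : ℕ))⁻¹ * g ^ (b : ℕ) := by
        simp only at h
        rw [eq_inv_mul_iff_mul_eq, ← mul_assoc, h, inv_mul_cancel_right]
      have hqs : q = s := by
        rw [← hr q, ← hr s, QuotientGroup.eq, h2]
        exact mul_mem (inv_mem (Subgroup.npow_mem_zpowers g _)) (Subgroup.npow_mem_zpowers g _)
      subst hqs
      have hab : g ^ (a : ℕ) = g ^ (b : ℕ) := mul_right_cancel h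
      exact Prod.ext (Fin.ext (pow_injOn_Iio_orderOf a.2 b.2 hab)) rfl
    · rw [Fintype.card_prod, Fintype.card_fin, ← Nat.card_eq_fintype_card,
        ← Nat.card_eq_fintype_card (α := G), hm_def, ← Nat.card_zpowers g, mul_comm]
      exact (Subgroup.card_eq_card_quotient_mul_card_subgroup H).symm
  have hS : ∀ k : ℕ, ∑ x : G, e (x * g ^ k * x⁻¹) =
      (m : ℂ) * ∑ q : G ⧸ H, e (r q * g ^ k * (r q)⁻¹) := fun k => by
    rw [← Fintype.sum_bijective _ ((Equiv.inv G).bijective.comp hbij) _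
      (fun x => e (x * g ^ k * x⁻¹)) (fun _ => rfl), Fintype.sum_prod_type]
    have hterm : ∀ (a : Fin m) (q : G ⧸ H),
        e ((g ^ (a : ℕ) * (r q)⁻¹)⁻¹ * g ^ k * (g ^ (a : ℕ) * (r q)⁻¹)⁻¹⁻¹)
          = e (r q * g ^ k * (r q)⁻¹) := fun a q => by
      congr 1
      have hc : (g ^ (a : ℕ))⁻¹ * g ^ k * g ^ (a : ℕ) = g ^ k := by
        rw [mul_assoc, ← pow_add, add_comm, pow_add, inv_mul_cancel_left]
      calc _ = r q * ((g ^ (a : ℕ))⁻¹ * g ^ k * g ^ (a : ℕ)) * (r q)⁻¹ := by group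
        _ = _ := by rw [hc]
    simp only [Function.comp_apply, Equiv.inv_apply, hterm]
    simp [Finset.card_univ]
  have hpowadd : ∀ a b : Fin m, g ^ ((a + b : Fin m) : ℕ) = g ^ (a : ℕ) * g ^ (b : ℕ) :=
    fun a b => by rw [Fin.val_add, ← pow_add, pow_mod_orderOf]
  set E : ℂ → Matrix (G ⧸ H) (G ⧸ H) ℂ := fun ζ => Matrix.of fun i j =>
    ∑ k : Fin m, e (r i * g ^ (k : ℕ) * (r j)⁻¹) * ζ ^ (k : ℕ)
  have hEidem : ∀ ζ : ℂ, ζ ^ m = 1 → E ζ * E ζ = E ζ := fun ζ hζ => by
    ext i l
    have hζadd : ∀ a b : Fin m, ζ ^ ((a + b : Fin m) : ℕ) = ζ ^ (a : ℕ) * ζ ^ (b : ℕ) :=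
      fun a b => by rw [Fin.val_add, ← pow_add, ← pow_eq_pow_mod _ hζ]
    simp only [E, Matrix.mul_apply, Matrix.of_apply, Finset.sum_mul_sum]
    calc ∑ j, ∑ a : Fin m, ∑ b : Fin m, e (r i * g ^ (a : ℕ) * (r j)⁻¹) * ζ ^ (a : ℕ) *
          (e (r j * g ^ (b : ℕ) * (r l)⁻¹) * ζ ^ (b : ℕ))
        = ∑ c : Fin m, (∑ aq : Fin m × (G ⧸ H), e (r i * (g ^ (aq.1 : ℕ) * (r aq.2)⁻¹)) *
            e ((r i * (g ^ (aq.1 : ℕ) * (r aq.2)⁻¹))⁻¹ * (r i * g ^ (c : ℕ) * (r l)⁻¹))) *
            ζ ^ (c : ℕ) := by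
          rw [Finset.sum_comm]
          simp only [Finset.sum_mul, Fintype.sum_prod_type]
          conv_rhs => rw [Finset.sum_comm]
          refine Finset.sum_congr rfl fun a _ => ?_
          rw [Finset.sum_comm]
          refine Fintype.sum_equiv (Equiv.addLeft a) _ _ fun b => Finset.sum_congr rfl fun j _ => ?_
          rw [Equiv.coe_addLeft, hζadd, hpowadd]
          have : (r i * (g ^ (a : ℕ) * (r j)⁻¹))⁻¹ *
              (r i * (g ^ (a : ℕ) * g ^ (b : ℕ)) * (r l)⁻¹) = r j * g ^ (b : ℕ) * (r l)⁻¹ := by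
            group
          rw [this, ← mul_assoc (r i)]
          ring
      _ = ∑ c : Fin m, e (r i * g ^ (c : ℕ) * (r l)⁻¹) * ζ ^ (c : ℕ) := by
          refine Finset.sum_congr rfl fun c _ => ?_
          congr 1
          refine (Fintype.sum_bijective
            (fun aq : Fin m × (G ⧸ H) => r i * (g ^ (aq.1 : ℕ) * (r aq.2)⁻¹))
            ((Equiv.mulLeft (r i)).bijective.comp hbij) _
            (fun y => e y * e (y⁻¹ * (r i * g ^ (c : ℕ) * (r l)⁻¹))) (fun _ => rfl)).trans ?_
          exact congrFun hee _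
  have hint : ∀ {ζ : ℂ}, ζ ^ m = 1 → MemLocalRing M ζ := fun hζ =>
    memLocalRing_of_isIntegral (IsIntegral.of_pow hm (hζ ▸ isIntegral_one))
  have hEl : ∀ ζ : ℂ, ζ ^ m = 1 → ∀ i j, MemLocalRing M (E ζ i j) := fun ζ hζ i j => by
    simp only [E, Matrix.of_apply]
    exact memLocalRing_sum _ _ fun k _ => memLocalRing_mul (hel _) (memLocalRing_pow (hint hζ) _)
  set F : ℂ → ℂ := fun ζ => ∑ k : Fin m, (∑ x : G, e (x * g ^ (k : ℕ) * x⁻¹)) * ζ ^ (k : ℕ)
  have hFE : ∀ ζ, F ζ = (m : ℂ) * (E ζ).trace := fun ζ => by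
    simp only [F, hS, E, Matrix.trace, Matrix.diag, Matrix.of_apply, Finset.mul_sum, Finset.sum_mul]
    rw [Finset.sum_comm]
    exact Finset.sum_congr rfl fun q _ => Finset.sum_congr rfl fun k _ => by ring
  obtain ⟨m', hm'⟩ := hpm
  set ω : ℂ := Complex.exp (2 * Real.pi * Complex.I / m)
  have hω : IsPrimitiveRoot ω m := Complex.isPrimitiveRoot_exp m hm.ne'
  set μ : ℂ := ω ^ m'
  have hμp : μ ^ p = 1 := by rw [← pow_mul, mul_comm, ← hm', hω.pow_eq_one]
  have hμ1 : μ ≠ 1 := by
    have : 0 < m' := Nat.pos_of_ne_zero fun h => hm.ne' (by rw [hm', h, mul_zero])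
    refine hω.pow_ne_one_of_pos_of_lt this.ne' ?_
    rw [hm']
    exact lt_mul_left this hM.1.one_lt
  have hμm : μ ^ m = 1 := by rw [← pow_mul, mul_comm, pow_mul, hω.pow_eq_one, one_pow]
  have hinvar : ∀ ζ : ℂ, ζ ^ m = 1 → F (ζ * μ) = F ζ := fun ζ hζ => by
    have hζμ : (ζ * μ) ^ m = 1 := by rw [mul_pow, hζ, hμm, one_mul]
    rw [hFE, hFE, trace_eq_of_idempotent_congr hM (hEidem _ hζμ) (hEidem ζ hζ) (hEl _ hζμ)
      (hEl ζ hζ) fun i j => ?_]
    simp only [E, Matrix.of_apply, ← Finset.sum_sub_distrib]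
    refine memLocalIdeal_sum _ _ fun k _ => ?_
    rw [← mul_sub, mul_pow, ← mul_sub_one]
    refine memLocalIdeal_mul_left (hel _) (memLocalIdeal_mul_left
      (memLocalRing_pow (hint hζ) _) (memLocalIdeal_root_sub_one hM (k := 1) ?_))
    rw [pow_one, ← pow_mul, mul_comm, pow_mul, hμp, one_pow]
  have hzero : ∀ k : Fin m, (∑ x : G, e (x * g ^ (k : ℕ) * x⁻¹)) * (μ ^ (k : ℕ) - 1) = 0 := by
    intro k
    set a : Fin m → ℂ := fun k => (∑ x : G, e (x * g ^ (k : ℕ) * x⁻¹)) * (μ ^ (k : ℕ) - 1)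
    have hGj : ∀ j : ℕ, ∑ l : Fin m, a l * (ω ^ j) ^ (l : ℕ) = 0 := fun j => by
      have := hinvar (ω ^ j) (by rw [← pow_mul, mul_comm, pow_mul, hω.pow_eq_one, one_pow])
      rw [← sub_eq_zero, ← Finset.sum_sub_distrib] at this
      rw [← this]
      refine Finset.sum_congr rfl fun l _ => ?_
      simp only [a, mul_pow]
      ring
    have hsum : ∑ j ∈ Finset.range m, (ω ^ j) ^ (m - (k : ℕ)) * ∑ l : Fin m, a l * (ω ^ j) ^ (l : ℕ)
        = (m : ℂ) * a k := by
      simp only [Finset.mul_sum]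
      rw [Finset.sum_comm, Finset.sum_eq_single k]
      · rw [show (m : ℂ) * a k = ∑ _j ∈ Finset.range m, a k by simp]
        refine Finset.sum_congr rfl fun j _ => ?_
        rw [mul_left_comm, ← pow_add, Nat.sub_add_cancel k.2.le, ← pow_mul, mul_comm j, pow_mul,
          hω.pow_eq_one, one_pow, mul_one]
      · intro l _ hl
        have h1 : ω ^ (m - (k : ℕ) + (l : ℕ)) ≠ 1 := fun h => by
          obtain ⟨c, hc⟩ := (hω.pow_eq_one_iff_dvd _).mp h
          apply hl
          apply Fin.ext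
          have hk := k.2
          have hl' := l.2
          rcases c with - | - | c
          · omega
          · omega
          · have : m * 2 ≤ m * (c + 1 + 1) := Nat.mul_le_mul_left m (by omega)
            omega
        rw [show ∑ j ∈ Finset.range m, (ω ^ j) ^ (m - (k : ℕ)) * (a l * (ω ^ j) ^ (l : ℕ))
            = a l * ∑ j ∈ Finset.range m, (ω ^ (m - (k : ℕ) + (l : ℕ))) ^ j by
          rw [Finset.mul_sum]
          refine Finset.sum_congr rfl fun j _ => ?_
          rw [← pow_mul ω (m - (k : ℕ) + (l : ℕ)), mul_comm _ j, pow_mul, pow_add]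
          ring, sum_geom_eq_zero (by rw [← pow_mul, mul_comm, pow_mul, hω.pow_eq_one, one_pow]) h1,
          mul_zero]
      · simp
    rw [Finset.sum_congr rfl fun j _ => by rw [hGj j, mul_zero], Finset.sum_const_zero] at hsum
    exact (mul_eq_zero.mp hsum.symm).resolve_left (Nat.cast_ne_zero.mpr hm.ne')
  have h1 := hzero ⟨1, lt_of_lt_of_le hM.1.one_lt (Nat.le_of_dvd hm ⟨m', hm'⟩)⟩
  simp only [pow_one] at h1
  exact (mul_eq_zero.mp h1).resolve_right (sub_ne_zero.mpr hμ1)

include hM in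
/-- Block idempotents vanish at `p`-singular elements (Osima). -/
theorem blockCoeff_eq_zero_of_not_regular {S : Set (IrrCharacter G)} (hS : IsBlockUnion M S)
    {g : G} (hg : ¬ IsPRegular p g) : blockCoeff S g = 0 := by
  have := isPrime_of_isPModular hM
  have hcls := isClassFunction_blockCoeff S
  have hee : conv (blockCoeff S) (blockCoeff S) = blockCoeff S := by
    rw [← ofOmega_indVec, ← ofOmega_mul]
    congr 1
    funext χ
    by_cases h : χ ∈ S
    · simp [indVec_of_mem h]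
    · simp [indVec_of_notMem h]
  have h := sum_conj_eq_zero_of_idempotent hM (memLocalRing_blockCoeff hS) hee hg
  simpa [hcls g] using h

/-- The sum over all conjugations of `χ (y g y⁻¹ h)`. -/
theorem sum_conj_mul_irr (χ : IrrCharacter G) (g h : G) :
    ∑ y : G, (χ : G → ℂ) (y * g * y⁻¹ * h) =
      (Nat.card G : ℂ) * (χ : G → ℂ) g * (χ : G → ℂ) h / (χ : G → ℂ) 1 := by
  classical
  obtain ⟨n, ρ, hρ, hχ⟩ := χ.2
  rw [← hχ]
  set f : G → ℂ := fun z => ∑ y : G, if y * g * y⁻¹ = z then 1 else 0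
  have hf : IsClassFunction G f := fun z b => by
    refine Fintype.sum_equiv (Equiv.mulLeft b⁻¹) _ _ fun y => if_congr ?_ rfl rfl
    simp only [Equiv.coe_mulLeft, mul_inv_rev, inv_inv]
    constructor
    · intro hy
      calc b⁻¹ * y * g * (y⁻¹ * b) = b⁻¹ * (y * g * y⁻¹) * b := by group
        _ = z := by rw [hy]; group
    · intro hy
      calc y * g * y⁻¹ = b * (b⁻¹ * y * g * (y⁻¹ * b)) * b⁻¹ := by group
        _ = _ := by rw [hy]
  have hact : actFun ρ f = ∑ y : G, ρ (y * g * y⁻¹) := by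
    simp only [actFun, f, Finset.sum_smul, ite_smul, one_smul, zero_smul]
    rw [Finset.sum_comm]
    simp
  have hom : omega ρ.character f = (Nat.card G : ℂ) * ρ.character g / ρ.character 1 := by
    simp only [omega, f, Finset.sum_mul, ite_mul, one_mul, zero_mul]
    rw [Finset.sum_comm]
    simp [Representation.char_conj, Nat.card_eq_fintype_card]
  calc ∑ y : G, ρ.character (y * g * y⁻¹ * h)
      = LinearMap.trace ℂ (Fin n → ℂ) (actFun ρ f * ρ h) := by
        rw [hact, Finset.sum_mul, map_sum]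
        exact Finset.sum_congr rfl fun y _ => by rw [← map_mul]; rfl
    _ = omega ρ.character f * ρ.character h := by
        rw [actFun_eq_omega ρ hf, smul_mul_assoc, one_mul, map_smul, smul_eq_mul]
        rfl
    _ = _ := by rw [hom]; ring

include hM in
/-- Weak block orthogonality. -/
theorem sum_block_mul_conj_eq_zero {S : Finset (IrrCharacter G)}
    (hS : IsBlockUnion M (S : Set (IrrCharacter G))) {x y : G} (hx : IsPRegular p x)
    (hy : ¬ IsPRegular p y) :
    ∑ χ ∈ S, (χ : G → ℂ) x * conj ((χ : G → ℂ) y) = 0 := by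
  classical
  have := isPrime_of_isPModular hM
  set o := orderOf x with ho_def
  have ho : 0 < o := orderOf_pos x
  haveI : NeZero o := ⟨ho.ne'⟩
  have hoinv : MemLocalRing M (o : ℂ)⁻¹ := memLocalRing_natCast_inv hM hx
  set eB := blockCoeff (S : Set (IrrCharacter G)) with heB
  have hcls : IsClassFunction G eB := isClassFunction_blockCoeff _
  have heBe : conv eB eB = eB := by
    rw [heB, ← ofOmega_indVec, ← ofOmega_mul]
    congr 1
    funext χ
    by_cases h : χ ∈ (S : Set (IrrCharacter G))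
    · simp [indVec_of_mem h]
    · simp [indVec_of_notMem h]
  have heBf : ∀ g, eB g = (Nat.card G : ℂ)⁻¹ * ∑ χ ∈ S, (χ : G → ℂ) 1 * conj ((χ : G → ℂ) g) :=
    fun g => by simp only [eB, blockCoeff, finsum_mem_coe_finset]
  -- the twisted sums over the powers of `x` vanish
  have hF : ∀ ζ : ℂ, ζ ^ o = 1 →
      ∑ a : Fin o, ζ ^ (a : ℕ) * ∑ χ ∈ S, conj ((χ : G → ℂ) y) * (χ : G → ℂ) (x ^ (a : ℕ)) = 0 :=
    fun ζ hζ => by
    set e : G → ℂ := fun z => (o : ℂ)⁻¹ * ∑ a : Fin o, ζ ^ (a : ℕ) * eB (z * (x ^ (a : ℕ))⁻¹)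
    have hint : MemLocalRing M ζ := memLocalRing_of_isIntegral
      (IsIntegral.of_pow ho (hζ ▸ isIntegral_one))
    have hel : ∀ z, MemLocalRing M (e z) := fun z => memLocalRing_mul hoinv
      (memLocalRing_sum _ _ fun a _ => memLocalRing_mul (memLocalRing_pow hint _)
        (memLocalRing_blockCoeff hS _))
    have hee : conv e e = e := by
      funext z
      have hconv : ∀ a b : Fin o,
          ∑ w : G, eB (w * (x ^ (a : ℕ))⁻¹) * eB (w⁻¹ * z * (x ^ (b : ℕ))⁻¹) =
            eB (z * (x ^ ((a + b : Fin o) : ℕ))⁻¹) := fun a b => by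
        conv_rhs => rw [← heBe]
        refine Fintype.sum_equiv (Equiv.mulRight (x ^ (a : ℕ))⁻¹) _ _ fun w => ?_
        simp only [Equiv.coe_mulRight]
        congr 1
        rw [Fin.val_add, pow_mod_orderOf, pow_add, ← hcls (w⁻¹ * z * (x ^ (b : ℕ))⁻¹) (x ^ (a : ℕ))]
        congr 1
        group
      have hζadd : ∀ a b : Fin o, ζ ^ (a : ℕ) * ζ ^ (b : ℕ) = ζ ^ ((a + b : Fin o) : ℕ) :=
        fun a b => by rw [Fin.val_add, ← pow_add, ← pow_eq_pow_mod _ hζ]
      calc conv e e z
          = (o : ℂ)⁻¹ * (o : ℂ)⁻¹ * ∑ a : Fin o, ∑ b : Fin o, ζ ^ (a : ℕ) * ζ ^ (b : ℕ) *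
              ∑ w : G, eB (w * (x ^ (a : ℕ))⁻¹) * eB (w⁻¹ * z * (x ^ (b : ℕ))⁻¹) := by
            simp only [conv, e, Finset.mul_sum, Finset.sum_mul]
            rw [Finset.sum_comm]
            conv_lhs => arg 2; ext b; rw [Finset.sum_comm]
            rw [Finset.sum_comm]
            exact Finset.sum_congr rfl fun a _ => Finset.sum_congr rfl fun b _ =>
              Finset.sum_congr rfl fun w _ => by ring
        _ = (o : ℂ)⁻¹ * (o : ℂ)⁻¹ * ∑ a : Fin o, ∑ c : Fin o,
              ζ ^ (c : ℕ) * eB (z * (x ^ (c : ℕ))⁻¹) := by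
            congr 1
            refine Finset.sum_congr rfl fun a _ =>
              Fintype.sum_equiv (Equiv.addLeft a) _ _ fun b => ?_
            rw [Equiv.coe_addLeft, hconv, hζadd]
        _ = e z := by
            simp only [e, Finset.sum_const, Finset.card_univ, Fintype.card_fin, nsmul_eq_mul]
            field_simp
    have h := sum_conj_eq_zero_of_idempotent hM hel hee hy
    have hsum : ∑ v : G, e (v * y * v⁻¹) = (o : ℂ)⁻¹ * ∑ a : Fin o, ζ ^ (a : ℕ) *
        ∑ χ ∈ S, conj ((χ : G → ℂ) y) * (χ : G → ℂ) (x ^ (a : ℕ)) := by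
      simp only [e, ← Finset.mul_sum]
      congr 1
      rw [Finset.sum_comm]
      refine Finset.sum_congr rfl fun a _ => ?_
      rw [← Finset.mul_sum]
      congr 1
      simp only [heBf, ← Finset.mul_sum]
      rw [Finset.sum_comm, Finset.mul_sum]
      refine Finset.sum_congr rfl fun χ _ => ?_
      rw [← Finset.mul_sum, ← map_sum, sum_conj_mul_irr, map_div₀, map_mul, map_mul,
        irr_value_inv χ.2, Complex.conj_conj, map_natCast, (irr_degree_eq χ).1, map_natCast]
      have hn : (Nat.card G : ℂ) ≠ 0 := Nat.cast_ne_zero.mpr Nat.card_pos.ne'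
      have hd : (charDegree (χ : G → ℂ) : ℂ) ≠ 0 := Nat.cast_ne_zero.mpr (irr_degree_eq χ).2.ne'
      field_simp
    rw [hsum] at h
    exact (mul_eq_zero.mp h).resolve_left (inv_ne_zero (Nat.cast_ne_zero.mpr ho.ne'))
  set ω : ℂ := Complex.exp (2 * Real.pi * Complex.I / o)
  have hω : IsPrimitiveRoot ω o := Complex.isPrimitiveRoot_exp o ho.ne'
  set i1 : Fin o := ⟨1 % o, Nat.mod_lt _ ho⟩
  set T : Fin o → ℂ := fun a => ∑ χ ∈ S, conj ((χ : G → ℂ) y) * (χ : G → ℂ) (x ^ (a : ℕ))
  have hsum : ∑ j ∈ Finset.range o, (ω ^ j) ^ (o - (i1 : ℕ)) * ∑ a : Fin o, (ω ^ j) ^ (a : ℕ) * T a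
      = (o : ℂ) * T i1 := by
    simp only [Finset.mul_sum]
    rw [Finset.sum_comm, Finset.sum_eq_single i1]
    · rw [show (o : ℂ) * T i1 = ∑ _j ∈ Finset.range o, T i1 by simp]
      refine Finset.sum_congr rfl fun j _ => ?_
      rw [← mul_assoc, ← pow_add, Nat.sub_add_cancel i1.2.le, ← pow_mul, mul_comm j, pow_mul,
        hω.pow_eq_one, one_pow, one_mul]
    · intro l _ hl
      have h1 : ω ^ (o - (i1 : ℕ) + (l : ℕ)) ≠ 1 := fun h => by
        obtain ⟨c, hc⟩ := (hω.pow_eq_one_iff_dvd _).mp h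
        apply hl
        apply Fin.ext
        have hk := i1.2
        have hl' := l.2
        rcases c with - | - | c
        · omega
        · omega
        · have : o * 2 ≤ o * (c + 1 + 1) := Nat.mul_le_mul_left o (by omega)
          omega
      rw [show ∑ j ∈ Finset.range o, (ω ^ j) ^ (o - (i1 : ℕ)) * ((ω ^ j) ^ (l : ℕ) * T l)
          = T l * ∑ j ∈ Finset.range o, (ω ^ (o - (i1 : ℕ) + (l : ℕ))) ^ j by
        rw [Finset.mul_sum]
        refine Finset.sum_congr rfl fun j _ => ?_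
        rw [← pow_mul ω (o - (i1 : ℕ) + (l : ℕ)), mul_comm _ j, pow_mul, pow_add]
        ring, sum_geom_eq_zero (by rw [← pow_mul, mul_comm, pow_mul, hω.pow_eq_one, one_pow]) h1,
        mul_zero]
    · simp
  have hG0 : ∀ j : ℕ, ∑ a : Fin o, (ω ^ j) ^ (a : ℕ) * T a = 0 := fun j =>
    hF _ (by rw [← pow_mul, mul_comm, pow_mul, hω.pow_eq_one, one_pow])
  rw [Finset.sum_congr rfl fun j _ => by rw [hG0 j, mul_zero], Finset.sum_const_zero] at hsum
  have hT := (mul_eq_zero.mp hsum.symm).resolve_left (Nat.cast_ne_zero.mpr ho.ne')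
  rw [← hT]
  refine Finset.sum_congr rfl fun χ _ => ?_
  rw [show ((i1 : ℕ)) = 1 % o from rfl, ho_def, pow_mod_orderOf, pow_one, mul_comm]

end CfsgLib.Blocks
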