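import Cfsg.Agent.Lib.Blocks.PrincipalColumn

/-!
# Values modulo `p` on sections, subsections of height zero characters, column sums of subsections
-/

set_option autoImplicit false
set_option linter.unusedSectionVars false

namespace CfsgLib.Blocks

open Cfsg
open scoped ComplexConjugate CfsgLib.Char

section Congruence

variable {p : ℕ} {M : Ideal AlgInt} {G : Type*} [Group G] [Fintype G]

theorem res_pow [M.IsPrime] {z : ℂ} (hz : MemLocalRing M z) (n : ℕ) :
    res M (z ^ n) = res M z ^ n := by
  induction n with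
  | zero => simp [res_one]
  | succ n ih =>
      rw [pow_succ, pow_succ, res_mul ?_ hz, ih]
      clear ih
      induction n with
      | zero => simp [memLocalRing_one]
      | succ n ih => rw [pow_succ]; exact memLocalRing_mul ih hz

/-- Multiplying by a commuting `p`-element does not change a value modulo `M`. -/
theorem res_value_mul_pElement (hM : IsPModular p M) [M.IsPrime] {χ : G → ℂ}
    (hχ : IsIrrCharacter G χ) {x z : G} (hxz : Commute x z) (hx : ∃ k : ℕ, orderOf x = p ^ k) :
    res M (χ (x * z)) = res M (χ z) := by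
  classical
  have := charP_resField hM
  have : Fact p.Prime := ⟨hM.1⟩
  obtain ⟨k, hk⟩ := hx
  have key : ∀ g : G, res M (χ g) ^ p ^ k = res M (χ (g ^ p ^ k)) := by
    intro g
    obtain ⟨n, ρ, hρ, rfl⟩ := hχ
    obtain ⟨μ, h1, h2⟩ := Char.character_pow_eq_sum ρ g
    have hμ : ∀ i, MemLocalRing M (μ i) := fun i => memLocalRing_of_isIntegral
      (IsIntegral.of_pow (orderOf_pos g) (h1 i ▸ isIntegral_one))
    have hμk : ∀ i, MemLocalRing M (μ i ^ p ^ k) := fun i => memLocalRing_of_isIntegral
      ((IsIntegral.of_pow (orderOf_pos g) (h1 i ▸ isIntegral_one)).pow _)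
    have hg : ρ.character g = ∑ i, μ i := by simpa using h2 1
    rw [h2, hg, res_sum _ _ fun i _ => hμ i, res_sum _ _ fun i _ => hμk i, sum_pow_char_pow]
    exact Finset.sum_congr rfl fun i _ => (res_pow (hμ i) _).symm
  apply iterateFrobenius_inj (ResField M) p k
  simp only [iterateFrobenius_def, key, hxz.mul_pow]
  rw [← hk, pow_orderOf_eq_one, one_mul]

theorem memLocalIdeal_value_mul_pElement_iff (hM : IsPModular p M) {χ : G → ℂ}
    (hχ : IsIrrCharacter G χ) {x z : G} (hxz : Commute x z) (hx : ∃ k : ℕ, orderOf x = p ^ k) :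
    MemLocalIdeal M (χ (x * z)) ↔ MemLocalIdeal M (χ z) := by
  have := isPrime_of_isPModular hM
  have hi : ∀ g, MemLocalRing M (χ g) := fun g => memLocalRing_of_isIntegral (irr_isIntegral hχ g)
  exact memLocalIdeal_iff_of_sub ((res_eq_iff (hi _) (hi _)).mp (res_value_mul_pElement hM hχ hxz hx))

/-- A quotient of natural numbers with the same `p`-part is a unit at `M`. -/
theorem unit_natCast_div (hM : IsPModular p M) {a b : ℕ} (ha : a ≠ 0) (hb : b ≠ 0)
    (h : a.factorization p = b.factorization p) :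
    MemLocalRing M ((a : ℂ) / b) ∧ ¬ MemLocalIdeal M ((a : ℂ) / b) := by
  have := isPrime_of_isPModular hM
  have hp : (p : ℂ) ^ b.factorization p ≠ 0 := pow_ne_zero _ (Nat.cast_ne_zero.mpr hM.1.ne_zero)
  set a' := a / p ^ a.factorization p
  set b' := b / p ^ b.factorization p
  have hae : a = p ^ a.factorization p * a' := (Nat.ordProj_mul_ordCompl_eq_self _ p).symm
  have hbe : b = p ^ b.factorization p * b' := (Nat.ordProj_mul_ordCompl_eq_self _ p).symm
  have ha' : ¬ p ∣ a' := Nat.not_dvd_ordCompl hM.1 ha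
  have hb' : ¬ p ∣ b' := Nat.not_dvd_ordCompl hM.1 hb
  have he : (a : ℂ) / b = (a' : ℂ) * (b' : ℂ)⁻¹ := by
    conv_lhs => rw [hae, hbe, h]
    push_cast
    rw [mul_div_mul_left _ _ hp, div_eq_mul_inv]
  rw [he]
  refine ⟨memLocalRing_mul (memLocalRing_natCast _) (memLocalRing_natCast_inv hM hb'), fun hmem => ?_⟩
  have h2 := memLocalIdeal_mul_right hmem (memLocalRing_natCast b')
  rw [inv_mul_cancel_right₀ (Nat.cast_ne_zero.mpr fun h0 => hb' (by rw [h0]; exact dvd_zero p))] at h2
  exact ha' ((memLocalIdeal_natCast_iff hM).mp h2)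

/-- The block part, written with any enumeration of the group. -/
theorem blockPart_eq_filter (b : Set (IrrCharacter G)) [DecidablePred (· ∈ b)] (θ : G → ℂ) (y : G) :
    blockPart b θ y =
      ∑ χ : IrrCharacter G with χ ∈ b, classInner θ (χ : G → ℂ) * (χ : G → ℂ) y := by
  rw [blockPart, sum_mem_eq_filter]
  refine Finset.sum_congr rfl fun χ _ => ?_
  congr 1
  simp only [classInner]
  congr 2
  ext x
  simp

end Congruence

section Sections

variable {p : ℕ} {M : Ideal AlgInt} (hM : IsPModular p M) {G : Type*} [Group G] [Fintype G]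
  {x : G} (hx : ∃ k : ℕ, orderOf x = p ^ k) [Fintype (Subgroup.centralizer ({x} : Set G))]
include hM hx

/-- A height zero character has a nonzero part in every subsection of its block. -/
theorem exists_blockPart_ne_zero_of_height_zero {B : Set (IrrCharacter G)} {χ : IrrCharacter G}
    (hχ : χ ∈ B) (h0 : blockHeight p B (χ : G → ℂ) = 0)
    {b : Set (IrrCharacter (Subgroup.centralizer ({x} : Set G)))}
    (hb : IsInducedBlock M (Subgroup.centralizer ({x} : Set G)) b B) :
    ∃ y : Subgroup.centralizer ({x} : Set G), ¬ p ∣ orderOf y ∧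
      blockPart b (fun c : Subgroup.centralizer ({x} : Set G) => (χ : G → ℂ) (x * (c : G))) y ≠ 0 := by
  classical
  have := isPrime_of_isPModular hM
  by_contra hno
  push Not at hno
  set θ₀ : (Subgroup.centralizer ({x} : Set G)) → ℂ := fun c => (χ : G → ℂ) (c : G)
  have hθ₀ : IsClassFunction (Subgroup.centralizer ({x} : Set G)) θ₀ := fun c a => irr_classFunction χ (c : G) (a : G)
  have hθ := isClassFunction_translate (x := x) (irr_classFunction χ)
  have hint : ∀ g, MemLocalRing M ((χ : G → ℂ) g) := fun g =>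
    memLocalRing_of_isIntegral (irr_isIntegral χ.2 g)
  set Ψ : (Subgroup.centralizer ({x} : Set G)) → ℂ := blockPart b θ₀
  have hΨ : ∀ y : (Subgroup.centralizer ({x} : Set G)), ¬ p ∣ orderOf y → MemLocalIdeal M (Ψ y) := by
    intro y hy
    have hl : MemLocalIdeal M (Ψ y - blockPart b (fun c : (Subgroup.centralizer ({x} : Set G)) => (χ : G → ℂ) (x * (c : G))) y) := by
      show MemLocalIdeal M (blockPart b θ₀ y - _)
      rw [blockPart_eq_sum b hθ₀, blockPart_eq_sum b hθ, ← Finset.sum_sub_distrib]
      refine memLocalIdeal_sum _ _ fun k _ => ?_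
      rw [← mul_sub]
      refine memLocalIdeal_mul_left (IsPBlock.memLocalRing_blockCoeff hb.1 k) ?_
      refine (res_eq_iff (hint _) (hint _)).mp (res_value_mul_pElement hM χ.2 ?_ hx).symm
      exact (show ((k * y : (Subgroup.centralizer ({x} : Set G))) : G) * x = x * ((k * y : (Subgroup.centralizer ({x} : Set G))) : G) from
        Subgroup.mem_centralizer_singleton_iff.mp (k * y).2).symm
    rwa [hno y hy, sub_zero] at hl
  obtain ⟨ξ, hξ⟩ := IsPBlock.nonempty hb.1
  have hu := not_memLocalIdeal_omega_dualReg hM hb.2.1 hχ h0 hχ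
  have hc := IsInducedBlock.omega_congr hb hξ hχ (f := dualReg p (χ : G → ℂ))
    (isClassFunction_dualReg (irr_classFunction χ)) (memLocalRing_dualReg χ)
  rw [dualReg_comp_subtype] at hc
  refine hu ((memLocalIdeal_iff_of_sub hc).mp ?_)
  have hlin : ∀ (s : Finset (IrrCharacter (Subgroup.centralizer ({x} : Set G)))) (a : IrrCharacter (Subgroup.centralizer ({x} : Set G)) → ℂ),
      dualReg p (∑ η ∈ s, a η • (η : (Subgroup.centralizer ({x} : Set G)) → ℂ)) = ∑ η ∈ s, a η • dualReg p (η : (Subgroup.centralizer ({x} : Set G)) → ℂ) := fun s a => by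
    funext h
    by_cases hh : IsPRegular p h
    · simp [dualReg, regPart_of_regular hh, Finset.sum_apply]
    · simp [dualReg, regPart_of_singular hh, Finset.sum_apply]
  have hΨe : Ψ = ∑ η : IrrCharacter (Subgroup.centralizer ({x} : Set G)) with η ∈ b, classInner θ₀ (η : (Subgroup.centralizer ({x} : Set G)) → ℂ) • (η : (Subgroup.centralizer ({x} : Set G)) → ℂ) := by
    funext c
    show blockPart b θ₀ c = _
    rw [blockPart_eq_filter, Finset.sum_apply]
    exact Finset.sum_congr rfl fun η _ => rfl
  have heq : omega (ξ : (Subgroup.centralizer ({x} : Set G)) → ℂ) (dualReg p θ₀) = omega (ξ : (Subgroup.centralizer ({x} : Set G)) → ℂ) (dualReg p Ψ) := by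
    rw [hΨe]
    conv_lhs => rw [Char.classFunction_expansion hθ₀]
    rw [hlin, hlin, omega_sum, omega_sum]
    symm
    refine Finset.sum_subset (Finset.subset_univ _) fun η _ hη => ?_
    rw [omega_smul, omega_dualReg_eq_zero hM fun hs => hη (Finset.mem_filter.mpr ⟨Finset.mem_univ _,
      IsPBlock.mem_of_sameBlock hb.1 hξ (SameBlock.symm hs)⟩), mul_zero]
  show MemLocalIdeal M (omega (ξ : (Subgroup.centralizer ({x} : Set G)) → ℂ) (dualReg p θ₀))
  rw [heq]
  have : Fintype (ConjClasses (Subgroup.centralizer ({x} : Set G))) := Fintype.ofFinite _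
  have hΨc : IsClassFunction (Subgroup.centralizer ({x} : Set G)) Ψ := by
    rw [hΨe]
    intro c a
    simp only [Finset.sum_apply, Pi.smul_apply, fun η : IrrCharacter (Subgroup.centralizer ({x} : Set G)) => irr_classFunction η c a]
  rw [omega_eq_sum_classes ξ (isClassFunction_dualReg hΨc)]
  refine memLocalIdeal_sum _ _ fun q _ => memLocalIdeal_mul_right ?_ (memLocalRing_centralChar ξ _)
  by_cases hq : IsPRegular p (Quotient.out q)
  · rw [dualReg, regPart_of_regular hq]
    exact hΨ _ (by rw [orderOf_inv]; exact hq)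
  · rw [dualReg, regPart_of_singular hq]
    exact memLocalIdeal_zero

theorem isConj_translate_iff {c y : Subgroup.centralizer ({x} : Set G)}
    (hc : ¬ p ∣ orderOf c) (hy : ¬ p ∣ orderOf y) :
    IsConj (x * (c : G)) (x * (y : G)) ↔ IsConj c y := by
  constructor
  · intro h
    obtain ⟨g, hg⟩ := isConj_iff.mp h
    have hp1 : IsPPart p (x * (c : G)) x :=
      isPPart_mul ((show Commute (c : G) x from Subgroup.mem_centralizer_singleton_iff.mp c.2).symm)
        hx (by rwa [Subgroup.orderOf_coe])
    have hp2 : IsPPart p (x * (y : G)) x :=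
      isPPart_mul ((show Commute (y : G) x from Subgroup.mem_centralizer_singleton_iff.mp y.2).symm)
        hx (by rwa [Subgroup.orderOf_coe])
    have h3 := IsPPart.conj hp1 g
    rw [hg] at h3
    have hgx : g * x * g⁻¹ = x := IsPPart.unique hM.1 h3 hp2
    have hgC : g * x = x * g := mul_inv_eq_iff_eq_mul.mp hgx
    refine isConj_iff.mpr ⟨⟨g, Subgroup.mem_centralizer_singleton_iff.mpr hgC⟩, Subtype.ext ?_⟩
    simp only [Subgroup.coe_mul, Subgroup.coe_inv]
    refine mul_left_cancel (a := x) ?_
    rw [← hg, ← mul_assoc, ← mul_assoc, ← hgC, mul_assoc g x]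
  · intro h
    obtain ⟨a, ha⟩ := isConj_iff.mp h
    refine isConj_iff.mpr ⟨(a : G), ?_⟩
    have hax : (a : G) * x = x * (a : G) := Subgroup.mem_centralizer_singleton_iff.mp a.2
    rw [← ha]
    simp only [Subgroup.coe_mul, Subgroup.coe_inv, ← mul_assoc, hax]

theorem card_centralizer_translate {y : Subgroup.centralizer ({x} : Set G)}
    (hy : ¬ p ∣ orderOf y) :
    Nat.card (Subgroup.centralizer ({x * (y : G)} : Set G)) =
      Nat.card (Subgroup.centralizer ({y} : Set (Subgroup.centralizer ({x} : Set G)))) := by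
  have hyx : Commute (y : G) x := Subgroup.mem_centralizer_singleton_iff.mp y.2
  have hp2 : IsPPart p (x * (y : G)) x := isPPart_mul hyx.symm hx (by rwa [Subgroup.orderOf_coe])
  have hmem : ∀ {g : G}, g * (x * (y : G)) = x * (y : G) * g → g * x = x * g := fun {g} h => by
    have h3 := IsPPart.conj hp2 g
    rw [mul_inv_eq_iff_eq_mul.mpr h] at h3
    exact mul_inv_eq_iff_eq_mul.mp (IsPPart.unique hM.1 h3 hp2)
  refine Nat.card_congr
    { toFun := fun g => ⟨⟨(g : G), Subgroup.mem_centralizer_singleton_iff.mpr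
        (hmem (Subgroup.mem_centralizer_singleton_iff.mp g.2))⟩, ?_⟩
      invFun := fun g => ⟨(g.1 : G), ?_⟩
      left_inv := fun g => rfl
      right_inv := fun g => rfl }
  · rw [Subgroup.mem_centralizer_singleton_iff]
    have h := Subgroup.mem_centralizer_singleton_iff.mp g.2
    have hg := hmem h
    refine Subtype.ext (mul_left_cancel (a := x) ?_)
    show x * ((g : G) * (y : G)) = x * ((y : G) * (g : G))
    rw [← mul_assoc, ← hg, mul_assoc, h, mul_assoc]
  · rw [Subgroup.mem_centralizer_singleton_iff]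
    have h : (g.1 : G) * (y : G) = (y : G) * (g.1 : G) :=
      congrArg Subtype.val (Subgroup.mem_centralizer_singleton_iff.mp g.2)
    rw [← mul_assoc, Subgroup.mem_centralizer_singleton_iff.mp g.1.2, mul_assoc, h, mul_assoc]

/-- Column sums of one subsection against the values on the section. -/
theorem sum_blockPart_mul_conj_value {B : Set (IrrCharacter G)} (hB : IsPBlock M B)
    [DecidablePred (· ∈ B)] {b : Set (IrrCharacter (Subgroup.centralizer ({x} : Set G)))}
    [DecidablePred (· ∈ b)] (hb : IsInducedBlock M (Subgroup.centralizer ({x} : Set G)) b B)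
    {y c : Subgroup.centralizer ({x} : Set G)} (hy : ¬ p ∣ orderOf y) (hc : ¬ p ∣ orderOf c) :
    ∑ χ : IrrCharacter G with χ ∈ B,
        blockPart b (fun k : Subgroup.centralizer ({x} : Set G) => (χ : G → ℂ) (x * (k : G))) y *
          conj ((χ : G → ℂ) (x * (c : G))) =
      ∑ ξ : IrrCharacter (Subgroup.centralizer ({x} : Set G)) with ξ ∈ b,
        (ξ : Subgroup.centralizer ({x} : Set G) → ℂ) y *
          conj ((ξ : Subgroup.centralizer ({x} : Set G) → ℂ) c) := by
  classical
  have := isPrime_of_isPModular hM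
  have hθ : ∀ χ : IrrCharacter G, IsClassFunction (Subgroup.centralizer ({x} : Set G)) (fun k : (Subgroup.centralizer ({x} : Set G)) => (χ : G → ℂ) (x * (k : G))) :=
    fun χ => isClassFunction_translate (x := x) (irr_classFunction χ)
  set θ₁ : (Subgroup.centralizer ({x} : Set G)) → ℂ := fun k => ∑ χ : IrrCharacter G, (χ : G → ℂ) (x * (k : G)) *
    conj ((χ : G → ℂ) (x * (c : G)))
  set θ₂ : (Subgroup.centralizer ({x} : Set G)) → ℂ := fun k => ∑ ξ : IrrCharacter (Subgroup.centralizer ({x} : Set G)), (ξ : (Subgroup.centralizer ({x} : Set G)) → ℂ) k * conj ((ξ : (Subgroup.centralizer ({x} : Set G)) → ℂ) c)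
  have h₁ : IsClassFunction (Subgroup.centralizer ({x} : Set G)) θ₁ := fun k a =>
    Finset.sum_congr rfl fun χ _ => by have := hθ χ k a; beta_reduce at this; rw [this]
  have h₂ : IsClassFunction (Subgroup.centralizer ({x} : Set G)) θ₂ := fun k a =>
    Finset.sum_congr rfl fun ξ _ => by rw [irr_classFunction ξ k a]
  have hdiff : blockPart b θ₁ y = blockPart b θ₂ y := by
    have h := blockPart_eq_zero_of_regular_zero hM hb.1 (θ := θ₁ - θ₂) (fun k hk => by
      simp only [Pi.sub_apply, θ₁, θ₂, Char.column_orthogonality]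
      rw [isConj_translate_iff hM hx hk hc, card_centralizer_translate hM hx hc, sub_self])
      (y := y) hy
    have hsub : IsClassFunction (Subgroup.centralizer ({x} : Set G)) (θ₁ - θ₂) := fun k a => by
      simp only [Pi.sub_apply, h₁ k a, h₂ k a]
    rw [blockPart_eq_sum b hsub] at h
    rw [blockPart_eq_sum b h₁, blockPart_eq_sum b h₂, ← sub_eq_zero, ← Finset.sum_sub_distrib, ← h]
    exact Finset.sum_congr rfl fun k _ => (mul_sub _ _ _).symm
  have hlhs : ∑ χ : IrrCharacter G with χ ∈ B,
      blockPart b (fun k : (Subgroup.centralizer ({x} : Set G)) => (χ : G → ℂ) (x * (k : G))) y * conj ((χ : G → ℂ) (x * (c : G))) =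
      blockPart b θ₁ y := by
    rw [blockPart_eq_sum b h₁, Finset.sum_subset (Finset.subset_univ _) fun χ _ hχ => ?_]
    · simp only [blockPart_eq_sum b (hθ _), Finset.sum_mul, θ₁, Finset.mul_sum]
      rw [Finset.sum_comm]
      refine Finset.sum_congr rfl fun k _ => Finset.sum_congr rfl fun χ _ => ?_
      rw [mul_assoc]
    · have hχB : χ ∉ B := fun h' => hχ (by simp [h'])
      rw [blockPart_eq_zero_of_not_induced hM hx (isPBlock_blockOf χ) (mem_blockOf_self χ) hb.1
        (fun h' => hχB (IsInducedBlock.unique hb h' ▸ mem_blockOf_self χ)) hy, zero_mul]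
  rw [hlhs, hdiff, blockPart_eq_filter]
  refine Finset.sum_congr rfl fun ξ _ => ?_
  rw [mul_comm]
  congr 1
  rw [show θ₂ = ∑ η : IrrCharacter (Subgroup.centralizer ({x} : Set G)), conj ((η : (Subgroup.centralizer ({x} : Set G)) → ℂ) c) • (η : (Subgroup.centralizer ({x} : Set G)) → ℂ) from
    funext fun k => by simp [θ₂, Finset.sum_apply, mul_comm], Char.classInner_sum_smul_irr]

/-- Column sums of two subsections. -/
theorem sum_blockPart_mul_conj_blockPart {B : Set (IrrCharacter G)} (hB : IsPBlock M B)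
    [DecidablePred (· ∈ B)] {b e : Set (IrrCharacter (Subgroup.centralizer ({x} : Set G)))}
    [DecidablePred (· ∈ b)] [DecidablePred (· ∈ e)]
    (hb : IsInducedBlock M (Subgroup.centralizer ({x} : Set G)) b B)
    (he : IsPBlock M e)
    {y y' : Subgroup.centralizer ({x} : Set G)} (hy : ¬ p ∣ orderOf y) (hy' : ¬ p ∣ orderOf y') :
    ∑ χ : IrrCharacter G with χ ∈ B,
        blockPart b (fun k : Subgroup.centralizer ({x} : Set G) => (χ : G → ℂ) (x * (k : G))) y *
          conj (blockPart e (fun k : Subgroup.centralizer ({x} : Set G) =>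
            (χ : G → ℂ) (x * (k : G))) y') =
      ∑ ξ : IrrCharacter (Subgroup.centralizer ({x} : Set G)) with ξ ∈ b ∧ ξ ∈ e,
        (ξ : Subgroup.centralizer ({x} : Set G) → ℂ) y *
          conj ((ξ : Subgroup.centralizer ({x} : Set G) → ℂ) y') := by
  classical
  have := isPrime_of_isPModular hM
  have hθ : ∀ χ : IrrCharacter G, IsClassFunction (Subgroup.centralizer ({x} : Set G)) (fun k : (Subgroup.centralizer ({x} : Set G)) => (χ : G → ℂ) (x * (k : G))) :=
    fun χ => isClassFunction_translate (x := x) (irr_classFunction χ)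
  set P : IrrCharacter G → ℂ := fun χ => blockPart b (fun k : (Subgroup.centralizer ({x} : Set G)) => (χ : G → ℂ) (x * (k : G))) y
  set θ₁ : (Subgroup.centralizer ({x} : Set G)) → ℂ := fun k => ∑ χ : IrrCharacter G with χ ∈ B, conj (P χ) * (χ : G → ℂ) (x * (k : G))
  set θ₂ : (Subgroup.centralizer ({x} : Set G)) → ℂ := fun k => ∑ ξ : IrrCharacter (Subgroup.centralizer ({x} : Set G)) with ξ ∈ b, conj ((ξ : (Subgroup.centralizer ({x} : Set G)) → ℂ) y) * (ξ : (Subgroup.centralizer ({x} : Set G)) → ℂ) k
  have h₁ : IsClassFunction (Subgroup.centralizer ({x} : Set G)) θ₁ := fun k a =>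
    Finset.sum_congr rfl fun χ _ => by have := hθ χ k a; beta_reduce at this; rw [this]
  have h₂ : IsClassFunction (Subgroup.centralizer ({x} : Set G)) θ₂ := fun k a =>
    Finset.sum_congr rfl fun ξ _ => by rw [irr_classFunction ξ k a]
  have hreg : ∀ k, IsPRegular p k → θ₁ k = θ₂ k := fun k hk => by
    have h := congrArg conj (sum_blockPart_mul_conj_value hM hx hB hb hy hk)
    simpa [θ₁, θ₂, P, map_sum, map_mul] using h
  have hdiff : blockPart e θ₁ y' = blockPart e θ₂ y' := by
    have h := blockPart_eq_zero_of_regular_zero hM he (θ := θ₁ - θ₂) (fun k hk => by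
      rw [Pi.sub_apply, hreg k hk, sub_self]) (y := y') hy'
    have hsub : IsClassFunction (Subgroup.centralizer ({x} : Set G)) (θ₁ - θ₂) := fun k a => by
      simp only [Pi.sub_apply, h₁ k a, h₂ k a]
    rw [blockPart_eq_sum e hsub] at h
    rw [blockPart_eq_sum e h₁, blockPart_eq_sum e h₂, ← sub_eq_zero, ← Finset.sum_sub_distrib, ← h]
    exact Finset.sum_congr rfl fun k _ => (mul_sub _ _ _).symm
  have hl : blockPart e θ₁ y' = conj (∑ χ : IrrCharacter G with χ ∈ B,
      P χ * conj (blockPart e (fun k : (Subgroup.centralizer ({x} : Set G)) => (χ : G → ℂ) (x * (k : G))) y')) := by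
    simp only [map_sum, map_mul, Complex.conj_conj, blockPart_eq_sum e h₁, blockPart_eq_sum e (hθ _),
      θ₁, Finset.mul_sum]
    rw [Finset.sum_comm]
    refine Finset.sum_congr rfl fun χ _ => Finset.sum_congr rfl fun k _ => ?_
    ring
  have hr : blockPart e θ₂ y' = conj (∑ ξ : IrrCharacter (Subgroup.centralizer ({x} : Set G)) with ξ ∈ b ∧ ξ ∈ e,
      (ξ : (Subgroup.centralizer ({x} : Set G)) → ℂ) y * conj ((ξ : (Subgroup.centralizer ({x} : Set G)) → ℂ) y')) := by
    rw [show θ₂ = ∑ η : IrrCharacter (Subgroup.centralizer ({x} : Set G)), (if η ∈ b then conj ((η : (Subgroup.centralizer ({x} : Set G)) → ℂ) y) else 0) • (η : (Subgroup.centralizer ({x} : Set G)) → ℂ) from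
      funext fun k => by simp only [θ₂, Finset.sum_filter, Finset.sum_apply, Pi.smul_apply, smul_eq_mul, ite_mul, zero_mul],
      blockPart_eq_filter]
    simp only [Char.classInner_sum_smul_irr, ite_mul, zero_mul, map_sum, map_mul, Complex.conj_conj]
    rw [← Finset.sum_filter, Finset.filter_filter]
    exact Finset.sum_congr (Finset.filter_congr fun ξ _ => and_comm) fun _ _ => rfl
  rw [hl, hr] at hdiff
  exact RingHom.injective _ hdiff

/-- The column sums on a section. -/
theorem sum_block_mul_conj_section {B : Set (IrrCharacter G)} (hB : IsPBlock M B)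
    [DecidablePred (· ∈ B)] {y c : Subgroup.centralizer ({x} : Set G)}
    (hy : ¬ p ∣ orderOf y) (hc : ¬ p ∣ orderOf c)
    (S : Finset (Set (IrrCharacter (Subgroup.centralizer ({x} : Set G)))))
    (hS : ∀ b, b ∈ S ↔ IsInducedBlock M (Subgroup.centralizer ({x} : Set G)) b B) :
    ∑ χ : IrrCharacter G with χ ∈ B, (χ : G → ℂ) (x * (y : G)) * conj ((χ : G → ℂ) (x * (c : G))) =
      ∑ b ∈ S, ∑ᶠ ξ ∈ b, (ξ : Subgroup.centralizer ({x} : Set G) → ℂ) y *
          conj ((ξ : Subgroup.centralizer ({x} : Set G) → ℂ) c) := by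
  classical
  rw [Finset.sum_congr rfl fun χ hχ => by
    rw [value_eq_sum_inducing_blocks hM hx hB (Finset.mem_filter.mp hχ).2 hy S hS, Finset.sum_mul],
    Finset.sum_comm]
  refine Finset.sum_congr rfl fun b hb => ?_
  rw [sum_mem_eq_filter]
  exact sum_blockPart_mul_conj_value hM hx hB ((hS b).mp hb) hy hc

end Sections

end CfsgLib.Blocks
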