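import Cfsg.Agent.Lib.Blocks.PrincipalColumn
import Cfsg.Agent.Lib.Blocks.Sections
import Cfsg.Agent.Lib.Blocks.Osima
import Cfsg.Agent.Lib.Char.Eigen
import Cfsg.Agent.Lib.Char.Virtual

/-!
# Block orthogonality between different sections; the principal block on `p`-elements
-/

set_option autoImplicit false
set_option linter.unusedSectionVars false

namespace CfsgLib.Blocks

open Cfsg
open scoped ComplexConjugate CfsgLib.Char

variable {p : ℕ} {M : Ideal AlgInt} {G : Type*} [Group G] [Fintype G]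

/-- Block orthogonality between different sections. -/
theorem sum_block_conj_eq_zero_of_section (hM : IsPModular p M) {B : Set (IrrCharacter G)}
    [DecidablePred (· ∈ B)] (hB : IsPBlock M B) {x g : G} (hx : ∃ k : ℕ, orderOf x = p ^ k)
    (hne : ∀ k : G, Commute x k → IsPRegular p k → ¬ IsConj (x * k) g) :
    ∑ χ : IrrCharacter G with χ ∈ B, (χ : G → ℂ) x * conj ((χ : G → ℂ) g) = 0 := by
  classical
  have := isPrime_of_isPModular hM
  have h1 : ¬ p ∣ orderOf (1 : Subgroup.centralizer ({x} : Set G)) := by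
    rw [orderOf_one, Nat.dvd_one]; exact hM.1.ne_one
  set S := (blocks M (Subgroup.centralizer ({x} : Set G))).filter fun b =>
    IsInducedBlock M (Subgroup.centralizer ({x} : Set G)) b B
  have hS : ∀ b, b ∈ S ↔ IsInducedBlock M (Subgroup.centralizer ({x} : Set G)) b B := fun b => by
    simp only [S, Finset.mem_filter, mem_blocks]
    exact ⟨fun h => h.2, fun h => ⟨h.1, h⟩⟩
  have hθ : ∀ χ : IrrCharacter G, IsClassFunction (Subgroup.centralizer ({x} : Set G))
      (fun k : Subgroup.centralizer ({x} : Set G) => (χ : G → ℂ) (x * (k : G))) :=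
    fun χ => isClassFunction_translate (x := x) (irr_classFunction χ)
  have hval : ∀ χ : IrrCharacter G, χ ∈ B → (χ : G → ℂ) x = ∑ b ∈ S,
      blockPart b (fun c : Subgroup.centralizer ({x} : Set G) => (χ : G → ℂ) (x * (c : G))) 1 :=
    fun χ hχ => by
      have h := value_eq_sum_inducing_blocks hM hx hB hχ h1 S hS
      rwa [Subgroup.coe_one, mul_one] at h
  rw [Finset.sum_congr rfl fun χ hχ => by rw [hval χ (Finset.mem_filter.mp hχ).2, Finset.sum_mul],
    Finset.sum_comm]
  refine Finset.sum_eq_zero fun b hb => ?_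
  rw [Finset.sum_subset (Finset.subset_univ _) fun χ _ hχ => ?_]
  · set θ : Subgroup.centralizer ({x} : Set G) → ℂ :=
      fun k => ∑ χ : IrrCharacter G, (χ : G → ℂ) (x * (k : G)) * conj ((χ : G → ℂ) g)
    have hc : IsClassFunction (Subgroup.centralizer ({x} : Set G)) θ := fun k a =>
      Finset.sum_congr rfl fun χ _ => by have := hθ χ k a; beta_reduce at this; rw [this]
    have h := blockPart_eq_zero_of_regular_zero hM ((hS b).mp hb).1 (θ := θ) (fun k hk => by
      simp only [θ, Char.column_orthogonality]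
      rw [if_neg (hne k (Subgroup.mem_centralizer_singleton_iff.mp k.2).symm ?_)]
      rwa [IsPRegular, Subgroup.orderOf_coe]) h1
    rw [blockPart_eq_sum b hc] at h
    simp only [θ, Finset.mul_sum] at h
    rw [Finset.sum_comm] at h
    rw [← h]
    refine Finset.sum_congr rfl fun χ _ => ?_
    rw [blockPart_eq_sum b (hθ χ), Finset.sum_mul]
    exact Finset.sum_congr rfl fun k _ => mul_assoc _ _ _
  · have hχB : χ ∉ B := fun h' => hχ (by simp [h'])
    rw [blockPart_eq_zero_of_not_induced hM hx (isPBlock_blockOf χ) (mem_blockOf_self χ)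
      ((hS b).mp hb).1
      (fun h' => hχB (IsInducedBlock.unique ((hS b).mp hb) h' ▸ mem_blockOf_self χ)) h1, zero_mul]

/-- The principal column of a `p`-element. -/
theorem sum_principal_norm_sq (hM : IsPModular p M) {x : G} (hx : ∃ k : ℕ, orderOf x = p ^ k)
    [DecidablePred (· ∈ principalBlock M G)] :
    ∑ χ : IrrCharacter G with χ ∈ principalBlock M G, (χ : G → ℂ) x * conj ((χ : G → ℂ) x) =
      ((∑ᶠ ψ ∈ principalBlock M ↥(Subgroup.centralizer ({x} : Set G)),
        charDegree (ψ : Subgroup.centralizer ({x} : Set G) → ℂ) ^ 2 : ℕ) : ℂ) := by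
  classical
  have := isPrime_of_isPModular hM
  have h1 : ¬ p ∣ orderOf (1 : Subgroup.centralizer ({x} : Set G)) := by
    rw [orderOf_one, Nat.dvd_one]; exact hM.1.ne_one
  have h := sum_block_mul_conj_section hM hx (B := principalBlock M G) isPBlock_principalBlock h1 h1
    {principalBlock M (Subgroup.centralizer ({x} : Set G))} (fun b => by
      rw [Finset.mem_singleton, isInducedBlock_centralizer_principal_iff hM hx])
  simp only [Subgroup.coe_one, mul_one, Finset.sum_singleton] at h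
  have hfin : (principalBlock M (Subgroup.centralizer ({x} : Set G))).Finite := Set.toFinite _
  refine h.trans (Eq.trans ?_ ((Nat.castAddMonoidHom ℂ).map_finsum_mem _ hfin).symm)
  refine finsum_mem_congr rfl fun ψ _ => ?_
  show _ = ((charDegree (ψ : Subgroup.centralizer ({x} : Set G) → ℂ) ^ 2 : ℕ) : ℂ)
  rw [(irr_degree_eq ψ).1, Complex.conj_natCast, Nat.cast_pow, sq]

/-- The `p`-part of a commuting product. -/
theorem conj_eq_of_isConj_mul (hp : p.Prime) {x v k : G} (hx : ∃ n : ℕ, orderOf x = p ^ n)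
    (hv : ∃ n : ℕ, orderOf v = p ^ n) (hk : Commute x k) (hreg : IsPRegular p k)
    (h : IsConj (x * k) v) : IsConj x v := by
  obtain ⟨c, hc⟩ := isConj_iff.mp h
  have h1 := IsPPart.conj (isPPart_mul (p := p) hk hx hreg) c
  rw [hc] at h1
  have h2 : IsPPart p v v := by
    have := isPPart_mul (p := p) (Commute.one_right v) hv
      (by rw [orderOf_one, Nat.dvd_one]; exact hp.ne_one)
    rwa [mul_one] at this
  exact isConj_iff.mpr ⟨c, IsPPart.unique hp h1 h2⟩

/-- An element conjugate into the section of `x` and inverted by `t`: then a conjugate of `t`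
inverts `x`. -/
theorem exists_conj_inverts (hp : p.Prime) {x k g t : G} (hx : ∃ n : ℕ, orderOf x = p ^ n)
    (hk : Commute x k) (hreg : IsPRegular p k) (h : IsConj (x * k) g) (ht : t * g * t⁻¹ = g⁻¹) :
    ∃ c : G, c * t * c⁻¹ * x * (c * t * c⁻¹)⁻¹ = x⁻¹ := by
  obtain ⟨c, hc⟩ := isConj_iff.mp h
  set s := c⁻¹ * t * c
  have hs : s * (x * k) * s⁻¹ = x⁻¹ * k⁻¹ := by
    calc s * (x * k) * s⁻¹ = c⁻¹ * (t * (c * (x * k) * c⁻¹) * t⁻¹) * c := by simp only [s]; group
      _ = c⁻¹ * g⁻¹ * c := by rw [hc, ht]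
      _ = c⁻¹ * (c * (x * k) * c⁻¹)⁻¹ * c := by rw [hc]
      _ = (x * k)⁻¹ := by group
      _ = x⁻¹ * k⁻¹ := by rw [hk.eq, mul_inv_rev]
  have h1 := IsPPart.conj (isPPart_mul (p := p) hk hx hreg) s
  rw [hs] at h1
  have h2 := isPPart_mul (p := p) hk.inv_inv (by rw [orderOf_inv]; exact hx)
    (y := k⁻¹) (by rw [orderOf_inv]; exact hreg)
  refine ⟨c⁻¹, ?_⟩
  rw [inv_inv]
  exact IsPPart.unique hp h1 h2

/-- The vanishing of `Σ χ(t)² conj χ(x) / χ(1)` over a block when no conjugate of `t` inverts `x`. -/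
theorem sum_block_sq_conj_eq_zero (hM : IsPModular p M) {B : Set (IrrCharacter G)}
    [DecidablePred (· ∈ B)] (hB : IsPBlock M B) {x t : G} (hx : ∃ k : ℕ, orderOf x = p ^ k)
    (ht : t * t = 1) (hinv : ∀ c : G, c * t * c⁻¹ * x * (c * t * c⁻¹)⁻¹ ≠ x⁻¹) :
    ∑ χ : IrrCharacter G with χ ∈ B,
      conj ((χ : G → ℂ) x) * (χ : G → ℂ) t ^ 2 / (χ : G → ℂ) 1 = 0 := by
  classical
  have hn : (Nat.card G : ℂ) ≠ 0 := Nat.cast_ne_zero.mpr Nat.card_pos.ne'
  have hti : t⁻¹ = t := inv_eq_of_mul_eq_one_right ht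
  have key : ∀ y : G, ∑ χ : IrrCharacter G with χ ∈ B,
      conj ((χ : G → ℂ) x) * (χ : G → ℂ) (y * t * y⁻¹ * t) = 0 := by
    intro y
    have h := sum_block_conj_eq_zero_of_section hM hB (g := y * t * y⁻¹ * t) hx fun k hk hreg hc => by
      obtain ⟨c, hc'⟩ := exists_conj_inverts hM.1 (t := t) hx hk hreg hc (by
        rw [show (y * t * y⁻¹ * t)⁻¹ = t⁻¹ * y * t⁻¹ * y⁻¹ by group,
          show t * (y * t * y⁻¹ * t) * t⁻¹ = t * y * t * y⁻¹ by group, hti])
      exact hinv c hc'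
    have h' := congrArg conj h
    rw [map_zero, map_sum] at h'
    rw [← h']
    exact Finset.sum_congr rfl fun χ _ => by rw [map_mul, Complex.conj_conj]
  have h0 : ∑ y : G, ∑ χ : IrrCharacter G with χ ∈ B,
      conj ((χ : G → ℂ) x) * (χ : G → ℂ) (y * t * y⁻¹ * t) = 0 :=
    Finset.sum_eq_zero fun y _ => key y
  rw [Finset.sum_comm] at h0
  simp only [← Finset.mul_sum, sum_conj_mul_irr] at h0
  rw [← mul_right_inj' hn, mul_zero, Finset.mul_sum, ← h0]
  exact Finset.sum_congr rfl fun χ _ => by ring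

/-- Both signs occur twice among coefficients with the three moments zero, unless a proper normal
subgroup contains `t`. -/
theorem exists_kernel_of_le_one_pos {ι : Type*} (s : Finset ι) (w x : ι → ℝ) (i₀ : ι) (hi₀ : i₀ ∈ s)
    (h0 : w i₀ ≠ 0) (e0 : ∑ i ∈ s, w i = 0) (e1 : ∑ i ∈ s, w i * x i = 0)
    (e2 : ∑ i ∈ s, w i * x i ^ 2 = 0) (h : ∀ i ∈ s, ∀ j ∈ s, 0 < w i → 0 < w j → i = j) :
    ∃ i ∈ s, i ≠ i₀ ∧ x i = x i₀ := by
  classical
  obtain ⟨k, hk, hkpos⟩ : ∃ k ∈ s, 0 < w k := by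
    by_contra hc
    push Not at hc
    exact h0 ((Finset.sum_eq_zero_iff_of_nonpos hc).mp e0 i₀ hi₀)
  obtain ⟨l, hl, hlneg⟩ : ∃ l ∈ s, w l < 0 := by
    by_contra hc
    push Not at hc
    exact h0 ((Finset.sum_eq_zero_iff_of_nonneg hc).mp e0 i₀ hi₀)
  have hsum : ∑ i ∈ s, w i * (x i - x k) ^ 2 = 0 := by
    rw [Finset.sum_congr rfl (g := fun i => w i * x i ^ 2 - 2 * x k * (w i * x i) + x k ^ 2 * w i)
      fun i _ => by ring, Finset.sum_add_distrib, Finset.sum_sub_distrib, ← Finset.mul_sum,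
      ← Finset.mul_sum, e0, e1, e2]
    ring
  have hall : ∀ i ∈ s, w i ≠ 0 → x i = x k := by
    intro i hi hwi
    have hle : ∀ j ∈ s, w j * (x j - x k) ^ 2 ≤ 0 := fun j hj => by
      rcases le_or_gt (w j) 0 with hj' | hj'
      · exact mul_nonpos_of_nonpos_of_nonneg hj' (sq_nonneg _)
      · rw [h j hj k hk hj' hkpos, sub_self, zero_pow two_ne_zero, mul_zero]
    have h1 := (Finset.sum_eq_zero_iff_of_nonpos hle).mp hsum i hi
    exact sub_eq_zero.mp (pow_eq_zero_iff two_ne_zero |>.mp ((mul_eq_zero.mp h1).resolve_left hwi))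
  rcases eq_or_ne i₀ k with rfl | hne
  · exact ⟨l, hl, fun e => absurd (e ▸ hlneg) (not_lt.mpr hkpos.le), hall l hl hlneg.ne⟩
  · exact ⟨k, hk, hne.symm, (hall i₀ hi₀ h0).symm⟩

end CfsgLib.Blocks
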