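import Cfsg.Agent.Lib.Blocks.Sections
import Cfsg.Prelude.Def_BlockRank

/-!
# The regular rank of a block as a trace; counting characters of a block by sections
-/

set_option autoImplicit false
set_option linter.unusedSectionVars false

namespace CfsgLib.Blocks

open Cfsg
open scoped ComplexConjugate CfsgLib.Char

variable {p : ℕ} {M : Ideal AlgInt} {G : Type*} [Group G] [Fintype G]

theorem pRegularPart_eq_regPart (f : G → ℂ) : pRegularPart p f = regPart p f := rfl

/-- The regular part of a member of a block union expands in the union. -/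
theorem regPart_eq_sum (hM : IsPModular p M) {S : Set (IrrCharacter G)} [DecidablePred (· ∈ S)]
    (hS : IsBlockUnion M S) {χ : IrrCharacter G} (hχ : χ ∈ S) :
    regPart p (χ : G → ℂ) =
      ∑ ψ : IrrCharacter G with ψ ∈ S, classInner (regPart p (χ : G → ℂ)) (ψ : G → ℂ) • (ψ : G → ℂ) := by
  conv_lhs => rw [Char.classFunction_expansion (isClassFunction_regPart (p := p) (irr_classFunction χ))]
  refine (Finset.sum_subset (Finset.subset_univ _) fun ψ _ hψ => ?_).symm
  rw [classInner_regPart_eq_zero hM hS hχ fun h => hψ (Finset.mem_filter.mpr ⟨Finset.mem_univ _, h⟩),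
    zero_smul]

/-- The rank is the trace of the projection to the regular elements. -/
theorem blockRank_eq_sum_classInner (hM : IsPModular p M) {B : Set (IrrCharacter G)}
    [DecidablePred (· ∈ B)] (hB : IsBlockUnion M B) :
    (blockRank p B : ℂ) = ∑ χ : IrrCharacter G with χ ∈ B,
      classInner (regPart p (χ : G → ℂ)) (χ : G → ℂ) := by
  classical
  let ι := {χ : IrrCharacter G // χ ∈ B}
  let v : ι → G → ℂ := fun i => (i.1 : G → ℂ)
  let A : Matrix ι ι ℂ := fun i j => classInner (regPart p (v i)) (v j)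
  let L : (ι → ℂ) →ₗ[ℂ] (ι → ℂ) := Matrix.toLin' A.transpose
  let R : (G → ℂ) →ₗ[ℂ] (G → ℂ) :=
    { toFun := regPart p
      map_add' := fun f g => by funext x; by_cases hx : IsPRegular p x <;>
        simp [regPart_of_regular, regPart_of_singular, hx]
      map_smul' := fun c f => by funext x; by_cases hx : IsPRegular p x <;>
        simp [regPart_of_regular, regPart_of_singular, hx] }
  let Φ : (ι → ℂ) →ₗ[ℂ] (G → ℂ) := Fintype.linearCombination ℂ v
  have hkey : ∀ i : ι, R (v i) = ∑ j : ι, A i j • v j := fun i => by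
    show regPart p (i.1 : G → ℂ) = _
    rw [regPart_eq_sum hM hB i.2]
    exact Finset.sum_subtype _ (fun ψ => by simp) _
  have hΦ : Function.Injective Φ := by
    have hli : LinearIndependent ℂ v := (Char.linearIndependent_irr (G := G)).comp _ Subtype.val_injective
    intro a b hab
    funext i
    have h := Fintype.linearIndependent_iff.mp hli (a - b) (by
      simp only [Pi.sub_apply, sub_smul, Finset.sum_sub_distrib]
      exact sub_eq_zero.mpr hab) i
    exact sub_eq_zero.mp h
  have hcomm : Φ ∘ₗ L = R ∘ₗ Φ := by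
    refine LinearMap.ext fun c => ?_
    show ∑ j, (L c) j • v j = R (∑ i, c i • v i)
    simp only [map_sum, map_smul, hkey, Finset.smul_sum, smul_smul]
    rw [Finset.sum_comm]
    refine Finset.sum_congr rfl fun j _ => ?_
    rw [← Finset.sum_smul]
    congr 1
    simp [L, Matrix.toLin'_apply, Matrix.mulVec, dotProduct, mul_comm]
  have hR : ∀ f, R (R f) = R f := fun f => by
    funext x
    by_cases hx : IsPRegular p x
    · exact regPart_of_regular hx
    · show regPart p (regPart p f) x = regPart p f x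
      rw [regPart_of_singular hx, regPart_of_singular hx]
  have hidem : IsIdempotentElem L := by
    refine LinearMap.ext fun c => hΦ ?_
    have h1 : ∀ c, Φ (L c) = R (Φ c) := fun c => LinearMap.congr_fun hcomm c
    show Φ (L (L c)) = Φ (L c)
    rw [h1, h1, hR]
  have hrange : (LinearMap.range L).map Φ =
      Submodule.span ℂ ((fun χ : IrrCharacter G => pRegularPart p (χ : G → ℂ)) '' B) := by
    rw [← LinearMap.range_comp, hcomm, LinearMap.range_comp,
      show LinearMap.range Φ = Submodule.span ℂ (Set.range v) from Fintype.range_linearCombination ℂ v,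
      Submodule.map_span]
    congr 1
    ext f
    simp [v, ι, R, pRegularPart_eq_regPart]
  have hrank : blockRank p B = Module.finrank ℂ (LinearMap.range L) := by
    rw [blockRank, ← hrange]
    exact (Submodule.equivMapOfInjective Φ hΦ _).finrank_eq.symm
  have htr := LinearMap.IsProj.trace ((LinearMap.isProj_range_iff_isIdempotentElem L).mpr hidem)
  rw [hrank, ← htr, LinearMap.trace_eq_matrix_trace ℂ (Pi.basisFun ℂ ι)]
  rw [Finset.sum_subtype (p := fun χ => χ ∈ B) _ (fun ψ => by simp) _]
  refine Finset.sum_congr rfl fun i _ => ?_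
  simp [L, A, v, Matrix.diag]
  rfl

theorem card_mul_blockRank (hM : IsPModular p M) {B : Set (IrrCharacter G)} (hB : IsBlockUnion M B) :
    (Nat.card G : ℂ) * (blockRank p B : ℂ) =
      ∑ x : G, ∑ᶠ χ ∈ B, regPart p (χ : G → ℂ) x * conj ((χ : G → ℂ) x) := by
  classical
  rw [blockRank_eq_sum_classInner hM hB]
  simp only [sum_mem_eq_filter, classInner, Finset.mul_sum,
    mul_inv_cancel_left₀ (show (Nat.card G : ℂ) ≠ 0 from Nat.cast_ne_zero.mpr Nat.card_pos.ne')]
  rw [Finset.sum_comm]

/-- The rank is at most the number of characters. -/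
theorem blockRank_le_card (B : Set (IrrCharacter G)) : blockRank p B ≤ Nat.card B := by
  classical
  have hf : Finite (IrrCharacter G) := Char.finite_irrCharacter
  have : Fintype B := Fintype.ofFinite _
  rw [blockRank, Set.image_eq_range, Nat.card_eq_fintype_card]
  exact finrank_range_le_card _

/-- The rank is positive. -/
theorem blockRank_pos {B : Set (IrrCharacter G)} (hB : B.Nonempty) (hp : p ≠ 1) :
    0 < blockRank p B := by
  classical
  rw [blockRank, Nat.pos_iff_ne_zero, Ne, Submodule.finrank_eq_zero, Submodule.span_eq_bot]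
  intro h
  obtain ⟨χ, hχ⟩ := hB
  have h1 := congrFun (h _ ⟨χ, hχ, rfl⟩) 1
  rw [Pi.zero_apply] at h1
  have hr : IsPRegular p (1 : G) := by rw [IsPRegular, orderOf_one, Nat.dvd_one]; exact hp
  simp only [pRegularPart_eq_regPart, regPart_of_regular hr] at h1
  exact Char.irr_degree_ne_zero χ.2 h1

/-- Characters vanishing on the singular elements of a block of rank equal to its size. -/
theorem singular_zero_of_blockRank_eq_card (hM : IsPModular p M) {B : Set (IrrCharacter G)}
    (hB : IsBlockUnion M B) (h : blockRank p B = Nat.card B) {χ : IrrCharacter G} (hχ : χ ∈ B)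
    {g : G} (hg : ¬ IsPRegular p g) : (χ : G → ℂ) g = 0 := by
  classical
  have hf : Finite (IrrCharacter G) := Char.finite_irrCharacter
  have hle : ∀ ψ : IrrCharacter G, (classInner (regPart p (ψ : G → ℂ)) (ψ : G → ℂ)).re =
      1 - ((Nat.card G : ℝ))⁻¹ * ∑ x : G, (if IsPRegular p x then 0 else ‖(ψ : G → ℂ) x‖ ^ 2) := by
    intro ψ
    have h1 := congrArg Complex.re (Char.classInner_irr_self ψ.2)
    rw [Char.classInner_self_eq, Complex.ofReal_re, Complex.one_re] at h1
    rw [← h1, ← mul_sub, ← Finset.sum_sub_distrib, classInner, Finset.mul_sum, Finset.mul_sum,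
      Complex.re_sum]
    refine Finset.sum_congr rfl fun x _ => ?_
    by_cases hx : IsPRegular p x
    · rw [regPart_of_regular hx, if_pos hx, sub_zero, Complex.mul_conj', ← Complex.ofReal_natCast,
        ← Complex.ofReal_inv, ← Complex.ofReal_pow, ← Complex.ofReal_mul, Complex.ofReal_re]
    · rw [regPart_of_singular hx, if_neg hx, sub_self, zero_mul, mul_zero, mul_zero, Complex.zero_re]
  have hsum := congrArg Complex.re (blockRank_eq_sum_classInner hM hB)
  rw [h, Complex.natCast_re, Complex.re_sum, Finset.sum_congr rfl fun ψ _ => hle ψ,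
    Finset.sum_sub_distrib, Finset.sum_const, nsmul_eq_mul, mul_one,
    show (Finset.univ.filter (· ∈ B)).card = Nat.card B by
      rw [← Fintype.card_subtype, ← Nat.card_eq_fintype_card]] at hsum
  have hz : ∑ ψ : IrrCharacter G with ψ ∈ B, ((Nat.card G : ℝ))⁻¹ *
      ∑ x : G, (if IsPRegular p x then 0 else ‖(ψ : G → ℂ) x‖ ^ 2) = 0 := by linarith
  rw [Finset.sum_eq_zero_iff_of_nonneg fun ψ _ => mul_nonneg (by positivity)
    (Finset.sum_nonneg fun x _ => by positivity)] at hz
  have h2 := (mul_eq_zero.mp (hz χ (Finset.mem_filter.mpr ⟨Finset.mem_univ _, hχ⟩))).resolve_left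
    (inv_ne_zero (Nat.cast_ne_zero.mpr Nat.card_pos.ne'))
  rw [Finset.sum_eq_zero_iff_of_nonneg fun x _ => by positivity] at h2
  have h3 := h2 g (Finset.mem_univ _)
  rw [if_neg hg] at h3
  simpa using h3

/-- Splitting a sum over a group along the sections of representatives of the classes of
`p`-elements. -/
theorem sum_eq_sum_sections (hp : p.Prime) {F : G → ℂ} (hF : IsClassFunction G F) (X : Finset G)
    (hX : ∀ x ∈ X, ∃ k : ℕ, orderOf x = p ^ k)
    (hXrep : ∀ g : G, (∃ k : ℕ, orderOf g = p ^ k) → ∃! x, x ∈ X ∧ IsConj g x) :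
    ∑ g : G, F g = ∑ x ∈ X, (Nat.card G : ℂ) / (Nat.card (Subgroup.centralizer ({x} : Set G)) : ℂ) *
      ∑ᶠ y : Subgroup.centralizer ({x} : Set G), regPart p (fun y : Subgroup.centralizer ({x} : Set G) => F (x * (y : G))) y := by
  classical
  choose q hq hqz using fun g : G => exists_isPPart hp g
  have hqp : ∀ g, ∃ k : ℕ, orderOf (q g) = p ^ k := fun g => by
    obtain ⟨y, -, -, h3, -⟩ := hq g
    exact h3
  choose r hr hru using fun g : G => hXrep (q g) (hqp g)
  rw [← Finset.sum_fiberwise_of_maps_to (g := r) (t := X) (fun g _ => (hr g).1)]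
  refine Finset.sum_congr rfl fun x hxX => ?_
  have hx := hX x hxX
  have hclass : ∀ g, r g = x ↔ IsConj (q g) x := fun g =>
    ⟨fun h => h ▸ (hr g).2, fun h => (hru g x ⟨hxX, h⟩).symm⟩
  rw [Finset.filter_congr fun g _ => hclass g,
    ← Finset.sum_fiberwise_of_maps_to (g := q) (t := ({z | IsConj z x} : Finset G))
      (fun g hg => by simpa using hg), finsum_eq_sum_of_fintype]
  have hfib : ∀ z ∈ ({z | IsConj z x} : Finset G), ∑ g ∈ ({g | IsConj (q g) x} : Finset G) with q g = z, F g =
      ∑ y : Subgroup.centralizer ({x} : Set G), regPart p (fun y : Subgroup.centralizer ({x} : Set G) => F (x * (y : G))) y := by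
    intro z hz
    obtain ⟨c, rfl⟩ := isConj_iff.mp (Finset.mem_filter.mp hz).2.symm
    rw [← Finset.sum_filter_add_sum_filter_not (Finset.univ : Finset (Subgroup.centralizer ({x} : Set G))) (IsPRegular p),
      Finset.sum_eq_zero (s := Finset.univ.filter fun y => ¬ IsPRegular p y) (fun y hy =>
        regPart_of_singular (Finset.mem_filter.mp hy).2), add_zero]
    symm
    refine Finset.sum_bij (fun y _ => c * (x * (y : G)) * c⁻¹) (fun y hy => ?_) (fun a _ b _ h => ?_)
      (fun g hg => ?_) fun y hy => ?_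
    · have hyx : Commute (y : G) x := Subgroup.mem_centralizer_singleton_iff.mp y.2
      have hreg : IsPRegular p y := (Finset.mem_filter.mp hy).2
      have hpp := IsPPart.conj (isPPart_mul hyx.symm hx (by rw [Subgroup.orderOf_coe]; exact hreg)) c
      have hqe := IsPPart.unique hp (hq _) hpp
      simp only [Finset.mem_filter, Finset.mem_univ, true_and]
      exact ⟨hqe.symm ▸ (isConj_iff.mpr ⟨c, rfl⟩ : IsConj x (c * x * c⁻¹)).symm, hqe⟩
    · exact Subtype.ext (mul_left_cancel (mul_left_cancel (mul_right_cancel h)))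
    · have hqg : q g = c * x * c⁻¹ := (Finset.mem_filter.mp hg).2
      obtain ⟨w, hw1, hw2, -, hw4⟩ := hq g
      rw [hqg] at hw1 hw2
      have hcomm : c⁻¹ * w * c * x = x * (c⁻¹ * w * c) := by
        calc c⁻¹ * w * c * x = c⁻¹ * (w * (c * x * c⁻¹)) * c := by group
          _ = c⁻¹ * ((c * x * c⁻¹) * w) * c := by rw [hw2.eq]
          _ = x * (c⁻¹ * w * c) := by group
      refine ⟨⟨c⁻¹ * w * c, Subgroup.mem_centralizer_singleton_iff.mpr hcomm⟩, ?_, ?_⟩
      · refine Finset.mem_filter.mpr ⟨Finset.mem_univ _, ?_⟩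
        show ¬ p ∣ orderOf _
        rw [← Subgroup.orderOf_coe]
        show ¬ p ∣ orderOf (c⁻¹ * w * c)
        rw [show c⁻¹ * w * c = (MulAut.conj c⁻¹).toMonoidHom w by simp,
          orderOf_injective (MulAut.conj c⁻¹).toMonoidHom (MulAut.conj c⁻¹).injective w]
        exact hw4
      · show c * (x * (c⁻¹ * w * c)) * c⁻¹ = g
        rw [← hw1]; group
    · rw [regPart_of_regular (Finset.mem_filter.mp hy).2]
      exact (hF _ c).symm
  rw [Finset.sum_congr rfl hfib, Finset.sum_const, nsmul_eq_mul]
  congr 1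
  rw [eq_div_iff (Nat.cast_ne_zero.mpr Nat.card_pos.ne'), ← Nat.cast_mul, Nat.cast_inj,
    ← card_centralizer_mul_index x, mul_comm]
  congr 1
  rw [index_centralizer_eq_card, ← Fintype.card_subtype, ← Nat.card_eq_fintype_card]
  exact Nat.card_congr (Equiv.subtypeEquivRight fun z => ⟨IsConj.symm, IsConj.symm⟩)

/-- The number of characters in a block is the sum of the ranks over its subsections. -/
theorem card_eq_sum_ranks (hM : IsPModular p M) {B : Set (IrrCharacter G)} (hB : IsPBlock M B)
    (X : Finset G) (hX : ∀ x ∈ X, ∃ k : ℕ, orderOf x = p ^ k)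
    (hXrep : ∀ g : G, (∃ k : ℕ, orderOf g = p ^ k) → ∃! x, x ∈ X ∧ IsConj g x) :
    Nat.card B = ∑ x ∈ X, ∑ᶠ b ∈ {b : Set (IrrCharacter (Subgroup.centralizer ({x} : Set G))) |
      IsInducedBlock M (Subgroup.centralizer ({x} : Set G)) b B}, blockRank p b := by
  classical
  have := isPrime_of_isPModular hM
  apply Nat.cast_injective (R := ℂ)
  set F : G → ℂ := fun g => ∑ χ : IrrCharacter G with χ ∈ B, (χ : G → ℂ) g * conj ((χ : G → ℂ) g)
  have hF : IsClassFunction G F := fun g h =>
    Finset.sum_congr rfl fun χ _ => by rw [irr_classFunction χ g h]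
  have hsum : ∑ g : G, F g = (Nat.card G : ℂ) * (Nat.card B : ℂ) := by
    simp only [F]
    rw [Finset.sum_comm, Finset.sum_congr rfl (g := fun _ => (Nat.card G : ℂ)) fun χ _ => ?_,
      Finset.sum_const, nsmul_eq_mul, mul_comm, ← Fintype.card_subtype, ← Nat.card_eq_fintype_card]
    have := Char.classInner_irr_self χ.2
    rw [classInner, inv_mul_eq_iff_eq_mul₀ (Nat.cast_ne_zero.mpr Nat.card_pos.ne'), mul_one] at this
    exact this
  rw [sum_eq_sum_sections hM.1 hF X hX hXrep] at hsum
  apply mul_left_cancel₀ (show (Nat.card G : ℂ) ≠ 0 from Nat.cast_ne_zero.mpr Nat.card_pos.ne')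
  rw [← hsum, Nat.cast_sum, Finset.mul_sum]
  refine Finset.sum_congr rfl fun x hxX => ?_
  have hx := hX x hxX
  set S := (blocks M (Subgroup.centralizer ({x} : Set G))).filter fun b =>
    IsInducedBlock M (Subgroup.centralizer ({x} : Set G)) b B
  have hS : ∀ b, b ∈ S ↔ IsInducedBlock M (Subgroup.centralizer ({x} : Set G)) b B := fun b => by
    simp only [S, Finset.mem_filter, mem_blocks]
    exact ⟨fun h => h.2, fun h => ⟨h.1, h⟩⟩
  rw [finsum_mem_eq_sum_of_inter_support_eq (t := S) (fun b => blockRank p b) (by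
      ext b; simp only [Set.mem_inter_iff, Set.mem_ofPred_eq, Finset.mem_coe, hS]),
    Nat.cast_sum, finsum_eq_sum_of_fintype]
  have hx0 : (Nat.card (Subgroup.centralizer ({x} : Set G)) : ℂ) ≠ 0 :=
    Nat.cast_ne_zero.mpr Nat.card_pos.ne'
  rw [div_mul_eq_mul_div, div_eq_iff hx0, mul_assoc, mul_right_inj'
    (Nat.cast_ne_zero.mpr Nat.card_pos.ne'), Finset.sum_mul]
  have hb : ∀ b ∈ S, (blockRank p b : ℂ) * (Nat.card (Subgroup.centralizer ({x} : Set G)) : ℂ) =
      ∑ y : Subgroup.centralizer ({x} : Set G), ∑ᶠ ξ ∈ b,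
        regPart p (ξ : Subgroup.centralizer ({x} : Set G) → ℂ) y *
          conj ((ξ : Subgroup.centralizer ({x} : Set G) → ℂ) y) := fun b hb => by
    rw [mul_comm, card_mul_blockRank hM (IsPBlock.isBlockUnion ((hS b).mp hb).1)]
  rw [Finset.sum_congr rfl hb, Finset.sum_comm]
  refine Finset.sum_congr rfl fun y _ => ?_
  by_cases hy : IsPRegular p y
  · rw [regPart_of_regular hy]
    show ∑ χ : IrrCharacter G with χ ∈ B, _ = _
    rw [sum_block_mul_conj_section hM hx hB hy hy S hS]
    exact Finset.sum_congr rfl fun b _ => finsum_mem_congr rfl fun ξ _ => by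
      rw [regPart_of_regular hy]
  · rw [regPart_of_singular hy]
    exact (Finset.sum_eq_zero fun b _ => by simp [regPart_of_singular hy]).symm

end CfsgLib.Blocks
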