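import Cfsg.Agent.Lib.Blocks.Integrality
import Cfsg.Agent.Lib.Blocks.Rank

/-!
# The rows of the contribution matrix of the identity; the bound of Brauer and Feit
-/

set_option autoImplicit false
set_option linter.unusedSectionVars false

namespace CfsgLib.Blocks

open Cfsg
open scoped ComplexConjugate CfsgLib.Char

variable {p : ℕ} {M : Ideal AlgInt} {G : Type*} [Group G] [Fintype G]

theorem exists_isPModular (hp : p.Prime) : ∃ M : Ideal AlgInt, IsPModular p M := by
  obtain ⟨M, hM, hle⟩ := Ideal.exists_le_maximal (Ideal.span {(p : AlgInt)}) (by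
    rw [Ne, Ideal.span_singleton_eq_top]
    intro hu
    obtain ⟨b, hb⟩ := hu.exists_right_inv
    have h := congrArg Subtype.val hb
    simp only [MulMemClass.coe_mul, SubringClass.coe_natCast, OneMemClass.coe_one] at h
    have hint : IsIntegral ℤ (((1 : ℕ) : ℂ) / (p : ℂ)) := by
      rw [Nat.cast_one, ← h, mul_div_cancel_left₀ _ (Nat.cast_ne_zero.mpr hp.ne_zero)]
      exact b.2
    exact hp.not_dvd_one (Char.dvd_of_isIntegral_div hp.ne_zero hint))
  exact ⟨M, hp, hM, hle (Ideal.subset_span rfl)⟩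

theorem memLocalRing_natCast_div (hM : IsPModular p M) {a b : ℕ} (hb : b ≠ 0)
    (h : b.factorization p ≤ a.factorization p) : MemLocalRing M ((a : ℂ) / b) := by
  have := isPrime_of_isPModular hM
  rcases eq_or_ne a 0 with rfl | ha
  · rw [Nat.cast_zero, zero_div]; exact memLocalRing_zero
  set k := a.factorization p - b.factorization p
  have hb' : b * p ^ k ≠ 0 := mul_ne_zero hb (pow_ne_zero k hM.1.ne_zero)
  have hu := unit_natCast_div hM (a := a) (b := b * p ^ k) ha hb' (by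
    rw [Nat.factorization_mul hb (pow_ne_zero k hM.1.ne_zero), Finsupp.add_apply,
      Nat.Prime.factorization_pow hM.1, Finsupp.single_eq_same]
    omega)
  have := memLocalRing_mul hu.1 (memLocalRing_natCast (M := M) (p ^ k))
  rwa [Nat.cast_mul, div_mul_eq_mul_div, mul_div_mul_right _ _
    (Nat.cast_ne_zero.mpr (pow_ne_zero k hM.1.ne_zero))] at this

theorem memLocalIdeal_natCast_div (hM : IsPModular p M) {a b : ℕ} (hb : b ≠ 0)
    (h : b.factorization p < a.factorization p) : MemLocalIdeal M ((a : ℂ) / b) := by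
  have := isPrime_of_isPModular hM
  obtain ⟨a', rfl⟩ : p ∣ a := Nat.dvd_of_factorization_pos (by omega)
  have ha' : a' ≠ 0 := by rintro rfl; simp at h
  rw [Nat.cast_mul, mul_div_assoc]
  refine memLocalIdeal_mul_right (memLocalIdeal_p hM) (memLocalRing_natCast_div hM hb ?_)
  rw [Nat.factorization_mul hM.1.ne_zero ha', Finsupp.add_apply, hM.1.factorization_self] at h
  omega

theorem factorization_eq_of_unit_div (hM : IsPModular p M) {N : ℤ} {b : ℕ} (hb : b ≠ 0)
    (hl : MemLocalRing M ((N : ℂ) / b)) (hnl : ¬ MemLocalIdeal M ((N : ℂ) / b)) :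
    N ≠ 0 ∧ N.natAbs.factorization p = b.factorization p := by
  have := isPrime_of_isPModular hM
  have hN : N ≠ 0 := by
    rintro rfl
    exact hnl (by rw [Int.cast_zero, zero_div]; exact memLocalIdeal_zero)
  have habs : (N : ℂ) / b = (N.natAbs : ℂ) / b ∨ (N : ℂ) / b = -((N.natAbs : ℂ) / b) := by
    rcases Int.natAbs_eq N with h | h
    · left; conv_lhs => rw [h, Int.cast_natCast]
    · right; conv_lhs => rw [h, Int.cast_neg, Int.cast_natCast, neg_div]
  refine ⟨hN, le_antisymm (not_lt.mp fun hlt => hnl ?_) (not_lt.mp fun hlt => ?_)⟩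
  · have h := memLocalIdeal_natCast_div hM hb hlt
    rcases habs with e | e <;> rw [e]
    exacts [h, memLocalIdeal_neg h]
  · have h := memLocalIdeal_natCast_div hM (a := b) (b := N.natAbs) (Int.natAbs_ne_zero.mpr hN) hlt
    have hl' : MemLocalRing M ((N.natAbs : ℂ) / b) := by
      rcases habs with e | e <;> rw [e] at hl
      exacts [hl, by simpa using memLocalRing_neg hl]
    have h1 := memLocalIdeal_mul_right h hl'
    rw [div_mul_div_comm, mul_comm (b : ℂ), div_self (mul_ne_zero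
      (Nat.cast_ne_zero.mpr (Int.natAbs_ne_zero.mpr hN)) (Nat.cast_ne_zero.mpr hb))] at h1
    exact not_memLocalIdeal_one h1

theorem degree_exponent_ge (hM : IsPModular p M) {B : Set (IrrCharacter G)} (hB : IsPBlock M B)
    {χ : IrrCharacter G} (hχ : χ ∈ B) :
    (Nat.card G).factorization p - (charDegree (χ : G → ℂ)).factorization p ≤ blockDefect p B := by
  obtain ⟨-, -, hall, -⟩ := blockDefect_le_and_degree hM hB
  have := hall χ hχ
  omega

theorem degree_exponent_eq (hM : IsPModular p M) {B : Set (IrrCharacter G)} (hB : IsPBlock M B)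
    {χ : IrrCharacter G} (hχ : χ ∈ B) :
    (charDegree (χ : G → ℂ)).factorization p =
      ((Nat.card G).factorization p - blockDefect p B) + blockHeight p B (χ : G → ℂ) := by
  obtain ⟨-, hInf, hall, -⟩ := blockDefect_le_and_degree hM hB
  have := hall χ hχ
  rw [blockHeight, hInf]
  omega

/-- The row of `p^d (χ°,ψ)`. -/
theorem exists_row (hM : IsPModular p M) {B : Set (IrrCharacter G)} [DecidablePred (· ∈ B)]
    (hB : IsPBlock M B) {χ : IrrCharacter G} (hχ : χ ∈ B) :
    ∃ n : IrrCharacter G → ℤ,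
      (∀ ψ : IrrCharacter G, (p : ℂ) ^ blockDefect p B *
        classInner (regPart p (χ : G → ℂ)) (ψ : G → ℂ) = (n ψ : ℂ)) ∧
      (∀ ψ, ψ ∉ B → n ψ = 0) ∧
      (∑ ψ : IrrCharacter G with ψ ∈ B, n ψ ^ 2 = (p : ℤ) ^ blockDefect p B * n χ) ∧
      0 < n χ := by
  classical
  have := isPrime_of_isPModular hM
  choose n hn using fun ψ : IrrCharacter G =>
    exists_int_classInner_regPart hM χ ψ (degree_exponent_ge hM hB hχ)
  set f := regPart p (χ : G → ℂ)
  have hU := IsPBlock.isBlockUnion hB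
  have hp0 : (p : ℂ) ^ blockDefect p B ≠ 0 := pow_ne_zero _ (Nat.cast_ne_zero.mpr hM.1.ne_zero)
  have hsq : ∑ ψ : IrrCharacter G with ψ ∈ B, n ψ ^ 2 = (p : ℤ) ^ blockDefect p B * n χ := by
    apply Int.cast_injective (α := ℂ)
    push_cast
    have hnorm : classInner f (χ : G → ℂ) =
        ∑ ψ : IrrCharacter G with ψ ∈ B, classInner f (ψ : G → ℂ) * conj (classInner f (ψ : G → ℂ)) := by
      rw [← classInner_regPart_regPart]
      show classInner f f = _
      conv_lhs => arg 2; rw [show f = _ from regPart_eq_sum hM hU hχ]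
      rw [Char.classInner_sum_right]
      exact Finset.sum_congr rfl fun ψ _ => by rw [Char.classInner_smul_right, mul_comm]
    rw [← hn χ, hnorm, Finset.mul_sum, Finset.mul_sum]
    refine Finset.sum_congr rfl fun ψ _ => ?_
    have hc := congrArg conj (hn ψ)
    rw [map_mul, map_pow, map_natCast, map_intCast] at hc
    rw [sq]
    nth_rewrite 1 [← hn ψ]
    rw [← hc]
    ring
  refine ⟨n, hn, fun ψ hψ => ?_, hsq, ?_⟩
  · have h := hn ψ
    rw [classInner_regPart_eq_zero hM hU hχ hψ, mul_zero] at h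
    exact_mod_cast h.symm
  · have hpos : (0 : ℤ) ≤ (p : ℤ) ^ blockDefect p B * n χ :=
      hsq ▸ Finset.sum_nonneg fun ψ _ => sq_nonneg _
    have hpp : (0 : ℤ) < (p : ℤ) ^ blockDefect p B := pow_pos (by exact_mod_cast hM.1.pos) _
    rcases (le_of_mul_le_mul_left (by rwa [mul_zero]) hpp : (0 : ℤ) ≤ n χ).lt_or_eq with h | h
    · exact h
    · exfalso
      have h' := hn χ
      rw [← h, Int.cast_zero, mul_eq_zero, ← classInner_regPart_regPart] at h'
      have h1 := congrFun (Char.eq_zero_of_classInner_self (h'.resolve_left hp0)) 1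
      rw [regPart_of_regular (by rw [IsPRegular, orderOf_one]; exact hM.1.not_dvd_one), Pi.zero_apply] at h1
      exact Char.irr_degree_ne_zero χ.2 h1

theorem omega_dualReg_eq_row (hM : IsPModular p M) {B : Set (IrrCharacter G)} (hB : IsPBlock M B)
    (χ ψ : IrrCharacter G) {n : ℤ}
    (hn : (p : ℂ) ^ blockDefect p B * classInner (regPart p (χ : G → ℂ)) (ψ : G → ℂ) = (n : ℂ)) :
    omega (ψ : G → ℂ) (dualReg p (χ : G → ℂ)) =
      ((n * (Nat.card G / p ^ blockDefect p B : ℕ) : ℤ) : ℂ) / (charDegree (ψ : G → ℂ) : ℂ) := by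
  have hdvd : p ^ blockDefect p B ∣ Nat.card G :=
    (hM.1.pow_dvd_iff_le_factorization Nat.card_pos.ne').mpr (blockDefect_le_and_degree hM hB).1
  rw [omega_dualReg, ← classInner_regPart_comm, (irr_degree_eq ψ).1]
  congr 1
  rw [Int.cast_mul, Int.cast_natCast, ← hn, Nat.cast_div hdvd (by
    rw [Nat.cast_ne_zero]; exact pow_ne_zero _ hM.1.ne_zero)]
  have hp0 : (p : ℂ) ^ blockDefect p B ≠ 0 := pow_ne_zero _ (Nat.cast_ne_zero.mpr hM.1.ne_zero)
  push_cast
  field_simp

theorem cofactor_factorization (hM : IsPModular p M) {B : Set (IrrCharacter G)} (hB : IsPBlock M B) :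
    (Nat.card G / p ^ blockDefect p B) ≠ 0 ∧
    (Nat.card G / p ^ blockDefect p B).factorization p =
      (Nat.card G).factorization p - blockDefect p B := by
  have hdvd : p ^ blockDefect p B ∣ Nat.card G :=
    (hM.1.pow_dvd_iff_le_factorization Nat.card_pos.ne').mpr (blockDefect_le_and_degree hM hB).1
  refine ⟨(Nat.div_pos (Nat.le_of_dvd Nat.card_pos hdvd) (pow_pos hM.1.pos _)).ne', ?_⟩
  rw [Nat.factorization_div hdvd, Finsupp.tsub_apply, Nat.Prime.factorization_pow hM.1,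
    Finsupp.single_eq_same]

/-- The row of a height zero character. -/
theorem row_height_zero (hM : IsPModular p M) {B : Set (IrrCharacter G)} (hB : IsPBlock M B)
    {χ ψ : IrrCharacter G} (hχ : χ ∈ B) (h0 : blockHeight p B (χ : G → ℂ) = 0) (hψ : ψ ∈ B) {n : ℤ}
    (hn : (p : ℂ) ^ blockDefect p B * classInner (regPart p (χ : G → ℂ)) (ψ : G → ℂ) = (n : ℂ)) :
    n ≠ 0 ∧ n.natAbs.factorization p = blockHeight p B (ψ : G → ℂ) := by
  have := isPrime_of_isPModular hM
  have he := omega_dualReg_eq_row hM hB χ ψ hn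
  obtain ⟨hN, hv⟩ := factorization_eq_of_unit_div hM (irr_degree_eq ψ).2.ne'
    (he ▸ memLocalRing_omega ψ (isClassFunction_dualReg (irr_classFunction χ)) (memLocalRing_dualReg χ))
    (he ▸ not_memLocalIdeal_omega_dualReg hM hB hχ h0 hψ)
  obtain ⟨hc0, hc⟩ := cofactor_factorization hM hB
  have hn0 : n ≠ 0 := (mul_ne_zero_iff.mp hN).1
  refine ⟨hn0, ?_⟩
  rw [Int.natAbs_mul, Int.natAbs_natCast, Nat.factorization_mul (Int.natAbs_ne_zero.mpr hn0) hc0,
    Finsupp.add_apply, hc, degree_exponent_eq hM hB hψ] at hv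
  omega

/-- For a character of positive height the central values of its dual regular part are in the
local ideal. -/
theorem memLocalIdeal_omega_dualReg_of_height_pos (hM : IsPModular p M) {B : Set (IrrCharacter G)}
    (hB : IsPBlock M B) {χ ψ : IrrCharacter G} (hχ : χ ∈ B)
    (hpos : blockHeight p B (χ : G → ℂ) ≠ 0) (hψ : ψ ∈ B) :
    MemLocalIdeal M (omega (ψ : G → ℂ) (dualReg p (χ : G → ℂ))) := by
  have := isPrime_of_isPModular hM
  obtain ⟨η, hη, hη0⟩ := exists_blockHeight_eq_zero hM hB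
  refine (memLocalIdeal_iff_of_sub (sub_mem_localIdeal_of_sameBlock
    (IsPBlock.sameBlock hB hψ hη) (isClassFunction_dualReg (irr_classFunction χ))
    (memLocalRing_dualReg χ))).mpr ?_
  have hswap : omega (η : G → ℂ) (dualReg p (χ : G → ℂ)) =
      omega (χ : G → ℂ) (dualReg p (η : G → ℂ)) * ((χ : G → ℂ) 1 / (η : G → ℂ) 1) := by
    rw [omega_dualReg, omega_dualReg, classInner_regPart_comm]
    have := Char.irr_degree_ne_zero χ.2
    field_simp
  rw [hswap]
  exact memLocalIdeal_mul_left (memLocalRing_omega χ (isClassFunction_dualReg (irr_classFunction η))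
    (memLocalRing_dualReg η)) (memLocalIdeal_degree_div_of_height_pos hM hB hη hη0 hχ hpos)

/-- The row of a character of positive height. -/
theorem row_height_pos (hM : IsPModular p M) {B : Set (IrrCharacter G)} (hB : IsPBlock M B)
    {χ ψ : IrrCharacter G} (hχ : χ ∈ B) (hpos : blockHeight p B (χ : G → ℂ) ≠ 0) (hψ : ψ ∈ B) {n : ℤ}
    (hn : (p : ℂ) ^ blockDefect p B * classInner (regPart p (χ : G → ℂ)) (ψ : G → ℂ) = (n : ℂ)) :
    (p : ℤ) ^ (blockHeight p B (ψ : G → ℂ) + 1) ∣ n := by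
  have := isPrime_of_isPModular hM
  rcases eq_or_ne n 0 with rfl | hn0
  · exact dvd_zero _
  have hmem := memLocalIdeal_omega_dualReg_of_height_pos hM hB hχ hpos hψ
  rw [omega_dualReg_eq_row hM hB χ ψ hn] at hmem
  obtain ⟨hc0, hc⟩ := cofactor_factorization hM hB
  rw [← Nat.cast_pow, Int.natCast_dvd,
    hM.1.pow_dvd_iff_le_factorization (Int.natAbs_ne_zero.mpr hn0)]
  by_contra hlt
  set c := Nat.card G / p ^ blockDefect p B
  set d := charDegree (ψ : G → ℂ)
  have h1 : d.factorization p = (n.natAbs * c).factorization p ∨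
      (n.natAbs * c).factorization p < d.factorization p := by
    rw [Nat.factorization_mul (Int.natAbs_ne_zero.mpr hn0) hc0, Finsupp.add_apply, hc,
      show d.factorization p = _ from degree_exponent_eq hM hB hψ]
    omega
  have hmem' : MemLocalIdeal M (((n.natAbs * c : ℕ) : ℂ) / (d : ℂ)) := by
    rcases Int.natAbs_eq n with h | h <;> rw [h] at hmem <;>
      simp only [Int.cast_mul, Int.cast_neg, Int.cast_natCast, Nat.cast_mul] at hmem ⊢
    · exact hmem
    · simpa [neg_div] using memLocalIdeal_neg hmem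
  have hd0 : d ≠ 0 := (irr_degree_eq ψ).2.ne'
  have hnc : n.natAbs * c ≠ 0 := mul_ne_zero (Int.natAbs_ne_zero.mpr hn0) hc0
  rcases h1 with h1 | h1
  · exact (unit_natCast_div hM hnc hd0 h1.symm).2 hmem'
  · have h := memLocalIdeal_mul_right hmem' (memLocalRing_natCast_div hM hnc h1.le)
    rw [div_mul_div_comm, mul_comm ((n.natAbs * c : ℕ) : ℂ), div_self (mul_ne_zero
      (Nat.cast_ne_zero.mpr hd0) (Nat.cast_ne_zero.mpr hnc))] at h
    exact not_memLocalIdeal_one h

theorem pow_two_mul_le_sq {p : ℕ} {n : ℤ} (hn : n ≠ 0) {h : ℕ} (hd : (p : ℤ) ^ h ∣ n) :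
    (p : ℤ) ^ (2 * h) ≤ n ^ 2 := by
  rw [mul_comm, pow_mul]
  refine Int.le_of_dvd (by positivity) (pow_dvd_pow_of_dvd hd 2)

theorem dvd_row_height_zero (hM : IsPModular p M) {B : Set (IrrCharacter G)} (hB : IsPBlock M B)
    {χ ψ : IrrCharacter G} (hχ : χ ∈ B) (h0 : blockHeight p B (χ : G → ℂ) = 0) (hψ : ψ ∈ B) {n : ℤ}
    (hn : (p : ℂ) ^ blockDefect p B * classInner (regPart p (χ : G → ℂ)) (ψ : G → ℂ) = (n : ℂ)) :
    n ≠ 0 ∧ (p : ℤ) ^ blockHeight p B (ψ : G → ℂ) ∣ n := by
  obtain ⟨h1, h2⟩ := row_height_zero hM hB hχ h0 hψ hn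
  refine ⟨h1, ?_⟩
  rw [← Nat.cast_pow, Int.natCast_dvd, hM.1.pow_dvd_iff_le_factorization (Int.natAbs_ne_zero.mpr h1), h2]

/-- The bound of Brauer and Feit, weighted by heights. -/
theorem sum_pow_heights_le (hM : IsPModular p M) {B : Set (IrrCharacter G)} [DecidablePred (· ∈ B)]
    (hB : IsPBlock M B) :
    4 * ∑ ψ : IrrCharacter G with ψ ∈ B, p ^ (2 * blockHeight p B (ψ : G → ℂ)) ≤
      p ^ (2 * blockDefect p B) + 4 := by
  classical
  obtain ⟨χ, hχ, h0⟩ := exists_blockHeight_eq_zero hM hB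
  obtain ⟨n, hn, -, hsq, hpos⟩ := exists_row hM hB hχ
  zify
  set P : ℤ := (p : ℤ) ^ blockDefect p B
  have hmem : χ ∈ ({ψ | ψ ∈ B} : Finset (IrrCharacter G)) := by simp [hχ]
  rw [← Finset.add_sum_erase _ _ hmem, h0, mul_zero, pow_zero]
  rw [← Finset.add_sum_erase _ _ hmem] at hsq
  have hle : ∑ ψ ∈ ({ψ | ψ ∈ B} : Finset (IrrCharacter G)).erase χ,
      (p : ℤ) ^ (2 * blockHeight p B (ψ : G → ℂ)) ≤
      ∑ ψ ∈ ({ψ | ψ ∈ B} : Finset (IrrCharacter G)).erase χ, n ψ ^ 2 :=
    Finset.sum_le_sum fun ψ hψ => by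
      have hψB : ψ ∈ B := (Finset.mem_filter.mp (Finset.mem_of_mem_erase hψ)).2
      obtain ⟨h1, h2⟩ := dvd_row_height_zero hM hB hχ h0 hψB (hn ψ)
      exact pow_two_mul_le_sq h1 h2
  have hP : (p : ℤ) ^ (2 * blockDefect p B) = P ^ 2 := by rw [mul_comm, pow_mul]
  rw [hP]
  nlinarith [sq_nonneg (P - 2 * n χ)]

/-- A character of positive height. -/
theorem height_lt_and_sum_height_zero_le (hM : IsPModular p M) {B : Set (IrrCharacter G)}
    [DecidablePred (· ∈ B)] (hB : IsPBlock M B) {χ : IrrCharacter G} (hχ : χ ∈ B)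
    (hpos : blockHeight p B (χ : G → ℂ) ≠ 0) :
    blockHeight p B (χ : G → ℂ) + 2 ≤ blockDefect p B ∧
      4 * p ^ (2 * blockHeight p B (χ : G → ℂ)) *
        ({ψ | ψ ∈ B ∧ blockHeight p B (ψ : G → ℂ) = 0} : Finset (IrrCharacter G)).card ≤
        p ^ (2 * blockDefect p B) := by
  classical
  obtain ⟨n, hn, -, hsq, hnpos⟩ := exists_row hM hB hχ
  set h := blockHeight p B (χ : G → ℂ)
  set P : ℤ := (p : ℤ) ^ blockDefect p B
  have hmem : χ ∈ ({ψ | ψ ∈ B} : Finset (IrrCharacter G)) := by simp [hχ]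
  rw [← Finset.add_sum_erase _ _ hmem] at hsq
  set Z := ({ψ | ψ ∈ B ∧ blockHeight p B (ψ : G → ℂ) = 0} : Finset (IrrCharacter G))
  have hZsub : Z ⊆ ({ψ | ψ ∈ B} : Finset (IrrCharacter G)).erase χ := fun ψ hψ => by
    obtain ⟨h1, h2⟩ := (Finset.mem_filter.mp hψ).2
    exact Finset.mem_erase.mpr ⟨fun e => hpos (by rw [e] at h2; exact h2), by simp [h1]⟩
  have hterm : ∀ ψ ∈ Z, (p : ℤ) ^ (2 * h) ≤ n ψ ^ 2 := fun ψ hψ => by
    obtain ⟨h1, h2⟩ := (Finset.mem_filter.mp hψ).2
    have hn' : (p : ℂ) ^ blockDefect p B * classInner (regPart p (ψ : G → ℂ)) (χ : G → ℂ) = (n ψ : ℂ) := by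
      rw [classInner_regPart_comm]; exact hn ψ
    obtain ⟨g1, g2⟩ := dvd_row_height_zero hM hB h1 h2 hχ hn'
    exact pow_two_mul_le_sq g1 g2
  have hle : (p : ℤ) ^ (2 * h) * Z.card ≤
      ∑ ψ ∈ ({ψ | ψ ∈ B} : Finset (IrrCharacter G)).erase χ, n ψ ^ 2 := by
    refine le_trans ?_ (Finset.sum_le_sum_of_subset_of_nonneg hZsub fun ψ _ _ => sq_nonneg _)
    have := Finset.sum_le_sum hterm
    simpa [mul_comm] using this
  have hZ : 1 ≤ (Z.card : ℤ) := by
    obtain ⟨η, hη, hη0⟩ := exists_blockHeight_eq_zero hM hB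
    have : 0 < Z.card := Finset.card_pos.mpr
      ⟨η, Finset.mem_filter.mpr ⟨Finset.mem_univ _, hη, hη0⟩⟩
    exact_mod_cast this
  have hp1 : (1 : ℤ) ≤ (p : ℤ) ^ (2 * h) := one_le_pow₀ (by exact_mod_cast hM.1.one_le)
  have hlt : n χ < P := by nlinarith
  refine ⟨?_, ?_⟩
  · have hd : (p : ℤ) ^ (h + 1) ∣ n χ := row_height_pos hM hB hχ hpos hχ (hn χ)
    have h1 := (Int.le_of_dvd hnpos hd).trans_lt hlt
    have h2 : h + 1 < blockDefect p B :=
      (Nat.pow_lt_pow_iff_right hM.1.one_lt).mp (by simp only [P] at h1; exact_mod_cast h1)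
    omega
  · zify
    have hP : (p : ℤ) ^ (2 * blockDefect p B) = P ^ 2 := by rw [mul_comm, pow_mul]
    rw [hP]
    nlinarith [sq_nonneg (P - 2 * n χ)]

/-- Brauer and Feit: the count when some height is positive. -/
theorem two_mul_card_le_of_height_pos (hM : IsPModular p M) {B : Set (IrrCharacter G)}
    (hB : IsPBlock M B) {χ : IrrCharacter G} (hχ : χ ∈ B) (hpos : blockHeight p B (χ : G → ℂ) ≠ 0) :
    2 * Nat.card B ≤ p ^ (2 * blockDefect p B - 2) := by
  classical
  obtain ⟨h2, hz⟩ := height_lt_and_sum_height_zero_le hM hB hχ hpos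
  have hall := sum_pow_heights_le hM hB
  set d := blockDefect p B
  rw [← Finset.sum_filter_add_sum_filter_not _ (fun ψ : IrrCharacter G => blockHeight p B (ψ : G → ℂ) = 0),
    Finset.filter_filter, Finset.filter_filter,
    Finset.sum_congr rfl (g := fun _ => 1) fun ψ hψ => by
      rw [(Finset.mem_filter.mp hψ).2.2, mul_zero, pow_zero]] at hall
  set Z := ({ψ | ψ ∈ B ∧ blockHeight p B (ψ : G → ℂ) = 0} : Finset (IrrCharacter G))
  set W := ({ψ | ψ ∈ B ∧ ¬ blockHeight p B (ψ : G → ℂ) = 0} : Finset (IrrCharacter G))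
  have hW : p ^ 2 * W.card ≤ ∑ ψ ∈ W, p ^ (2 * blockHeight p B (ψ : G → ℂ)) := by
    rw [mul_comm, ← smul_eq_mul, ← Finset.sum_const]
    exact Finset.sum_le_sum fun ψ hψ => Nat.pow_le_pow_right hM.1.pos
      (by have := (Finset.mem_filter.mp hψ).2.2; omega)
  simp only [Finset.sum_const, smul_eq_mul, mul_one] at hall
  have hk : Nat.card B = Z.card + W.card := by
    rw [← Finset.card_union_of_disjoint, Nat.card_eq_fintype_card, Fintype.card_subtype]
    · congr 1
      ext ψ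
      simp only [Z, W, Finset.mem_union, Finset.mem_filter, Finset.mem_univ, true_and]
      tauto
    · rw [Finset.disjoint_filter]
      exact fun ψ _ h1 h2 => h2.2 h1.2
  have hpd : p ^ (2 * d) = p ^ 2 * p ^ (2 * d - 2) := by
    rw [← pow_add]; congr 1; omega
  have hp2 : 4 ≤ p ^ 2 := by nlinarith [hM.1.two_le]
  have hZ1 : 1 ≤ Z.card := by
    obtain ⟨η, hη, hη0⟩ := exists_blockHeight_eq_zero hM hB
    exact Finset.card_pos.mpr ⟨η, Finset.mem_filter.mpr ⟨Finset.mem_univ _, hη, hη0⟩⟩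
  have hz' : p ^ 2 * (4 * Z.card) ≤ p ^ (2 * d) := by
    refine le_trans ?_ hz
    calc p ^ 2 * (4 * Z.card) ≤ p ^ (2 * blockHeight p B (χ : G → ℂ)) * (4 * Z.card) :=
          Nat.mul_le_mul_right _ (Nat.pow_le_pow_right hM.1.pos (by omega))
      _ = _ := by ring
  rw [hk]
  have h4 : 4 * Z.card ≤ p ^ (2 * d - 2) :=
    Nat.le_of_mul_le_mul_left (hpd ▸ hz') (by positivity)
  have h5 : 4 * W.card ≤ p ^ (2 * d - 2) := by
    refine Nat.le_of_mul_le_mul_left ?_ (show 0 < p ^ 2 by positivity)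
    rw [← hpd]
    nlinarith
  omega

end CfsgLib.Blocks
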