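import Cfsg.Agent.Lib.Blocks.AbelianFrobeniusSylow
import Cfsg.Agent.Lib.Char.MeanValue
import Cfsg.Agent.Lib.Blocks.BrauerFeit
import Cfsg.Agent.Lib.Char.Kernel
import Cfsg.Agent.Lib.Char.Counting

/-!
# Characters of small degree when the centralizers of the nontrivial elements of a Sylow subgroup
coincide
-/

set_option autoImplicit false
set_option linter.unusedSectionVars false
set_option linter.style.haveILetI false

namespace CfsgLib.Blocks.AbelianFrob

open Cfsg
open scoped ComplexConjugate CfsgLib.Char IsMulCommutative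

variable {p : ℕ} [Fact p.Prime] {M : Ideal AlgInt} {G : Type*} [Group G] [Fintype G] {P : Sylow p G}

/-- The centralizers of the nontrivial elements of `P` coincide with that of `P`. -/
def UniformCent (P : Sylow p G) : Prop :=
  ∀ x ∈ (P : Subgroup G), x ≠ 1 →
    Subgroup.centralizer ({x} : Set G) = Subgroup.centralizer ((P : Subgroup G) : Set G)

theorem UniformCent.isFrob (h : UniformCent P) : IsFrob P := fun y hy hy1 => by
  rw [h y hy hy1]
  refine inf_eq_left.mpr fun c hc => ?_
  rw [Subgroup.mem_normalizer_iff]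
  intro x
  constructor
  · intro hx
    have e := Subgroup.mem_centralizer_iff.mp hc x hx
    rw [← e, mul_inv_cancel_right]
    exact hx
  · intro hx
    have e := Subgroup.mem_centralizer_iff.mp hc _ hx
    have e' : x = c * x * c⁻¹ := by
      have e2 := congrArg (fun z => c⁻¹ * z) e
      simp only [← mul_assoc, inv_mul_cancel, one_mul, inv_mul_cancel_right] at e2
      exact e2
    rw [e']
    exact hx

theorem UniformCent.commutative (h : UniformCent P) : IsMulCommutative (P : Subgroup G) := by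
  by_cases hP : Nontrivial (P : Subgroup G)
  · have := P.2.center_nontrivial
    obtain ⟨z, hz⟩ := exists_ne (1 : Subgroup.center (P : Subgroup G))
    have hz1 : ((z : (P : Subgroup G)) : G) ≠ 1 := fun e => hz (Subtype.ext (Subtype.ext e))
    refine ⟨⟨fun a b => Subtype.ext ?_⟩⟩
    have ha : (a : G) ∈ Subgroup.centralizer ({((z : (P : Subgroup G)) : G)} : Set G) :=
      Subgroup.mem_centralizer_singleton_iff.mpr
        (congrArg Subtype.val (Subgroup.mem_center_iff.mp z.2 a))
    rw [h _ (z : (P : Subgroup G)).2 hz1] at ha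
    exact (Subgroup.mem_centralizer_iff.mp ha b b.2).symm
  · rw [not_nontrivial_iff_subsingleton] at hP
    exact ⟨⟨fun a b => Subsingleton.elim _ _⟩⟩

theorem le_cent (hab : IsMulCommutative (P : Subgroup G)) : (P : Subgroup G) ≤ (Subgroup.centralizer ((P : Subgroup G) : Set G)) := fun x hx => by
  rw [Subgroup.mem_centralizer_iff]
  intro y hy
  exact congrArg Subtype.val (mul_comm' (a := (⟨y, hy⟩ : (P : Subgroup G))) (b := ⟨x, hx⟩))

theorem mem_center_cent (hab : IsMulCommutative (P : Subgroup G)) (y : (P : Subgroup G)) :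
    (⟨y, le_cent hab y.2⟩ : (Subgroup.centralizer ((P : Subgroup G) : Set G))) ∈ Subgroup.center (Subgroup.centralizer ((P : Subgroup G) : Set G)) :=
  Subgroup.mem_center_iff.mpr fun c =>
    Subtype.ext (Subgroup.mem_centralizer_iff.mp c.2 y y.2).symm

theorem exists_proj (hab : IsMulCommutative (P : Subgroup G)) :
    ∃ π : (Subgroup.centralizer ((P : Subgroup G) : Set G)) →* (P : Subgroup G), (∀ y : (P : Subgroup G), π ⟨y, le_cent hab y.2⟩ = y) ∧
      ∀ c : (Subgroup.centralizer ((P : Subgroup G) : Set G)), π c = 1 ↔ ¬ p ∣ orderOf c := by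
  classical
  set Q := P.subtype (le_cent hab)
  have hQ : Subgroup.normalizer ((Q : Sylow p (Subgroup.centralizer ((P : Subgroup G) : Set G))) : Set (Subgroup.centralizer ((P : Subgroup G) : Set G))) ≤
      Subgroup.centralizer ((Q : Sylow p (Subgroup.centralizer ((P : Subgroup G) : Set G))) : Set (Subgroup.centralizer ((P : Subgroup G) : Set G))) := fun z _ => by
    rw [Subgroup.mem_centralizer_iff]
    intro x hx
    exact Subtype.ext (Subgroup.mem_centralizer_iff.mp z.2 x hx)
  set κ : ↥(Q : Subgroup (Subgroup.centralizer ((P : Subgroup G) : Set G))) ≃* (P : Subgroup G) := Subgroup.subgroupOfEquivOfLe (le_cent hab)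
  set f : (Subgroup.centralizer ((P : Subgroup G) : Set G)) →* (P : Subgroup G) := κ.toMonoidHom.comp (MonoidHom.transferSylow Q hQ)
  have hf : ∀ y : (P : Subgroup G), f ⟨y, le_cent hab y.2⟩ = y ^ (Q : Subgroup (Subgroup.centralizer ((P : Subgroup G) : Set G))).index := fun y => by
    simp only [f, MonoidHom.comp_apply]
    rw [MonoidHom.transferSylow_eq_pow Q hQ _ y.2]
    exact Subtype.ext rfl
  have hco : (Nat.card (P : Subgroup G)).Coprime (Q : Subgroup (Subgroup.centralizer ((P : Subgroup G) : Set G))).index := by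
    obtain ⟨k, hk⟩ := P.2.exists_card_eq
    rw [hk]
    exact ((Fact.out : p.Prime).coprime_iff_not_dvd.mpr Q.not_dvd_index).pow_left k
  set e : (P : Subgroup G) ≃* (P : Subgroup G) :=
    MulEquiv.ofBijective (powMonoidHom (Q : Subgroup (Subgroup.centralizer ((P : Subgroup G) : Set G))).index) (powCoprime hco).bijective
  refine ⟨e.symm.toMonoidHom.comp f, fun y => ?_, fun c => ?_⟩
  · show e.symm (f _) = y
    rw [hf]
    exact e.symm_apply_apply y
  · show e.symm (f c) = 1 ↔ _
    rw [MulEquiv.map_eq_one_iff]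
    constructor
    · intro hc
      have hk : c ∈ (MonoidHom.transferSylow Q hQ).ker :=
        MonoidHom.mem_ker.mpr (κ.injective (by rw [map_one]; exact hc))
      intro hd
      have h1 : orderOf c ∣ Nat.card (MonoidHom.transferSylow Q hQ).ker :=
        Subgroup.orderOf_dvd_natCard _ hk
      exact MonoidHom.not_dvd_card_ker_transferSylow Q hQ (hd.trans h1)
    · intro hd
      obtain ⟨j, hj⟩ := IsPGroup.iff_orderOf.mp P.2 (f c)
      have h1 := orderOf_map_dvd f c
      rw [hj] at h1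
      rw [← orderOf_eq_one_iff, hj]
      rcases Nat.eq_zero_or_pos j with rfl | hj0
      · exact pow_zero p
      · exact absurd ((dvd_pow_self p hj0.ne').trans h1) hd

/-- The multiplicity of the linear character `ψ ∘ π` in the restriction to `C(P)`. -/
noncomputable def kC [Fintype (Subgroup.centralizer ((P : Subgroup G) : Set G))] (π : (Subgroup.centralizer ((P : Subgroup G) : Set G)) →* (P : Subgroup G)) (χ : G → ℂ)
    (ψ : (P : Subgroup G) →* ℂˣ) : ℂ :=
  classInner (fun c : (Subgroup.centralizer ((P : Subgroup G) : Set G)) => χ c) (fun c : (Subgroup.centralizer ((P : Subgroup G) : Set G)) => ((ψ (π c) : ℂˣ) : ℂ))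

section

variable (hab : IsMulCommutative (P : Subgroup G)) [Fintype (Subgroup.centralizer ((P : Subgroup G) : Set G))] {π : (Subgroup.centralizer ((P : Subgroup G) : Set G)) →* (P : Subgroup G)}
  (hπ : ∀ y : (P : Subgroup G), π ⟨y, le_cent hab y.2⟩ = y)
  (hker : ∀ c : (Subgroup.centralizer ((P : Subgroup G) : Set G)), π c = 1 ↔ ¬ p ∣ orderOf c)
include hπ hker

theorem exists_nat_kC {χ : G → ℂ} (hχ : IsCharacter G χ) (ψ : (P : Subgroup G) →* ℂˣ) :
    ∃ n : ℕ, kC π χ ψ = n :=
  Char.exists_nat_classInner (Char.isCharacter_restrict (Subgroup.centralizer ((P : Subgroup G) : Set G)) hχ)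
    (Char.isCharacter_monoidHom (ψ.comp π))

/-- Summation over `C(P)` by the factors. -/
theorem sum_cent {R : Type*} [AddCommMonoid R] [Fintype (P : Subgroup G)] [Fintype π.ker]
    (F : (Subgroup.centralizer ((P : Subgroup G) : Set G)) → R) :
    ∑ c, F c = ∑ y : (P : Subgroup G), ∑ v : π.ker, F (⟨y, le_cent hab y.2⟩ * (v : (Subgroup.centralizer ((P : Subgroup G) : Set G)))) := by
  rw [← Fintype.sum_prod_type']
  refine (Fintype.sum_bijective (fun a : ↥(P : Subgroup G) × ↥π.ker =>
    (⟨(a.1 : G), le_cent hab a.1.2⟩ : (Subgroup.centralizer ((P : Subgroup G) : Set G))) * (a.2 : (Subgroup.centralizer ((P : Subgroup G) : Set G)))) ⟨?_, ?_⟩ _ _ fun _ => rfl).symm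
  · rintro ⟨y, v⟩ ⟨y', v'⟩ e
    have h1 : π _ = π _ := congrArg π e
    rw [map_mul, map_mul, hπ, hπ, MonoidHom.mem_ker.mp v.2, MonoidHom.mem_ker.mp v'.2, mul_one,
      mul_one] at h1
    subst h1
    exact Prod.ext rfl (Subtype.ext (mul_left_cancel e))
  · intro c
    set y : (Subgroup.centralizer ((P : Subgroup G) : Set G)) := ⟨(π c : G), le_cent hab (π c).2⟩
    refine ⟨(π c, ⟨y⁻¹ * c, ?_⟩), mul_inv_cancel_left y c⟩
    rw [MonoidHom.mem_ker, map_mul, map_inv, hπ, inv_mul_cancel]

theorem card_cent : Nat.card (Subgroup.centralizer ((P : Subgroup G) : Set G)) = Nat.card P * Nat.card π.ker := by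
  classical
  haveI := Fintype.ofFinite (P : Subgroup G)
  haveI := Fintype.ofFinite π.ker
  have h := sum_cent hab hπ hker (fun _ : (Subgroup.centralizer ((P : Subgroup G) : Set G)) => 1)
  simpa [Nat.card_eq_fintype_card] using h

variable (hM : IsPModular p M) (hU : UniformCent P)
include hM hU

/-- The sums over sections. -/
theorem sum_section [Fintype π.ker] [DecidablePred (· ∈ principalBlock M G)] (χ : IrrCharacter G)
    {y : (P : Subgroup G)} (hy : y ≠ 1) :
    ∑ v : π.ker, (χ : G → ℂ) ((y : G) * ((v : (Subgroup.centralizer ((P : Subgroup G) : Set G))) : G)) =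
      if χ ∈ principalBlock M G then (Nat.card π.ker : ℂ) * (χ : G → ℂ) y else 0 := by
  classical
  haveI := isPrime_of_isPModular hM
  have hfrob := hU.isFrob
  have hy1 : (y : G) ≠ 1 := fun e => hy (Subtype.ext e)
  have hvreg : ∀ v : π.ker, ¬ p ∣ orderOf ((v : (Subgroup.centralizer ((P : Subgroup G) : Set G))) : G) := fun v => by
    rw [Subgroup.orderOf_coe]; exact (hker v).mp (MonoidHom.mem_ker.mp v.2)
  split_ifs with hB
  · rw [Finset.sum_congr rfl (g := fun _ => (χ : G → ℂ) y) fun (v : π.ker) _ => value_section P hM hab hfrob hB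
      (isPPart_mul (p := p) (Subgroup.mem_centralizer_iff.mp (v : (Subgroup.centralizer ((P : Subgroup G) : Set G))).2 y y.2)
        (exists_pow_orderOf P hM hab hfrob y.2) (hvreg v)) y.2 hy1,
      Finset.sum_const, Finset.card_univ, nsmul_eq_mul, Nat.card_eq_fintype_card]
  -- outside the principal block the principal part of the section vanishes
  haveI : Fintype (Subgroup.centralizer ({(y : G)} : Set G)) := Fintype.ofFinite _
  set H := Subgroup.centralizer ({(y : G)} : Set G) with hH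
  obtain ⟨hnpc, Q, hQ⟩ := hasNormalPComplement_centralizer P hfrob y.2 hy1 hab
  have hb0 : IsPBlock M (principalBlock M H) := isPBlock_principalBlock
  have hθ : IsClassFunction H (fun c : H => (χ : G → ℂ) ((y : G) * (c : G))) :=
    isClassFunction_translate (x := (y : G)) (irr_classFunction χ)
  have h1 : ¬ p ∣ orderOf (1 : H) := by rw [orderOf_one, Nat.dvd_one]; exact hM.1.ne_one
  have hxo := exists_pow_orderOf P hM hab hfrob y.2
  have hzero := blockPart_eq_zero_of_not_induced hM hxo (isPBlock_blockOf χ) (mem_blockOf_self χ) hb0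
    (fun h' => hB (by
      rw [IsInducedBlock.unique (isInducedBlock_principal hM
        (inducedBlockDefined_centralizer hM hxo isPBlock_principalBlock)) h']
      exact mem_blockOf_self χ)) h1
  rw [blockPart_eq_sum _ hθ] at hzero
  simp only [mul_one] at hzero
  have hcoef : ∀ k : H, blockCoeff (principalBlock M H) k =
      if ¬ p ∣ orderOf k then (Nat.card H : ℂ)⁻¹ * Nat.card P else 0 := by
    intro k
    by_cases hk : ¬ p ∣ orderOf k
    · rw [if_pos hk, blockCoeff, ← hQ, ← sum_sq_degree_principal_of_npc hM hnpc Q]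
      congr 1
      have hmem : k ∈ pPrimeCore p H := by
        rw [Transfer.pPrimeCore_eq_pResidual hnpc]
        exact Transfer.mem_pResidual_of_coprime
          ((Fact.out : p.Prime).coprime_iff_not_dvd.mpr hk).symm
      have : (pPrimeCore p H).Normal := SelfCent.pPrimeCore_normal' p
      refine Eq.trans ?_ ((Nat.castAddMonoidHom ℂ).map_finsum_mem _ (Set.toFinite _)).symm
      refine finsum_mem_congr rfl fun ξ hξ => ?_
      show _ = ((charDegree (ξ : H → ℂ) ^ 2 : ℕ) : ℂ)
      rw [trivial_on_of_mem_principalBlock hM _ (not_dvd_card_pPrimeCore (H := H) hM.1) hξ k hmem,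
        (irr_degree_eq ξ).1, Complex.conj_natCast, Nat.cast_pow, sq]
    · rw [if_neg hk]
      exact blockCoeff_eq_zero_of_not_regular hM (IsPBlock.isBlockUnion hb0) (fun h => hk h)
  simp only [hcoef, ite_mul, zero_mul] at hzero
  rw [← Finset.sum_filter, ← Finset.mul_sum, mul_eq_zero] at hzero
  have hne : ((Nat.card H : ℂ)⁻¹ * Nat.card P) ≠ 0 := mul_ne_zero
    (inv_ne_zero (Nat.cast_ne_zero.mpr Nat.card_pos.ne')) (Nat.cast_ne_zero.mpr Nat.card_pos.ne')
  rw [← hzero.resolve_left hne]
  have hHC : H = (Subgroup.centralizer ((P : Subgroup G) : Set G)) := hU y y.2 hy1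
  refine Finset.sum_bij (fun v _ => (⟨((v : (Subgroup.centralizer ((P : Subgroup G) : Set G))) : G), by rw [hHC]; exact (v : (Subgroup.centralizer ((P : Subgroup G) : Set G))).2⟩ : H)) (fun v _ => ?_)
    (fun a _ b _ e => Subtype.ext (Subtype.ext (congrArg (fun z : H => (z : G)) e :)))
    (fun c hc => ?_) (fun v _ => rfl)
  · refine Finset.mem_filter.mpr ⟨Finset.mem_univ _, ?_⟩
    rw [← Subgroup.orderOf_coe]
    exact hvreg v
  · refine ⟨⟨⟨(c : G), hHC.le c.2⟩, MonoidHom.mem_ker.mpr ((hker _).mpr ?_)⟩, Finset.mem_univ _,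
      Subtype.ext rfl⟩
    rw [Subgroup.orderOf_mk, Subgroup.orderOf_coe]
    exact (Finset.mem_filter.mp hc).2

/-- The differences of the multiplicities. -/
theorem kC_sub [DecidablePred (· ∈ principalBlock M G)] (χ : IrrCharacter G)
    (ψ : (P : Subgroup G) →* ℂˣ) :
    kC π (χ : G → ℂ) 1 - kC π (χ : G → ℂ) ψ =
      if χ ∈ principalBlock M G then (coeff P χ ψ : ℂ) else 0 := by
  classical
  haveI := Fintype.ofFinite (P : Subgroup G)
  haveI := Fintype.ofFinite π.ker
  have hn : (Nat.card (Subgroup.centralizer ((P : Subgroup G) : Set G)) : ℂ) ≠ 0 := Nat.cast_ne_zero.mpr Nat.card_pos.ne'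
  refine mul_left_cancel₀ hn ?_
  rw [mul_sub]
  simp only [kC, classInner, ← mul_assoc, mul_inv_cancel₀ hn, one_mul, ← Finset.sum_sub_distrib,
    ← mul_sub, MonoidHom.one_apply, Units.val_one, map_one]
  rw [sum_cent hab hπ hker]
  have hπv : ∀ (y : (P : Subgroup G)) (v : π.ker), π (⟨y, le_cent hab y.2⟩ * (v : (Subgroup.centralizer ((P : Subgroup G) : Set G)))) = y :=
    fun y v => by rw [map_mul, hπ, MonoidHom.mem_ker.mp v.2, mul_one]
  simp only [hπv, Subgroup.coe_mul, ← Finset.sum_mul]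
  split_ifs with hB
  · rw [card_cent hab hπ hker, Nat.cast_mul, mul_comm (Nat.card P : ℂ), mul_assoc,
      coeff_spec, Finset.mul_sum]
    refine Finset.sum_congr rfl fun y _ => ?_
    by_cases hy : y = 1
    · subst hy; simp
    · rw [sum_section hab hπ hker hM hU χ hy, if_pos hB, mul_assoc]
  · rw [mul_zero]
    refine Finset.sum_eq_zero fun y _ => ?_
    by_cases hy : y = 1
    · subst hy; simp
    · rw [sum_section hab hπ hker hM hU χ hy, if_neg hB, zero_mul]

omit hM hU in
theorem exists_sum_kC_le {χ : G → ℂ} (hχ : IsCharacter G χ)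
    [Fintype ((P : Subgroup G) →* ℂˣ)] :
    ∃ n : ℕ, χ 1 = n ∧ ‖∑ ψ : (P : Subgroup G) →* ℂˣ, kC π χ ψ‖ ≤ n := by
  classical
  haveI := Fintype.ofFinite (P : Subgroup G)
  haveI := Fintype.ofFinite π.ker
  obtain ⟨n, ρ, rfl⟩ := hχ
  refine ⟨n, ?_, ?_⟩
  · rw [Representation.char_one, Module.finrank_fin_fun]
  have hA : ∀ a b : (P : Subgroup G), a * b = b * a := fun a b => mul_comm' (a := a) (b := b)
  have h : ∑ ψ : (P : Subgroup G) →* ℂˣ, kC π ρ.character ψ =
      (Nat.card π.ker : ℂ)⁻¹ * ∑ v : π.ker,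
        ρ.character ((v : Subgroup.centralizer ((P : Subgroup G) : Set G)) : G) := by
    simp only [kC, classInner, ← Finset.mul_sum]
    rw [Finset.sum_comm]
    simp only [← Finset.mul_sum, ← map_sum, sum_hom_apply hA]
    rw [sum_cent hab hπ hker, card_cent hab hπ hker, Finset.sum_eq_single (1 : (P : Subgroup G))
      (fun y _ hy => Finset.sum_eq_zero fun v _ => ?_) (fun hc => absurd (Finset.mem_univ _) hc)]
    · simp only [map_mul, hπ, MonoidHom.mem_ker.mp (Subtype.coe_prop _), mul_one, if_pos,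
        Complex.conj_natCast, ← Finset.sum_mul, Nat.cast_mul, mul_inv]
      simp only [Subgroup.coe_mul, OneMemClass.coe_one, one_mul]
      have hq : (Nat.card P : ℂ) ≠ 0 := Nat.cast_ne_zero.mpr Nat.card_pos.ne'
      field_simp
    · rw [map_mul, hπ, MonoidHom.mem_ker.mp v.2, mul_one, if_neg hy, map_zero, mul_zero]
  have hV : (0 : ℝ) < Nat.card π.ker := Nat.cast_pos.mpr Nat.card_pos
  rw [h, norm_mul, norm_inv, Complex.norm_natCast, inv_mul_le_iff₀ hV]
  refine (norm_sum_le _ _).trans ((Finset.sum_le_sum fun v _ => Char.norm_character_le ρ _).trans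
    (le_of_eq ?_))
  rw [Finset.sum_const, Finset.card_univ, nsmul_eq_mul, Nat.card_eq_fintype_card,
    Module.finrank_fin_fun]

end

section

variable [Fintype (P : Subgroup G)]

/-- The multiplicity of a linear character in the restriction to `P`. -/
noncomputable def kP (χ : G → ℂ) (ψ : (P : Subgroup G) →* ℂˣ) : ℂ :=
  classInner (fun y : (P : Subgroup G) => χ y) (fun y : (P : Subgroup G) => ((ψ y : ℂˣ) : ℂ))

theorem exists_nat_kP {χ : G → ℂ} (hχ : IsCharacter G χ) (ψ : (P : Subgroup G) →* ℂˣ) :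
    ∃ n : ℕ, kP χ ψ = n :=
  Char.exists_nat_classInner (Char.isCharacter_restrict (P : Subgroup G) hχ)
    (Char.isCharacter_monoidHom ψ)

theorem kP_sub (χ : IrrCharacter G) (ψ : (P : Subgroup G) →* ℂˣ) :
    kP (P := P) (χ : G → ℂ) 1 - kP (χ : G → ℂ) ψ = (coeff P χ ψ : ℂ) := by
  have hq : (Nat.card P : ℂ) ≠ 0 := Nat.cast_ne_zero.mpr Nat.card_pos.ne'
  refine mul_left_cancel₀ hq ?_
  rw [coeff_spec, mul_sub]
  simp only [kP, classInner, ← mul_assoc, mul_inv_cancel₀ hq, one_mul, ← Finset.sum_sub_distrib,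
    MonoidHom.one_apply, Units.val_one, map_one, mul_sub]

theorem sum_kP_mul (hab : IsMulCommutative (P : Subgroup G)) [Fintype ((P : Subgroup G) →* ℂˣ)]
    (χ : G → ℂ) (y : (P : Subgroup G)) :
    ∑ ψ : (P : Subgroup G) →* ℂˣ, kP χ ψ * ((ψ y : ℂˣ) : ℂ) = χ y := by
  classical
  have hA : ∀ a b : (P : Subgroup G), a * b = b * a := fun a b => mul_comm' (a := a) (b := b)
  simp only [kP, classInner, mul_assoc, ← Finset.mul_sum, Finset.sum_mul]
  rw [Finset.sum_comm]
  simp only [mul_assoc, conj_hom, ← Units.val_mul, ← map_mul, ← Finset.mul_sum, sum_hom_apply hA]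
  rw [Finset.sum_eq_single y (fun z _ hz => by
    rw [if_neg fun e => hz (inv_mul_eq_one.mp e), mul_zero]) (fun hc => absurd (Finset.mem_univ _) hc),
    if_pos (inv_mul_cancel y), ← mul_assoc, mul_comm _ (χ y), mul_assoc,
    inv_mul_cancel₀ (Nat.cast_ne_zero.mpr Nat.card_pos.ne'), mul_one]

theorem exists_kP_ne_zero (hab : IsMulCommutative (P : Subgroup G)) {χ : G → ℂ}
    (h : ¬ ∀ y ∈ (P : Subgroup G), χ y = χ 1) :
    ∃ ψ : (P : Subgroup G) →* ℂˣ, ψ ≠ 1 ∧ kP χ ψ ≠ 0 := by
  classical
  haveI := finite_hom (A := (P : Subgroup G)) fun a b => mul_comm' (a := a) (b := b)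
  haveI := Fintype.ofFinite ((P : Subgroup G) →* ℂˣ)
  by_contra hc
  push Not at hc
  refine h fun y hy => ?_
  have e : ∀ z : (P : Subgroup G), χ z = kP (P := P) χ 1 := fun z => by
    rw [← sum_kP_mul hab χ z, Finset.sum_eq_single (1 : (P : Subgroup G) →* ℂˣ)
      (fun ψ _ hψ => by rw [hc ψ hψ, zero_mul]) (fun hc => absurd (Finset.mem_univ _) hc),
      MonoidHom.one_apply, Units.val_one, mul_one]
  exact (e ⟨y, hy⟩).trans (e 1).symm

theorem kP_comp {χ : G → ℂ} (hχ : IsClassFunction G χ) {w : MulAut (P : Subgroup G)}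
    (hw : w ∈ autG P) (ψ : (P : Subgroup G) →* ℂˣ) :
    kP χ (ψ.comp (MulEquiv.toMonoidHom w)) = kP χ ψ := by
  obtain ⟨n, rfl⟩ := hw
  simp only [kP, classInner]
  congr 1
  refine Fintype.sum_equiv ((P : Subgroup G).normalizerMonoidHom n).toEquiv _ _ fun y => ?_
  show _ = χ (((P : Subgroup G).normalizerMonoidHom n y : (P : Subgroup G)) : G) * _
  rw [normalizerMonoidHom_coe, hχ (y : G) n]
  rfl

/-- A character not trivial on `P` has degree at least the order of the induced automorphism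
group. -/
theorem card_autG_le_degree (hab : IsMulCommutative (P : Subgroup G)) (hfrob : IsFrob P)
    {χ : G → ℂ} (hχ : IsCharacter G χ) (h : ¬ ∀ y ∈ (P : Subgroup G), χ y = χ 1) {n : ℕ}
    (hn : χ 1 = n) : Nat.card (autG P) ≤ n := by
  classical
  haveI := finite_hom (A := (P : Subgroup G)) fun a b => mul_comm' (a := a) (b := b)
  haveI := Fintype.ofFinite ((P : Subgroup G) →* ℂˣ)
  haveI := Fintype.ofFinite (autG P)
  obtain ⟨ψ, hψ, hk⟩ := exists_kP_ne_zero hab h
  choose k hkn using fun φ => exists_nat_kP (P := P) hχ φ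
  have htot : ((∑ φ, k φ : ℕ) : ℂ) = (n : ℂ) := by
    rw [← hn, Nat.cast_sum, ← show χ ((1 : (P : Subgroup G)) : G) = χ 1 from rfl,
      ← sum_kP_mul hab χ 1]
    exact Finset.sum_congr rfl fun φ _ => by rw [hkn, map_one, Units.val_one, mul_one]
  have hpos : ∀ w : autG P, 1 ≤ k (ψ.comp (MulEquiv.toMonoidHom (w : MulAut (P : Subgroup G)))) :=
    fun w => by
    refine Nat.one_le_iff_ne_zero.mpr fun e => hk ?_
    rw [← kP_comp (Char.isClassFunction_of_isCharacter hχ) w.2 ψ, hkn, e, Nat.cast_zero]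
  rw [← Nat.cast_inj.mp htot, Nat.card_eq_fintype_card, ← Finset.card_univ,
    ← Finset.card_image_of_injective Finset.univ (injective_comp P hab hfrob hψ),
    Finset.card_eq_sum_ones]
  refine (Finset.sum_le_sum ?_).trans (Finset.sum_le_sum_of_subset (Finset.subset_univ _))
  intro φ hφ
  obtain ⟨w, -, rfl⟩ := Finset.mem_image.mp hφ
  exact hpos w

/-- The norm on `C(P)`: at least the order of the automorphism group, and one only for characters of
constant modulus on `P`. -/
theorem cent_norm (hab : IsMulCommutative (P : Subgroup G)) (hfrob : IsFrob P)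
    [Fintype (Subgroup.centralizer ((P : Subgroup G) : Set G))] {χ : G → ℂ} (hχ : IsCharacter G χ)
    (h : ¬ ∀ y ∈ (P : Subgroup G), χ y = χ 1) :
    ∃ N : ℕ, classInner (fun c : Subgroup.centralizer ((P : Subgroup G) : Set G) => χ c)
        (fun c => χ c) = N ∧ Nat.card (autG P) ≤ N ∧
      (N = 1 → ∀ y ∈ (P : Subgroup G), χ y * conj (χ y) = χ 1 * conj (χ 1)) := by
  classical
  haveI := Fintype.ofFinite (autG P)
  obtain ⟨c, hc⟩ := Char.exists_multiplicities (Char.isCharacter_restrict (Subgroup.centralizer ((P : Subgroup G) : Set G)) hχ)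
  have hcval : ∀ x : ↥(Subgroup.centralizer ((P : Subgroup G) : Set G)), χ x = ∑ ξ : IrrCharacter ↥(Subgroup.centralizer ((P : Subgroup G) : Set G)), (c ξ : ℂ) * (ξ : ↥(Subgroup.centralizer ((P : Subgroup G) : Set G)) → ℂ) x := fun x => by
    have := congrFun hc x
    simpa using this
  have hN : classInner (fun c : ↥(Subgroup.centralizer ((P : Subgroup G) : Set G)) => χ c) (fun c => χ c) = ((∑ ξ, c ξ ^ 2 : ℕ) : ℂ) := by
    rw [hc, Char.classInner_sum_smul_sum_smul, Nat.cast_sum]
    exact Finset.sum_congr rfl fun ξ _ => by rw [Complex.conj_natCast, Nat.cast_pow, sq]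
  -- a constituent has only one linear character of `P` below it
  have hone : ∀ (ξ : IrrCharacter ↥(Subgroup.centralizer ((P : Subgroup G) : Set G))) (a b : (P : Subgroup G) →* ℂˣ),
      ∑ y : (P : Subgroup G), (ξ : ↥(Subgroup.centralizer ((P : Subgroup G) : Set G)) → ℂ) ⟨y, le_cent hab y.2⟩ * conj ((a y : ℂˣ) : ℂ) ≠ 0 →
      ∑ y : (P : Subgroup G), (ξ : ↥(Subgroup.centralizer ((P : Subgroup G) : Set G)) → ℂ) ⟨y, le_cent hab y.2⟩ * conj ((b y : ℂˣ) : ℂ) ≠ 0 →
      a = b := by
    intro ξ a b ha hb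
    have key : ∀ (a : (P : Subgroup G) →* ℂˣ),
        ∑ y : (P : Subgroup G), (ξ : ↥(Subgroup.centralizer ((P : Subgroup G) : Set G)) → ℂ) ⟨y, le_cent hab y.2⟩ * conj ((a y : ℂˣ) : ℂ) ≠ 0 →
        ∀ z : (P : Subgroup G),
          (ξ : ↥(Subgroup.centralizer ((P : Subgroup G) : Set G)) → ℂ) ⟨z, le_cent hab z.2⟩ * conj ((a z : ℂˣ) : ℂ) = (ξ : ↥(Subgroup.centralizer ((P : Subgroup G) : Set G)) → ℂ) 1 := by
      intro a ha z
      set S := ∑ y : (P : Subgroup G), (ξ : ↥(Subgroup.centralizer ((P : Subgroup G) : Set G)) → ℂ) ⟨y, le_cent hab y.2⟩ * conj ((a y : ℂˣ) : ℂ)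
        with hS
      have h1 : S * ((ξ : ↥(Subgroup.centralizer ((P : Subgroup G) : Set G)) → ℂ) ⟨z, le_cent hab z.2⟩ * conj ((a z : ℂˣ) : ℂ)) =
          S * (ξ : ↥(Subgroup.centralizer ((P : Subgroup G) : Set G)) → ℂ) 1 := by
        conv_rhs => rw [hS, ← Equiv.sum_comp (Equiv.mulRight z), Finset.sum_mul]
        rw [hS, Finset.sum_mul]
        refine Finset.sum_congr rfl fun y _ => ?_
        have := Char.central_mul ξ.2 (mem_center_cent hab z) ⟨y, le_cent hab y.2⟩
        simp only [Equiv.coe_mulRight, map_mul, Units.val_mul]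
        rw [show (⟨((y * z : (P : Subgroup G)) : G), le_cent hab (y * z).2⟩ : ↥(Subgroup.centralizer ((P : Subgroup G) : Set G))) =
          ⟨y, le_cent hab y.2⟩ * ⟨z, le_cent hab z.2⟩ from rfl]
        linear_combination -(conj ((a y : ℂˣ) : ℂ) * conj ((a z : ℂˣ) : ℂ)) * this
      exact mul_left_cancel₀ ha h1
    refine MonoidHom.ext fun z => Units.ext ((starRingEnd ℂ).injective
      (mul_left_cancel₀ (a := (ξ : ↥(Subgroup.centralizer ((P : Subgroup G) : Set G)) → ℂ) ⟨z, le_cent hab z.2⟩) ?_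
        ((key a ha z).trans (key b hb z).symm)))
    intro e
    have := key a ha z
    rw [e, zero_mul] at this
    exact Char.irr_degree_ne_zero ξ.2 this.symm
  obtain ⟨ψ, hψ, hk⟩ := exists_kP_ne_zero hab h
  have hex : ∀ w : autG P, ∃ ξ : IrrCharacter ↥(Subgroup.centralizer ((P : Subgroup G) : Set G)), c ξ ≠ 0 ∧
      ∑ y : (P : Subgroup G), (ξ : ↥(Subgroup.centralizer ((P : Subgroup G) : Set G)) → ℂ) ⟨y, le_cent hab y.2⟩ *
        conj (((ψ.comp (MulEquiv.toMonoidHom (w : MulAut (P : Subgroup G)))) y : ℂˣ) : ℂ) ≠ 0 := by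
    intro w
    by_contra hno
    push Not at hno
    apply hk
    rw [← kP_comp (Char.isClassFunction_of_isCharacter hχ) w.2 ψ]
    simp only [kP, classInner]
    rw [Finset.sum_congr rfl fun y _ => by
      rw [show χ (y : G) = χ ((⟨y, le_cent hab y.2⟩ : ↥(Subgroup.centralizer ((P : Subgroup G) : Set G))) : G) from rfl, hcval, Finset.sum_mul],
      Finset.sum_comm, Finset.sum_eq_zero, mul_zero]
    intro ξ _
    by_cases e : c ξ = 0
    · simp [e]
    · simp only [mul_assoc]
      rw [← Finset.mul_sum, hno ξ e, mul_zero]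
  choose f hf hf' using hex
  have hinj : Function.Injective f := fun v w e =>
    injective_comp P hab hfrob hψ (hone (f v) _ _ (hf' v) (e ▸ hf' w))
  refine ⟨_, hN, ?_, fun h1 y hy => ?_⟩
  · rw [Nat.card_eq_fintype_card, ← Finset.card_univ,
      ← Finset.card_image_of_injective Finset.univ hinj, Finset.card_eq_sum_ones]
    refine (Finset.sum_le_sum ?_).trans (Finset.sum_le_sum_of_subset (Finset.subset_univ _))
    intro ξ hξ
    obtain ⟨w, -, rfl⟩ := Finset.mem_image.mp hξ
    exact Nat.one_le_pow _ _ (Nat.pos_of_ne_zero (hf w))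
  · set ξ₀ := f 1 with hξ₀
    have hsplit := h1 ▸ (Finset.add_sum_erase Finset.univ (fun ξ => c ξ ^ 2) (Finset.mem_univ ξ₀))
    have hc0 : 1 ≤ c ξ₀ ^ 2 := Nat.one_le_pow _ _ (Nat.pos_of_ne_zero (hf 1))
    have hrest : ∀ ξ ∈ Finset.univ.erase ξ₀, c ξ ^ 2 = 0 := Finset.sum_eq_zero_iff.mp (by omega)
    have hc1 : c ξ₀ = 1 := by
      have : c ξ₀ ^ 2 = 1 := by omega
      exact Nat.pow_left_injective two_ne_zero (this.trans (one_pow 2).symm)
    have hv : ∀ x : ↥(Subgroup.centralizer ((P : Subgroup G) : Set G)), χ x = (ξ₀ : ↥(Subgroup.centralizer ((P : Subgroup G) : Set G)) → ℂ) x := fun x => by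
      rw [hcval, ← Finset.add_sum_erase _ _ (Finset.mem_univ ξ₀), hc1, Nat.cast_one, one_mul,
        Finset.sum_eq_zero fun ξ hξ => by
          rw [(pow_eq_zero_iff two_ne_zero).mp (hrest ξ hξ), Nat.cast_zero, zero_mul], add_zero]
    set z : ↥(Subgroup.centralizer ((P : Subgroup G) : Set G)) := ⟨y, le_cent hab hy⟩
    have e := Char.central_mul ξ₀.2 (mem_center_cent hab ⟨y, hy⟩) z⁻¹
    rw [inv_mul_cancel, ← hv z, ← hv 1, ← hv z⁻¹] at e
    simp only [Subgroup.coe_one, Subgroup.coe_inv, z] at e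
    rw [Char.value_inv_eq_conj hχ] at e
    obtain ⟨n, hn⟩ := Char.exists_nat_degree hχ
    rw [hn] at e ⊢
    rw [Complex.conj_natCast]
    linear_combination -e

end

set_option maxHeartbeats 1000000 in
/-- If no nontrivial irreducible character is trivial on `P`, small irreducible characters are
linear. -/
theorem degree_eq_one (hU : UniformCent P)
    (hns : ∀ ψ : IrrCharacter G, (∀ y ∈ (P : Subgroup G), (ψ : G → ℂ) y = (ψ : G → ℂ) 1) →
      (ψ : G → ℂ) = fun _ => 1)
    (χ : IrrCharacter G) (h1 : (χ : G → ℂ) ≠ fun _ => 1)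
    (hdeg : charDegree (χ : G → ℂ) ^ 2 + 2 ≤ Nat.card P) : charDegree (χ : G → ℂ) = 1 := by
  classical
  obtain ⟨M, hM⟩ := exists_isPModular (Fact.out : p.Prime)
  haveI := isPrime_of_isPModular hM
  have hab := hU.commutative
  have hfrob := hU.isFrob
  have hA : ∀ a b : (P : Subgroup G), a * b = b * a := fun a b => mul_comm' (a := a) (b := b)
  haveI := Fintype.ofFinite (P : Subgroup G)
  haveI := finite_hom hA
  haveI := Fintype.ofFinite ((P : Subgroup G) →* ℂˣ)
  haveI := Fintype.ofFinite (Subgroup.centralizer ((P : Subgroup G) : Set G))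
  haveI := Fintype.ofFinite (autG P)
  haveI := Fintype.ofFinite (Orb P)
  obtain ⟨π, hπ, hker⟩ := exists_proj hab
  set f := charDegree (χ : G → ℂ) with hfdef
  have hf1 : (χ : G → ℂ) 1 = f := (irr_degree_eq χ).1
  have hfpos : 0 < f := (irr_degree_eq χ).2
  set m := Nat.card (autG P) with hmdef
  set q := Nat.card P with hqdef
  have hmpos : 0 < m := Nat.card_pos
  have hnot : ∀ ψ : IrrCharacter G, (ψ : G → ℂ) ≠ (fun _ => 1) →
      ¬ ∀ y ∈ (P : Subgroup G), (ψ : G → ℂ) y = (ψ : G → ℂ) 1 := fun ψ hψ h => hψ (hns ψ h)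
  have hdegge : ∀ ψ : IrrCharacter G, (ψ : G → ℂ) ≠ (fun _ => 1) →
      m ≤ charDegree (ψ : G → ℂ) := fun ψ hψ =>
    card_autG_le_degree hab hfrob (Char.isCharacter_of_isIrr ψ.2) (hnot ψ hψ) (irr_degree_eq ψ).1
  have hmf : m ≤ f := hdegge χ h1
  have hff : f ≤ f ^ 2 := Nat.le_self_pow two_ne_zero f
  have ht : Nat.card (Orb P) * m = q - 1 := card_orb_mul P hab hfrob
  have h2 : 2 ≤ Nat.card (Orb P) := by
    by_contra hc
    have : Nat.card (Orb P) * m ≤ 1 * m := Nat.mul_le_mul_right m (by omega)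
    omega
  set t := Nat.card (Orb P) with htdef
  obtain ⟨D⟩ := exists_data P hM hab hfrob h2
  obtain ⟨N, hN, hmN, hN1⟩ := cent_norm hab hfrob (Char.isCharacter_of_isIrr χ.2) (hnot χ h1)
  -- the square of the modulus
  have hφ : IsCharacter G (fun g => (χ : G → ℂ) g * conj ((χ : G → ℂ) g)) :=
    Char.isCharacter_mul (Char.isCharacter_of_isIrr χ.2)
      (Char.isCharacter_conj (Char.isCharacter_of_isIrr χ.2))
  obtain ⟨c, hc⟩ := Char.exists_multiplicities hφ
  have hcval : ∀ g, (χ : G → ℂ) g * conj ((χ : G → ℂ) g) =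
      ∑ ψ : IrrCharacter G, (c ψ : ℂ) * (ψ : G → ℂ) g := fun g => by
    have := congrFun hc g
    simpa using this
  have htriv : ∀ g, (trivIrr G : G → ℂ) g = 1 := fun _ => rfl
  have hctriv : c (trivIrr G) = 1 := by
    have h := Char.classInner_sum_smul_irr (fun ψ => (c ψ : ℂ)) (trivIrr G)
    rw [← hc] at h
    rw [← Nat.cast_inj (R := ℂ), ← h, Nat.cast_one, ← Char.classInner_irr_self χ.2]
    simp [classInner, htriv]
  have hsumdeg : ∑ ψ : IrrCharacter G, c ψ * charDegree (ψ : G → ℂ) = f ^ 2 := by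
    rw [← Nat.cast_inj (R := ℂ), Nat.cast_sum, Nat.cast_pow, sq]
    have := hcval 1
    rw [hf1, Complex.conj_natCast] at this
    rw [this]
    exact Finset.sum_congr rfl fun ψ _ => by rw [Nat.cast_mul, (irr_degree_eq ψ).1]
  have htd : charDegree (trivIrr G : G → ℂ) = 1 := by
    rw [← Nat.cast_inj (R := ℂ), ← (irr_degree_eq (trivIrr G)).1, htriv, Nat.cast_one]
  have hrestdeg : ∀ ψ ∈ (Finset.univ : Finset (IrrCharacter G)).erase (trivIrr G),
      c ψ * charDegree (ψ : G → ℂ) + 1 ≤ f ^ 2 := by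
    intro ψ hψ
    rw [← hsumdeg, ← Finset.add_sum_erase _ _ (Finset.mem_univ (trivIrr G)), hctriv, htd, mul_one,
      add_comm]
    exact Nat.add_le_add_left (Finset.single_le_sum
      (f := fun ψ => c ψ * charDegree (ψ : G → ℂ)) (fun _ _ => Nat.zero_le _) hψ) 1
  have hne1 : ∀ ψ : IrrCharacter G, ψ ≠ trivIrr G → (ψ : G → ℂ) ≠ fun _ => 1 := fun ψ h e =>
    h (Subtype.ext (e.trans rfl))
  by_cases hN2 : N = 1
  · -- the modulus is constant on `P`
    have hz : ∀ ψ : IrrCharacter G, c ψ ≠ 0 → ψ = trivIrr G := by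
      intro ψ hcψ
      by_contra hne
      obtain ⟨lam, hlam, hk⟩ := exists_kP_ne_zero hab (hnot ψ (hne1 ψ hne))
      have h0 : kP (fun g => (χ : G → ℂ) g * conj ((χ : G → ℂ) g)) lam = 0 := by
        simp only [kP, classInner]
        rw [Finset.sum_congr rfl fun y _ => by rw [hN1 hN2 y y.2], ← Finset.mul_sum, ← map_sum,
          sum_apply, if_neg hlam, map_zero, mul_zero, mul_zero]
      choose k hkn using fun ψ : IrrCharacter G =>
        exists_nat_kP (P := P) (Char.isCharacter_of_isIrr ψ.2) lam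
      have h3 : ((∑ ψ, c ψ * k ψ : ℕ) : ℂ) = 0 := by
        rw [← h0]
        symm
        simp only [kP, classInner]
        rw [Finset.sum_congr rfl fun y _ => by rw [hcval, Finset.sum_mul], Finset.sum_comm,
          Finset.mul_sum, Nat.cast_sum]
        refine Finset.sum_congr rfl fun ψ' _ => ?_
        rw [Nat.cast_mul, ← hkn]
        simp only [kP, classInner, Finset.mul_sum]
        exact Finset.sum_congr rfl fun y _ => by ring
      have h4 : c ψ * k ψ = 0 :=
        Finset.sum_eq_zero_iff.mp (Nat.cast_eq_zero.mp h3) ψ (Finset.mem_univ _)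
      rcases mul_eq_zero.mp h4 with e | e
      · exact hcψ e
      · exact hk (by rw [hkn, e, Nat.cast_zero])
    have : f ^ 2 = 1 := by
      rw [← hsumdeg, Finset.sum_eq_single (trivIrr G) (fun ψ _ hψ => by
        rw [not_ne_iff.mp (fun e => hψ (hz ψ e)), zero_mul])
        (fun hc => absurd (Finset.mem_univ _) hc), hctriv, htd]
    exact Nat.pow_left_injective two_ne_zero (this.trans (one_pow 2).symm)
  exfalso
  choose k hkn using fun (ψ : IrrCharacter G) (l : (P : Subgroup G) →* ℂˣ) =>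
    exists_nat_kC (π := π) hab hπ hker (Char.isCharacter_of_isIrr ψ.2) l
  have hNsum : N = ∑ ψ : IrrCharacter G, c ψ * k ψ 1 := by
    rw [← Nat.cast_inj (R := ℂ), ← hN, Nat.cast_sum, classInner,
      Finset.sum_congr rfl fun x _ => hcval ((x : Subgroup.centralizer ((P : Subgroup G) : Set G)) : G),
      Finset.sum_comm, Finset.mul_sum]
    refine Finset.sum_congr rfl fun ψ _ => ?_
    rw [Nat.cast_mul, ← hkn, kC, classInner, ← Finset.mul_sum]
    simp only [MonoidHom.one_apply, Units.val_one, map_one, mul_one]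
    ring
  have hkle : ∀ ψ : IrrCharacter G, ∑ l, k ψ l ≤ charDegree (ψ : G → ℂ) := by
    intro ψ
    obtain ⟨n, hn, hle⟩ := exists_sum_kC_le hab hπ hker (Char.isCharacter_of_isIrr ψ.2)
    have hn' : charDegree (ψ : G → ℂ) = n := by
      rw [← Nat.cast_inj (R := ℂ), ← (irr_degree_eq ψ).1, hn]
    rw [hn']
    rw [Finset.sum_congr rfl fun l _ => hkn ψ l, ← Nat.cast_sum, Complex.norm_natCast] at hle
    exact_mod_cast hle
  have hk1triv : k (trivIrr G) 1 ≤ 1 :=
    le_trans (Finset.single_le_sum (fun _ _ => Nat.zero_le _) (Finset.mem_univ 1))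
      (htd ▸ hkle (trivIrr G))
  obtain ⟨η, hη, hcη, hkη⟩ : ∃ η, η ≠ trivIrr G ∧ c η ≠ 0 ∧ k η 1 ≠ 0 := by
    by_contra hno
    push Not at hno
    have : N ≤ 1 := by
      rw [hNsum, Finset.sum_eq_single (trivIrr G) (fun ψ _ hψ => ?_)
        (fun hc => absurd (Finset.mem_univ _) hc), hctriv, one_mul]
      · exact hk1triv
      · by_cases e : c ψ = 0
        · rw [e, zero_mul]
        · rw [hno ψ hψ e, mul_zero]
    omega
  have hηd : c η * charDegree (η : G → ℂ) + 1 ≤ f ^ 2 :=
    hrestdeg η (Finset.mem_erase.mpr ⟨hη, Finset.mem_univ _⟩)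
  have hηd' : charDegree (η : G → ℂ) + 1 ≤ f ^ 2 := le_trans
    (Nat.add_le_add_right (Nat.le_mul_of_pos_left _ (Nat.pos_of_ne_zero hcη)) 1) hηd
  have hsub := fun l => kC_sub hab hπ hker hM hU η l
  simp only [hkn] at hsub
  by_cases hB : η ∈ principalBlock M G
  swap
  · -- outside the principal block
    simp only [if_neg hB, sub_eq_zero, Nat.cast_inj] at hsub
    have h3 : Nat.card ((P : Subgroup G) →* ℂˣ) * 1 ≤ ∑ l, k η l := by
      rw [Nat.card_eq_fintype_card, ← Finset.card_univ, ← smul_eq_mul]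
      exact Finset.card_nsmul_le_sum _ _ _ fun l _ => by rw [← hsub l]; omega
    rw [mul_one, Char.card_hom_units] at h3
    have := hkle η
    omega
  simp only [if_pos hB] at hsub
  have hsubZ : ∀ l, (k η 1 : ℤ) - (k η l : ℤ) = coeff P η l := fun l => by
    apply Int.cast_injective (α := ℂ)
    push_cast
    exact hsub l
  by_cases hX : η ∈ D.X
  · -- trivial on `P`
    refine hnot η (hne1 η hη) fun y hy => ?_
    choose r hr using fun l => exists_nat_kP (P := P) (Char.isCharacter_of_isIrr η.2) l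
    have hrd : ∀ l, l ≠ 1 → (r 1 : ℤ) - r l = D.a h2 η := fun l hl => by
      rw [← D.coeff_eq h2 hX hl]
      apply Int.cast_injective (α := ℂ)
      push_cast
      rw [← kP_sub, hr, hr]
    have htot : charDegree (η : G → ℂ) = ∑ l, r l := by
      rw [← Nat.cast_inj (R := ℂ), ← (irr_degree_eq η).1, Nat.cast_sum,
        ← show (η : G → ℂ) ((1 : (P : Subgroup G)) : G) = (η : G → ℂ) 1 from rfl,
        ← sum_kP_mul hab (η : G → ℂ) 1]
      exact Finset.sum_congr rfl fun l _ => by rw [hr, map_one, Units.val_one, mul_one]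
    have hzero : ∀ l, l ≠ 1 → r l = 0 := by
      intro l hl
      by_contra hne
      have h3 : (Finset.univ.erase (1 : (P : Subgroup G) →* ℂˣ)).card • 1 ≤
          ∑ l' ∈ Finset.univ.erase 1, r l' := Finset.card_nsmul_le_sum _ _ _ fun l' hl' => by
        have e1 := hrd l hl
        have e2 := hrd l' (Finset.ne_of_mem_erase hl')
        omega
      rw [Finset.card_erase_of_mem (Finset.mem_univ _), Finset.card_univ,
        ← Nat.card_eq_fintype_card, Char.card_hom_units, smul_eq_mul, mul_one] at h3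
      have h4 := Finset.add_sum_erase Finset.univ r (Finset.mem_univ (1 : (P : Subgroup G) →* ℂˣ))
      omega
    have e : ∀ z : (P : Subgroup G), (η : G → ℂ) z = (r 1 : ℂ) := fun z => by
      rw [← sum_kP_mul hab (η : G → ℂ) z, Finset.sum_eq_single (1 : (P : Subgroup G) →* ℂˣ)
        (fun l _ hl => by rw [hr, hzero l hl, Nat.cast_zero, zero_mul])
        (fun hc => absurd (Finset.mem_univ _) hc), hr]
      simp
    exact (e ⟨y, hy⟩).trans (e 1).symm
  obtain ⟨o, rfl⟩ : η ∈ Set.range D.e := by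
    by_contra hn
    exact hX ⟨hB, hn⟩
  set k1 := k (D.e o) 1 with hk1
  -- the value of the multiplicities on the orbit and off it
  have hon : ∀ l : {l : (P : Subgroup G) →* ℂˣ // l ≠ 1}, (k (D.e o) l.1 : ℤ) =
      (k1 : ℤ) - D.k + if Quotient.mk (orbSetoid P) l = o then D.δ else 0 := fun l => by
    have e := hsubZ l.1
    rcases D.onY l o with ⟨e1, e2⟩ | ⟨e1, e2⟩ <;> rw [e1] at e
    · rw [if_pos e2.symm]; omega
    · rw [if_neg (Ne.symm e2)]; omega
  obtain ⟨o', ho'⟩ : ∃ o', o' ≠ o :=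
    Fintype.exists_ne_of_one_lt_card (by rw [← Nat.card_eq_fintype_card]; omega) o
  have hr0 : (0 : ℤ) ≤ (k1 : ℤ) - D.k := by
    have e := hon (Quotient.out o')
    rw [if_neg (by rw [Quotient.out_eq]; exact ho'), add_zero] at e
    omega
  have hdelta : (0 : ℤ) ≤ (k1 : ℤ) - D.k + D.δ := by
    have e := hon (Quotient.out o)
    rw [if_pos (Quotient.out_eq o)] at e
    omega
  have htotal : ((∑ l, k (D.e o) l : ℕ) : ℤ) =
      k1 + m * (t * ((k1 : ℤ) - D.k) + D.δ) := by
    rw [Nat.cast_sum, ← Finset.add_sum_erase _ _ (Finset.mem_univ (1 : (P : Subgroup G) →* ℂˣ)),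
      Finset.sum_subtype (p := fun l : (P : Subgroup G) →* ℂˣ => l ≠ 1)
        (Finset.univ.erase (1 : (P : Subgroup G) →* ℂˣ)) (fun l => by simp)
        (fun l => (k (D.e o) l : ℤ)), Finset.sum_congr rfl fun l _ => hon l,
      ← Finset.sum_fiberwise Finset.univ (Quotient.mk (orbSetoid P))]
    congr 1
    rw [Finset.sum_congr rfl (g := fun u => (m : ℤ) * ((k1 : ℤ) - D.k + if u = o then D.δ else 0))
      fun u _ => ?_, ← Finset.mul_sum, Finset.sum_add_distrib, Finset.sum_const,
      Finset.sum_ite_eq' Finset.univ o (fun _ => D.δ), if_pos (Finset.mem_univ _), nsmul_eq_mul,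
      Finset.card_univ, ← Nat.card_eq_fintype_card]
    rw [Finset.sum_congr rfl (g := fun _ => (k1 : ℤ) - D.k + if u = o then D.δ else 0) fun l hl => by
      rw [(Finset.mem_filter.mp hl).2], Finset.sum_const, nsmul_eq_mul]
    congr 2
    rw [hmdef, ← card_fiber P hab hfrob u, Nat.card_eq_fintype_card, Fintype.card_subtype]
  have hle := hkle (D.e o)
  have hdq : ((charDegree (D.e o : G → ℂ) : ℕ) : ℤ) + 2 ≤ (t : ℤ) * m := by
    have h3 : charDegree (D.e o : G → ℂ) + 2 ≤ t * m := by omega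
    exact_mod_cast h3
  have hleZ : (k1 : ℤ) + m * (t * ((k1 : ℤ) - D.k) + D.δ) ≤ charDegree (D.e o : G → ℂ) := by
    rw [← htotal]; exact_mod_cast hle
  have hmZ : (1 : ℤ) ≤ m := by exact_mod_cast hmpos
  have htZ : (2 : ℤ) ≤ t := by exact_mod_cast h2
  have hk1pos : (1 : ℤ) ≤ k1 := by exact_mod_cast Nat.pos_of_ne_zero hkη
  rcases eq_or_lt_of_le hr0 with hr | hr
  · -- the constant equals the multiplicity
    have hδ : D.δ = 1 := by rcases D.sign with e | e <;> omega
    have hsq := sum_sq hM hab hfrob D h2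
    have hrel := regular_relation hM hab hfrob D h2 o (g := 1)
      (by rw [orderOf_one, Nat.dvd_one]; exact hM.1.ne_one)
    have hone := one_mem_X hM hab hfrob D h2 (χ := trivIrr G) rfl
    have hS : (2 : ℤ) ≤ ∑ ψ : IrrCharacter G with ψ ∈ D.X, D.a h2 ψ ^ 2 := by
      obtain ⟨ψ, hψX, hψneg⟩ : ∃ ψ ∈ D.X, D.a h2 ψ < 0 := by
        by_contra hno
        push Not at hno
        have hrelZ : ((t : ℤ) * D.k - D.δ) * charDegree (D.e o : G → ℂ) +
            ∑ ψ : IrrCharacter G with ψ ∈ D.X, D.a h2 ψ * (charDegree (ψ : G → ℂ) : ℤ) = 0 := by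
          apply Int.cast_injective (α := ℂ)
          push_cast
          rw [← hrel, (irr_degree_eq (D.e o)).1, htdef]
          congr 1
          exact Finset.sum_congr rfl fun ψ _ => by rw [(irr_degree_eq ψ).1]
        have hs1 : D.a h2 (trivIrr G) * (charDegree (trivIrr G : G → ℂ) : ℤ) ≤
            ∑ ψ : IrrCharacter G with ψ ∈ D.X, D.a h2 ψ * (charDegree (ψ : G → ℂ) : ℤ) :=
          Finset.single_le_sum (f := fun ψ => D.a h2 ψ * (charDegree (ψ : G → ℂ) : ℤ))
            (fun ψ hψ => mul_nonneg (hno ψ (Finset.mem_filter.mp hψ).2) (Int.natCast_nonneg _))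
            (Finset.mem_filter.mpr ⟨Finset.mem_univ _, hone.1⟩)
        rw [hone.2, htd] at hs1
        have hp1 : (0 : ℤ) ≤ ((t : ℤ) * D.k - D.δ) * charDegree (D.e o : G → ℂ) :=
          mul_nonneg (by nlinarith) (Int.natCast_nonneg _)
        push_cast at hs1
        omega
      have hne : ψ ≠ trivIrr G := fun e => by rw [e, hone.2] at hψneg; omega
      have h6 := Finset.add_le_sum (f := fun χ => D.a h2 χ ^ 2)
        (s := Finset.univ.filter fun χ => χ ∈ D.X) (fun χ _ => sq_nonneg _)
        (Finset.mem_filter.mpr ⟨Finset.mem_univ _, hψX⟩)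
        (Finset.mem_filter.mpr ⟨Finset.mem_univ _, hone.1⟩) hne
      simp only [hone.2, one_pow] at h6
      have : 0 < D.a h2 ψ ^ 2 := pow_two_pos_of_ne_zero hψneg.ne
      omega
    have hk2 : (1 : ℤ) ≤ D.k ^ 2 := by nlinarith
    have h7 : (t : ℤ) - 1 ≤ ((t : ℤ) - 1) * D.k ^ 2 := le_mul_of_one_le_right (by omega) hk2
    have h8 : (0 : ℤ) ≤ (D.k - D.δ) ^ 2 := sq_nonneg _
    rw [← htdef, ← hmdef] at hsq
    have h9 : (t : ℤ) ≤ m := by omega
    have h10 : t ≤ m := by exact_mod_cast h9
    have h11 : t * m ≤ f ^ 2 := by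
      rw [sq]; exact Nat.mul_le_mul (h10.trans hmf) hmf
    omega
  · rcases D.sign with hδ | hδ
    · rw [hδ] at hleZ
      have e1 : (m : ℤ) * t ≤ m * ((t : ℤ) * ((k1 : ℤ) - D.k) + 1) :=
        mul_le_mul_of_nonneg_left (by
          have := mul_le_mul_of_nonneg_left (show (1 : ℤ) ≤ (k1 : ℤ) - D.k by omega)
            (show (0 : ℤ) ≤ t by omega)
          linarith) (by omega)
      linarith
    · rw [hδ] at hleZ
      by_cases hr2 : (2 : ℤ) ≤ (k1 : ℤ) - D.k
      · have e1 : (m : ℤ) * t ≤ m * ((t : ℤ) * ((k1 : ℤ) - D.k) + -1) :=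
          mul_le_mul_of_nonneg_left (by
            have := mul_le_mul_of_nonneg_left hr2 (show (0 : ℤ) ≤ t by omega)
            linarith) (by omega)
        linarith
      have hreq : (k1 : ℤ) - D.k = 1 := by omega
      rw [hreq] at hleZ
      have hd' : k1 + (t - 1) * m ≤ charDegree (D.e o : G → ℂ) := by
        have : ((k1 + (t - 1) * m : ℕ) : ℤ) ≤ charDegree (D.e o : G → ℂ) := by
          push_cast [Nat.cast_sub (show 1 ≤ t by omega)]
          linarith
        exact_mod_cast this
      have htm : (t - 1) * m + m = t * m := by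
        rw [← Nat.succ_mul]; congr 1; omega
      have hm2 : m ≤ (t - 1) * m := Nat.le_mul_of_pos_left _ (by omega)
      have hc1 : c (D.e o) = 1 := by
        by_contra hne
        have : 2 * charDegree (D.e o : G → ℂ) ≤ c (D.e o) * charDegree (D.e o : G → ℂ) :=
          Nat.mul_le_mul_right _ (by omega)
        omega
      have hothers : ∀ ψ, ψ ≠ trivIrr G → ψ ≠ D.e o → c ψ = 0 := by
        intro ψ hψ1 hψ2
        by_contra hne
        have h12 : c (D.e o) * charDegree (D.e o : G → ℂ) + c ψ * charDegree (ψ : G → ℂ) + 1 ≤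
            f ^ 2 := by
          rw [← hsumdeg, ← Finset.add_sum_erase _ _ (Finset.mem_univ (trivIrr G)), hctriv, htd,
            mul_one, add_comm 1]
          exact Nat.add_le_add_right (Finset.add_le_sum
            (f := fun ψ => c ψ * charDegree (ψ : G → ℂ)) (fun _ _ => Nat.zero_le _)
            (Finset.mem_erase.mpr ⟨hη, Finset.mem_univ _⟩)
            (Finset.mem_erase.mpr ⟨hψ1, Finset.mem_univ _⟩) hψ2.symm) 1
        have h13 : m ≤ c ψ * charDegree (ψ : G → ℂ) :=
          (hdegge ψ (hne1 ψ hψ1)).trans (Nat.le_mul_of_pos_left _ (Nat.pos_of_ne_zero hne))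
        rw [hc1, one_mul] at h12
        omega
      have hNle : N ≤ 1 + k1 := by
        rw [hNsum, ← Finset.add_sum_erase _ _ (Finset.mem_univ (trivIrr G)),
          Finset.sum_eq_single (D.e o) (fun ψ hψ hψ2 => by
            rw [hothers ψ (Finset.ne_of_mem_erase hψ) hψ2, zero_mul])
            (fun hc => absurd (Finset.mem_erase.mpr ⟨hη, Finset.mem_univ _⟩) hc),
          hctriv, hc1, one_mul, one_mul]
        omega
      omega

theorem eq_trivial_of_const {ψ : IrrCharacter G} (hconst : ∀ g : G, (ψ : G → ℂ) g = (ψ : G → ℂ) 1) :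
    (ψ : G → ℂ) = fun _ => 1 := by
  have h := Char.classInner_irr_self ψ.2
  simp only [classInner, hconst, Finset.sum_const, Finset.card_univ, nsmul_eq_mul,
    ← Nat.card_eq_fintype_card, inv_mul_cancel_left₀
      (Nat.cast_ne_zero.mpr (Nat.card_pos (α := G)).ne' : (Nat.card G : ℂ) ≠ 0)] at h
  rw [(irr_degree_eq ψ).1, Complex.conj_natCast] at h
  have hd : charDegree (ψ : G → ℂ) = 1 := by
    have h' : charDegree (ψ : G → ℂ) * charDegree (ψ : G → ℂ) = 1 := by exact_mod_cast h
    exact Nat.eq_one_of_mul_eq_one_left h'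
  exact funext fun g => by rw [hconst, (irr_degree_eq ψ).1, hd, Nat.cast_one]

/-- Either a proper normal subgroup contains `P`, or small irreducible characters are linear. -/
theorem exists_normal_or_linear (hU : UniformCent P) :
    (∃ K : Subgroup G, K.Normal ∧ K ≠ ⊤ ∧ (P : Subgroup G) ≤ K) ∨
      ((∀ ψ : IrrCharacter G, (∀ y ∈ (P : Subgroup G), (ψ : G → ℂ) y = (ψ : G → ℂ) 1) →
          (ψ : G → ℂ) = fun _ => 1) ∧
        ∀ χ : IrrCharacter G, (χ : G → ℂ) ≠ (fun _ => 1) →
          charDegree (χ : G → ℂ) ^ 2 + 2 ≤ Nat.card P → charDegree (χ : G → ℂ) = 1) := by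
  by_cases h : ∀ ψ : IrrCharacter G, (∀ y ∈ (P : Subgroup G), (ψ : G → ℂ) y = (ψ : G → ℂ) 1) →
      (ψ : G → ℂ) = fun _ => 1
  · exact Or.inr ⟨h, fun χ h1 hd => degree_eq_one hU h χ h1 hd⟩
  · push Not at h
    obtain ⟨ψ, hψ, hne⟩ := h
    obtain ⟨K, hK, hmem, -⟩ := Char.exists_kernel (Char.isCharacter_of_isIrr ψ.2)
    refine Or.inl ⟨K, hK, fun e => hne (eq_trivial_of_const fun g => (hmem g).mp ?_),
      fun y hy => (hmem y).mpr (hψ y hy)⟩
    rw [e]; exact Subgroup.mem_top g

/-- Small linear character: the normalizer centralizes `P`. -/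
theorem normalizer_le_centralizer_of_linear (hU : UniformCent P)
    (hns : ∀ ψ : IrrCharacter G, (∀ y ∈ (P : Subgroup G), (ψ : G → ℂ) y = (ψ : G → ℂ) 1) →
      (ψ : G → ℂ) = fun _ => 1)
    {χ : IrrCharacter G} (h1 : (χ : G → ℂ) ≠ fun _ => 1) (hd : charDegree (χ : G → ℂ) = 1) :
    Subgroup.normalizer ((P : Subgroup G) : Set G) ≤
      Subgroup.centralizer ((P : Subgroup G) : Set G) := by
  classical
  haveI := Fintype.ofFinite (P : Subgroup G)
  have hab := hU.commutative
  have hdeg : (χ : G → ℂ) 1 = 1 := by rw [(irr_degree_eq χ).1, hd, Nat.cast_one]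
  set l := (Char.linearHom (Char.isCharacter_of_isIrr χ.2) hdeg).comp (P : Subgroup G).subtype
  have hl : l ≠ 1 := fun e => h1 (hns χ fun y hy => by
    have := congrArg Units.val (DFunLike.congr_fun e ⟨y, hy⟩)
    simp only [MonoidHom.one_apply, Units.val_one] at this
    rw [hdeg]
    exact this)
  intro n hn
  by_contra hnc
  refine hl (eq_one_of_comp_eq (fun a b => mul_comm' (a := a) (b := b))
    (w := (P : Subgroup G).normalizerMonoidHom ⟨n, hn⟩)
    (fun a ha => autG_fpf P hU.isFrob ⟨_, rfl⟩ (fun e => hnc ?_) ha) ?_)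
  · rw [← MonoidHom.mem_ker, Subgroup.normalizerMonoidHom_ker] at e
    exact e
  · refine MonoidHom.ext fun y => Units.ext ?_
    show (χ : G → ℂ) (n * (y : G) * n⁻¹) = (χ : G → ℂ) y
    exact irr_classFunction χ (y : G) n

/-- A faithful character of small degree forces a normal Sylow subgroup. -/
theorem sylow_normal_of_small (hU : UniformCent P) {χ : G → ℂ} (hχ : IsCharacter G χ)
    (hfaith : ∀ g : G, χ g = χ 1 → g = 1) {d : ℕ} (hd : χ 1 = d) (hdeg : d ^ 2 + 2 ≤ Nat.card P)
    (hIH : ∀ K : Subgroup G, K ≠ ⊤ → ∀ hle : (P : Subgroup G) ≤ K,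
      ((P.subtype hle : Sylow p K) : Subgroup K).Normal) :
    (P : Subgroup G).Normal := by
  classical
  rcases exists_normal_or_linear hU with ⟨K, hK, hKtop, hle⟩ | ⟨-, hlin⟩
  · haveI := hIH K hKtop hle
    haveI := (P.subtype hle).characteristic_of_normal this
    have h := ConjAct.normal_of_characteristic_of_normal (H := K)
      (K := ((P.subtype hle : Sylow p K) : Subgroup K))
    have e : ((P.subtype hle : Sylow p K) : Subgroup K).map K.subtype = (P : Subgroup G) :=
      (Subgroup.map_subgroupOf_eq_of_le hle :)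
    rwa [e] at h
  · obtain ⟨c, hc⟩ := Char.exists_multiplicities hχ
    have hcval : ∀ g, χ g = ∑ ψ : IrrCharacter G, (c ψ : ℂ) * (ψ : G → ℂ) g := fun g => by
      have := congrFun hc g
      simpa using this
    have hone : ∀ ψ : IrrCharacter G, c ψ ≠ 0 → (ψ : G → ℂ) 1 = 1 := by
      intro ψ hψ
      by_cases h1 : (ψ : G → ℂ) = fun _ => 1
      · rw [h1]
      have hle : charDegree (ψ : G → ℂ) ≤ d := by
        have hs : ((∑ ψ, c ψ * charDegree (ψ : G → ℂ) : ℕ) : ℂ) = d := by
          rw [← hd, hcval, Nat.cast_sum]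
          exact Finset.sum_congr rfl fun ψ _ => by rw [Nat.cast_mul, (irr_degree_eq ψ).1]
        rw [← Nat.cast_inj.mp hs]
        exact (Nat.le_mul_of_pos_left _ (Nat.pos_of_ne_zero hψ)).trans
          (Finset.single_le_sum (f := fun ψ => c ψ * charDegree (ψ : G → ℂ))
            (fun _ _ => Nat.zero_le _) (Finset.mem_univ ψ))
      rw [(irr_degree_eq ψ).1, hlin ψ h1 (le_trans
        (Nat.add_le_add_right (Nat.pow_le_pow_left hle 2) 2) hdeg), Nat.cast_one]
    have hcomm : ∀ a b : G, a * b = b * a := by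
      intro a b
      have : a * b * a⁻¹ * b⁻¹ = 1 := hfaith _ (by
        rw [hcval, hcval]
        refine Finset.sum_congr rfl fun ψ _ => ?_
        by_cases hψ : c ψ = 0
        · simp [hψ]
        · congr 1
          set L := Char.linearHom (Char.isCharacter_of_isIrr ψ.2) (hone ψ hψ)
          show ((L (a * b * a⁻¹ * b⁻¹) : ℂˣ) : ℂ) = _
          rw [map_mul, map_mul, map_mul, map_inv, map_inv, mul_comm (L a) (L b),
            mul_inv_cancel_right, mul_inv_cancel, Units.val_one, hone ψ hψ])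
      have := eq_mul_of_mul_inv_eq (mul_inv_eq_one.mp this)
      exact this
    refine ⟨fun x hx g => ?_⟩
    rw [hcomm g x, mul_inv_cancel_right]
    exact hx

end CfsgLib.Blocks.AbelianFrob
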