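import Cfsg.Agent.Lib.Blocks.SectionOrth
import Cfsg.Agent.Lib.Transfer.Basic

/-!
# The principal block and quotients; principal coefficients of functions on a `p`-subgroup
-/

set_option autoImplicit false
set_option linter.unusedSectionVars false

namespace CfsgLib.Blocks

open Cfsg
open scoped ComplexConjugate CfsgLib.Char

variable {p : ℕ} {M : Ideal AlgInt} {G : Type*} [Group G] [Fintype G]

/-- With a normal `p`-complement the principal block consists of the characters of the quotient. -/
theorem sum_sq_degree_principal_of_npc (hM : IsPModular p M) (h : HasNormalPComplement p G)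
    (P : Sylow p G) :
    ∑ᶠ ψ ∈ principalBlock M G, charDegree (ψ : G → ℂ) ^ 2 = Nat.card P := by
  classical
  have := isPrime_of_isPModular hM
  have : Fact p.Prime := ⟨hM.1⟩
  set N := pResidual p G with hNdef
  have : N.Normal := Transfer.pResidual_normal p G
  have hNc : (Nat.card N).Coprime p :=
    ((hM.1.coprime_iff_not_dvd).mpr (Transfer.hasNormalPComplement_iff_pResidual.mp h)).symm
  have hQ : IsPGroup p (G ⧸ N) := Transfer.isPGroup_quotient_pResidual
  have : Fintype (G ⧸ N) := Fintype.ofFinite _
  set f := QuotientGroup.mk' N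
  have hf : Function.Surjective f := QuotientGroup.mk'_surjective _
  have hB : principalBlock M G = Set.range (inflate f hf) := by
    ext χ
    constructor
    · intro hχ
      obtain ⟨η, hη⟩ := exists_inflate_eq_of_ker N χ (trivial_on_of_mem_principalBlock hM N
        ((hM.1.coprime_iff_not_dvd).mp hNc.symm) hχ)
      exact ⟨η, hη.symm⟩
    · rintro ⟨η, rfl⟩
      have := sameBlock_inflate (M := M) f hf (sameBlock_of_isPGroup hM hQ (trivIrr _) η)
      rw [principalBlock_eq]
      exact mem_blockOf_iff.mpr this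
  rw [hB, finsum_mem_range (inflate_injective f hf), finsum_eq_sum_of_fintype]
  have hcard : Nat.card (G ⧸ N) = Nat.card P := (Transfer.isComplement'_sylow hNc hQ P).symm.index_eq_card
  rw [← hcard]
  have hd : ∀ η : IrrCharacter (G ⧸ N), charDegree (inflate f hf η : G → ℂ) =
      charDegree (η : G ⧸ N → ℂ) := fun η => by
    show ⌊((η : G ⧸ N → ℂ) (f 1)).re⌋₊ = _
    rw [map_one]; rfl
  have key : ((∑ η : IrrCharacter (G ⧸ N), charDegree (inflate f hf η : G → ℂ) ^ 2 : ℕ) : ℂ) =
      (Nat.card (G ⧸ N) : ℂ) := by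
    rw [← Char.sum_sq_degree, Nat.cast_sum]
    exact Finset.sum_congr rfl fun η _ => by rw [hd, Nat.cast_pow, ← (irr_degree_eq η).1]
  exact_mod_cast key

/-- For a central `p`-kernel only members of the principal block inflate into it. -/
theorem mem_principalBlock_of_inflate_central (hM : IsPModular p M) {G' : Type*} [Group G']
    [Fintype G'] (f : G →* G') (hf : Function.Surjective f) (hker : IsPGroup p f.ker)
    (hc : ∀ k ∈ f.ker, ∀ g : G, Commute k g) {η : IrrCharacter G'}
    (h : inflate f hf η ∈ principalBlock M G) : η ∈ principalBlock M G' := by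
  classical
  have := isPrime_of_isPModular hM
  have : Fact p.Prime := ⟨hM.1⟩
  by_contra hη
  set B := principalBlock M G'
  have hB : IsBlockUnion M B := IsPBlock.isBlockUnion isPBlock_principalBlock
  set F : G → ℂ := fun c => if IsPRegular p c then blockCoeff B (f c) else 0
  have hF : IsClassFunction G F := fun c b => by
    refine if_congr ?_ ?_ rfl
    · simp only [IsPRegular, Transfer.orderOf_conj]
    · simp only [map_mul, map_inv, isClassFunction_blockCoeff B (f c) (f b)]
  have hloc : ∀ c, MemLocalRing M (F c) := fun c => by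
    simp only [F]
    split
    exacts [memLocalRing_blockCoeff hB _, memLocalRing_zero]
  have hreg : ∀ c : G, IsPRegular p c → IsPRegular p (f c) := fun c hc h' =>
    hc (h'.trans (orderOf_map_dvd f c))
  have hω : ∀ ψ : IrrCharacter G',
      omega (inflate f hf ψ : G → ℂ) F = omega (ψ : G' → ℂ) (blockCoeff B) := by
    intro ψ
    rw [omega, omega, show (inflate f hf ψ : G → ℂ) 1 = (ψ : G' → ℂ) 1 from
      congrArg (ψ : G' → ℂ) (map_one f)]
    congr 1
    rw [← Finset.sum_filter_add_sum_filter_not Finset.univ (fun c : G => IsPRegular p c),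
      ← Finset.sum_filter_add_sum_filter_not Finset.univ (fun c : G' => IsPRegular p c),
      Finset.sum_eq_zero (s := Finset.univ.filter fun c : G => ¬ IsPRegular p c) fun c hc => by
        simp only [F, (Finset.mem_filter.mp hc).2, if_false, zero_mul],
      Finset.sum_eq_zero (s := Finset.univ.filter fun c : G' => ¬ IsPRegular p c) fun c hc => by
        rw [blockCoeff_eq_zero_of_not_regular hM hB (Finset.mem_filter.mp hc).2, zero_mul],
      add_zero, add_zero]
    refine Finset.sum_bij (fun c _ => f c) (fun c hc => ?_) (fun c hcc c' hc' e => ?_)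
      (fun g' hg' => ?_) (fun c hc => ?_)
    · exact Finset.mem_filter.mpr ⟨Finset.mem_univ _, hreg c (Finset.mem_filter.mp hc).2⟩
    · have hk : c⁻¹ * c' ∈ f.ker := by simp [MonoidHom.mem_ker, e]
      obtain ⟨j, hj⟩ := IsPGroup.iff_orderOf.mp hker ⟨_, hk⟩
      have h1 := isPPart_mul (p := p) (hc _ hk c) ⟨j, (Subgroup.orderOf_coe _).trans hj⟩
        (Finset.mem_filter.mp hcc).2
      rw [(hc _ hk c).eq, mul_inv_cancel_left] at h1
      have h2 := isPPart_mul (p := p) (Commute.one_left c') ⟨0, by simp⟩
        (Finset.mem_filter.mp hc').2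
      rw [one_mul] at h2
      exact (inv_mul_eq_one.mp (IsPPart.unique hM.1 h1 h2))
    · have hg : IsPRegular p g' := (Finset.mem_filter.mp hg').2
      obtain ⟨a, rfl⟩ := hf g'
      obtain ⟨e, m, hm, hno, hq, hpart⟩ := Transfer.exists_pow_coprime_part (p := p) a
      have hcop : (p ^ e).Coprime (orderOf (f a)) :=
        ((hM.1.coprime_iff_not_dvd).mpr hg).pow_left e
      obtain ⟨i, hi⟩ := exists_pow_eq_self_of_coprime (x := f a) hcop
      refine ⟨(a ^ p ^ e) ^ i, Finset.mem_filter.mpr ⟨Finset.mem_univ _, fun h' => ?_⟩, ?_⟩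
      · exact (hM.1.coprime_iff_not_dvd).mp hq.symm (h'.trans (orderOf_pow_dvd _))
      · rw [map_pow, map_pow, hi]
    · simp only [F, (Finset.mem_filter.mp hc).2, if_true]
      rfl
  have hT : trivIrr G' ∈ B := by
    show _ ∈ principalBlock M G'
    rw [principalBlock_eq]
    exact mem_blockOf_self (trivIrr G')
  have hd := sub_mem_localIdeal_of_sameBlock (χ := inflate f hf (trivIrr G')) (ψ := inflate f hf η)
    h hF hloc
  rw [hω, hω, omega_blockCoeff, omega_blockCoeff, indVec_of_mem hT, indVec_of_notMem hη, sub_zero,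
    show (1 : ℂ) = ((1 : ℕ) : ℂ) from Nat.cast_one.symm, memLocalIdeal_natCast_iff hM] at hd
  exact hM.1.not_dvd_one hd

/-- The principal coefficients of a class function on a `p`-subgroup `P` supported on a set where
`P` controls fusion. -/
theorem sum_principal_coeff_sq (hM : IsPModular p M) (P : Subgroup G) [Fintype P] (hP : IsPGroup p P)
    (U : Set G) {θ : P → ℂ} (hθ : IsClassFunction P θ) (hθU : ∀ y : P, (y : G) ∉ U → θ y = 0)
    (hfus : ∀ u : P, (u : G) ∈ U → ∀ v : P, (v : G) ∈ U → IsConj (u : G) (v : G) → IsConj u v)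
    (hw : ∀ u : P, (u : G) ∈ U →
      ∑ᶠ ψ ∈ principalBlock M ↥(Subgroup.centralizer ({(u : G)} : Set G)),
        charDegree (ψ : ↥(Subgroup.centralizer ({(u : G)} : Set G)) → ℂ) ^ 2 =
        Nat.card (Subgroup.centralizer ({u} : Set P)))
    [DecidablePred (· ∈ principalBlock M G)] :
    ∑ χ : IrrCharacter G with χ ∈ principalBlock M G,
      classInner θ (fun y : P => (χ : G → ℂ) y) * conj (classInner θ (fun y : P => (χ : G → ℂ) y)) =
      classInner θ θ := by
  classical
  have := isPrime_of_isPModular hM
  have : Fact p.Prime := ⟨hM.1⟩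
  have hord : ∀ y : P, ∃ k : ℕ, orderOf (y : G) = p ^ k := fun y => by
    obtain ⟨k, hk⟩ := (IsPGroup.iff_orderOf.mp hP) y
    exact ⟨k, (Subgroup.orderOf_coe y).trans hk⟩
  have hS : ∀ u v : P, (u : G) ∈ U → (v : G) ∈ U →
      ∑ χ : IrrCharacter G with χ ∈ principalBlock M G, conj ((χ : G → ℂ) u) * (χ : G → ℂ) v =
        ((Finset.univ.filter fun n : P => n * u * n⁻¹ = v).card : ℂ) := by
    intro u v hu hv
    by_cases hc : IsConj (u : G) (v : G)
    · obtain ⟨m, hm⟩ := isConj_iff.mp (hfus u hu v hv hc)
      have hval : ∀ χ : IrrCharacter G, (χ : G → ℂ) v = (χ : G → ℂ) u := fun χ => by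
        rw [← hm, Subgroup.coe_mul, Subgroup.coe_mul, Subgroup.coe_inv]
        exact irr_classFunction χ (u : G) m
      have h := sum_principal_norm_sq hM (hord u)
      rw [hw u hu] at h
      rw [Finset.sum_congr rfl fun χ _ => by rw [hval χ, mul_comm], h, Nat.card_eq_fintype_card,
        ← Finset.card_univ]
      congr 1
      refine Finset.card_bij (fun c _ => m * (c : P)) (fun c _ => ?_)
        (fun c _ c' _ e => Subtype.ext (mul_left_cancel e)) fun n hn => ?_
      · refine Finset.mem_filter.mpr ⟨Finset.mem_univ _, ?_⟩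
        rw [show m * (c : P) * u * (m * (c : P))⁻¹ = m * ((c : P) * u) * (c : P)⁻¹ * m⁻¹ by group,
          Subgroup.mem_centralizer_singleton_iff.mp c.2, ← hm]
        group
      · refine ⟨⟨m⁻¹ * n, Subgroup.mem_centralizer_singleton_iff.mpr ?_⟩, Finset.mem_univ _,
          mul_inv_cancel_left _ _⟩
        calc m⁻¹ * n * u = m⁻¹ * (n * u * n⁻¹) * n := by group
          _ = m⁻¹ * (m * u * m⁻¹) * n := by rw [(Finset.mem_filter.mp hn).2, hm]
          _ = u * (m⁻¹ * n) := by group
    · have h := sum_block_conj_eq_zero_of_section hM (B := principalBlock M G) isPBlock_principalBlock (g := (v : G))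
        (hord u) fun k hk hreg h =>
          hc (conj_eq_of_isConj_mul hM.1 (hord u) (hord v) hk hreg h)
      have h' := congrArg conj h
      rw [map_zero, map_sum] at h'
      rw [Finset.filter_eq_empty_iff.mpr (fun n _ (e : n * u * n⁻¹ = v) => hc (isConj_iff.mpr ⟨(n : G), by rw [← e]; rfl⟩)),
        Finset.card_empty, Nat.cast_zero, ← h']
      exact Finset.sum_congr rfl fun χ _ => by rw [map_mul, Complex.conj_conj]
  have key : ∑ χ : IrrCharacter G with χ ∈ principalBlock M G, (∑ u : P, θ u * conj ((χ : G → ℂ) u)) *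
      conj (∑ v : P, θ v * conj ((χ : G → ℂ) v)) =
      (Nat.card P : ℂ) * ∑ u : P, θ u * conj (θ u) := by
    simp only [map_sum, map_mul, Complex.conj_conj]
    simp only [Finset.sum_mul]
    simp only [Finset.mul_sum]
    rw [Finset.sum_comm]
    refine Finset.sum_congr rfl fun u _ => ?_
    rw [Finset.sum_comm]
    by_cases hu : (u : G) ∈ U
    swap
    · simp [hθU u hu]
    have h2 : ∀ v : P, ∑ χ : IrrCharacter G with χ ∈ principalBlock M G,
        θ u * conj ((χ : G → ℂ) u) * (conj (θ v) * (χ : G → ℂ) v) =
          θ u * conj (θ v) * ((Finset.univ.filter fun n : P => n * u * n⁻¹ = v).card : ℂ) := by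
      intro v
      by_cases hv : (v : G) ∈ U
      · rw [← hS u v hu hv, Finset.mul_sum]
        exact Finset.sum_congr rfl fun χ _ => by ring
      · simp [hθU v hv]
    rw [Finset.sum_congr rfl fun v _ => h2 v, Finset.sum_congr rfl fun v _ =>
      show θ u * conj (θ v) * ((Finset.univ.filter fun n : P => n * u * n⁻¹ = v).card : ℂ) =
        ∑ n ∈ Finset.univ.filter fun n : P => n * u * n⁻¹ = v, θ u * conj (θ (n * u * n⁻¹)) by
      rw [Finset.sum_congr rfl fun n hn => by rw [(Finset.mem_filter.mp hn).2], Finset.sum_const,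
        nsmul_eq_mul, mul_comm], Finset.sum_fiberwise]
    simp only [hθ u, Finset.sum_const, Finset.card_univ, nsmul_eq_mul, Nat.card_eq_fintype_card]
  have hn : (Nat.card P : ℂ) ≠ 0 := Nat.cast_ne_zero.mpr Nat.card_pos.ne'
  simp only [classInner, map_mul, map_inv₀, map_natCast]
  rw [Finset.sum_congr rfl (g := fun χ : IrrCharacter G => (Nat.card P : ℂ)⁻¹ * (Nat.card P : ℂ)⁻¹ *
    ((∑ u : P, θ u * conj ((χ : G → ℂ) u)) * conj (∑ v : P, θ v * conj ((χ : G → ℂ) v))))
    fun χ _ => by simp only [map_sum, map_mul, Complex.conj_conj]; ring, ← Finset.mul_sum, key]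
  field_simp

/-- A sum over the group, collected by `p`-parts. -/
theorem sum_eq_sum_pPart_fibers (hp : p.Prime) [DecidablePred fun x : G => ∃ k : ℕ, orderOf x = p ^ k]
    [∀ x : G, DecidablePred fun r : G => Commute x r ∧ IsPRegular p r] (F : G → ℂ) :
    ∑ c : G, F c = ∑ x : G with ∃ k : ℕ, orderOf x = p ^ k,
      ∑ r : G with Commute x r ∧ IsPRegular p r, F (x * r) := by
  classical
  rw [Finset.sum_sigma']
  symm
  refine Finset.sum_bij (fun i _ => i.1 * i.2) (fun i _ => Finset.mem_univ _)
    (fun i hi j hj e => ?_) (fun c _ => ?_) (fun i _ => rfl)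
  · simp only [Finset.mem_sigma, Finset.mem_filter, Finset.mem_univ, true_and] at hi hj
    have h1 := isPPart_mul (p := p) hi.2.1 hi.1 hi.2.2
    have h2 := isPPart_mul (p := p) hj.2.1 hj.1 hj.2.2
    rw [e] at h1
    have h := IsPPart.unique hp h1 h2
    rw [h] at e
    exact Sigma.ext h (heq_of_eq (mul_left_cancel e))
  · obtain ⟨y, h1, h2, h3, h4⟩ := (exists_isPPart hp c).choose_spec.1
    refine ⟨⟨(exists_isPPart hp c).choose, y⟩, ?_, h1⟩
    simp only [Finset.mem_sigma, Finset.mem_filter, Finset.mem_univ, true_and]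
    exact ⟨h3, h2, h4⟩

/-- Outside the principal block the regular sums at a section vanish against the principal block
of the centralizer. -/
theorem sum_regPart_mul_conj_eq_zero (hM : IsPModular p M) {x : G} (hx : ∃ k : ℕ, orderOf x = p ^ k)
    [Fintype (Subgroup.centralizer ({x} : Set G))] {χ : IrrCharacter G} (hχ : χ ∉ principalBlock M G)
    {ψ : IrrCharacter (Subgroup.centralizer ({x} : Set G))}
    (hψ : ψ ∈ principalBlock M (Subgroup.centralizer ({x} : Set G))) :
    ∑ r : Subgroup.centralizer ({x} : Set G),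
      regPart p (fun c : Subgroup.centralizer ({x} : Set G) => (χ : G → ℂ) (x * (c : G))) r *
        conj ((ψ : Subgroup.centralizer ({x} : Set G) → ℂ) r) = 0 := by
  classical
  have := isPrime_of_isPModular hM
  set θ := fun c : Subgroup.centralizer ({x} : Set G) => (χ : G → ℂ) (x * (c : G))
  have hθ : IsClassFunction _ θ := isClassFunction_translate (irr_classFunction χ)
  set B := principalBlock M (Subgroup.centralizer ({x} : Set G))
  have hnot : ¬ IsInducedBlock M (Subgroup.centralizer ({x} : Set G)) B
      (blockOf M (χ : G → ℂ)) := fun h => hχ ((IsInducedBlock.unique h (isInducedBlock_principal hM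
        (inducedBlockDefined_centralizer hM hx isPBlock_principalBlock))) ▸ mem_blockOf_self χ)
  have hz : ∀ r, regPart p θ r = ∑ ξ : IrrCharacter (Subgroup.centralizer ({x} : Set G)) with ξ ∉ B,
      classInner θ (ξ : Subgroup.centralizer ({x} : Set G) → ℂ) *
        regPart p (ξ : Subgroup.centralizer ({x} : Set G) → ℂ) r := by
    intro r
    by_cases hr : IsPRegular p r
    · have h0 := blockPart_eq_zero_of_not_induced hM hx (isPBlock_blockOf χ) (mem_blockOf_self χ)
        isPBlock_principalBlock hnot hr
      rw [blockPart_eq_filter] at h0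
      have he := congrFun (Char.classFunction_expansion hθ) r
      simp only [Finset.sum_apply, Pi.smul_apply, smul_eq_mul] at he
      rw [← Finset.sum_filter_add_sum_filter_not Finset.univ (· ∈ B), h0, zero_add] at he
      rw [regPart_of_regular hr, he]
      exact Finset.sum_congr rfl fun ξ _ => by rw [regPart_of_regular hr]
    · simp [regPart_of_singular hr]
  simp only [hz, Finset.sum_mul, mul_assoc]
  rw [Finset.sum_comm]
  refine Finset.sum_eq_zero fun ξ hξ => ?_
  rw [← Finset.mul_sum, mul_eq_zero]
  right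
  have h := congrArg conj (classInner_regPart_eq_zero hM (IsPBlock.isBlockUnion isPBlock_principalBlock)
    hψ (Finset.mem_filter.mp hξ).2)
  rw [map_zero, classInner, map_mul, map_inv₀, map_natCast, mul_eq_zero, map_sum] at h
  rw [← h.resolve_left (inv_ne_zero (Nat.cast_ne_zero.mpr Nat.card_pos.ne'))]
  refine Finset.sum_congr rfl fun r _ => ?_
  by_cases hr : IsPRegular p r
  · rw [regPart_of_regular hr, regPart_of_regular hr, map_mul, Complex.conj_conj, mul_comm]
  · rw [regPart_of_singular hr, regPart_of_singular hr, zero_mul, zero_mul, map_zero]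

end CfsgLib.Blocks
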