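import Cfsg.Agent.Lib.Blocks.PrincipalColumn
import Cfsg.Agent.Lib.Blocks.PrincipalQuot
import Cfsg.Agent.Lib.Char.Counting
import Cfsg.Agent.Lib.Char.IntegerCoherence
import Cfsg.Agent.Lib.Char.CMValue

/-!
# The principal block for an abelian Sylow subgroup with Frobenius action of its normalizer
-/

set_option autoImplicit false
set_option linter.unusedSectionVars false
set_option linter.style.haveILetI false

namespace CfsgLib.Blocks.AbelianFrob

open Cfsg
open scoped ComplexConjugate CfsgLib.Char IsMulCommutative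

section Dual

variable {A : Type*} [Group A] [Fintype A]

theorem conj_hom (ψ : A →* ℂˣ) (a : A) : conj ((ψ a : ℂˣ) : ℂ) = ((ψ a⁻¹ : ℂˣ) : ℂ) :=
  (Char.value_inv_eq_conj (Char.isCharacter_monoidHom ψ) a).symm

theorem sum_apply [DecidableEq (A →* ℂˣ)] (ψ : A →* ℂˣ) :
    ∑ a, ((ψ a : ℂˣ) : ℂ) = if ψ = 1 then (Nat.card A : ℂ) else 0 := by
  split_ifs with h
  · subst h; simp [Nat.card_eq_fintype_card]
  · refine sum_hom_units_eq_zero ((Units.coeHom ℂ).comp ψ) fun e => h ?_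
    ext a
    simpa using DFunLike.congr_fun e a

theorem sum_hom_apply [Fintype (A →* ℂˣ)] [DecidableEq A] (hA : ∀ a b : A, a * b = b * a) (a : A) :
    ∑ ψ : A →* ℂˣ, ((ψ a : ℂˣ) : ℂ) = if a = 1 then (Nat.card A : ℂ) else 0 := by
  let _ : CommGroup A := { ‹Group A› with mul_comm := hA }
  split_ifs with h
  · subst h
    rw [← Char.card_hom_units A]
    simp [Nat.card_eq_fintype_card]
  · haveI : NeZero (Monoid.exponent A) := ⟨Monoid.exponent_ne_zero_of_finite⟩
    obtain ⟨f, hf⟩ := CommGroup.exists_apply_ne_one_of_hasEnoughRootsOfUnity A ℂ h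
    have hmul : ((f a : ℂˣ) : ℂ) * ∑ ψ : A →* ℂˣ, ((ψ a : ℂˣ) : ℂ) =
        ∑ ψ : A →* ℂˣ, ((ψ a : ℂˣ) : ℂ) := by
      rw [Finset.mul_sum]
      exact Fintype.sum_equiv (Equiv.mulLeft f) _ _ fun ψ => by simp
    by_contra hne
    exact hf (Units.ext (mul_right_cancel₀ hne (hmul.trans (one_mul _).symm)))

theorem finite_hom (hA : ∀ a b : A, a * b = b * a) : Finite (A →* ℂˣ) := by
  let _ : CommGroup A := { ‹Group A› with mul_comm := hA }
  exact Nat.finite_of_card_ne_zero (by rw [Char.card_hom_units]; exact Nat.card_pos.ne')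

/-- An automorphism without fixed points fixes only the trivial linear character. -/
theorem eq_one_of_comp_eq (hA : ∀ a b : A, a * b = b * a) {w : MulAut A}
    (hw : ∀ a, w a = a → a = 1) {ψ : A →* ℂˣ} (h : ψ.comp w.toMonoidHom = ψ) : ψ = 1 := by
  let _ : CommGroup A := { ‹Group A› with mul_comm := hA }
  let f : A → A := fun a => w a * a⁻¹
  have hinj : Function.Injective f := fun a b e => by
    have h1 : w (b⁻¹ * a) = b⁻¹ * a := by
      rw [map_mul, map_inv]
      have e' : w a * a⁻¹ = w b * b⁻¹ := e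
      rw [mul_inv_eq_iff_eq_mul] at e'
      rw [e', ← mul_assoc, ← mul_assoc, inv_mul_cancel, one_mul]
    exact (inv_mul_eq_one.mp (hw _ h1)).symm
  ext a
  obtain ⟨b, rfl⟩ := (Finite.injective_iff_surjective.mp hinj) a
  have h1 : ψ (w b) = ψ b := DFunLike.congr_fun h b
  simp [f, h1]

end Dual

variable {p : ℕ} [Fact p.Prime] {M : Ideal AlgInt} {G : Type*} [Group G] [Fintype G] (P : Sylow p G)

/-- The Frobenius hypothesis. -/
def IsFrob : Prop :=
  ∀ y : G, y ∈ (P : Subgroup G) → y ≠ 1 →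
    Subgroup.centralizer ({y} : Set G) ⊓ Subgroup.normalizer ((P : Subgroup G) : Set G) =
      Subgroup.centralizer ((P : Subgroup G) : Set G)

/-- The automorphisms of `P` induced by its normalizer. -/
noncomputable abbrev autG : Subgroup (MulAut (P : Subgroup G)) :=
  (P : Subgroup G).normalizerMonoidHom.range

theorem card_autG : Nat.card (autG P) =
    (Subgroup.centralizer ((P : Subgroup G) : Set G)).relIndex
      (Subgroup.normalizer ((P : Subgroup G) : Set G)) := by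
  rw [← Subgroup.index_ker, Subgroup.normalizerMonoidHom_ker]
  rfl

theorem normalizerMonoidHom_coe (n : Subgroup.normalizer ((P : Subgroup G) : Set G))
    (y : (P : Subgroup G)) :
    (((P : Subgroup G).normalizerMonoidHom n y : (P : Subgroup G)) : G) = n * y * (n : G)⁻¹ := rfl

theorem autG_fpf (hfrob : IsFrob P) {w : MulAut (P : Subgroup G)} (hw : w ∈ autG P) (hw1 : w ≠ 1)
    {y : (P : Subgroup G)} (hy : w y = y) : y = 1 := by
  obtain ⟨n, rfl⟩ := hw
  by_contra hne
  apply hw1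
  rw [← MonoidHom.mem_ker, Subgroup.normalizerMonoidHom_ker, Subgroup.mem_subgroupOf]
  rw [← hfrob y y.2 fun e => hne (Subtype.ext e)]
  refine Subgroup.mem_inf.mpr ⟨Subgroup.mem_centralizer_singleton_iff.mpr ?_, n.2⟩
  have := congrArg (fun z : ↥(P : Subgroup G) => (z : G)) (hy : ((P : Subgroup G).normalizerMonoidHom n) y = y)
  rw [normalizerMonoidHom_coe] at this
  exact mul_inv_eq_iff_eq_mul.mp this

theorem isConj_iff_autG (hab : IsMulCommutative (P : Subgroup G)) (y y' : (P : Subgroup G)) :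
    IsConj (y : G) y' ↔ ∃ w ∈ autG P, w y = y' := by
  constructor
  · intro h
    obtain ⟨c, hc⟩ := isConj_iff.mp h
    haveI : IsMulCommutative (P : Subgroup G) := hab
    obtain ⟨n, hn, e⟩ := P.conj_eq_normalizer_conj_of_mem (y : G) c⁻¹ y.2
      (by rw [inv_inv, hc]; exact y'.2)
    refine ⟨_, ⟨⟨n⁻¹, inv_mem hn⟩, rfl⟩, Subtype.ext ?_⟩
    rw [normalizerMonoidHom_coe, ← hc]
    simp only [inv_inv] at e ⊢
    exact e.symm
  · rintro ⟨w, ⟨n, rfl⟩, rfl⟩
    exact isConj_iff.mpr ⟨n, rfl⟩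

theorem le_centralizer_singleton (hab : IsMulCommutative (P : Subgroup G)) {y : G}
    (hy : y ∈ (P : Subgroup G)) : (P : Subgroup G) ≤ Subgroup.centralizer ({y} : Set G) := fun x hx =>
  Subgroup.mem_centralizer_singleton_iff.mpr
    (congrArg Subtype.val (mul_comm' (a := (⟨x, hx⟩ : (P : Subgroup G))) (b := ⟨y, hy⟩)))

/-- In the centralizer of a nontrivial element of `P` the normalizer of `P` centralizes it. -/
theorem normalizer_subtype_le (hfrob : IsFrob P) {y : G} (hy : y ∈ (P : Subgroup G)) (hy1 : y ≠ 1)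
    (hle : (P : Subgroup G) ≤ Subgroup.centralizer ({y} : Set G)) :
    Subgroup.normalizer ((P.subtype hle : Sylow p _) : Set (Subgroup.centralizer ({y} : Set G))) ≤
      Subgroup.centralizer ((P.subtype hle : Sylow p _) : Set (Subgroup.centralizer ({y} : Set G))) := by
  intro z hz
  have hzN : (z : G) ∈ Subgroup.normalizer ((P : Subgroup G) : Set G) := by
    rw [Subgroup.mem_normalizer_iff]
    intro x
    constructor
    · intro hx
      exact (Subgroup.mem_normalizer_iff.mp hz ⟨x, hle hx⟩).mp hx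
    · intro hx
      have hxC : x ∈ Subgroup.centralizer ({y} : Set G) := by
        have h2 := mul_mem (mul_mem (inv_mem z.2) (hle hx)) z.2
        simpa [mul_assoc] using h2
      exact (Subgroup.mem_normalizer_iff.mp hz ⟨x, hxC⟩).mpr hx
  have hzC : (z : G) ∈ Subgroup.centralizer ((P : Subgroup G) : Set G) := by
    rw [← hfrob y hy hy1]
    exact Subgroup.mem_inf.mpr ⟨z.2, hzN⟩
  rw [Subgroup.mem_centralizer_iff]
  intro x hx
  exact Subtype.ext (Subgroup.mem_centralizer_iff.mp hzC x hx)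

theorem hasNormalPComplement_centralizer (hfrob : IsFrob P) {y : G} (hy : y ∈ (P : Subgroup G))
    (hy1 : y ≠ 1) (hab : IsMulCommutative (P : Subgroup G)) :
    HasNormalPComplement p (Subgroup.centralizer ({y} : Set G)) ∧
      ∃ Q : Sylow p (Subgroup.centralizer ({y} : Set G)), Nat.card Q = Nat.card P :=
  ⟨Transfer.hasNormalPComplement_of_normalizer_le_centralizer _
      (normalizer_subtype_le P hfrob hy hy1 (le_centralizer_singleton P hab hy)),
    P.subtype (le_centralizer_singleton P hab hy),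
    Nat.card_congr (Subgroup.subgroupOfEquivOfLe (le_centralizer_singleton P hab hy)).toEquiv⟩

variable (hM : IsPModular p M) (hab : IsMulCommutative (P : Subgroup G)) (hfrob : IsFrob P)
include hM hab hfrob

theorem exists_pow_orderOf {y : G} (hy : y ∈ (P : Subgroup G)) : ∃ k : ℕ, orderOf y = p ^ k :=
  let ⟨k, hk⟩ := IsPGroup.iff_orderOf.mp P.2 ⟨y, hy⟩
  ⟨k, by rwa [← Subgroup.orderOf_mk]⟩

/-- Members of the principal block are constant on the sections of `P`. -/
theorem value_section {χ : IrrCharacter G} (hχ : χ ∈ principalBlock M G) {z y : G}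
    (hz : IsPPart p z y) (hy : y ∈ (P : Subgroup G)) (hy1 : y ≠ 1) :
    (χ : G → ℂ) z = (χ : G → ℂ) y := by
  classical
  obtain ⟨u, rfl, hcom, hk, hu⟩ := hz
  haveI : Fintype (Subgroup.centralizer ({y} : Set G)) := Fintype.ofFinite _
  set v : Subgroup.centralizer ({y} : Set G) :=
    ⟨u, Subgroup.mem_centralizer_singleton_iff.mpr hcom.symm.eq⟩
  have hord : orderOf v = orderOf u := (Subgroup.orderOf_coe v).symm
  have hv : v ∈ pPrimeCore p (Subgroup.centralizer ({y} : Set G)) := by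
    rw [Transfer.pPrimeCore_eq_pResidual (hasNormalPComplement_centralizer P hfrob hy hy1 hab).1]
    exact Transfer.mem_pResidual_of_coprime
      ((Fact.out : p.Prime).coprime_iff_not_dvd.mpr (hord ▸ hu)).symm
  have h := value_mul_pPrimeCore (M := M) hM hk hχ (y := 1) (v := v)
    (by rw [orderOf_one, Nat.dvd_one]; exact hM.1.ne_one) (by rwa [one_mul, hord]) hv
  simpa [v] using h

theorem isPPart_self {y : G} (hy : y ∈ (P : Subgroup G)) : IsPPart p y y := by
  have h := isPPart_mul (p := p) (Commute.one_right y) (exists_pow_orderOf P hM hab hfrob hy)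
    (by rw [orderOf_one, Nat.dvd_one]; exact hM.1.ne_one)
  rwa [mul_one] at h

omit hab hfrob in
theorem isPPart_regular {g : G} (hg : ¬ p ∣ orderOf g) : IsPPart p g 1 := by
  have h := isPPart_mul (p := p) (Commute.one_left g) ⟨0, by simp⟩ hg
  rwa [one_mul] at h

theorem column_regular [DecidablePred (· ∈ principalBlock M G)] {y : G} (hy : y ∈ (P : Subgroup G))
    (hy1 : y ≠ 1) {g : G} (hg : ¬ p ∣ orderOf g) :
    ∑ χ : IrrCharacter G with χ ∈ principalBlock M G, (χ : G → ℂ) g * conj ((χ : G → ℂ) y) = 0 :=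
  haveI := isPrime_of_isPModular hM
  sum_block_eq_zero_of_not_isConj hM (isPPart_regular hM hg) (isPPart_self P hM hab hfrob hy)
    (fun h => hy1 (isConj_one_right.mp h)) isPBlock_principalBlock

theorem column [DecidablePred (· ∈ principalBlock M G)] [DecidableEq (P : Subgroup G)]
    [Fintype (autG P)] {y : (P : Subgroup G)} (hy : y ≠ 1) (y' : (P : Subgroup G)) :
    ∑ χ : IrrCharacter G with χ ∈ principalBlock M G,
      (χ : G → ℂ) y * conj ((χ : G → ℂ) y') =
      (Nat.card P : ℂ) * ∑ w : autG P, if (w : MulAut (P : Subgroup G)) y = y' then 1 else 0 := by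
  classical
  haveI := isPrime_of_isPModular hM
  have hy1 : (y : G) ≠ 1 := fun e => hy (Subtype.ext e)
  by_cases h : IsConj (y : G) y'
  · obtain ⟨w, hw, rfl⟩ := (isConj_iff_autG P hab y y').mp h
    have he : ∀ χ : IrrCharacter G, (χ : G → ℂ) (w y : (P : Subgroup G)) = (χ : G → ℂ) y := fun χ => by
      obtain ⟨n, rfl⟩ := hw
      exact irr_classFunction χ (y : G) (n : G)
    simp only [he]
    haveI : Fintype (Subgroup.centralizer ({(y : G)} : Set G)) := Fintype.ofFinite _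
    rw [sum_principal_norm_sq hM (exists_pow_orderOf P hM hab hfrob y.2)]
    obtain ⟨hc, Q, hQ⟩ := hasNormalPComplement_centralizer P hfrob y.2 hy1 hab
    rw [sum_sq_degree_principal_of_npc hM hc Q, hQ, Finset.sum_eq_single ⟨w, hw⟩ (fun v _ hv => ?_)
      (fun hc => absurd (Finset.mem_univ _) hc), if_pos rfl, mul_one]
    refine if_neg fun e => hy (autG_fpf P hfrob (mul_mem (inv_mem hw) v.2) (fun e' => hv ?_) ?_)
    · exact Subtype.ext (inv_mul_eq_one.mp e').symm
    · rw [MulAut.mul_apply, e, MulAut.inv_apply_self]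
  · rw [sum_block_eq_zero_of_not_isConj hM (isPPart_self P hM hab hfrob y.2)
      (isPPart_self P hM hab hfrob y'.2) h isPBlock_principalBlock, Finset.sum_eq_zero, mul_zero]
    exact fun w _ => if_neg fun e => h ((isConj_iff_autG P hab y y').mpr ⟨w, w.2, e⟩)

omit hM hab hfrob in
theorem exists_coeff (χ : IrrCharacter G) (ψ : (P : Subgroup G) →* ℂˣ) :
    ∃ a : ℤ, ∀ [Fintype (P : Subgroup G)], (Nat.card P : ℂ) * a =
      ∑ y : (P : Subgroup G), (χ : G → ℂ) y * (1 - conj ((ψ y : ℂˣ) : ℂ)) := by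
  letI := Fintype.ofFinite (P : Subgroup G)
  have h : ∀ f : (P : Subgroup G) →* ℂˣ, ∃ m : ℕ, ∑ y : (P : Subgroup G),
      (χ : G → ℂ) y * conj ((f y : ℂˣ) : ℂ) = (Nat.card P : ℂ) * m := fun f => by
    obtain ⟨m, hm⟩ := Char.exists_nat_classInner
      (Char.isCharacter_restrict (P : Subgroup G) (Char.isCharacter_of_isIrr χ.2))
      (Char.isCharacter_monoidHom f)
    refine ⟨m, ?_⟩
    rw [← hm, classInner, ← mul_assoc, mul_inv_cancel₀ (Nat.cast_ne_zero.mpr Nat.card_pos.ne'),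
      one_mul]
  obtain ⟨m₁, hm₁⟩ := h 1
  obtain ⟨m, hm⟩ := h ψ
  refine ⟨(m₁ : ℤ) - m, @fun i => ?_⟩
  obtain rfl : i = Fintype.ofFinite _ := Subsingleton.elim _ _
  simp only [mul_sub, Finset.sum_sub_distrib, hm, mul_one]
  simp only [MonoidHom.one_apply, Units.val_one, map_one, mul_one] at hm₁
  rw [hm₁]
  push_cast
  ring

/-- The difference between the multiplicities of the trivial and of a linear character in the
restriction to `P`. -/
noncomputable def coeff (χ : IrrCharacter G) (ψ : (P : Subgroup G) →* ℂˣ) : ℤ :=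
  (exists_coeff P χ ψ).choose

omit hM hab hfrob in
theorem coeff_spec [Fintype (P : Subgroup G)] (χ : IrrCharacter G) (ψ : (P : Subgroup G) →* ℂˣ) :
    (Nat.card P : ℂ) * coeff P χ ψ =
      ∑ y : (P : Subgroup G), (χ : G → ℂ) y * (1 - conj ((ψ y : ℂˣ) : ℂ)) := by
  exact (exists_coeff P χ ψ).choose_spec

omit hM hab hfrob in
theorem coeff_spec_conj [Fintype (P : Subgroup G)] (χ : IrrCharacter G)
    (ψ : (P : Subgroup G) →* ℂˣ) : (Nat.card P : ℂ) * coeff P χ ψ =
      ∑ y : (P : Subgroup G), conj ((χ : G → ℂ) y) * (1 - ((ψ y : ℂˣ) : ℂ)) := by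
  have h := congrArg conj (coeff_spec P χ ψ)
  simpa [map_sum] using h

theorem sum_coeff_regular [DecidablePred (· ∈ principalBlock M G)] (ψ : (P : Subgroup G) →* ℂˣ)
    {g : G} (hg : ¬ p ∣ orderOf g) :
    ∑ χ : IrrCharacter G with χ ∈ principalBlock M G, (coeff P χ ψ : ℂ) * (χ : G → ℂ) g = 0 := by
  classical
  haveI := Fintype.ofFinite (P : Subgroup G)
  refine mul_left_cancel₀ (Nat.cast_ne_zero.mpr Nat.card_pos.ne' : (Nat.card P : ℂ) ≠ 0) ?_
  rw [mul_zero, Finset.mul_sum]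
  simp only [← mul_assoc, coeff_spec_conj, Finset.sum_mul]
  rw [Finset.sum_comm]
  refine Finset.sum_eq_zero fun y _ => ?_
  by_cases hy : y = 1
  · subst hy; simp
  · rw [← mul_zero (1 - ((ψ y : ℂˣ) : ℂ)),
      ← column_regular P hM hab hfrob y.2 (fun e => hy (Subtype.ext e)) hg, Finset.mul_sum]
    exact Finset.sum_congr rfl fun χ _ => by ring

theorem coeff_inner [DecidablePred (· ∈ principalBlock M G)] [Fintype (autG P)]
    [DecidableEq ((P : Subgroup G) →* ℂˣ)]
    {ψ ψ' : (P : Subgroup G) →* ℂˣ} (hψ : ψ ≠ 1) (hψ' : ψ' ≠ 1) :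
    ∑ χ : IrrCharacter G with χ ∈ principalBlock M G, coeff P χ ψ * coeff P χ ψ' =
      (Nat.card (autG P) : ℤ) +
        ∑ w : autG P, if ψ'.comp (w : MulAut (P : Subgroup G)).toMonoidHom = ψ then 1 else 0 := by
  classical
  haveI := Fintype.ofFinite (P : Subgroup G)
  set q : ℂ := (Nat.card P : ℂ) with hq
  have hq0 : q ≠ 0 := Nat.cast_ne_zero.mpr Nat.card_pos.ne'
  set f : ↥(P : Subgroup G) → ℂ := fun y => 1 - conj ((ψ y : ℂˣ) : ℂ) with hf
  set g : ↥(P : Subgroup G) → ℂ := fun y => 1 - ((ψ' y : ℂˣ) : ℂ) with hg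
  have h1 : q * q * ∑ χ : IrrCharacter G with χ ∈ principalBlock M G,
      ((coeff P χ ψ * coeff P χ ψ' : ℤ) : ℂ) =
      ∑ y : (P : Subgroup G), ∑ y' : (P : Subgroup G), f y * g y' * ∑ χ : IrrCharacter G with χ ∈ principalBlock M G,
        (χ : G → ℂ) (y : G) * conj ((χ : G → ℂ) (y' : G)) := by
    have e : ∀ χ : IrrCharacter G, q * q * ((coeff P χ ψ * coeff P χ ψ' : ℤ) : ℂ) =
        ∑ y : (P : Subgroup G), ∑ y' : (P : Subgroup G), f y * g y' * ((χ : G → ℂ) (y : G) * conj ((χ : G → ℂ) (y' : G))) := fun χ => by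
      rw [Int.cast_mul, mul_mul_mul_comm, hq, coeff_spec, coeff_spec_conj, Finset.sum_mul_sum]
      exact Finset.sum_congr rfl fun y _ => Finset.sum_congr rfl fun y' _ => by
        simp only [f, g]; ring
    rw [Finset.mul_sum, Finset.sum_congr rfl fun χ _ => e χ, Finset.sum_comm]
    refine Finset.sum_congr rfl fun y _ => ?_
    rw [Finset.sum_comm]
    exact Finset.sum_congr rfl fun y' _ => (Finset.mul_sum _ _ _).symm
  have h2 : ∀ y : (P : Subgroup G), ∑ y' : (P : Subgroup G), f y * g y' *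
      ∑ χ : IrrCharacter G with χ ∈ principalBlock M G,
        (χ : G → ℂ) (y : G) * conj ((χ : G → ℂ) (y' : G)) =
      q * ∑ w : autG P, f y * g ((w : MulAut (P : Subgroup G)) y) := fun y => by
    by_cases hy : y = 1
    · subst hy; simp [f]
    · simp only [column P hM hab hfrob hy, Finset.mul_sum]
      rw [Finset.sum_comm]
      refine Finset.sum_congr rfl fun w _ => ?_
      rw [Finset.sum_eq_single ((w : MulAut (P : Subgroup G)) y)
        (fun b _ hb => by rw [if_neg (Ne.symm hb)]; ring)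
        (fun hc => absurd (Finset.mem_univ _) hc), if_pos rfl]
      ring
  have h3 : ∀ w : autG P, ∑ y : (P : Subgroup G), f y * g ((w : MulAut (P : Subgroup G)) y) =
      q * (1 + if ψ'.comp (w : MulAut (P : Subgroup G)).toMonoidHom = ψ then 1 else 0) := fun w => by
    set φ := ψ'.comp (w : MulAut (P : Subgroup G)).toMonoidHom with hφ
    have hφ1 : φ ≠ 1 := fun e => hψ' (MonoidHom.ext fun a => by
      simpa [φ] using DFunLike.congr_fun e ((w : MulAut (P : Subgroup G))⁻¹ a))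
    have e : ∀ y, f y * g ((w : MulAut (P : Subgroup G)) y) =
        1 - ((ψ⁻¹ y : ℂˣ) : ℂ) - ((φ y : ℂˣ) : ℂ) + (((ψ⁻¹ * φ) y : ℂˣ) : ℂ) := fun y => by
      simp only [f, g, φ, conj_hom, map_inv, MonoidHom.inv_apply, MonoidHom.mul_apply,
        Units.val_mul, MonoidHom.comp_apply, MulEquiv.coe_toMonoidHom]
      ring
    rw [Finset.sum_congr rfl fun y _ => e y, Finset.sum_add_distrib, Finset.sum_sub_distrib,
      Finset.sum_sub_distrib, sum_apply, sum_apply, sum_apply]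
    have hψi : ¬ ψ⁻¹ = 1 := fun e => hψ (MonoidHom.ext fun a => by
      simpa using DFunLike.congr_fun e a)
    rw [if_neg hψi, if_neg hφ1, Finset.sum_const, Finset.card_univ, nsmul_one,
      ← Nat.card_eq_fintype_card, sub_zero, sub_zero]
    by_cases h4 : φ = ψ
    · rw [if_pos h4, if_pos (inv_mul_eq_one.mpr h4.symm), hq]; ring
    · rw [if_neg h4, if_neg fun e => h4 (inv_mul_eq_one.mp e).symm, hq]; ring
  rw [← Int.cast_inj (α := ℂ), ← mul_right_inj' (mul_ne_zero hq0 hq0), Int.cast_sum, h1,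
    Finset.sum_congr rfl fun y _ => h2 y, ← Finset.mul_sum, Finset.sum_comm,
    Finset.sum_congr rfl fun w _ => h3 w, ← Finset.mul_sum, ← mul_assoc, Int.cast_add]
  congr 1
  rw [Finset.sum_add_distrib, Finset.sum_const, Finset.card_univ, nsmul_one,
    ← Nat.card_eq_fintype_card, Int.cast_natCast, Int.cast_sum]
  congr 1
  exact Finset.sum_congr rfl fun w _ => by split_ifs <;> simp

omit hM hab hfrob in
/-- The orbit relation of the normalizer on the linear characters of `P`. -/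
def Rel (ψ ψ' : (P : Subgroup G) →* ℂˣ) : Prop :=
  ∃ w ∈ autG P, ψ'.comp (MulEquiv.toMonoidHom w) = ψ

omit hM hab hfrob in
theorem rel_iff (ψ ψ' : (P : Subgroup G) →* ℂˣ) :
    Rel P ψ ψ' ↔ ∃ n : G, n ∈ Subgroup.normalizer ((P : Subgroup G) : Set G) ∧
      ∀ w w' : (P : Subgroup G), (w' : G) = n * w * n⁻¹ → ψ' w' = ψ w := by
  constructor
  · rintro ⟨_, ⟨n, rfl⟩, rfl⟩
    exact ⟨n, n.2, fun w w' e => congrArg ψ' (Subtype.ext e)⟩
  · rintro ⟨n, hn, h⟩
    exact ⟨_, ⟨⟨n, hn⟩, rfl⟩, MonoidHom.ext fun y => h y _ rfl⟩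

omit hM hab hfrob in
theorem Rel.ne_one {ψ ψ' : (P : Subgroup G) →* ℂˣ} (h : Rel P ψ ψ') (hψ : ψ ≠ 1) : ψ' ≠ 1 := by
  rintro rfl
  obtain ⟨w, -, e⟩ := h
  exact hψ (e ▸ MonoidHom.one_comp _)

omit hM hab hfrob in
/-- The setoid of orbits on the nontrivial linear characters. -/
def orbSetoid : Setoid {ψ : (P : Subgroup G) →* ℂˣ // ψ ≠ 1} where
  r a b := Rel P a.1 b.1
  iseqv :=
    { refl := fun a => ⟨1, one_mem _, MonoidHom.ext fun _ => rfl⟩
      symm := by
        rintro a b ⟨w, hw, e⟩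
        exact ⟨w⁻¹, inv_mem hw, MonoidHom.ext fun y => by
          rw [← e]; simp⟩
      trans := by
        rintro a b c ⟨w, hw, e⟩ ⟨v, hv, e'⟩
        exact ⟨v * w, mul_mem hv hw, MonoidHom.ext fun y => by
          rw [← e, ← e']; rfl⟩ }

omit hM hab hfrob in
/-- The orbits of the normalizer on the nontrivial linear characters of `P`. -/
abbrev Orb : Type _ := Quotient (orbSetoid P)

omit hM hab hfrob in
/-- The sum over an orbit. -/
noncomputable def orbSum (ψ : (P : Subgroup G) →* ℂˣ) (y : (P : Subgroup G)) : ℂ :=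
  ∑ᶠ φ ∈ {φ : (P : Subgroup G) →* ℂˣ | Rel P ψ φ}, ((φ y : ℂˣ) : ℂ)

omit hM in
theorem injective_comp {ψ : (P : Subgroup G) →* ℂˣ} (hψ : ψ ≠ 1) :
    Function.Injective fun w : autG P => ψ.comp (MulEquiv.toMonoidHom (w : MulAut (P : Subgroup G))) := by
  intro v w e
  have hA : ∀ a b : (P : Subgroup G), a * b = b * a := fun a b => mul_comm' (a := a) (b := b)
  by_contra hne
  refine hψ ?_
  haveI := Fintype.ofFinite (P : Subgroup G)
  refine eq_one_of_comp_eq hA (w := (v : MulAut (P : Subgroup G)) * (w : MulAut (P : Subgroup G))⁻¹)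
    (fun a ha => autG_fpf P hfrob (mul_mem v.2 (inv_mem w.2))
      (fun e' => hne (Subtype.ext (mul_inv_eq_one.mp e'))) ha) (MonoidHom.ext fun y => ?_)
  have := DFunLike.congr_fun e ((w : MulAut (P : Subgroup G))⁻¹ y)
  simpa using this

omit hM in
theorem orbSum_eq [Fintype (autG P)] {ψ : (P : Subgroup G) →* ℂˣ} (hψ : ψ ≠ 1) (y : (P : Subgroup G)) :
    orbSum P ψ y = ∑ w : autG P, ((ψ ((w : MulAut (P : Subgroup G)) y) : ℂˣ) : ℂ) := by
  have hset : {φ : (P : Subgroup G) →* ℂˣ | Rel P ψ φ} =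
      Set.range fun w : autG P => ψ.comp (MulEquiv.toMonoidHom (w : MulAut (P : Subgroup G))) := by
    ext φ
    constructor
    · rintro ⟨w, hw, e⟩
      exact ⟨⟨w⁻¹, inv_mem hw⟩, MonoidHom.ext fun a => by rw [← e]; simp⟩
    · rintro ⟨⟨w, hw⟩, rfl⟩
      exact ⟨w⁻¹, inv_mem hw, MonoidHom.ext fun a => by simp⟩
  rw [orbSum, hset, finsum_mem_range (injective_comp P hab hfrob hψ), finsum_eq_sum_of_fintype]
  rfl

omit hM hab hfrob in
theorem orbSum_congr {ψ ψ' : (P : Subgroup G) →* ℂˣ} (hψ : ψ ≠ 1) (h : Rel P ψ ψ') :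
    orbSum P ψ' = orbSum P ψ := by
  funext y
  rw [orbSum, orbSum]
  refine finsum_mem_congr ?_ fun _ _ => rfl
  ext φ
  have hs := (orbSetoid P).iseqv
  exact ⟨fun h' => hs.trans (x := ⟨ψ, hψ⟩) (y := ⟨ψ', h.ne_one P hψ⟩)
      (z := ⟨φ, h'.ne_one P (h.ne_one P hψ)⟩) h h',
    fun h' => hs.trans (x := ⟨ψ', h.ne_one P hψ⟩) (y := ⟨ψ, hψ⟩) (z := ⟨φ, h'.ne_one P hψ⟩)
      (hs.symm (x := ⟨ψ, hψ⟩) (y := ⟨ψ', h.ne_one P hψ⟩) h) h'⟩

/-- The coherent description of the principal block. -/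
structure Data where
  e : Orb P → IrrCharacter G
  δ : ℤ
  k : ℤ
  inj : Function.Injective e
  sign : δ = 1 ∨ δ = -1
  mem : ∀ o, e o ∈ principalBlock M G
  const : ∀ χ ∈ principalBlock M G, χ ∉ Set.range e → ∀ ψ ψ' : (P : Subgroup G) →* ℂˣ,
    ψ ≠ 1 → ψ' ≠ 1 → coeff P χ ψ = coeff P χ ψ'
  onY : ∀ (ψ : {ψ : (P : Subgroup G) →* ℂˣ // ψ ≠ 1}) (o : Orb P),
    (coeff P (e o) ψ.1 = k - δ ∧ o = Quotient.mk (orbSetoid P) ψ) ∨
      (coeff P (e o) ψ.1 = k ∧ o ≠ Quotient.mk (orbSetoid P) ψ)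

omit hM in
theorem card_fiber (o : Orb P) : Nat.card {ψ : {ψ : (P : Subgroup G) →* ℂˣ // ψ ≠ 1} //
    Quotient.mk (orbSetoid P) ψ = o} = Nat.card (autG P) := by
  induction o using Quotient.ind with
  | _ a =>
    refine (Nat.card_congr (Equiv.ofBijective (fun w : autG P =>
      (⟨⟨a.1.comp (MulEquiv.toMonoidHom (w : MulAut (P : Subgroup G))), ?_⟩, Quotient.sound ?_⟩ :
        {ψ : {ψ : (P : Subgroup G) →* ℂˣ // ψ ≠ 1} // Quotient.mk (orbSetoid P) ψ =
          Quotient.mk (orbSetoid P) a})) ⟨?_, ?_⟩)).symm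
    · intro e
      exact a.2 (MonoidHom.ext fun y => by
        simpa using DFunLike.congr_fun e ((w : MulAut (P : Subgroup G))⁻¹ y))
    · exact ⟨w, w.2, rfl⟩
    · intro v w e
      exact injective_comp P hab hfrob a.2 (congrArg (fun z => z.1.1) e)
    · rintro ⟨⟨φ, hφ⟩, he⟩
      obtain ⟨w, hw, e⟩ := (orbSetoid P).iseqv.symm (Quotient.exact he)
      exact ⟨⟨w⁻¹, inv_mem hw⟩, Subtype.ext (Subtype.ext (MonoidHom.ext fun y => by
        show a.1 (w⁻¹ y) = φ y
        rw [← e]; simp))⟩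

omit hM in
theorem card_orb_mul : Nat.card (Orb P) * Nat.card (autG P) = Nat.card P - 1 := by
  classical
  haveI := Fintype.ofFinite (P : Subgroup G)
  haveI := finite_hom (A := (P : Subgroup G)) fun a b => mul_comm' (a := a) (b := b)
  haveI := Fintype.ofFinite ((P : Subgroup G) →* ℂˣ)
  haveI := Fintype.ofFinite (autG P)
  haveI := Fintype.ofFinite (Orb P)
  have h1 := card_fiber P hab hfrob
  have h2 := Nat.card_congr (Equiv.sigmaFiberEquiv (Quotient.mk (orbSetoid P)))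
  rw [Nat.card_sigma, Finset.sum_congr rfl fun o _ => h1 o, Finset.sum_const, Finset.card_univ,
    smul_eq_mul, ← Nat.card_eq_fintype_card] at h2
  rw [h2, Nat.card_eq_fintype_card, Fintype.card_subtype_compl, Fintype.card_subtype_eq,
    ← Nat.card_eq_fintype_card]
  haveI : IsMulCommutative (P : Subgroup G) := hab
  rw [Char.card_hom_units]

theorem exists_data (h2 : 2 ≤ Nat.card (Orb P)) : Nonempty (Data P (M := M)) := by
  classical
  haveI := isPrime_of_isPModular hM
  haveI := Fintype.ofFinite (P : Subgroup G)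
  haveI := finite_hom (A := (P : Subgroup G)) fun a b => mul_comm' (a := a) (b := b)
  haveI := Fintype.ofFinite ((P : Subgroup G) →* ℂˣ)
  haveI := Fintype.ofFinite (autG P)
  haveI := Fintype.ofFinite (Orb P)
  set a : Orb P → {χ : IrrCharacter G // χ ∈ principalBlock M G} → ℤ := fun o χ =>
    coeff P χ.1 (Quotient.out o).1
  have htr : ∀ f : IrrCharacter G → ℤ, ∑ χ : {χ : IrrCharacter G // χ ∈ principalBlock M G}, f χ.1 =
      ∑ χ : IrrCharacter G with χ ∈ principalBlock M G, f χ :=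
    fun f => (Finset.sum_subtype _ (fun χ => by simp) f).symm
  -- the coefficient of a character only depends on the orbit
  have hsame : ∀ χ ∈ principalBlock M G, ∀ ψ ψ' : {ψ : (P : Subgroup G) →* ℂˣ // ψ ≠ 1},
      Rel P ψ.1 ψ'.1 → coeff P χ ψ.1 = coeff P χ ψ'.1 := by
    intro χ hχ ψ ψ' h
    have hinn : ∀ φ φ' : {ψ : (P : Subgroup G) →* ℂˣ // ψ ≠ 1}, Rel P φ.1 φ'.1 →
        ∑ χ : IrrCharacter G with χ ∈ principalBlock M G, coeff P χ φ.1 * coeff P χ φ'.1 =
          (Nat.card (autG P) : ℤ) + 1 := by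
      rintro φ φ' ⟨w, hw, e⟩
      rw [coeff_inner P hM hab hfrob φ.2 φ'.2, Finset.sum_eq_single (⟨w, hw⟩ : autG P)
        (fun v _ hv => if_neg fun e' => hv (injective_comp P hab hfrob φ'.2 (e'.trans e.symm)))
        (fun hc => absurd (Finset.mem_univ _) hc), if_pos e]
    have hs := (orbSetoid P).iseqv
    have h0 : ∑ χ : IrrCharacter G with χ ∈ principalBlock M G,
        (coeff P χ ψ.1 - coeff P χ ψ'.1) ^ 2 = 0 := by
      rw [Finset.sum_congr rfl (g := fun χ => coeff P χ ψ.1 * coeff P χ ψ.1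
          - 2 * (coeff P χ ψ.1 * coeff P χ ψ'.1) + coeff P χ ψ'.1 * coeff P χ ψ'.1)
        fun χ _ => by ring]
      rw [Finset.sum_add_distrib, Finset.sum_sub_distrib, ← Finset.mul_sum, hinn _ _ (hs.refl ψ),
        hinn _ _ h, hinn _ _ (hs.refl ψ')]
      ring
    exact sub_eq_zero.mp (pow_eq_zero_iff two_ne_zero |>.mp
      ((Finset.sum_eq_zero_iff_of_nonneg fun χ _ => sq_nonneg _).mp h0 χ (by simp [hχ])))
  have hinner : ∀ o o', ∑ χ, a o χ * a o' χ = (Nat.card (autG P) : ℤ) + if o = o' then 1 else 0 := by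
    intro o o'
    simp only [a]
    rw [htr (fun χ => coeff P χ (Quotient.out o).1 * coeff P χ (Quotient.out o').1),
      coeff_inner P hM hab hfrob (Quotient.out o).2 (Quotient.out o').2]
    congr 1
    split_ifs with h
    · subst h
      rw [Finset.sum_eq_single (⟨1, one_mem _⟩ : autG P) (fun v _ hv => if_neg fun e' => hv
        (injective_comp P hab hfrob (Quotient.out o).2 (e'.trans (MonoidHom.ext fun y => rfl))))
        (fun hc => absurd (Finset.mem_univ _) hc), if_pos (show (Quotient.out o).1.comp (MulEquiv.toMonoidHom ((⟨1, one_mem _⟩ : autG P) : MulAut (P : Subgroup G))) = (Quotient.out o).1 from MonoidHom.ext fun y => rfl)]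
    · refine Finset.sum_eq_zero fun w _ => if_neg fun e' => h ?_
      have hr : (orbSetoid P).r (Quotient.out o) (Quotient.out o') := ⟨w, w.2, e'⟩
      rw [← Quotient.out_eq o, ← Quotient.out_eq o']
      exact Quotient.sound hr
  have hdeg : ∀ o, ∑ χ, a o χ * (charDegree (χ.1 : G → ℂ) : ℤ) = 0 := by
    intro o
    simp only [a]
    rw [htr (fun χ => coeff P χ (Quotient.out o).1 * (charDegree (χ : G → ℂ) : ℤ))]
    apply Int.cast_injective (α := ℂ)
    rw [Int.cast_sum, Int.cast_zero, ← sum_coeff_regular P hM hab hfrob (Quotient.out o).1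
      (g := 1) (by rw [orderOf_one, Nat.dvd_one]; exact hM.1.ne_one)]
    refine Finset.sum_congr rfl fun χ _ => ?_
    rw [Int.cast_mul, Int.cast_natCast, (irr_degree_eq χ).1]
  obtain ⟨e, δ, k, he, hδ, hX, hY⟩ := IntCoherence.coherence (ι := {χ : IrrCharacter G //
      χ ∈ principalBlock M G}) (by rwa [← Nat.card_eq_fintype_card]) a (Nat.card (autG P) : ℤ)
    (fun χ => charDegree (χ.1 : G → ℂ)) (fun χ => (irr_degree_eq χ.1).2)
    hinner hdeg
  refine ⟨⟨fun o => (e o).1, δ, k, fun u v h => he (Subtype.ext h), hδ, fun o => (e o).2,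
    fun χ hχ hn ψ ψ' hψ hψ' => ?_, fun ψ o => ?_⟩⟩
  · have h1 := hX (Quotient.mk (orbSetoid P) ⟨ψ, hψ⟩) (Quotient.mk (orbSetoid P) ⟨ψ', hψ'⟩)
      ⟨χ, hχ⟩ fun u hu => hn ⟨u, congrArg Subtype.val hu⟩
    simp only [a] at h1
    rwa [hsame χ hχ _ ⟨ψ, hψ⟩ (Quotient.mk_out (s := orbSetoid P) ⟨ψ, hψ⟩),
      hsame χ hχ _ ⟨ψ', hψ'⟩ (Quotient.mk_out (s := orbSetoid P) ⟨ψ', hψ'⟩)] at h1
  · have h1 := hY (Quotient.mk (orbSetoid P) ψ) o
    simp only [a] at h1
    rw [hsame _ (e o).2 _ ψ (Quotient.mk_out (s := orbSetoid P) ψ)] at h1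
    by_cases ho : o = Quotient.mk (orbSetoid P) ψ
    · rw [if_pos ho] at h1; exact Or.inl ⟨h1, ho⟩
    · rw [if_neg ho, sub_zero] at h1; exact Or.inr ⟨h1, ho⟩

variable {P}
variable (D : Data P (M := M)) (h2 : 2 ≤ Nat.card (Orb P))
include D h2

omit hM hab hfrob in
/-- The members of the block outside the coherent set. -/
def Data.X : Set (IrrCharacter G) := principalBlock M G \ Set.range D.e

omit hM hab hfrob D in
theorem nonempty_orb : Nonempty (Orb P) := by
  by_contra h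
  rw [not_nonempty_iff] at h
  rw [Nat.card_of_isEmpty] at h2
  omega

omit hM hab hfrob in
/-- The constant attached to a member outside the coherent set. -/
noncomputable def Data.a (_D : Data P (M := M)) (h : 2 ≤ Nat.card (Orb P)) (χ : IrrCharacter G) : ℤ :=
  coeff P χ (Quotient.out (nonempty_orb h).some).1

omit hM hab hfrob in
theorem Data.coeff_eq {χ : IrrCharacter G} (hχ : χ ∈ D.X) {ψ : (P : Subgroup G) →* ℂˣ}
    (hψ : ψ ≠ 1) : coeff P χ ψ = D.a h2 χ :=
  D.const χ hχ.1 hχ.2 ψ _ hψ (Quotient.out (nonempty_orb h2).some).2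

omit hM hab hfrob in
theorem sum_split {R : Type*} [AddCommMonoid R] [Fintype (Orb P)]
    [DecidablePred (· ∈ principalBlock M G)] [DecidablePred (· ∈ D.X)] (f : IrrCharacter G → R) :
    ∑ χ : IrrCharacter G with χ ∈ principalBlock M G, f χ =
      (∑ o : Orb P, f (D.e o)) + ∑ χ : IrrCharacter G with χ ∈ D.X, f χ := by
  classical
  rw [← Finset.sum_filter_add_sum_filter_not _ (fun χ => χ ∈ Set.range D.e)]
  congr 1
  · refine (Finset.sum_bij (fun o _ => D.e o) (fun o _ => ?_) (fun o _ o' _ h => D.inj h)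
      (fun χ hχ => ?_) fun o _ => rfl).symm
    · simp [D.mem o]
    · obtain ⟨-, o, rfl⟩ := Finset.mem_filter.mp hχ
      exact ⟨o, Finset.mem_univ _, rfl⟩
  · refine Finset.sum_congr ?_ fun _ _ => rfl
    ext χ
    simp [Data.X]

theorem value_dual [Fintype ((P : Subgroup G) →* ℂˣ)] (χ : IrrCharacter G) {y : (P : Subgroup G)}
    (hy : y ≠ 1) : (χ : G → ℂ) y = -∑ ψ : (P : Subgroup G) →* ℂˣ,
      (coeff P χ ψ : ℂ) * ((ψ y : ℂˣ) : ℂ) := by
  classical
  haveI := Fintype.ofFinite (P : Subgroup G)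
  have hA : ∀ a b : (P : Subgroup G), a * b = b * a := fun a b => mul_comm' (a := a) (b := b)
  refine mul_left_cancel₀ (Nat.cast_ne_zero.mpr Nat.card_pos.ne' : (Nat.card P : ℂ) ≠ 0) ?_
  rw [mul_neg, Finset.mul_sum]
  simp only [← mul_assoc, coeff_spec, Finset.sum_mul]
  rw [Finset.sum_comm, ← Finset.sum_neg_distrib, Finset.sum_eq_single y (fun z _ hz => ?_)
    (fun hc => absurd (Finset.mem_univ _) hc)]
  · simp only [mul_assoc, ← Finset.mul_sum, sub_mul, one_mul, conj_hom, ← Units.val_mul, ← map_mul,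
      inv_mul_cancel, Finset.sum_sub_distrib, sum_hom_apply hA, if_neg hy, if_pos]
    ring
  · have hzy : z⁻¹ * y ≠ 1 := fun e => hz (inv_mul_eq_one.mp e)
    simp only [mul_assoc, ← Finset.mul_sum, sub_mul, one_mul, conj_hom, ← Units.val_mul, ← map_mul,
      Finset.sum_sub_distrib, sum_hom_apply hA, if_neg hy, if_neg hzy]
    ring

omit hM hab hfrob D h2 in
theorem coeff_one (χ : IrrCharacter G) : coeff P χ 1 = 0 := by
  haveI := Fintype.ofFinite (P : Subgroup G)
  have h := coeff_spec P χ 1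
  simp only [MonoidHom.one_apply, Units.val_one, map_one, sub_self, mul_zero, Finset.sum_const_zero,
    mul_eq_zero, Nat.cast_eq_zero, Int.cast_eq_zero] at h
  exact h.resolve_left Nat.card_pos.ne'

theorem value_X {χ : IrrCharacter G} (hχ : χ ∈ D.X) {y : (P : Subgroup G)} (hy : y ≠ 1) :
    (χ : G → ℂ) y = (D.a h2 χ : ℂ) := by
  classical
  haveI := Fintype.ofFinite (P : Subgroup G)
  have hA : ∀ a b : (P : Subgroup G), a * b = b * a := fun a b => mul_comm' (a := a) (b := b)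
  haveI := finite_hom hA
  haveI := Fintype.ofFinite ((P : Subgroup G) →* ℂˣ)
  rw [value_dual hM hab hfrob D h2 χ hy, ← Finset.add_sum_erase _ _ (Finset.mem_univ 1), coeff_one,
    Finset.sum_congr rfl fun ψ hψ => by rw [D.coeff_eq h2 hχ (Finset.ne_of_mem_erase hψ)],
    ← Finset.mul_sum, Finset.sum_erase_eq_sub (Finset.mem_univ _), sum_hom_apply hA, if_neg hy]
  simp

theorem value_Y [Fintype ((P : Subgroup G) →* ℂˣ)] {ψ : (P : Subgroup G) →* ℂˣ} (hψ : ψ ≠ 1)
    {y : (P : Subgroup G)} (hy : y ≠ 1) :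
    (D.e (Quotient.mk (orbSetoid P) ⟨ψ, hψ⟩) : G → ℂ) y = (D.k : ℂ) + D.δ * orbSum P ψ y := by
  classical
  haveI := Fintype.ofFinite (P : Subgroup G)
  have hA : ∀ a b : (P : Subgroup G), a * b = b * a := fun a b => mul_comm' (a := a) (b := b)
  set o := Quotient.mk (orbSetoid P) (⟨ψ, hψ⟩ : {ψ : (P : Subgroup G) →* ℂˣ // ψ ≠ 1})
  have hval : ∀ φ : (P : Subgroup G) →* ℂˣ, φ ≠ 1 → (coeff P (D.e o) φ : ℂ) =
      (D.k : ℂ) - if Rel P ψ φ then (D.δ : ℂ) else 0 := by
    intro φ hφ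
    rcases D.onY ⟨φ, hφ⟩ o with ⟨h1, h3⟩ | ⟨h1, h3⟩ <;> rw [h1]
    · have h4 : Rel P ψ φ := Quotient.exact (s := orbSetoid P) h3
      rw [if_pos h4]; push_cast; ring
    · rw [if_neg fun h4 : Rel P ψ φ => h3 (Quotient.sound (s := orbSetoid P) h4), sub_zero]
  have h1 : ∑ φ : (P : Subgroup G) →* ℂˣ, (coeff P (D.e o) φ : ℂ) * ((φ y : ℂˣ) : ℂ) =
      ∑ φ ∈ Finset.univ.erase 1, ((D.k : ℂ) * ((φ y : ℂˣ) : ℂ) -
        (if Rel P ψ φ then (D.δ : ℂ) * ((φ y : ℂˣ) : ℂ) else 0)) := by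
    rw [← Finset.add_sum_erase _ _ (Finset.mem_univ 1), coeff_one, Int.cast_zero, zero_mul, zero_add]
    refine Finset.sum_congr rfl fun φ hφ => ?_
    rw [hval φ (Finset.ne_of_mem_erase hφ), sub_mul, ite_mul, zero_mul]
  rw [value_dual hM hab hfrob D h2 _ hy, h1, Finset.sum_sub_distrib, ← Finset.mul_sum,
    Finset.sum_erase_eq_sub (Finset.mem_univ _), sum_hom_apply hA, if_neg hy, ← Finset.sum_filter,
    ← Finset.mul_sum, orbSum, finsum_mem_eq_toFinset_sum]
  have hset : (Finset.univ.erase 1).filter (fun φ => Rel P ψ φ) =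
      {φ : (P : Subgroup G) →* ℂˣ | Rel P ψ φ}.toFinset := by
    ext φ
    simp only [Finset.mem_filter, Finset.mem_erase, Finset.mem_univ, and_true, Set.mem_toFinset,
      Set.mem_ofPred_eq, and_iff_right_iff_imp]
    exact fun h => h.ne_one P hψ
  rw [hset]
  simp
  ring

theorem a_ne_zero {χ : IrrCharacter G} (hχ : χ ∈ D.X) : D.a h2 χ ≠ 0 := by
  classical
  haveI := isPrime_of_isPModular hM
  intro h0
  obtain ⟨o⟩ := nonempty_orb h2
  haveI := Fintype.ofFinite (P : Subgroup G)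
  obtain ⟨y, hy⟩ : ∃ y : (P : Subgroup G), y ≠ 1 := by
    by_contra hc
    push Not at hc
    exact (Quotient.out o).2 (MonoidHom.ext fun y => by rw [hc y, map_one, map_one])
  have hv : (χ : G → ℂ) y = 0 := by rw [value_X hM hab hfrob D h2 hχ hy, h0, Int.cast_zero]
  have h := hχ.1 (y : G)
  simp only [centralChar, hv, mul_zero, zero_div, sub_zero, mul_one, div_one] at h
  refine (fun hd => ?_ : ¬ p ∣ _) ((memLocalIdeal_natCast_iff hM).mp h)
  have hle : (P : Subgroup G) ≤ Subgroup.centralizer ({(y : G)} : Set G) := fun x hx =>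
    Subgroup.mem_centralizer_singleton_iff.mpr
      (congrArg Subtype.val (mul_comm' (a := (⟨x, hx⟩ : (P : Subgroup G))) (b := y)))
  exact P.not_dvd_index (hd.trans (Subgroup.index_dvd_of_le hle))

theorem one_mem_X {χ : IrrCharacter G} (hχ : (χ : G → ℂ) = fun _ => 1) :
    χ ∈ D.X ∧ D.a h2 χ = 1 := by
  classical
  haveI := isPrime_of_isPModular hM
  haveI := Fintype.ofFinite (P : Subgroup G)
  have hB : χ ∈ principalBlock M G := by
    rw [principalBlock_eq]
    have : χ = trivIrr G := Subtype.ext (hχ.trans rfl)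
    rw [this]; exact mem_blockOf_self _
  have h1 : ∀ ψ : (P : Subgroup G) →* ℂˣ, ψ ≠ 1 → coeff P χ ψ = 1 := by
    intro ψ hψ
    apply Int.cast_injective (α := ℂ)
    refine mul_left_cancel₀ (Nat.cast_ne_zero.mpr Nat.card_pos.ne' : (Nat.card P : ℂ) ≠ 0) ?_
    rw [coeff_spec, hχ]
    simp only [one_mul, Finset.sum_sub_distrib, ← map_sum, sum_apply, if_neg hψ, map_zero,
      Finset.sum_const, Finset.card_univ, nsmul_one, Int.cast_one, mul_one, sub_zero,
      Nat.card_eq_fintype_card]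
  have hX : χ ∈ D.X := ⟨hB, by
    rintro ⟨o, ho⟩
    haveI := Fintype.ofFinite (Orb P)
    obtain ⟨o', hne⟩ := Fintype.exists_ne_of_one_lt_card
      (by rw [← Nat.card_eq_fintype_card]; omega) o
    have e1 := h1 _ (Quotient.out o).2
    have e2 := h1 _ (Quotient.out o').2
    rcases D.onY (Quotient.out o) o with ⟨f1, -⟩ | ⟨-, f1⟩
    · rcases D.onY (Quotient.out o') o with ⟨-, f2⟩ | ⟨f2, -⟩
      · exact hne (f2.trans (Quotient.out_eq o')).symm
      · rw [ho] at f1 f2
        rcases D.sign with hs | hs <;> omega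
    · exact f1 (Quotient.out_eq o).symm⟩
  exact ⟨hX, (h1 _ (Quotient.out (nonempty_orb h2).some).2)⟩

theorem card_range_e : Nat.card (Set.range D.e) * Nat.card (autG P) = Nat.card P - 1 := by
  rw [Nat.card_range_of_injective D.inj]
  exact card_orb_mul P hab hfrob

theorem sum_sq [DecidablePred (· ∈ D.X)] :
    (D.k - D.δ) ^ 2 + ((Nat.card (Orb P) : ℤ) - 1) * D.k ^ 2 +
      ∑ χ : IrrCharacter G with χ ∈ D.X, D.a h2 χ ^ 2 = (Nat.card (autG P) : ℤ) + 1 := by
  classical
  haveI := Fintype.ofFinite (Orb P)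
  haveI := Fintype.ofFinite (autG P)
  haveI := finite_hom (A := (P : Subgroup G)) fun a b => mul_comm' (a := a) (b := b)
  obtain ⟨o⟩ := nonempty_orb h2
  set ψ := Quotient.out o with hψ
  have h := coeff_inner P hM hab hfrob ψ.2 ψ.2
  rw [Finset.sum_eq_single (⟨1, one_mem _⟩ : autG P) (fun v _ hv => if_neg fun e' => hv
    (injective_comp P hab hfrob ψ.2 (e'.trans (MonoidHom.ext fun y => rfl))))
    (fun hc => absurd (Finset.mem_univ _) hc), if_pos (show ψ.1.comp (MulEquiv.toMonoidHom ((⟨1, one_mem _⟩ : autG P) : MulAut (P : Subgroup G))) = ψ.1 from MonoidHom.ext fun y => rfl),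
    sum_split D h2, ← Finset.add_sum_erase _ _ (Finset.mem_univ o)] at h
  have e1 : coeff P (D.e o) ψ.1 = D.k - D.δ := by
    rcases D.onY ψ o with ⟨f, -⟩ | ⟨-, f⟩
    exacts [f, absurd (Quotient.out_eq o).symm f]
  rw [Finset.sum_congr rfl (g := fun _ => D.k ^ 2) fun o' ho' => by
      rcases D.onY ψ o' with ⟨-, f⟩ | ⟨f, -⟩
      · exact absurd (f.trans (Quotient.out_eq o)) (Finset.ne_of_mem_erase ho')
      · rw [f, sq],
    Finset.sum_congr rfl (g := fun χ => D.a h2 χ ^ 2) fun χ hχ => by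
      rw [D.coeff_eq h2 (Finset.mem_filter.mp hχ).2 ψ.2, sq],
    Finset.sum_const, Finset.card_erase_of_mem (Finset.mem_univ o), Finset.card_univ, e1,
    nsmul_eq_mul, ← Nat.card_eq_fintype_card (α := Orb P), Nat.cast_sub (by omega), Nat.cast_one] at h
  rw [← h]
  ring

theorem card_X_le : Nat.card D.X ≤ Nat.card (autG P) := by
  classical
  have h := sum_sq hM hab hfrob D h2
  have h1 : (Nat.card D.X : ℤ) ≤ ∑ χ : IrrCharacter G with χ ∈ D.X, D.a h2 χ ^ 2 := by
    rw [show Nat.card D.X = (Finset.univ.filter fun χ => χ ∈ D.X).card by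
      rw [Nat.card_eq_fintype_card, ← Set.toFinset_card]; congr 1; ext; simp, Finset.card_eq_sum_ones,
      Nat.cast_sum]
    refine Finset.sum_le_sum fun χ hχ => ?_
    have := a_ne_zero hM hab hfrob D h2 (Finset.mem_filter.mp hχ).2
    have : 0 < D.a h2 χ ^ 2 := by positivity
    push_cast
    omega
  have h3 : (0 : ℤ) ≤ ((Nat.card (Orb P) : ℤ) - 1) * D.k ^ 2 :=
    mul_nonneg (by omega) (sq_nonneg _)
  have h4 : (1 : ℤ) ≤ (D.k - D.δ) ^ 2 + ((Nat.card (Orb P) : ℤ) - 1) * D.k ^ 2 := by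
    rcases eq_or_ne D.k 0 with hk | hk
    · rcases D.sign with hs | hs <;> simp [hk, hs]
    · have h5 : 0 < D.k ^ 2 := by positivity
      have h6 : (0 : ℤ) ≤ (D.k - D.δ) ^ 2 := sq_nonneg _
      nlinarith
  omega

theorem regular_relation [Fintype (Orb P)] [DecidablePred (· ∈ D.X)] (o : Orb P) {g : G}
    (hg : ¬ p ∣ orderOf g) :
    ((Nat.card (Orb P) : ℂ) * D.k - D.δ) * (D.e o : G → ℂ) g +
      ∑ χ : IrrCharacter G with χ ∈ D.X, (D.a h2 χ : ℂ) * (χ : G → ℂ) g = 0 := by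
  classical
  set SX : ℂ := ∑ χ : IrrCharacter G with χ ∈ D.X, (D.a h2 χ : ℂ) * (χ : G → ℂ) g
  have hrel : ∀ o : Orb P, (D.k : ℂ) * ∑ o' : Orb P, (D.e o' : G → ℂ) g -
      D.δ * (D.e o : G → ℂ) g + SX = 0 := by
    intro o
    have h := sum_coeff_regular P hM hab hfrob (Quotient.out o).1 hg
    rw [sum_split D h2, Finset.sum_congr (s₁ := Finset.univ.filter fun χ => χ ∈ D.X) rfl
        (g := fun χ => (D.a h2 χ : ℂ) * (χ : G → ℂ) g) fun χ hχ => by
          rw [D.coeff_eq h2 (Finset.mem_filter.mp hχ).2 (Quotient.out o).2],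
      ← Finset.add_sum_erase _ _ (Finset.mem_univ o)] at h
    have e1 : coeff P (D.e o) (Quotient.out o).1 = D.k - D.δ := by
      rcases D.onY (Quotient.out o) o with ⟨f, -⟩ | ⟨-, f⟩
      exacts [f, absurd (Quotient.out_eq o).symm f]
    rw [e1, Finset.sum_congr rfl (g := fun o' => (D.k : ℂ) * (D.e o' : G → ℂ) g) fun o' ho' => by
      rcases D.onY (Quotient.out o) o' with ⟨-, f⟩ | ⟨f, -⟩
      · exact absurd (f.trans (Quotient.out_eq o)) (Finset.ne_of_mem_erase ho')
      · rw [f]] at h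
    rw [← h, Finset.mul_sum, ← Finset.add_sum_erase _ _ (Finset.mem_univ o)]
    push_cast
    ring
  have heq : ∀ o' : Orb P, (D.e o' : G → ℂ) g = (D.e o : G → ℂ) g := by
    intro o'
    have hδ : (D.δ : ℂ) ≠ 0 := by
      rcases D.sign with h | h <;> simp [h]
    refine mul_left_cancel₀ hδ ?_
    linear_combination hrel o - hrel o'
  rw [← hrel o, Finset.sum_congr rfl fun o' _ => heq o', Finset.sum_const, Finset.card_univ,
    nsmul_eq_mul, Nat.card_eq_fintype_card]
  ring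

theorem regular_eq (o o' : Orb P) {g : G} (hg : ¬ p ∣ orderOf g) :
    (D.e o : G → ℂ) g = (D.e o' : G → ℂ) g := by
  classical
  haveI := Fintype.ofFinite (Orb P)
  have h := regular_relation hM hab hfrob D h2 o hg
  have h' := regular_relation hM hab hfrob D h2 o' hg
  have hne : ((Nat.card (Orb P) : ℂ) * D.k - D.δ) ≠ 0 := by
    intro h0
    have h1 : ((Nat.card (Orb P) : ℤ) * D.k - D.δ) = 0 := by exact_mod_cast h0
    have h3 : (Nat.card (Orb P) : ℤ) ∣ D.δ := ⟨D.k, by omega⟩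
    rcases D.sign with hs | hs <;> rw [hs] at h3
    · have := Int.le_of_dvd one_pos h3; omega
    · have := Int.le_of_dvd one_pos (dvd_neg.mp h3); omega
  refine mul_left_cancel₀ hne ?_
  linear_combination h - h'

omit hM hab hfrob in
/-- The character attached to a linear character of `P`. -/
noncomputable def Data.ζ (ψ : (P : Subgroup G) →* ℂˣ) : IrrCharacter G :=
  haveI := Classical.dec (ψ ≠ 1)
  if h : ψ ≠ 1 then D.e (Quotient.mk (orbSetoid P) ⟨ψ, h⟩) else trivIrr G

/-- The shape of the statements. -/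
theorem zeta_props :
    (∀ ψ : (P : Subgroup G) →* ℂˣ, ψ ≠ 1 → D.ζ ψ ∈ Set.range D.e) ∧
    (∀ η ∈ Set.range D.e, ∃ ψ : (P : Subgroup G) →* ℂˣ, ψ ≠ 1 ∧ D.ζ ψ = η) ∧
    (∀ ψ ψ' : (P : Subgroup G) →* ℂˣ, ψ ≠ 1 →
      (∃ n : G, n ∈ Subgroup.normalizer ((P : Subgroup G) : Set G) ∧
        ∀ w w' : (P : Subgroup G), (w' : G) = n * w * n⁻¹ → ψ' w' = ψ w) → D.ζ ψ' = D.ζ ψ) ∧
    (∀ ψ : (P : Subgroup G) →* ℂˣ, ψ ≠ 1 → ∀ (z : G) (y : (P : Subgroup G)),
      IsPPart p z (y : G) → (y : G) ≠ 1 → (D.ζ ψ : G → ℂ) z = (D.k : ℂ) + (D.δ : ℂ) *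
        ∑ᶠ ψ' ∈ {ψ' : (P : Subgroup G) →* ℂˣ |
          ∃ n : G, n ∈ Subgroup.normalizer ((P : Subgroup G) : Set G) ∧
            ∀ w w' : (P : Subgroup G), (w' : G) = n * w * n⁻¹ → ψ' w' = ψ w},
          ((ψ' y : ℂˣ) : ℂ)) := by
  classical
  haveI := Fintype.ofFinite (P : Subgroup G)
  haveI := finite_hom (A := (P : Subgroup G)) fun a b => mul_comm' (a := a) (b := b)
  haveI := Fintype.ofFinite ((P : Subgroup G) →* ℂˣ)
  refine ⟨fun ψ hψ => ⟨Quotient.mk (orbSetoid P) ⟨ψ, hψ⟩, by rw [Data.ζ, dif_pos hψ]⟩, ?_, fun ψ ψ' hψ h => ?_, fun ψ hψ z y hz hy => ?_⟩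
  · rintro η ⟨o, rfl⟩
    induction o using Quotient.ind with
    | _ ψ => exact ⟨ψ.1, ψ.2, dif_pos ψ.2⟩
  · rw [← rel_iff] at h
    simp only [Data.ζ, dif_pos hψ, dif_pos (h.ne_one P hψ)]
    exact congrArg D.e (Quotient.sound (s := orbSetoid P) h).symm
  · simp only [← rel_iff]
    rw [value_section P hM hab hfrob (by rw [Data.ζ, dif_pos hψ]; exact D.mem _) hz y.2 hy]
    simp only [Data.ζ, dif_pos hψ]
    exact value_Y hM hab hfrob D h2 hψ fun e => hy (congrArg Subtype.val e)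

end CfsgLib.Blocks.AbelianFrob
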