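import Cfsg.Agent.Lib.Blocks.AbelianFrobeniusSylow
import Cfsg.Agent.Lib.Char.Kernel

/-!
# The principal block for an abelian Sylow subgroup with Frobenius action of order three
-/

set_option autoImplicit false
set_option linter.unusedSectionVars false
set_option linter.style.haveILetI false

namespace CfsgLib.Blocks.AbelianFrob

open Cfsg
open scoped ComplexConjugate CfsgLib.Char IsMulCommutative

section Arith

theorem eq_of_two_pos {A B C u v w : ℤ} (hA : 0 < A) (hB : 0 < B) (h1 : 1 + A + B + C = 0)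
    (h2 : 1 + u + v + w = 0) (h3 : A * B * C + u ^ 2 * (B * C) + v ^ 2 * (A * C) + w ^ 2 * (A * B) = 0) :
    u = A ∧ v = B := by
  obtain rfl : C = -1 - A - B := by omega
  obtain rfl : w = -1 - u - v := by omega
  have h4 : B * (A - u) ^ 2 + A * (B - v) ^ 2 + (B * u - A * v) ^ 2 = 0 := by linear_combination -h3
  have n1 : 0 ≤ B * (A - u) ^ 2 := mul_nonneg hB.le (sq_nonneg _)
  have n2 : 0 ≤ A * (B - v) ^ 2 := mul_nonneg hA.le (sq_nonneg _)
  have n3 : 0 ≤ (B * u - A * v) ^ 2 := sq_nonneg _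
  have e1 : B * (A - u) ^ 2 = 0 := by omega
  have e2 : A * (B - v) ^ 2 = 0 := by omega
  simp only [mul_eq_zero, hA.ne', hB.ne', false_or, pow_eq_zero_iff two_ne_zero, sub_eq_zero] at e1 e2
  exact ⟨e1.symm, e2.symm⟩

/-- The sign pattern and the square. -/
theorem two_neg {A B C u v w : ℤ} (hA : A ≠ 0) (hB : B ≠ 0) (hC : C ≠ 0) (hu : u ≠ A) (hv : v ≠ B)
    (h1 : 1 + A + B + C = 0) (h2 : 1 + u + v + w = 0)
    (h3 : A * B * C + u ^ 2 * (B * C) + v ^ 2 * (A * C) + w ^ 2 * (A * B) = 0) :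
    (if A < 0 then 1 else 0) + (if B < 0 then 1 else 0) + (if C < 0 then 1 else 0) = 2 ∧
      IsSquare (A * B * C) ∧ 0 < A * B * C := by
  have hAB : ¬ (0 < A ∧ 0 < B) := fun h => hu (eq_of_two_pos h.1 h.2 h1 h2 h3).1
  have hAC : ¬ (0 < A ∧ 0 < C) := fun h =>
    hu (eq_of_two_pos h.1 h.2 (B := C) (C := B) (v := w) (w := v) (by omega) (by omega)
      (by linear_combination h3)).1
  have hBC : ¬ (0 < B ∧ 0 < C) := fun h =>
    hv (eq_of_two_pos h.1 h.2 (A := B) (B := C) (C := A) (u := v) (v := w) (w := u) (by omega)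
      (by omega) (by linear_combination h3)).1
  have hcount : (if A < 0 then 1 else 0) + (if B < 0 then 1 else 0) + (if C < 0 then 1 else 0) = 2 := by
    split_ifs <;> omega
  refine ⟨hcount, ?_, ?_⟩
  · obtain rfl : C = -1 - A - B := by omega
    obtain rfl : w = -1 - u - v := by omega
    have h4 : ((A + A ^ 2) * (B - v) - A * B * (A - u)) ^ 2 =
        (A * B * (-1 - A - B)) * (A - u) ^ 2 := by
      linear_combination (-(A + A ^ 2)) * h3
    obtain ⟨c, hc⟩ : (A - u) ∣ ((A + A ^ 2) * (B - v) - A * B * (A - u)) :=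
      (Int.pow_dvd_pow_iff two_ne_zero).mp ⟨A * B * (-1 - A - B), by rw [h4]; ring⟩
    refine ⟨c, mul_right_cancel₀ (pow_ne_zero 2 (sub_ne_zero.mpr hu.symm)) ?_⟩
    rw [← h4, hc]
    ring
  · rcases lt_or_gt_of_ne hA with a | a <;> rcases lt_or_gt_of_ne hB with b | b <;>
      rcases lt_or_gt_of_ne hC with c | c
    · omega
    · exact mul_pos (mul_pos_of_neg_of_neg a b) c
    · exact mul_pos_of_neg_of_neg (mul_neg_of_neg_of_pos a b) c
    · exact absurd (And.intro b c) hBC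
    · exact mul_pos_of_neg_of_neg (mul_neg_of_pos_of_neg a b) c
    · exact absurd (And.intro a c) hAC
    · exact absurd (And.intro a b) hAB
    · exact absurd (And.intro a b) hAB

end Arith

variable {p : ℕ} [Fact p.Prime] {M : Ideal AlgInt} {G : Type*} [Group G] [Fintype G] (P : Sylow p G)

theorem exists_int_value {t : G} (ht : orderOf t = 2) (χ : IrrCharacter G) :
    ∃ u : ℤ, (χ : G → ℂ) t = u := by
  obtain ⟨n, ρ, hρ, hχ⟩ := χ.2
  obtain ⟨μ, h1, h2⟩ := Char.character_pow_eq_sum ρ t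
  have e : ∀ i, ∃ z : ℤ, μ i = z := fun i => by
    have h := h1 i
    rw [ht, sq_eq_one_iff] at h
    rcases h with h | h
    exacts [⟨1, by simp [h]⟩, ⟨-1, by simp [h]⟩]
  choose z hz using e
  refine ⟨∑ i, z i, ?_⟩
  rw [← hχ, show t = t ^ 1 from (pow_one t).symm, h2, Int.cast_sum]
  exact Finset.sum_congr rfl fun i _ => by rw [pow_one, hz]

/-- An element generating normally is outside the kernels of the nontrivial characters. -/
theorem value_ne_degree {t : G} (hgen : ∀ K : Subgroup G, K.Normal → t ∈ K → K = ⊤)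
    {χ : IrrCharacter G} (h1 : (χ : G → ℂ) ≠ fun _ => 1) : (χ : G → ℂ) t ≠ (χ : G → ℂ) 1 := by
  intro he
  obtain ⟨K, hK, hmem, -⟩ := Char.exists_kernel (Char.isCharacter_of_isIrr χ.2)
  have htop := hgen K hK ((hmem t).mpr he)
  have hconst : ∀ g : G, (χ : G → ℂ) g = (χ : G → ℂ) 1 := fun g =>
    (hmem g).mp (htop ▸ Subgroup.mem_top g)
  have h := Char.classInner_irr_self χ.2
  simp only [classInner, hconst, Finset.sum_const, Finset.card_univ, nsmul_eq_mul,
    ← Nat.card_eq_fintype_card, inv_mul_cancel_left₀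
      (Nat.cast_ne_zero.mpr (Nat.card_pos (α := G)).ne' : (Nat.card G : ℂ) ≠ 0)] at h
  rw [(irr_degree_eq χ).1, Complex.conj_natCast] at h
  have hd : charDegree (χ : G → ℂ) = 1 := by
    have h' : charDegree (χ : G → ℂ) * charDegree (χ : G → ℂ) = 1 := by exact_mod_cast h
    exact Nat.eq_one_of_mul_eq_one_left h'
  exact h1 (funext fun g => by rw [hconst, (irr_degree_eq χ).1, hd, Nat.cast_one])

/-- The vanishing of the second moment, under the weakest hypothesis. -/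
theorem sum_block_sq_eq_zero (hM : IsPModular p M) {B : Set (IrrCharacter G)}
    [DecidablePred (· ∈ B)] (hB : IsPBlock M B) {x t : G} (hx : ∃ k : ℕ, orderOf x = p ^ k)
    (hne : ∀ y k : G, Commute x k → IsPRegular p k → ¬ IsConj (x * k) (y * t * y⁻¹ * t)) :
    ∑ χ : IrrCharacter G with χ ∈ B,
      conj ((χ : G → ℂ) x) * (χ : G → ℂ) t ^ 2 / (χ : G → ℂ) 1 = 0 := by
  classical
  have hn : (Nat.card G : ℂ) ≠ 0 := Nat.cast_ne_zero.mpr Nat.card_pos.ne'
  have key : ∀ y : G, ∑ χ : IrrCharacter G with χ ∈ B,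
      conj ((χ : G → ℂ) x) * (χ : G → ℂ) (y * t * y⁻¹ * t) = 0 := by
    intro y
    have h' := congrArg conj (sum_block_conj_eq_zero_of_section hM hB (g := y * t * y⁻¹ * t) hx
      (hne y))
    rw [map_zero, map_sum] at h'
    rw [← h']
    exact Finset.sum_congr rfl fun χ _ => by rw [map_mul, Complex.conj_conj]
  have h0 : ∑ y : G, ∑ χ : IrrCharacter G with χ ∈ B,
      conj ((χ : G → ℂ) x) * (χ : G → ℂ) (y * t * y⁻¹ * t) = 0 :=
    Finset.sum_eq_zero fun y _ => key y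
  rw [Finset.sum_comm] at h0
  simp only [← Finset.mul_sum, sum_conj_mul_irr] at h0
  rw [← mul_right_inj' hn, mul_zero, Finset.mul_sum, ← h0]
  exact Finset.sum_congr rfl fun χ _ => by ring

/-- A `p`-element is conjugate into a given Sylow subgroup. -/
theorem exists_conj_mem_of_pow {H : Type*} [Group H] [Finite H] (Q : Sylow p H) {s : H}
    (hs : ∃ k, orderOf s = p ^ k) : ∃ c : H, c * s * c⁻¹ ∈ (Q : Subgroup H) := by
  obtain ⟨k, hk⟩ := hs
  obtain ⟨R, hR⟩ := (IsPGroup.of_card (n := k) (by rw [Nat.card_zpowers]; exact hk) :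
    IsPGroup p (Subgroup.zpowers s)).exists_le_sylow
  obtain ⟨c, hc⟩ := MulAction.exists_smul_eq H R Q
  refine ⟨c, ?_⟩
  rw [← hc]
  exact Subgroup.mem_pointwise_smul_iff_inv_smul_mem.mpr (by
    simpa [MulAut.conj_apply, mul_assoc] using hR (Subgroup.mem_zpowers s))

variable (hM : IsPModular p M) (hab : IsMulCommutative (P : Subgroup G)) (hfrob : IsFrob P)
  (h3 : Nat.card (autG P) = 3)
include hM hab hfrob h3

omit hM in
theorem autG_three : ∃ a : autG P, a ≠ 1 ∧ a * a ≠ 1 ∧ a * a ≠ a ∧ a * (a * a) = 1 ∧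
    ∀ w : autG P, w = 1 ∨ w = a ∨ w = a * a := by
  classical
  haveI := Fintype.ofFinite (autG P)
  obtain ⟨a, ha⟩ : ∃ a : autG P, a ≠ 1 :=
    Fintype.exists_ne_of_one_lt_card (by rw [← Nat.card_eq_fintype_card]; omega) 1
  have h : a * (a * a) = 1 := by
    have := pow_card_eq_one' (x := a)
    rwa [h3, pow_succ', pow_succ', pow_one] at this
  have h1 : a * a ≠ 1 := fun e => ha (by rwa [e, mul_one] at h)
  have h2 : a * a ≠ a := fun e => ha (by rwa [mul_eq_left] at e)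
  refine ⟨a, ha, h1, h2, h, fun w => ?_⟩
  have hu : ({1, a, a * a} : Finset (autG P)) = Finset.univ := by
    apply Finset.eq_univ_of_card
    rw [Finset.card_insert_of_notMem (by simp [ha.symm, h1.symm]),
      Finset.card_insert_of_notMem (by simpa using h2.symm), Finset.card_singleton,
      ← Nat.card_eq_fintype_card, h3]
  have hwu := Finset.mem_univ w
  rw [← hu] at hwu
  simpa using hwu

omit hM in
theorem mul_self_eq_one_of_isConj_inv {x : (P : Subgroup G)} (h : IsConj (x : G) (x : G)⁻¹) :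
    x * x = 1 := by
  obtain ⟨w, hw, e⟩ := (isConj_iff_autG P hab x x⁻¹).mp h
  by_cases hx : x = 1
  · simp [hx]
  by_cases hw1 : w = 1
  · rw [hw1, MulAut.one_apply] at e
    exact mul_eq_one_iff_eq_inv.mpr e
  exfalso
  obtain ⟨a, ha, haa, -, h1, hall⟩ := autG_three P hab hfrob h3
  have hw2 : w * w ≠ 1 := by
    intro e2
    rcases hall ⟨w, hw⟩ with e' | e' | e' <;>
      have e'' : (⟨w, hw⟩ : autG P) * ⟨w, hw⟩ = 1 := Subtype.ext e2 <;> rw [e'] at e''
    · exact hw1 (congrArg Subtype.val e')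
    · exact haa e''
    · exact ha (by rw [← e'', mul_assoc, h1, mul_one])
  exact hx (autG_fpf P hfrob (mul_mem hw hw) hw2
    (by rw [MulAut.mul_apply, e, map_inv, e, inv_inv]))

omit hM in
/-- In the odd case no involution inverts a nontrivial element of `P` up to conjugation. -/
theorem not_inverts (hodd : p ≠ 2) {x : (P : Subgroup G)} (hx : x ≠ 1) (c : G) :
    c * (x : G) * c⁻¹ ≠ (x : G)⁻¹ := by
  intro e
  have h := mul_self_eq_one_of_isConj_inv P hab hfrob h3 (isConj_iff.mpr ⟨c, e⟩)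
  obtain ⟨k, hk⟩ := IsPGroup.iff_orderOf.mp P.2 x
  have h2 : orderOf x ∣ 2 := orderOf_dvd_of_pow_eq_one (by rw [sq, h])
  rw [hk] at h2
  rcases Nat.eq_zero_or_pos k with rfl | hk0
  · rw [pow_zero] at hk; exact hx (orderOf_eq_one_iff.mp hk)
  · exact hodd ((Nat.prime_dvd_prime_iff_eq Fact.out Nat.prime_two).mp
      ((dvd_pow_self p hk0.ne').trans h2))

omit hM in
/-- Outside its orbit an element of `P` is not the product of two conjugates of the involution `t`
up to a factor of order prime to `p`. -/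
theorem not_mem_section (hp2 : p = 2) {t x : (P : Subgroup G)} (ht : t ≠ 1) (ht2 : t * t = 1)
    (hx1 : x ≠ 1) (hx : ∀ w : autG P, (w : MulAut (P : Subgroup G)) t ≠ x) (y k : G)
    (hk : Commute (x : G) k) (hreg : IsPRegular p k) :
    ¬ IsConj ((x : G) * k) (y * (t : G) * y⁻¹ * t) := by
  classical
  intro hconj
  obtain ⟨c, hc⟩ := isConj_iff.mp hconj
  set s : G := c⁻¹ * t * c with hs
  set s' : G := c⁻¹ * (y * t * y⁻¹) * c with hs'
  have htt : (t : G) * t = 1 := congrArg Subtype.val ht2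
  have hxk : (x : G) * k = s' * s := by
    calc (x : G) * k = c⁻¹ * (c * ((x : G) * k) * c⁻¹) * c := by group
      _ = _ := by rw [hc, hs, hs']; group
  have hss : s * s = 1 := by
    calc s * s = c⁻¹ * ((t : G) * t) * c := by rw [hs]; group
      _ = 1 := by rw [htt]; group
  have hss' : s' * s' = 1 := by
    calc s' * s' = c⁻¹ * y * ((t : G) * t) * y⁻¹ * c := by rw [hs']; group
      _ = 1 := by rw [htt]; group
  have hsi : s⁻¹ = s := inv_eq_of_mul_eq_one_right hss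
  obtain ⟨j, hj⟩ := IsPGroup.iff_orderOf.mp P.2 x
  have hxo : ∃ n, orderOf (x : G) = p ^ n := ⟨j, (Subgroup.orderOf_coe x).trans hj⟩
  -- `s` inverts `x`
  have hinv : s * (x : G) * s⁻¹ = (x : G)⁻¹ := by
    have h1 := IsPPart.conj (isPPart_mul (p := p) hk hxo hreg) s
    have e : s * ((x : G) * k) * s⁻¹ = (x : G)⁻¹ * k⁻¹ := by
      rw [hsi, ← mul_inv_rev, ← hk.eq, hxk, mul_inv_rev, hsi, inv_eq_of_mul_eq_one_right hss']
      rw [mul_assoc s, mul_assoc s', hss, mul_one]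
    rw [e] at h1
    exact IsPPart.unique (Fact.out : p.Prime) h1 (isPPart_mul (p := p) hk.inv_inv
      (by rw [orderOf_inv]; exact hxo) (y := k⁻¹) (by show ¬ p ∣ orderOf k⁻¹; rw [orderOf_inv]; exact hreg))
  have hxx := mul_self_eq_one_of_isConj_inv P hab hfrob h3 (isConj_iff.mpr ⟨s, hinv⟩)
  have hxi : (x : G)⁻¹ = x := inv_eq_of_mul_eq_one_right (congrArg Subtype.val hxx)
  have hxne : (x : G) ≠ 1 := fun e => hx1 (Subtype.ext e)
  have hle := le_centralizer_singleton P hab x.2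
  have hsC : s ∈ Subgroup.centralizer ({(x : G)} : Set G) := Subgroup.mem_centralizer_singleton_iff.mpr (by
    rw [hxi] at hinv; exact mul_inv_eq_iff_eq_mul.mp hinv)
  have hkC : k ∈ Subgroup.centralizer ({(x : G)} : Set G) := Subgroup.mem_centralizer_singleton_iff.mpr hk.symm.eq
  have hs'C : s' ∈ Subgroup.centralizer ({(x : G)} : Set G) := by
    have : s' = (x : G) * k * s := by rw [hxk, mul_assoc, hss, mul_one]
    rw [this]
    exact mul_mem (mul_mem (Subgroup.mem_centralizer_singleton_iff.mpr rfl) hkC) hsC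
  set Q := P.subtype hle
  set f := MonoidHom.transferSylow Q (normalizer_subtype_le P hfrob x.2 hxne hle) with hf
  have hQinj : ∀ a b : Subgroup.centralizer ({(x : G)} : Set G), a ∈ (Q : Subgroup _) → b ∈ (Q : Subgroup _) → f a = f b → a = b := by
    intro a b ha hb e
    have hd := MonoidHom.ker_transferSylow_disjoint Q (normalizer_subtype_le P hfrob x.2 hxne hle)
      (Q : Subgroup _) Q.2
    have h1 : a⁻¹ * b ∈ f.ker ⊓ (Q : Subgroup _) :=
      Subgroup.mem_inf.mpr ⟨by simp [MonoidHom.mem_ker, e], mul_mem (inv_mem ha) hb⟩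
    rw [disjoint_iff.mp hd, Subgroup.mem_bot] at h1
    exact inv_mul_eq_one.mp h1
  have hQc : ∀ a b : Q, a * b = b * a := fun a b => by
    have e := congrArg Subtype.val (mul_comm' (a := (⟨((a : Subgroup.centralizer ({(x : G)} : Set G)) : G), a.2⟩ : (P : Subgroup G)))
      (b := ⟨((b : Subgroup.centralizer ({(x : G)} : Set G)) : G), b.2⟩))
    exact Subtype.ext (Subtype.ext e)
  -- the image of a conjugate of `t` is that of a member of the orbit
  have himg : ∀ z : Subgroup.centralizer ({(x : G)} : Set G), IsConj (t : G) z → ∃ w : autG P,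
      f z = f ⟨((w : MulAut (P : Subgroup G)) t : (P : Subgroup G)), hle (SetLike.coe_mem _)⟩ := by
    intro z hz
    obtain ⟨c₀, hc₀⟩ := isConj_iff.mp hz
    obtain ⟨d, hd⟩ := exists_conj_mem_of_pow (p := p) Q (s := z) ⟨1, by
      rw [← Subgroup.orderOf_coe, ← hc₀, Transfer.orderOf_conj, Subgroup.orderOf_coe, pow_one]
      exact (orderOf_eq_prime (by rw [sq, ht2]) ht).trans hp2.symm⟩
    obtain ⟨w, hw, e⟩ := (isConj_iff_autG P hab t ⟨((d * z * d⁻¹ : Subgroup.centralizer ({(x : G)} : Set G)) : G), hd⟩).mp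
      (hz.trans (isConj_iff.mpr ⟨(d : G), by simp⟩))
    refine ⟨⟨w, hw⟩, ?_⟩
    have e' : (⟨((w t : (P : Subgroup G)) : G), hle (SetLike.coe_mem _)⟩ : Subgroup.centralizer ({(x : G)} : Set G)) = d * z * d⁻¹ :=
      Subtype.ext (by rw [e])
    show f z = f ⟨((w t : (P : Subgroup G)) : G), _⟩
    rw [e', map_mul, map_mul, map_inv, hQc (f d) (f z), mul_inv_cancel_right]
  obtain ⟨w, hw⟩ := himg ⟨s, hsC⟩ (isConj_iff.mpr ⟨c⁻¹, by show c⁻¹ * (t : G) * c⁻¹⁻¹ = s; rw [inv_inv]⟩)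
  obtain ⟨w', hw'⟩ := himg ⟨s', hs'C⟩
    (isConj_iff.mpr ⟨c⁻¹ * y, by show c⁻¹ * y * (t : G) * (c⁻¹ * y)⁻¹ = s'; simp only [s']; group⟩)
  have hfk : f ⟨k, hkC⟩ = 1 := by
    rw [← orderOf_eq_one_iff]
    obtain ⟨i, hi⟩ := IsPGroup.iff_orderOf.mp Q.2 (f ⟨k, hkC⟩)
    have h1 : orderOf (f ⟨k, hkC⟩) ∣ orderOf k :=
      (orderOf_map_dvd f _).trans (Subgroup.orderOf_coe (⟨k, hkC⟩ : Subgroup.centralizer ({(x : G)} : Set G))).symm.dvd
    rw [hi] at h1 ⊢
    rcases Nat.eq_zero_or_pos i with rfl | hi0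
    · exact pow_zero p
    · exact absurd ((dvd_pow_self p hi0.ne').trans h1) hreg
  set u : (P : Subgroup G) := (w : MulAut (P : Subgroup G)) t with hu
  set u' : (P : Subgroup G) := (w' : MulAut (P : Subgroup G)) t with hu'
  have e1 : (⟨(x : G), hle x.2⟩ : Subgroup.centralizer ({(x : G)} : Set G)) * ⟨k, hkC⟩ = ⟨s', hs'C⟩ * ⟨s, hsC⟩ := Subtype.ext hxk
  have e2 := congrArg f e1
  rw [map_mul, map_mul, hfk, mul_one, hw, hw', ← map_mul] at e2
  have e3 : x = u' * u := Subtype.ext (congrArg Subtype.val (hQinj _ _ x.2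
    (mul_mem u'.2 u.2) e2) :)
  -- the product of two members of the orbit lies in the orbit or is trivial
  obtain ⟨a, ha, haa, -, h1, hall⟩ := autG_three P hab hfrob h3
  set t2 := (a : MulAut (P : Subgroup G)) t with ht2def
  set t3 := (a : MulAut (P : Subgroup G)) t2 with ht3def
  have ha3 : (a : MulAut (P : Subgroup G)) t3 = t := by
    have e := DFunLike.congr_fun (congrArg Subtype.val h1) t
    exact e
  have hprod : t * t2 * t3 = 1 := autG_fpf P hfrob a.2 (fun e => ha (Subtype.ext e)) (by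
    rw [map_mul, map_mul, ha3, ← ht2def, ← ht3def, mul_comm (t2 * t3) t, mul_assoc])
  have h22 : t2 * t2 = 1 := by rw [ht2def, ← map_mul, ht2, map_one]
  have h33 : t3 * t3 = 1 := by rw [ht3def, ← map_mul, h22, map_one]
  have e12 : t * t2 = t3 := (mul_eq_one_iff_eq_inv.mp hprod).trans (inv_eq_of_mul_eq_one_right h33)
  have e13 : t * t3 = t2 := by rw [← e12, ← mul_assoc, ht2, one_mul]
  have e23 : t2 * t3 = t := by rw [← e12, mul_comm t, ← mul_assoc, h22, one_mul]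
  have hmem : ∀ v : autG P, (v : MulAut (P : Subgroup G)) t = t ∨
      (v : MulAut (P : Subgroup G)) t = t2 ∨ (v : MulAut (P : Subgroup G)) t = t3 := fun v => by
    rcases hall v with rfl | rfl | rfl
    exacts [Or.inl rfl, Or.inr (Or.inl rfl), Or.inr (Or.inr rfl)]
  have n1 : t ≠ x := hx 1
  have n2 : t2 ≠ x := hx a
  have n3 : t3 ≠ x := hx (a * a)
  rcases hmem w with h | h | h <;> rcases hmem w' with h' | h' | h' <;>
    rw [hu, h, hu', h'] at e3
  · exact hx1 (e3.trans ht2)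
  · exact n3 (by rw [e3, mul_comm, e12])
  · exact n2 (by rw [e3, mul_comm, e13])
  · exact n3 (by rw [e3, e12])
  · exact hx1 (e3.trans h22)
  · exact n1 (by rw [e3, mul_comm, e23])
  · exact n2 (by rw [e3, e13])
  · exact n1 (by rw [e3, e23])
  · exact hx1 (e3.trans h33)

/-- One can take the constant to be zero. -/
theorem exists_data_zero (h2 : 2 ≤ Nat.card (Orb P)) : ∃ D : Data P (M := M), D.k = 0 := by
  classical
  obtain ⟨D⟩ := exists_data P hM hab hfrob h2
  by_cases hk : D.k = 0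
  · exact ⟨D, hk⟩
  haveI := Fintype.ofFinite (Orb P)
  have ht : Nat.card (Orb P) * 3 = Nat.card P - 1 := by
    rw [← h3]; exact card_orb_mul P hab hfrob
  have hsq := sum_sq hM hab hfrob D h2
  rw [h3] at hsq
  have hone := one_mem_X hM hab hfrob D h2 (χ := trivIrr G) rfl
  have hterm : ∀ χ ∈ D.X, (1 : ℤ) ≤ D.a h2 χ ^ 2 := fun χ hχ => by
    have := a_ne_zero hM hab hfrob D h2 hχ
    have : 0 < D.a h2 χ ^ 2 := by positivity
    omega
  have hX1 : (1 : ℤ) ≤ ∑ χ : IrrCharacter G with χ ∈ D.X, D.a h2 χ ^ 2 :=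
    le_trans (hterm _ hone.1) (Finset.single_le_sum (f := fun χ => D.a h2 χ ^ 2)
      (fun χ _ => sq_nonneg _) (Finset.mem_filter.mpr ⟨Finset.mem_univ _, hone.1⟩))
  have htZ : (2 : ℤ) ≤ (Nat.card (Orb P) : ℤ) := by exact_mod_cast h2
  have hk2 : 0 < D.k ^ 2 := by positivity
  have hkδ : (D.k - D.δ) ^ 2 = 0 ∧ D.k ^ 2 = 1 := by
    have h1 : D.k ^ 2 ≤ ((Nat.card (Orb P) : ℤ) - 1) * D.k ^ 2 :=
      le_mul_of_one_le_left hk2.le (by omega)
    have h4 : (0 : ℤ) ≤ (D.k - D.δ) ^ 2 := sq_nonneg _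
    have h5 : D.k ^ 2 ≤ 3 := by omega
    have hb1 : D.k ≤ 1 := by nlinarith
    have hb2 : -1 ≤ D.k := by nlinarith
    have hk1 : D.k ^ 2 = 1 := by
      rcases (show D.k = 1 ∨ D.k = -1 by omega) with e | e <;> simp [e]
    refine ⟨?_, hk1⟩
    have h6 : (D.k - D.δ) ^ 2 = 0 ∨ (D.k - D.δ) ^ 2 = 4 := by
      rcases (show D.k = 1 ∨ D.k = -1 by omega) with e | e <;> rcases D.sign with f | f <;>
        rw [e, f] <;> norm_num
    omega
  have hkd : D.k = D.δ := sub_eq_zero.mp (pow_eq_zero_iff two_ne_zero |>.mp hkδ.1)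
  rw [hkδ.1, hkδ.2, mul_one, zero_add] at hsq
  obtain htt | htt | htt : Nat.card (Orb P) = 2 ∨ Nat.card (Orb P) = 3 ∨ Nat.card (Orb P) = 4 := by
    omega
  · obtain ⟨x, y, hxy, hu⟩ := Nat.card_eq_two_iff.mp htt
    set σ := Equiv.swap x y with hσ
    have hσne : ∀ o, σ o ≠ o := fun o => by
      rcases (hu.symm ▸ Set.mem_univ o : o ∈ ({x, y} : Set (Orb P))) with rfl | rfl
      · rw [hσ, Equiv.swap_apply_left]; exact hxy.symm
      · rw [hσ, Equiv.swap_apply_right]; exact hxy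
    have htwo : ∀ o q : Orb P, σ o ≠ q → o = q := fun o q hne => by
      rcases (hu.symm ▸ Set.mem_univ o : o ∈ ({x, y} : Set (Orb P))) with rfl | rfl <;>
        rcases (hu.symm ▸ Set.mem_univ q : q ∈ ({_, _} : Set (Orb P))) with rfl | rfl
      · rfl
      · exact absurd (Equiv.swap_apply_left _ _) hne
      · exact absurd (Equiv.swap_apply_right _ _) hne
      · rfl
    refine ⟨⟨D.e ∘ σ, -D.δ, 0, D.inj.comp σ.injective, ?_, fun o => D.mem _,
      fun χ hχ hn => D.const χ hχ fun ⟨o, ho⟩ => hn ⟨σ.symm o, by simp [ho]⟩, fun ψ o => ?_⟩, rfl⟩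
    · rcases D.sign with f | f <;> simp [f]
    · rcases D.onY ψ (σ o) with ⟨h, ho⟩ | ⟨h, ho⟩
      · exact Or.inr ⟨by rw [Function.comp_apply, h, hkd, sub_self],
          fun e => hσne o (ho.trans e.symm)⟩
      · exact Or.inl ⟨by rw [Function.comp_apply, h, hkd]; ring, htwo o _ ho⟩
  · exfalso
    obtain ⟨n, hn⟩ := P.2.exists_card_eq
    have h10 : p ^ n = 10 := by omega
    have hp := (Fact.out : p.Prime)
    have e2 : p = 2 := ((Nat.prime_dvd_prime_iff_eq Nat.prime_two hp).mp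
      (Nat.prime_two.dvd_of_dvd_pow (n := n) (h10 ▸ by norm_num))).symm
    have e5 : p = 5 := ((Nat.prime_dvd_prime_iff_eq (by norm_num) hp).mp
      ((by norm_num : (5 : ℕ).Prime).dvd_of_dvd_pow (n := n) (h10 ▸ by norm_num))).symm
    omega
  · exfalso
    rw [htt] at hsq
    have honly : ∀ χ ∈ D.X, χ = trivIrr G := fun χ hχ => by
      by_contra hne
      have h6 := Finset.add_le_sum (f := fun χ => D.a h2 χ ^ 2)
        (s := Finset.univ.filter fun χ => χ ∈ D.X) (fun χ _ => sq_nonneg _)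
        (Finset.mem_filter.mpr ⟨Finset.mem_univ _, hχ⟩)
        (Finset.mem_filter.mpr ⟨Finset.mem_univ _, hone.1⟩) hne
      have h7 := hterm χ hχ
      have h8 := hterm _ hone.1
      push_cast at hsq
      omega
    obtain ⟨o⟩ := nonempty_orb h2
    have hrel := regular_relation hM hab hfrob D h2 o (g := 1)
      (by rw [orderOf_one, Nat.dvd_one]; exact hM.1.ne_one)
    have hXeq : (Finset.univ.filter fun χ => χ ∈ D.X) = {trivIrr G} := by
      ext χ
      simp only [Finset.mem_filter, Finset.mem_univ, true_and, Finset.mem_singleton]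
      exact ⟨honly χ, fun h => h ▸ hone.1⟩
    rw [hXeq, Finset.sum_singleton, hone.2, htt, hkd, (irr_degree_eq (D.e o)).1] at hrel
    have hrel' : ((((4 : ℤ) * D.δ - D.δ) * (charDegree (D.e o : G → ℂ) : ℤ) + 1 : ℤ) : ℂ) =
        ((0 : ℤ) : ℂ) := by
      push_cast
      refine Eq.trans ?_ hrel
      rw [show (trivIrr G : G → ℂ) 1 = 1 from rfl]
      push_cast
      ring
    have := Int.cast_injective hrel'
    rcases D.sign with f | f <;> rw [f] at this <;> omega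

variable {P} (D : Data P (M := M)) (h2 : 2 ≤ Nat.card (Orb P)) (hk : D.k = 0)
include D h2 hk

theorem sq_a {χ : IrrCharacter G} (hχ : χ ∈ D.X) : D.a h2 χ = 1 ∨ D.a h2 χ = -1 := by
  classical
  have hsq := sum_sq hM hab hfrob D h2
  have hone := one_mem_X hM hab hfrob D h2 (χ := trivIrr G) rfl
  have hδ : (D.k - D.δ) ^ 2 = 1 := by rcases D.sign with f | f <;> simp [hk, f]
  rw [h3, hδ, hk] at hsq
  norm_num at hsq
  by_cases h : χ = trivIrr G
  · exact Or.inl (h ▸ hone.2)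
  have h6 := Finset.add_le_sum (f := fun χ => D.a h2 χ ^ 2)
    (s := Finset.univ.filter fun χ => χ ∈ D.X) (fun χ _ => sq_nonneg _)
    (Finset.mem_filter.mpr ⟨Finset.mem_univ _, hχ⟩)
    (Finset.mem_filter.mpr ⟨Finset.mem_univ _, hone.1⟩) h
  have h7 := a_ne_zero hM hab hfrob D h2 hχ
  simp only [hone.2, one_pow] at h6
  have h8 : D.a h2 χ ^ 2 ≤ 2 := by omega
  have b1 : D.a h2 χ ≤ 1 := by nlinarith
  have b2 : -1 ≤ D.a h2 χ := by nlinarith
  omega

theorem card_X : Nat.card D.X = 3 := by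
  classical
  have hsq := sum_sq hM hab hfrob D h2
  have hδ : (D.k - D.δ) ^ 2 = 1 := by rcases D.sign with f | f <;> simp [hk, f]
  rw [h3, hδ, hk, Finset.sum_congr rfl (g := fun _ => (1 : ℤ)) fun χ hχ => by
    rcases sq_a hM hab hfrob h3 D h2 hk (Finset.mem_filter.mp hχ).2 with f | f <;> simp [f],
    Finset.sum_const, nsmul_one] at hsq
  norm_num at hsq
  rw [Nat.card_eq_fintype_card, ← Set.toFinset_card, show D.X.toFinset = Finset.univ.filter
    (fun χ => χ ∈ D.X) by ext; simp]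
  omega

theorem exists_two : ∃ χ₂ χ₃ : IrrCharacter G, χ₂ ≠ χ₃ ∧
    {χ : IrrCharacter G | χ ∈ D.X ∧ (χ : G → ℂ) ≠ fun _ => 1} = {χ₂, χ₃} := by
  classical
  have hone := one_mem_X hM hab hfrob D h2 (χ := trivIrr G) rfl
  have hset : {χ : IrrCharacter G | χ ∈ D.X ∧ (χ : G → ℂ) ≠ fun _ => 1} = D.X \ {trivIrr G} := by
    ext χ
    exact and_congr_right fun _ => ⟨fun h e => h (by rw [Set.mem_singleton_iff.mp e]; rfl),
      fun h e => h (Subtype.ext e)⟩
  rw [hset]
  apply Set.ncard_eq_two.mp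
  rw [Set.ncard_sdiff_singleton_of_mem hone.1, ← Nat.card_coe_set_eq,
    card_X hM hab hfrob h3 D h2 hk]

theorem X_filter {χ₂ χ₃ : IrrCharacter G}
    (hS : {χ : IrrCharacter G | χ ∈ D.X ∧ (χ : G → ℂ) ≠ fun _ => 1} = {χ₂, χ₃})
    (hne : χ₂ ≠ χ₃) [DecidablePred (· ∈ D.X)] {R : Type*} [AddCommMonoid R]
    (f : IrrCharacter G → R) :
    ∑ χ : IrrCharacter G with χ ∈ D.X, f χ = f (trivIrr G) + (f χ₂ + f χ₃) := by
  classical
  have hone := one_mem_X hM hab hfrob D h2 (χ := trivIrr G) rfl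
  have hS' : ∀ χ, (χ ∈ D.X ∧ (χ : G → ℂ) ≠ fun _ => 1) ↔ (χ = χ₂ ∨ χ = χ₃) := fun χ =>
    Set.ext_iff.mp hS χ
  have h1 : ∀ χ, χ ∈ D.X ↔ χ = trivIrr G ∨ χ = χ₂ ∨ χ = χ₃ := fun χ => by
    refine ⟨fun h => ?_, ?_⟩
    · by_cases e : χ = trivIrr G
      · exact Or.inl e
      · exact Or.inr ((hS' χ).mp ⟨h, fun e' => e (Subtype.ext e')⟩)
    · rintro (rfl | h)
      exacts [hone.1, ((hS' χ).mpr h).1]
  have n2 : trivIrr G ≠ χ₂ := fun e => ((hS' χ₂).mpr (Or.inl rfl)).2 (e ▸ rfl)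
  have n3 : trivIrr G ≠ χ₃ := fun e => ((hS' χ₃).mpr (Or.inr rfl)).2 (e ▸ rfl)
  rw [show (Finset.univ.filter fun χ => χ ∈ D.X) = {trivIrr G, χ₂, χ₃} by
    ext χ; simp [h1], Finset.sum_insert (by simp [n2, n3]), Finset.sum_pair hne]

theorem sum_orbSum {y : (P : Subgroup G)} (hy : y ≠ 1) [Fintype (Orb P)] :
    ∑ o : Orb P, orbSum P (Quotient.out o).1 y = -1 := by
  classical
  have hA : ∀ a b : (P : Subgroup G), a * b = b * a := fun a b => mul_comm' (a := a) (b := b)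
  haveI := Fintype.ofFinite (P : Subgroup G)
  haveI := finite_hom hA
  haveI := Fintype.ofFinite ((P : Subgroup G) →* ℂˣ)
  have h : ∀ o : Orb P, orbSum P (Quotient.out o).1 y =
      ∑ ψ : {ψ : (P : Subgroup G) →* ℂˣ // ψ ≠ 1} with Quotient.mk (orbSetoid P) ψ = o,
        ((ψ.1 y : ℂˣ) : ℂ) := by
    intro o
    rw [orbSum, finsum_mem_eq_toFinset_sum]
    refine (Finset.sum_bij (fun ψ _ => ψ.1) (fun ψ hψ => ?_) (fun a _ b _ e => Subtype.ext e)
      (fun φ hφ => ?_) fun _ _ => rfl).symm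
    · rw [Set.mem_toFinset]
      have e := (Finset.mem_filter.mp hψ).2
      exact (orbSetoid P).iseqv.symm (Quotient.exact (s := orbSetoid P)
        (e.trans (Quotient.out_eq o).symm))
    · rw [Set.mem_toFinset] at hφ
      refine ⟨⟨φ, Rel.ne_one P hφ (Quotient.out o).2⟩, Finset.mem_filter.mpr ⟨Finset.mem_univ _, ?_⟩, rfl⟩
      exact (Quotient.sound (s := orbSetoid P) hφ).symm.trans (Quotient.out_eq o)
  rw [Finset.sum_congr rfl fun o _ => h o, Finset.sum_fiberwise,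
    ← Finset.sum_subtype (Finset.univ.erase (1 : (P : Subgroup G) →* ℂˣ)) (fun ψ => by simp)
      (fun ψ => ((ψ y : ℂˣ) : ℂ)), Finset.sum_erase_eq_sub (Finset.mem_univ _), sum_hom_apply hA,
    if_neg hy]
  simp

theorem value_e {y : (P : Subgroup G)} (hy : y ≠ 1) (o : Orb P) :
    (D.e o : G → ℂ) y = (D.δ : ℂ) * orbSum P (Quotient.out o).1 y := by
  haveI := Fintype.ofFinite (P : Subgroup G)
  haveI := finite_hom (A := (P : Subgroup G)) fun a b => mul_comm' (a := a) (b := b)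
  haveI := Fintype.ofFinite ((P : Subgroup G) →* ℂˣ)
  have h := value_Y hM hab hfrob D h2 (Quotient.out o).2 hy
  rwa [show Quotient.mk (orbSetoid P) ⟨(Quotient.out o).1, (Quotient.out o).2⟩ = o from
    Quotient.out_eq o, hk, Int.cast_zero, zero_add] at h

omit hM hk D in
theorem orbSum_facts {t z : (P : Subgroup G)} (_ht : t ≠ 1) (ht2 : t * t = 1) (_hz : z ≠ 1)
    (hzt : ∀ w : autG P, (w : MulAut (P : Subgroup G)) t ≠ z⁻¹) [Fintype (Orb P)]
    [Fintype (autG P)] :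
    (∀ ψ : (P : Subgroup G) →* ℂˣ, ψ ≠ 1 → orbSum P ψ t * orbSum P ψ t = 3 + 2 * orbSum P ψ t) ∧
    ∑ o : Orb P, orbSum P (Quotient.out o).1 z * orbSum P (Quotient.out o).1 t = -3 := by
  classical
  obtain ⟨a, ha, haa, hne, h1, hall⟩ := autG_three P hab hfrob h3
  have huniv : (Finset.univ : Finset (autG P)) = {1, a, a * a} := by
    ext w; simpa using hall w
  set t2 := (a : MulAut (P : Subgroup G)) t with ht2def
  set t3 := (a : MulAut (P : Subgroup G)) t2 with ht3def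
  have ha3 : (a : MulAut (P : Subgroup G)) t3 = t :=
    DFunLike.congr_fun (congrArg Subtype.val h1) t
  have hprod : t * t2 * t3 = 1 := autG_fpf P hfrob a.2 (fun e => ha (Subtype.ext e)) (by
    rw [map_mul, map_mul, ha3, ← ht2def, ← ht3def, mul_comm (t2 * t3) t, mul_assoc])
  have h22 : t2 * t2 = 1 := by rw [ht2def, ← map_mul, ht2, map_one]
  have h33 : t3 * t3 = 1 := by rw [ht3def, ← map_mul, h22, map_one]
  have e12 : t * t2 = t3 := (mul_eq_one_iff_eq_inv.mp hprod).trans (inv_eq_of_mul_eq_one_right h33)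
  have e13 : t * t3 = t2 := by rw [← e12, ← mul_assoc, ht2, one_mul]
  have e23 : t2 * t3 = t := by rw [← e12, mul_comm t, ← mul_assoc, h22, one_mul]
  have hO : ∀ ψ : (P : Subgroup G) →* ℂˣ, ψ ≠ 1 → orbSum P ψ t =
      ((ψ t : ℂˣ) : ℂ) + (((ψ t2 : ℂˣ) : ℂ) + ((ψ t3 : ℂˣ) : ℂ)) := fun ψ hψ => by
    rw [orbSum_eq P hab hfrob hψ, huniv, Finset.sum_insert (by simp [ha.symm, haa.symm]),
      Finset.sum_pair hne.symm]
    rfl
  refine ⟨fun ψ hψ => ?_, ?_⟩
  · have m : ∀ u v : (P : Subgroup G), ((ψ (u * v) : ℂˣ) : ℂ) = (ψ u : ℂ) * (ψ v : ℂ) := fun u v => by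
      rw [map_mul, Units.val_mul]
    rw [hO ψ hψ]
    have q1 := m t t; rw [ht2, map_one, Units.val_one] at q1
    have q2 := m t2 t2; rw [h22, map_one, Units.val_one] at q2
    have q3 := m t3 t3; rw [h33, map_one, Units.val_one] at q3
    have q4 := m t t2; rw [e12] at q4
    have q5 := m t t3; rw [e13] at q5
    have q6 := m t2 t3; rw [e23] at q6
    linear_combination -q1 - q2 - q3 - 2 * q4 - 2 * q5 - 2 * q6
  · haveI := Fintype.ofFinite (P : Subgroup G)
    have hne1 : ∀ w : autG P, z * (w : MulAut (P : Subgroup G)) t ≠ 1 := fun w e =>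
      hzt w (eq_inv_of_mul_eq_one_right e)
    have hA : ∀ a b : (P : Subgroup G), a * b = b * a := fun a b => mul_comm' (a := a) (b := b)
    haveI := finite_hom hA
    haveI := Fintype.ofFinite ((P : Subgroup G) →* ℂˣ)
    have hfib : ∀ o : Orb P, orbSum P (Quotient.out o).1 z * orbSum P (Quotient.out o).1 t =
        ∑ ψ : {ψ : (P : Subgroup G) →* ℂˣ // ψ ≠ 1} with Quotient.mk (orbSetoid P) ψ = o,
          ((ψ.1 z : ℂˣ) : ℂ) * orbSum P ψ.1 t := by
      intro o
      rw [orbSum, finsum_mem_eq_toFinset_sum, Finset.sum_mul]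
      refine (Finset.sum_bij (fun ψ _ => ψ.1) (fun ψ hψ => ?_) (fun a _ b _ e => Subtype.ext e)
        (fun φ hφ => ?_) fun ψ hψ => ?_).symm
      · rw [Set.mem_toFinset]
        exact (orbSetoid P).iseqv.symm (Quotient.exact (s := orbSetoid P)
          ((Finset.mem_filter.mp hψ).2.trans (Quotient.out_eq o).symm))
      · rw [Set.mem_toFinset] at hφ
        refine ⟨⟨φ, Rel.ne_one P hφ (Quotient.out o).2⟩, Finset.mem_filter.mpr ⟨Finset.mem_univ _, ?_⟩, rfl⟩
        exact (Quotient.sound (s := orbSetoid P) hφ).symm.trans (Quotient.out_eq o)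
      · have hr : Rel P (Quotient.out o).1 ψ.1 := (orbSetoid P).iseqv.symm
          (Quotient.exact (s := orbSetoid P)
            ((Finset.mem_filter.mp hψ).2.trans (Quotient.out_eq o).symm))
        rw [orbSum_congr P (Quotient.out o).2 hr]
    rw [Finset.sum_congr rfl fun o _ => hfib o, Finset.sum_fiberwise,
      Finset.sum_congr rfl fun ψ _ => by rw [orbSum_eq P hab hfrob ψ.2, Finset.mul_sum],
      Finset.sum_comm]
    have hw : ∀ w : autG P, ∑ ψ : {ψ : (P : Subgroup G) →* ℂˣ // ψ ≠ 1},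
        ((ψ.1 z : ℂˣ) : ℂ) * ((ψ.1 ((w : MulAut (P : Subgroup G)) t) : ℂˣ) : ℂ) = -1 := fun w => by
      simp only [← Units.val_mul, ← map_mul]
      rw [← Finset.sum_subtype (Finset.univ.erase (1 : (P : Subgroup G) →* ℂˣ)) (fun ψ => by simp)
        (fun ψ => ((ψ (z * (w : MulAut (P : Subgroup G)) t) : ℂˣ) : ℂ)),
        Finset.sum_erase_eq_sub (Finset.mem_univ _), sum_hom_apply hA, if_neg (hne1 w)]
      simp
    rw [Finset.sum_congr rfl fun w _ => hw w, Finset.sum_const, Finset.card_univ,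
      ← Nat.card_eq_fintype_card, h3]
    norm_num

/-- The relation and the second moment at an involution of `P`, for `p = 2`. -/
theorem moments_two (hp2 : p = 2) {t : (P : Subgroup G)} (ht : t ≠ 1) (ht2 : t * t = 1)
    (hbig : 2 * 3 + 1 ≤ Nat.card P) {χ₂ χ₃ : IrrCharacter G} (hne : χ₂ ≠ χ₃)
    (hS : {χ : IrrCharacter G | χ ∈ D.X ∧ (χ : G → ℂ) ≠ fun _ => 1} = {χ₂, χ₃}) (o : Orb P) :
    ∃ w : ℤ, (1 : ℂ) + D.a h2 χ₂ * (χ₂ : G → ℂ) t + D.a h2 χ₃ * (χ₃ : G → ℂ) t + w = 0 ∧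
      1 + (D.a h2 χ₂ : ℂ) * (χ₂ : G → ℂ) t ^ 2 / (χ₂ : G → ℂ) 1 +
        (D.a h2 χ₃ : ℂ) * (χ₃ : G → ℂ) t ^ 2 / (χ₃ : G → ℂ) 1 +
        (w : ℂ) ^ 2 / (-(D.δ : ℂ) * (D.e o : G → ℂ) 1) = 0 := by
  classical
  haveI := isPrime_of_isPModular hM
  haveI := Fintype.ofFinite (Orb P)
  haveI := Fintype.ofFinite (autG P)
  haveI := Fintype.ofFinite (P : Subgroup G)
  refine ⟨-3, ?_, ?_⟩
  · have h2' : χ₂ ∈ D.X := ((Set.ext_iff.mp hS χ₂).mpr (Or.inl rfl)).1
    have h3' : χ₃ ∈ D.X := ((Set.ext_iff.mp hS χ₃).mpr (Or.inr rfl)).1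
    rw [value_X hM hab hfrob D h2 h2' ht, value_X hM hab hfrob D h2 h3' ht]
    rcases sq_a hM hab hfrob h3 D h2 hk h2' with f | f <;>
      rcases sq_a hM hab hfrob h3 D h2 hk h3' with g | g <;> rw [f, g] <;> norm_num
  -- an element of `P` outside the orbit of `t`
  obtain ⟨x, hx1, hx⟩ : ∃ x : (P : Subgroup G), x ≠ 1 ∧
      ∀ w : autG P, (w : MulAut (P : Subgroup G)) t ≠ x := by
    by_contra hc
    push Not at hc
    have hsub : (Finset.univ : Finset (P : Subgroup G)) ⊆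
        insert 1 (Finset.univ.image fun w : autG P => (w : MulAut (P : Subgroup G)) t) := fun x _ => by
      by_cases hx : x = 1
      · simp [hx]
      · obtain ⟨w, hw⟩ := hc x hx
        exact Finset.mem_insert_of_mem (Finset.mem_image.mpr ⟨w, Finset.mem_univ _, hw⟩)
    have h := (Finset.card_le_card hsub).trans
      ((Finset.card_insert_le _ _).trans (Nat.add_le_add_right Finset.card_image_le 1))
    rw [Finset.card_univ, Finset.card_univ, ← Nat.card_eq_fintype_card,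
      ← Nat.card_eq_fintype_card, h3] at h
    omega
  have hxo : ∃ n, orderOf (x : G) = p ^ n := exists_pow_orderOf P hM hab hfrob x.2
  have h0 := sum_block_sq_eq_zero hM (B := principalBlock M G) isPBlock_principalBlock (t := (t : G))
    hxo fun y k hk' hreg => not_mem_section P hab hfrob h3 hp2 ht ht2 hx1 hx y k hk' hreg
  rw [sum_split D h2, X_filter hM hab hfrob h3 D h2 hk hS hne] at h0
  have h2' : χ₂ ∈ D.X := ((Set.ext_iff.mp hS χ₂).mpr (Or.inl rfl)).1
  have h3' : χ₃ ∈ D.X := ((Set.ext_iff.mp hS χ₃).mpr (Or.inr rfl)).1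
  rw [show (trivIrr G : G → ℂ) x = 1 from rfl, show (trivIrr G : G → ℂ) (t : G) = 1 from rfl,
    show (trivIrr G : G → ℂ) 1 = 1 from rfl, value_X hM hab hfrob D h2 h2' hx1,
    value_X hM hab hfrob D h2 h3' hx1] at h0
  simp only [map_one, one_pow, one_mul, div_one, map_intCast] at h0
  -- the coherent part
  have hηr : ∀ o' : Orb P, (D.e o' : G → ℂ) 1 = (D.e o : G → ℂ) 1 := fun o' =>
    regular_eq hM hab hfrob D h2 o' o (by rw [orderOf_one, Nat.dvd_one]; exact hM.1.ne_one)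
  have hzt : ∀ w : autG P, (w : MulAut (P : Subgroup G)) t ≠ (x⁻¹)⁻¹ := fun w => by
    rw [inv_inv]; exact hx w
  obtain ⟨hsqO, hcross⟩ := orbSum_facts hab hfrob h3 h2 ht ht2 (inv_ne_one.mpr hx1) hzt
  have hconj : ∀ ψ : {ψ : (P : Subgroup G) →* ℂˣ // ψ ≠ 1},
      conj (orbSum P ψ.1 x) = orbSum P ψ.1 x⁻¹ := fun ψ => by
    rw [orbSum_eq P hab hfrob ψ.2, orbSum_eq P hab hfrob ψ.2, map_sum]
    exact Finset.sum_congr rfl fun w _ => by simp only [conj_hom, map_inv]
  have hδ2 : (D.δ : ℂ) * D.δ = 1 := by rcases D.sign with f | f <;> simp [f]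
  rw [Finset.sum_congr rfl (g := fun o' => ((D.δ : ℂ) / (D.e o : G → ℂ) 1) *
      (3 * orbSum P (Quotient.out o').1 x⁻¹ +
        2 * (orbSum P (Quotient.out o').1 x⁻¹ * orbSum P (Quotient.out o').1 t))) fun o' _ => by
      rw [value_e hM hab hfrob h3 D h2 hk hx1, value_e hM hab hfrob h3 D h2 hk ht, hηr, map_mul,
        map_intCast, hconj, mul_pow, sq (D.δ : ℂ), hδ2, one_mul, sq, hsqO _ (Quotient.out o').2]
      ring,
    ← Finset.mul_sum, Finset.sum_add_distrib, ← Finset.mul_sum, ← Finset.mul_sum,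
    sum_orbSum hM hab hfrob h3 D h2 hk (inv_ne_one.mpr hx1), hcross] at h0
  have hηne : (D.e o : G → ℂ) 1 ≠ 0 := by
    rw [(irr_degree_eq (D.e o)).1]; exact Nat.cast_ne_zero.mpr (irr_degree_eq (D.e o)).2.ne'
  rw [← h0]
  rcases D.sign with f | f <;> rw [f] <;> push_cast <;> field_simp <;> ring

/-- The relation and the second moment at an involution, for odd `p`. -/
theorem moments_odd (hodd : p ≠ 2) {t : G} (ht : orderOf t = 2)
    {χ₂ χ₃ : IrrCharacter G} (hne : χ₂ ≠ χ₃)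
    (hS : {χ : IrrCharacter G | χ ∈ D.X ∧ (χ : G → ℂ) ≠ fun _ => 1} = {χ₂, χ₃}) (o : Orb P) :
    ∃ w : ℤ, (1 : ℂ) + D.a h2 χ₂ * (χ₂ : G → ℂ) t + D.a h2 χ₃ * (χ₃ : G → ℂ) t + w = 0 ∧
      1 + (D.a h2 χ₂ : ℂ) * (χ₂ : G → ℂ) t ^ 2 / (χ₂ : G → ℂ) 1 +
        (D.a h2 χ₃ : ℂ) * (χ₃ : G → ℂ) t ^ 2 / (χ₃ : G → ℂ) 1 +
        (w : ℂ) ^ 2 / (-(D.δ : ℂ) * (D.e o : G → ℂ) 1) = 0 := by
  classical
  haveI := isPrime_of_isPModular hM
  haveI := Fintype.ofFinite (Orb P)
  haveI := Fintype.ofFinite (P : Subgroup G)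
  have htreg : ¬ p ∣ orderOf t := by
    rw [ht]; exact fun h => hodd ((Nat.prime_dvd_prime_iff_eq Fact.out Nat.prime_two).mp h)
  obtain ⟨z, hz⟩ := exists_int_value ht (D.e o)
  refine ⟨-D.δ * z, ?_, ?_⟩
  · have h := regular_relation hM hab hfrob D h2 o htreg
    rw [X_filter hM hab hfrob h3 D h2 hk hS hne,
      (one_mem_X hM hab hfrob D h2 (χ := trivIrr G) rfl).2, hk, hz,
      show (trivIrr G : G → ℂ) t = 1 from rfl] at h
    push_cast at h ⊢
    linear_combination h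
  obtain ⟨x, hx1⟩ : ∃ x : (P : Subgroup G), x ≠ 1 := by
    by_contra hc
    push Not at hc
    obtain ⟨o₁⟩ := nonempty_orb h2
    exact (Quotient.out o₁).2 (MonoidHom.ext fun y => by rw [hc y, map_one, map_one])
  have h0 := sum_block_sq_conj_eq_zero hM (B := principalBlock M G) isPBlock_principalBlock
    (exists_pow_orderOf P hM hab hfrob x.2) (t := t) (by rw [← sq, ← ht, pow_orderOf_eq_one])
    fun c => not_inverts P hab hfrob h3 hodd hx1 _
  rw [sum_split D h2, X_filter hM hab hfrob h3 D h2 hk hS hne] at h0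
  have h2' : χ₂ ∈ D.X := ((Set.ext_iff.mp hS χ₂).mpr (Or.inl rfl)).1
  have h3' : χ₃ ∈ D.X := ((Set.ext_iff.mp hS χ₃).mpr (Or.inr rfl)).1
  rw [show (trivIrr G : G → ℂ) x = 1 from rfl, show (trivIrr G : G → ℂ) t = 1 from rfl,
    show (trivIrr G : G → ℂ) 1 = 1 from rfl, value_X hM hab hfrob D h2 h2' hx1,
    value_X hM hab hfrob D h2 h3' hx1] at h0
  simp only [map_one, one_pow, one_mul, div_one, map_intCast] at h0
  rw [Finset.sum_congr rfl (g := fun o' => ((D.δ : ℂ) * (z : ℂ) ^ 2 / (D.e o : G → ℂ) 1) *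
      conj (orbSum P (Quotient.out o').1 x)) fun o' _ => by
      rw [value_e hM hab hfrob h3 D h2 hk hx1, regular_eq hM hab hfrob D h2 o' o htreg, hz,
        regular_eq hM hab hfrob D h2 o' o (g := 1)
          (by rw [orderOf_one, Nat.dvd_one]; exact hM.1.ne_one), map_mul, map_intCast]
      ring,
    ← Finset.mul_sum, ← map_sum, sum_orbSum hM hab hfrob h3 D h2 hk hx1, map_neg, map_one] at h0
  have hηne : (D.e o : G → ℂ) 1 ≠ 0 := by
    rw [(irr_degree_eq (D.e o)).1]; exact Nat.cast_ne_zero.mpr (irr_degree_eq (D.e o)).2.ne'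
  rw [← h0]
  rcases D.sign with f | f <;> rw [f] <;> push_cast <;> field_simp <;> ring

/-- Two negative signs and a square, when an involution generates normally. -/
theorem involution_clause (hbig : 2 * 3 + 1 ≤ Nat.card P)
    (hinv : ∃ t : G, orderOf t = 2 ∧ ∀ K : Subgroup G, K.Normal → t ∈ K → K = ⊤) :
    Nat.card {χ : IrrCharacter G // χ ∈ D.X ∧ (χ : G → ℂ) ≠ (fun _ => 1) ∧ D.a h2 χ = -1} +
      (if D.δ = 1 then 1 else 0) = 2 ∧ ∀ η ∈ Set.range D.e,
        IsSquare (charDegree (η : G → ℂ) * ∏ᶠ χ ∈ {χ : IrrCharacter G |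
          χ ∈ D.X ∧ (χ : G → ℂ) ≠ fun _ => 1}, charDegree (χ : G → ℂ)) := by
  classical
  obtain ⟨χ₂, χ₃, hne, hS⟩ := exists_two hM hab hfrob h3 D h2 hk
  have hS' : ∀ χ, (χ ∈ D.X ∧ (χ : G → ℂ) ≠ fun _ => 1) ↔ (χ = χ₂ ∨ χ = χ₃) := fun χ =>
    Set.ext_iff.mp hS χ
  obtain ⟨m2, n2⟩ := (hS' χ₂).mpr (Or.inl rfl)
  obtain ⟨m3, n3⟩ := (hS' χ₃).mpr (Or.inr rfl)
  obtain ⟨t₀, ht₀, hgen₀⟩ := hinv
  -- in characteristic two the involution may be taken in `P`
  obtain ⟨t, ht, hgen, htP⟩ : ∃ t : G, orderOf t = 2 ∧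
      (∀ K : Subgroup G, K.Normal → t ∈ K → K = ⊤) ∧ (p = 2 → t ∈ (P : Subgroup G)) := by
    by_cases hp2 : p = 2
    · obtain ⟨c, hc⟩ := exists_conj_mem_of_pow P (s := t₀) ⟨1, by rw [pow_one, ht₀, hp2]⟩
      refine ⟨c * t₀ * c⁻¹, by rw [Transfer.orderOf_conj, ht₀], fun K hK hm => hgen₀ K hK ?_,
        fun _ => hc⟩
      have := hK.conj_mem _ hm c⁻¹
      simpa [mul_assoc] using this
    · exact ⟨t₀, ht₀, hgen₀, fun h => absurd h hp2⟩
  have key : ∀ o : Orb P,
      (if D.a h2 χ₂ = -1 then 1 else 0) + (if D.a h2 χ₃ = -1 then 1 else 0) +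
        (if D.δ = 1 then 1 else 0) = 2 ∧
      IsSquare (charDegree (D.e o : G → ℂ) *
        (charDegree (χ₂ : G → ℂ) * charDegree (χ₃ : G → ℂ))) := by
    intro o
    obtain ⟨u', hu'⟩ := exists_int_value ht χ₂
    obtain ⟨v', hv'⟩ := exists_int_value ht χ₃
    obtain ⟨w, hw1, hw2⟩ : ∃ w : ℤ,
        (1 : ℂ) + D.a h2 χ₂ * (χ₂ : G → ℂ) t + D.a h2 χ₃ * (χ₃ : G → ℂ) t + w = 0 ∧
        1 + (D.a h2 χ₂ : ℂ) * (χ₂ : G → ℂ) t ^ 2 / (χ₂ : G → ℂ) 1 +
          (D.a h2 χ₃ : ℂ) * (χ₃ : G → ℂ) t ^ 2 / (χ₃ : G → ℂ) 1 +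
          (w : ℂ) ^ 2 / (-(D.δ : ℂ) * (D.e o : G → ℂ) 1) = 0 := by
      by_cases hp2 : p = 2
      · exact moments_two hM hab hfrob h3 D h2 hk hp2 (t := ⟨t, htP hp2⟩)
          (fun e => by
            have : t = 1 := congrArg Subtype.val e
            simp [this] at ht)
          (Subtype.ext (by show t * t = 1; rw [← sq, ← ht, pow_orderOf_eq_one])) hbig hne hS o
      · exact moments_odd hM hab hfrob h3 D h2 hk hp2 ht hne hS o
    haveI := Fintype.ofFinite (Orb P)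
    have hrel := regular_relation hM hab hfrob D h2 o (g := 1)
      (by rw [orderOf_one, Nat.dvd_one]; exact hM.1.ne_one)
    rw [X_filter hM hab hfrob h3 D h2 hk hS hne,
      (one_mem_X hM hab hfrob D h2 (χ := trivIrr G) rfl).2, hk,
      show (trivIrr G : G → ℂ) 1 = 1 from rfl] at hrel
    have hk2 : (χ₂ : G → ℂ) t ≠ (χ₂ : G → ℂ) 1 := value_ne_degree hgen n2
    have hk3 : (χ₃ : G → ℂ) t ≠ (χ₃ : G → ℂ) 1 := value_ne_degree hgen n3
    rw [(irr_degree_eq χ₂).1, hu'] at hk2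
    rw [(irr_degree_eq χ₃).1, hv'] at hk3
    rw [(irr_degree_eq χ₂).1, (irr_degree_eq χ₃).1, (irr_degree_eq (D.e o)).1] at hrel hw2
    rw [hu', hv'] at hw1 hw2
    have p2 := (irr_degree_eq χ₂).2
    have p3 := (irr_degree_eq χ₃).2
    have p0 := (irr_degree_eq (D.e o)).2
    generalize charDegree (χ₂ : G → ℂ) = d2 at *
    generalize charDegree (χ₃ : G → ℂ) = d3 at *
    generalize charDegree (D.e o : G → ℂ) = d0 at *
    have ha2 := sq_a hM hab hfrob h3 D h2 hk m2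
    have ha3 := sq_a hM hab hfrob h3 D h2 hk m3
    have hs := D.sign
    generalize D.a h2 χ₂ = a2 at *
    generalize D.a h2 χ₃ = a3 at *
    generalize D.δ = δ at *
    have r1 : 1 + a2 * (d2 : ℤ) + a3 * (d3 : ℤ) + -δ * (d0 : ℤ) = 0 := by
      have : ((1 + a2 * (d2 : ℤ) + a3 * (d3 : ℤ) + -δ * (d0 : ℤ) : ℤ) : ℂ) = 0 := by
        push_cast at hrel ⊢
        linear_combination hrel
      exact_mod_cast this
    have r2 : 1 + a2 * u' + a3 * v' + w = 0 := by exact_mod_cast hw1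
    have c2 : a2 * a2 = 1 := by rcases ha2 with f | f <;> simp [f]
    have c3 : a3 * a3 = 1 := by rcases ha3 with f | f <;> simp [f]
    have cs : δ * δ = 1 := by rcases hs with f | f <;> simp [f]
    have nA : a2 * (d2 : ℤ) ≠ 0 := mul_ne_zero (by omega) (by exact_mod_cast p2.ne')
    have nB : a3 * (d3 : ℤ) ≠ 0 := mul_ne_zero (by omega) (by exact_mod_cast p3.ne')
    have nC : -δ * (d0 : ℤ) ≠ 0 := mul_ne_zero (by omega) (by exact_mod_cast p0.ne')
    have r3 : (a2 * d2) * (a3 * d3) * (-δ * d0) + (a2 * u') ^ 2 * ((a3 * d3) * (-δ * d0)) +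
        (a3 * v') ^ 2 * ((a2 * d2) * (-δ * d0)) + w ^ 2 * ((a2 * d2) * (a3 * d3)) = (0 : ℤ) := by
      have e2 : (d2 : ℂ) ≠ 0 := Nat.cast_ne_zero.mpr p2.ne'
      have e3 : (d3 : ℂ) ≠ 0 := Nat.cast_ne_zero.mpr p3.ne'
      have e0 : (d0 : ℂ) ≠ 0 := Nat.cast_ne_zero.mpr p0.ne'
      have es : (δ : ℂ) ≠ 0 := by rcases hs with f | f <;> simp [f]
      have c2' : (a2 : ℂ) * a2 = 1 := by exact_mod_cast c2
      have c3' : (a3 : ℂ) * a3 = 1 := by exact_mod_cast c3
      apply Int.cast_injective (α := ℂ)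
      push_cast
      field_simp at hw2
      rcases ha2 with f | f <;> rcases ha3 with g | g <;> rcases hs with q | q <;>
        simp only [f, g, q] at hw2 ⊢ <;> push_cast at hw2 ⊢ <;>
        first
          | linear_combination hw2
          | linear_combination -hw2
    have hu : a2 * u' ≠ a2 * (d2 : ℤ) := fun e =>
      hk2 (by have := mul_left_cancel₀ (by omega : a2 ≠ 0) e; exact_mod_cast this)
    have hv : a3 * v' ≠ a3 * (d3 : ℤ) := fun e =>
      hk3 (by have := mul_left_cancel₀ (by omega : a3 ≠ 0) e; exact_mod_cast this)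
    obtain ⟨hcnt, ⟨r, hr⟩, hpos⟩ := two_neg nA nB nC hu hv r1 r2 r3
    have sA : a2 * (d2 : ℤ) < 0 ↔ a2 = -1 := by
      rcases ha2 with f | f <;> simp [f] <;> omega
    have sB : a3 * (d3 : ℤ) < 0 ↔ a3 = -1 := by
      rcases ha3 with f | f <;> simp [f] <;> omega
    have sC : -δ * (d0 : ℤ) < 0 ↔ δ = 1 := by
      rcases hs with f | f <;> simp [f] <;> omega
    simp only [sA, sB, sC] at hcnt
    refine ⟨hcnt, r.natAbs, ?_⟩
    have e := congrArg Int.natAbs hr
    rw [Int.natAbs_mul, Int.natAbs_mul, Int.natAbs_mul, Int.natAbs_mul, Int.natAbs_mul,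
      Int.natAbs_natCast, Int.natAbs_natCast, Int.natAbs_mul, Int.natAbs_natCast,
      Int.natAbs_neg] at e
    rw [show a2.natAbs = 1 by omega, show a3.natAbs = 1 by omega, show δ.natAbs = 1 by omega,
      one_mul, one_mul, one_mul] at e
    rw [← e]; ring
  obtain ⟨o₀⟩ := nonempty_orb h2
  refine ⟨?_, ?_⟩
  · rw [← (key o₀).1]
    congr 1
    rw [Nat.card_eq_fintype_card, Fintype.card_subtype,
      show (Finset.univ.filter fun χ : IrrCharacter G =>
        χ ∈ D.X ∧ (χ : G → ℂ) ≠ (fun _ => 1) ∧ D.a h2 χ = -1) =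
        ({χ₂, χ₃} : Finset (IrrCharacter G)).filter fun χ => D.a h2 χ = -1 by
          ext χ; simp [← and_assoc, hS' χ],
      Finset.card_filter, Finset.sum_pair hne]
  · rintro η ⟨o, rfl⟩
    rw [hS, finprod_mem_pair hne]
    exact (key o).2

end CfsgLib.Blocks.AbelianFrob
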