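import Cfsg.Agent.Lib.Blocks.BlockSaturation
import Cfsg.Agent.Lib.Fusion.Alperin
import Cfsg.Agent.S5083

/-!
# Nilpotent blocks and their fusion systems
-/

set_option autoImplicit false
set_option linter.unusedSectionVars false

namespace CfsgLib.Blocks

open Cfsg Cfsg.FusionSystem
open scoped ComplexConjugate CfsgLib.Char

variable {p : ℕ} {M : Ideal AlgInt} {G : Type*} [Group G] [Fintype G] [M.IsPrime]
  {B : Set (IrrCharacter G)} {P : Subgroup G}
  {e : Set (IrrCharacter (Subgroup.centralizer (P : Set G)))} {FS : FusionSystem P}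

/-- A `p`-regular element some `p`-th power power of which lies in `H` lies in `H`. -/
theorem mem_of_pow_mem_of_isPRegular (hp : p.Prime) {H : Subgroup G} {x : G} (hx : IsPRegular p x)
    {k : ℕ} (h : x ^ p ^ k ∈ H) : x ∈ H := by
  obtain ⟨m, hm⟩ := exists_pow_eq_self_of_coprime
    (Nat.Coprime.pow_left k (hp.coprime_iff_not_dvd.mpr hx))
  exact hm ▸ pow_mem h m

theorem blockT_conjPair {Q : Subgroup G}
    {f : Set (IrrCharacter (Subgroup.centralizer (Q : Set G)))} {g x : G}
    (hx : x ∈ blockT Q f) :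
    g * x * g⁻¹ ∈ blockT (conjPair g ⟨Q, f⟩).1 (conjPair g ⟨Q, f⟩).2 :=
  (conj_mem_blockT_iff rfl x).mpr hx

theorem mem_centralizer_of_conj {Q : Subgroup G} {g x : G}
    (h : g * x * g⁻¹ ∈ Subgroup.centralizer
      ((Q.map (MulAut.conj g).toMonoidHom : Subgroup G) : Set G)) :
    x ∈ Subgroup.centralizer (Q : Set G) :=
  (centralizer_map_conj_iff Q g x).mp (by simpa [mul_assoc] using h)

/-- For a nilpotent block, the `p`-regular part of every stabilizer centralizes. -/
theorem exists_pow_mem_centralizer (hM : IsPModular p M) (hnil : IsNilpotentBlock p M B)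
    {Q : Subgroup G} {f : Set (IrrCharacter (Subgroup.centralizer (Q : Set G)))}
    (hQf : IsBrauerPairOf p M B Q f) {x : G} (hx : x ∈ blockT Q f) :
    ∃ k : ℕ, x ^ p ^ k ∈ Subgroup.centralizer (Q : Set G) := by
  have hp := hM.1
  refine ⟨(orderOf x).factorization p, ?_⟩
  have hh := mem_blockT.mp (pow_mem hx (p ^ (orderOf x).factorization p))
  refine hnil.2 Q f hQf _ hh.1 hh.2 ?_
  have h0 : orderOf x ≠ 0 := (orderOf_pos x).ne'
  show ¬ p ∣ orderOf _
  rw [orderOf_pow_of_dvd (pow_ne_zero _ hp.ne_zero) (Nat.ordProj_dvd _ p)]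
  exact Nat.not_dvd_ordCompl hp h0

/-- For a nilpotent block the fusion system is inner. -/
theorem hom_eq_inner_of_nilpotent (hM : IsPModular p M) (hF : IsBlockFusionSystemOn p M B P e FS)
    (hnil : IsNilpotentBlock p M B) : FS = innerFusionSystem P := by
  have : Fact p.Prime := ⟨hM.1⟩
  have hPe := hF.1.1.1
  refine Cfsg.Agent.S5083.result p hPe.1 FS (isSaturated_block hM hF) fun Q hQ => ?_
  obtain ⟨f, hf⟩ := exists_le_top hM hPe hQ
  rw [autGroup_block hM hF hf]
  rintro ⟨α, hα⟩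
  obtain ⟨g, hg, hv⟩ := (Fusion.mem_autInducedBy_iff _ Q α).mp hα
  have hQf : IsBrauerPairOf p M B Q f :=
    (SubpairLE.isBrauerPairOf_iff hM hf hnil.1).mp hF.1.1
  obtain ⟨k, hk⟩ := exists_pow_mem_centralizer hM hnil hQf hg
  refine ⟨k, Subtype.ext (MulEquiv.ext fun x => Subtype.ext ?_)⟩
  have hpow : ∀ n : ℕ, ((α ^ n) x : G) = g ^ n * (x : G) * (g ^ n)⁻¹ := by
    intro n
    induction n with
    | zero => simp
    | succ n ih =>
      rw [pow_succ', MulAut.mul_apply, hv, ih, pow_succ']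
      group
  show ((α ^ p ^ k) x : G) = x
  rw [hpow]
  exact Fusion.conj_eq_self_of_mem_centralizer hk x.2

/-- If the fusion system of a block is inner then the block is nilpotent. -/
theorem isNilpotentBlock_of_inner (hM : IsPModular p M) (hF : IsBlockFusionSystemOn p M B P e FS)
    (h : ∀ Q : Subgroup G, FS.Hom Q = (innerFusionSystem P).Hom Q) : IsNilpotentBlock p M B := by
  have hPe := hF.1.1.1
  refine ⟨hF.1.1.2.1, fun Q f hQf x hx hst hreg => ?_⟩
  obtain ⟨g, hg⟩ := exists_conjPair_le_maximal hM hF.1 hQf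
  have hy := blockT_conjPair (g := g) (mem_blockT.mpr ⟨hx, hst⟩)
  have hreg' : IsPRegular p (g * x * g⁻¹) := by
    rw [IsPRegular]
    rwa [show orderOf (g * x * g⁻¹) = orderOf x from (MulAut.conj g).orderOf_eq x]
  refine mem_centralizer_of_conj (g := g) ?_
  set y := g * x * g⁻¹ with hy0
  set Q' := Q.map (MulAut.conj g).toMonoidHom with hQ'0
  have hc : Carries p M P e y Q' := carries_of_mem_blockT hg hy
  have hmap : conjHom Q' y ∈ FS.Hom Q' :=
    (hF.2 Q' _).mpr ⟨hc.le, y, fun u => rfl, hc.map_le, hc⟩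
  rw [h] at hmap
  obtain ⟨-, u, hu, huv⟩ := hmap
  obtain ⟨k, hk⟩ := hPe.1 ⟨u, hu⟩
  have hk' : u ^ p ^ k = 1 := congrArg Subtype.val hk
  have hn : ∀ (n : ℕ) (z : G), z ∈ Q' →
      y ^ n * z * (y ^ n)⁻¹ = u ^ n * z * (u ^ n)⁻¹ ∧ y ^ n * z * (y ^ n)⁻¹ ∈ Q' := by
    intro n
    induction n with
    | zero => intro z hz; simp [hz]
    | succ n ih =>
      intro z hz
      obtain ⟨h1, h2⟩ := ih z hz
      have h3 : y * (y ^ n * z * (y ^ n)⁻¹) * y⁻¹ = u * (y ^ n * z * (y ^ n)⁻¹) * u⁻¹ :=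
        huv ⟨_, h2⟩
      have h4 := ((Subgroup.mem_normalizer_iff.mp (blockT_le_normalizer hy)) _).mp h2
      have e1 : y ^ (n + 1) * z * (y ^ (n + 1))⁻¹ = y * (y ^ n * z * (y ^ n)⁻¹) * y⁻¹ := by
        rw [pow_succ']; group
      refine ⟨?_, e1 ▸ h4⟩
      rw [e1, h3, h1, pow_succ']
      group
  refine mem_of_pow_mem_of_isPRegular hM.1 hreg' (k := k)
    (Fusion.mem_centralizer_of_conj_eq fun z hz => ?_)
  rw [(hn _ z hz).1, hk']
  simp

theorem centralizerIn_eq_self {Q : Subgroup G} (hab : ∀ x ∈ P, ∀ y ∈ P, x * y = y * x)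
    (hQ : Q ≤ P) : centralizerIn P Q = P :=
  inf_eq_left.mpr fun x hx => fun q hq => hab q (hQ hq) x hx

/-- For an abelian defect group every stabilizer is controlled by `(P, e)`. -/
theorem exists_blockT_factor (hM : IsPModular p M) (hmax : IsMaximalBrauerPair p M B P e)
    (hab : ∀ x ∈ P, ∀ y ∈ P, x * y = y * x) {Q : Subgroup G}
    {f : Set (IrrCharacter (Subgroup.centralizer (Q : Set G)))}
    (hle : SubpairLE p M Q f P e) {x : G} (hx : x ∈ blockT Q f) :
    ∃ y ∈ blockT P e, ∃ c ∈ Subgroup.centralizer (Q : Set G), x = y * c := by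
  have hPe := hmax.1.1
  have hF := isBlockFusionSystemOn_blockFusion hM hmax
  have hQP : Q ≤ P := SubpairLE.le hle
  have hfc : (blockFusion hM hmax.1.1).IsFullyCentralized Q :=
    ⟨hQP, fun R _ => by
      rw [centralizerIn_eq_self hab hQP]
      exact Subgroup.card_le_of_le inf_le_left⟩
  have hrec := Fusion.isReceptive_iff.mp (isReceptive_block hM hF hle hfc)
  have hxN := blockT_le_normalizer hx
  have hiso : Fusion.IsIso (blockFusion hM hmax.1.1) Q Q (fun z => x * z * x⁻¹) := by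
    refine ⟨(isMap_block_iff hF).mpr ⟨x, carries_of_mem_blockT hle hx, fun _ _ => rfl⟩, ?_⟩
    ext z
    constructor
    · rintro ⟨w, hw, rfl⟩
      exact (Subgroup.mem_normalizer_iff.mp hxN w).mp hw
    · intro hz
      refine ⟨x⁻¹ * z * x, ?_, by group⟩
      exact (Subgroup.mem_normalizer_iff.mp hxN _).mpr (by simpa [mul_assoc] using hz)
  obtain ⟨f', hf', hext⟩ := hrec.2 Q _ hiso
  rw [show Fusion.nPhi P Q (fun z => x * z * x⁻¹) = P from le_antisymm (Fusion.nPhi_le_self Q _)
    ((centralizerIn_eq_self hab hQP).symm.le.trans (Fusion.centralizerIn_le_nPhi Q _))] at hf'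
  obtain ⟨y, hy, hyv⟩ := (isMap_block_iff hF).mp hf'
  have hyN : y ∈ Subgroup.normalizer (P : Set G) := by
    refine Subgroup.mem_normalizer_iff.mpr fun z => ?_
    have heq : P.map (MulAut.conj y).toMonoidHom = P :=
      Subgroup.eq_of_le_of_card_ge hy.map_le (card_map_conj _ _).ge
    constructor
    · exact fun hz => hy.map_le ⟨z, hz, rfl⟩
    · intro hz
      rw [← heq, mem_map_conj_iff] at hz
      simpa [mul_assoc] using hz
  refine ⟨y, mem_blockT_of_carries hM hPe Relation.ReflTransGen.refl hy hyN, y⁻¹ * x,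
    Fusion.mem_centralizer_of_conj_eq fun z hz => ?_, by group⟩
  have h1 := (hyv z (hQP hz)).symm.trans (hext z hz)
  calc y⁻¹ * x * z * (y⁻¹ * x)⁻¹ = y⁻¹ * (x * z * x⁻¹) * y := by group
    _ = y⁻¹ * (y * z * y⁻¹) * y := by rw [h1]
    _ = z := by group

theorem mem_blockT_of_top (hM : IsPModular p M) (hPe : IsBrauerPair p M P e) {Q : Subgroup G}
    {f : Set (IrrCharacter (Subgroup.centralizer (Q : Set G)))}
    (hle : SubpairLE p M Q f P e) {y : G} (hy : y ∈ blockT P e)
    (hn : y ∈ Subgroup.normalizer (Q : Set G)) : y ∈ blockT Q f := by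
  refine mem_blockT_of_carries hM hPe hle ⟨f, hle, ?_⟩ hn
  have h := subpairLE_conjPair y (hle : PairLE p M ⟨Q, f⟩ ⟨P, e⟩)
  rwa [conjPair_of_mem_normalizer (blockT_le_normalizer hy) e,
    (stabilizesBlock_iff.mp (mem_blockT.mp hy).2).2] at h

end CfsgLib.Blocks

namespace CfsgLib.Blocks

open Cfsg Cfsg.FusionSystem
open scoped ComplexConjugate CfsgLib.Char

variable {p : ℕ} {M : Ideal AlgInt} {G : Type*} [Group G] [Fintype G]

/-- For `R ≤ C_G(Q)`: the centralizer of `R` in `C_G(Q)` is that of `Q ⊔ R` in `G`. -/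
def centSupEquiv (Q : Subgroup G) (R : Subgroup (Subgroup.centralizer (Q : Set G))) :
    Subgroup.centralizer (R : Set (Subgroup.centralizer (Q : Set G))) ≃*
      Subgroup.centralizer
        ((Q ⊔ R.map (Subgroup.centralizer (Q : Set G)).subtype : Subgroup G) : Set G) where
  toFun c := ⟨((c : Subgroup.centralizer (Q : Set G)) : G), by
    intro z hz
    have h : Q ⊔ R.map (Subgroup.centralizer (Q : Set G)).subtype ≤
        Subgroup.centralizer ({((c : Subgroup.centralizer (Q : Set G)) : G)} : Set G) := by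
      refine sup_le (fun q hq => ?_) ?_
      · rintro _ rfl
        exact ((c : Subgroup.centralizer (Q : Set G)).2 q hq).symm
      · rintro _ ⟨r, hr, rfl⟩ _ rfl
        exact congrArg Subtype.val (c.2 r hr).symm
    exact (h hz _ rfl).symm⟩
  invFun c := ⟨⟨(c : G), fun q hq => c.2 q (Subgroup.mem_sup_left hq)⟩, fun r hr =>
    Subtype.ext (c.2 _ (Subgroup.mem_sup_right ⟨r, hr, rfl⟩))⟩
  left_inv _ := rfl
  right_inv _ := rfl
  map_mul' _ _ := rfl

theorem brauerOmega_centSupEquiv (Q : Subgroup G)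
    (f : Set (IrrCharacter (Subgroup.centralizer (Q : Set G))))
    (R : Subgroup (Subgroup.centralizer (Q : Set G)))
    [Fintype (Subgroup.centralizer (Q : Set G))]
    (ξ : IrrCharacter (Subgroup.centralizer (R : Set (Subgroup.centralizer (Q : Set G))))) :
    brauerOmega (Q ⊔ R.map (Subgroup.centralizer (Q : Set G)).subtype)
      (subgroupBlockCoeff (Subgroup.centralizer (Q : Set G)) f)
      (irrEquiv (centSupEquiv Q R) ξ : _ → ℂ) =
      brauerOmega R (blockCoeff f)
        (ξ : Subgroup.centralizer (R : Set (Subgroup.centralizer (Q : Set G))) → ℂ) := by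
  rw [brauerOmega, brauerOmega, ← finsum_comp_equiv (centSupEquiv Q R).toEquiv]
  refine finsum_congr fun c => ?_
  have h1 := irrEquiv_apply (centSupEquiv Q R) ξ c
  have h2 := irrEquiv_apply (centSupEquiv Q R) ξ 1
  rw [map_one] at h2
  show _ * _ / _ = _
  rw [h2, blockCoeff_centralizer f (c : Subgroup.centralizer (Q : Set G))]
  exact congrArg (fun t => subgroupBlockCoeff (Subgroup.centralizer (Q : Set G)) f
    ((c : Subgroup.centralizer (Q : Set G)) : G) * t / (ξ : Subgroup.centralizer (R : Set (Subgroup.centralizer (Q : Set G))) → ℂ) 1) h1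

/-- A pair of `f` in `C_G(Q)` gives a pair above `(Q, f)`. -/
theorem isNormalSubpair_centSup [M.IsPrime] {Q : Subgroup G}
    {f : Set (IrrCharacter (Subgroup.centralizer (Q : Set G)))}
    (hQf : IsBrauerPair p M Q f) [Fintype (Subgroup.centralizer (Q : Set G))]
    {R : Subgroup (Subgroup.centralizer (Q : Set G))}
    {r : Set (IrrCharacter (Subgroup.centralizer (R : Set (Subgroup.centralizer (Q : Set G)))))}
    (hR : IsBrauerPairOf p M f R r) :
    IsNormalSubpair p M Q f (Q ⊔ R.map (Subgroup.centralizer (Q : Set G)).subtype)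
      (irrEquiv (centSupEquiv Q R) '' r) := by
  classical
  set R' := R.map (Subgroup.centralizer (Q : Set G)).subtype with hR'
  have hR'C : R' ≤ Subgroup.centralizer (Q : Set G) := Subgroup.map_subtype_le R
  have hR'N : R' ≤ Subgroup.normalizer (Q : Set G) :=
    hR'C.trans (Subgroup.centralizer_le_normalizer _)
  refine ⟨hQf, ⟨hQf.1.to_sup_of_normal_left' (hR.1.1.map _) hR'N,
    isPBlock_image_irrEquiv _ hR.1.2⟩, le_sup_left,
    sup_le Subgroup.le_normalizer hR'N, ?_, ?_⟩
  · intro x hx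
    exact (mem_blockT.mp ((sup_le (le_blockT (f := f))
      (hR'C.trans centralizer_le_blockT) : Q ⊔ R' ≤ blockT Q f) hx)).2
  · rintro _ ⟨ξ, hξ, rfl⟩
    rw [brauerOmega_centSupEquiv]
    exact hR.2.2 ξ hξ

/-- An element of `C_G(Q)` stabilizing a pair of `f` stabilizes the pair it gives above `(Q, f)`. -/
theorem exists_pair_centSup [M.IsPrime] (hM : IsPModular p M) {B : Set (IrrCharacter G)}
    {Q : Subgroup G} {f : Set (IrrCharacter (Subgroup.centralizer (Q : Set G)))}
    (hQf : IsBrauerPairOf p M B Q f) [Fintype (Subgroup.centralizer (Q : Set G))]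
    {R : Subgroup (Subgroup.centralizer (Q : Set G))}
    {r : Set (IrrCharacter (Subgroup.centralizer (R : Set (Subgroup.centralizer (Q : Set G)))))}
    (hR : IsBrauerPairOf p M f R r) {x : Subgroup.centralizer (Q : Set G)}
    (hx : x ∈ Subgroup.normalizer (R : Set (Subgroup.centralizer (Q : Set G))))
    (hst : StabilizesBlock (Subgroup.centralizer (R : Set (Subgroup.centralizer (Q : Set G)))) r x) :
    IsBrauerPairOf p M B (Q ⊔ R.map (Subgroup.centralizer (Q : Set G)).subtype)
        (irrEquiv (centSupEquiv Q R) '' r) ∧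
      (x : G) ∈ Subgroup.normalizer
        ((Q ⊔ R.map (Subgroup.centralizer (Q : Set G)).subtype : Subgroup G) : Set G) ∧
      StabilizesBlock (Subgroup.centralizer
          ((Q ⊔ R.map (Subgroup.centralizer (Q : Set G)).subtype : Subgroup G) : Set G))
        (irrEquiv (centSupEquiv Q R) '' r) (x : G) := by
  classical
  have hns := isNormalSubpair_centSup hQf.1 hR
  set R' := R.map (Subgroup.centralizer (Q : Set G)).subtype with hR'
  have hS : IsBrauerPairOf p M B (Q ⊔ R') (irrEquiv (centSupEquiv Q R) '' r) :=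
    (SubpairLE.isBrauerPairOf_iff (Q := Q) (f := f) hM (Relation.ReflTransGen.single hns)
      hQf.2.1).mpr hQf
  have key : ∀ y : Subgroup.centralizer (Q : Set G),
      y ∈ Subgroup.normalizer (R : Set (Subgroup.centralizer (Q : Set G))) →
      Q ⊔ R' ≤ (Q ⊔ R').comap (MulAut.conj (y : G)).toMonoidHom := by
    intro y hy
    refine sup_le (fun q hq => ?_) ?_
    · show (y : G) * q * (y : G)⁻¹ ∈ Q ⊔ R'
      rw [← y.2 q hq, mul_inv_cancel_right]
      exact Subgroup.mem_sup_left hq
    · rintro _ ⟨z, hz, rfl⟩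
      exact Subgroup.mem_sup_right ⟨y * z * y⁻¹, (Subgroup.mem_normalizer_iff.mp hy z).mp hz, rfl⟩
  have hxN : (x : G) ∈ Subgroup.normalizer ((Q ⊔ R' : Subgroup G) : Set G) := by
    refine Subgroup.mem_normalizer_iff.mpr fun z => ⟨fun hz => key x hx hz, fun hz => ?_⟩
    have h := key x⁻¹ (inv_mem hx) hz
    simpa [mul_assoc] using h
  have hxst : StabilizesBlock (Subgroup.centralizer ((Q ⊔ R' : Subgroup G) : Set G))
      (irrEquiv (centSupEquiv Q R) '' r) (x : G) := by
    refine ⟨mem_normalizer_centralizer hxN, ?_⟩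
    rintro _ ⟨χ, hχ, rfl⟩
    obtain ⟨χ', hχ', hval⟩ := hst.2 χ hχ
    refine ⟨_, ⟨χ', hχ', rfl⟩, fun k k' hk => ?_⟩
    exact hval ((centSupEquiv Q R).symm k) ((centSupEquiv Q R).symm k') (Subtype.ext hk)
  exact ⟨hS, hxN, hxst⟩

/-- Brauer pairs of a nilpotent block have nilpotent blocks. -/
theorem isNilpotentBlock_centralizer [M.IsPrime] (hM : IsPModular p M)
    {B : Set (IrrCharacter G)} (hnil : IsNilpotentBlock p M B) {Q : Subgroup G}
    {f : Set (IrrCharacter (Subgroup.centralizer (Q : Set G)))}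
    (hQf : IsBrauerPairOf p M B Q f) : IsNilpotentBlock p M f := by
  classical
  refine ⟨hQf.1.2, fun R r hR x hx hst hreg => ?_⟩
  obtain ⟨hS, hxN, hxst⟩ := exists_pair_centSup hM hQf hR hx hst
  have hxc := hnil.2 _ _ hS (x : G) hxN hxst (by rwa [IsPRegular, Subgroup.orderOf_coe])
  exact fun z hz => Subtype.ext (hxc _ (Subgroup.mem_sup_right ⟨z, hz, rfl⟩))

end CfsgLib.Blocks
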