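import Cfsg.Agent.Lib.Blocks.NormalPBlocks

/-!
# Defect groups of the local blocks of a maximal pair
-/

set_option autoImplicit false
set_option linter.unusedSectionVars false

namespace CfsgLib.Blocks

open Cfsg
open scoped ComplexConjugate CfsgLib.Char

variable {p : ℕ} {M : Ideal AlgInt} {G : Type*} [Group G] [Fintype G] [M.IsPrime]

/-- The elements of `G` stabilizing a block of the subgroup `K`. -/
def blockStab (K : Subgroup G) (f : Set (IrrCharacter K)) : Subgroup G where
  carrier := {x | x ∈ Subgroup.normalizer (K : Set G) ∧ conjSet x K K f = f}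
  mul_mem' := fun {a b} ha hb => ⟨mul_mem ha.1 hb.1, by
    rw [← conjSet_conjSet (conj_mem_iff_of_mem_normalizer hb.1)
      (conj_mem_iff_of_mem_normalizer ha.1), hb.2, ha.2]⟩
  one_mem' := ⟨one_mem _, conjSet_of_mem K.one_mem f⟩
  inv_mem' := fun {a} ha => ⟨inv_mem ha.1, by
    conv_lhs => rw [← ha.2, conjSet_conjSet (conj_mem_iff_of_mem_normalizer ha.1)
      (conj_mem_iff_of_mem_normalizer (inv_mem ha.1)), inv_mul_cancel, conjSet_of_mem K.one_mem]⟩

theorem mem_blockStab {K : Subgroup G} {f : Set (IrrCharacter K)} {x : G} :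
    x ∈ blockStab K f ↔ StabilizesBlock K f x := stabilizesBlock_iff.symm

theorem exists_support_of_res_eq_one {S : Subgroup G} {β : G → ℂ} (hst : IsStableFun M S β)
    {ξ : IrrCharacter (Subgroup.centralizer (S : Set G))}
    (h : res M (brauerOmega S β (ξ : Subgroup.centralizer (S : Set G) → ℂ)) = 1) :
    ∃ c ∈ Subgroup.centralizer (S : Set G), ¬ MemLocalIdeal M (β c) := by
  by_contra hcon
  push Not at hcon
  rw [res_brauerOmega_congr hst (isStableFun_of_classFun (β := fun _ : G => (0 : ℂ))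
    (fun _ _ => rfl) fun _ => memLocalRing_zero) ξ (fun c hc => by simpa using hcon c hc),
    res_brauerOmega_zero] at h
  exact zero_ne_one h

theorem exists_res_eq_one_of_support (hM : IsPModular p M) {S : Subgroup G} (hS : IsPGroup p S)
    {β : G → ℂ} (hst : IsStableFun M S β) (hid : conv β β = β) {c : G}
    (hc : c ∈ Subgroup.centralizer (S : Set G)) (hu : ¬ MemLocalIdeal M (β c)) :
    ∃ ξ : IrrCharacter (Subgroup.centralizer (S : Set G)),
      res M (brauerOmega S β (ξ : Subgroup.centralizer (S : Set G) → ℂ)) = 1 := by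
  by_contra hcon
  push Not at hcon
  refine hu (memLocalIdeal_of_res_eq_zero hM hS hst hid (fun ξ => ?_) hc)
  by_contra hne
  exact hcon ξ (mul_left_cancel₀ hne (by rw [mul_one]; exact res_brauerOmega_idem hM hS hst hid ξ))

variable {P Q : Subgroup G} {e : Set (IrrCharacter (Subgroup.centralizer (P : Set G)))}
  {f : Set (IrrCharacter (Subgroup.centralizer (Q : Set G)))}

/-- A subgroup of `P` normalizing `Q` has a pair normally above the pair of `Q`. -/
theorem exists_normalSubpair_between (hM : IsPModular p M) (hPe : IsBrauerPair p M P e)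
    (hle : SubpairLE p M Q f P e) {R : Subgroup G} (hQR : Q ≤ R) (hRP : R ≤ P)
    (hRN : R ≤ Subgroup.normalizer (Q : Set G)) :
    ∃ g : Set (IrrCharacter (Subgroup.centralizer (R : Set G))), IsNormalSubpair p M Q f R g := by
  obtain ⟨g, hg, -⟩ := existsUnique_subpair hM hPe hRP
  obtain ⟨f', hf', -⟩ := existsUnique_normalSubpair hM (SubpairLE.isBrauerPair hg hPe) hQR hRN
  obtain rfl : f = f' := (existsUnique_subpair hM hPe (SubpairLE.le hle)).unique hle
    (Relation.ReflTransGen.head (a := (⟨Q, f'⟩ : BrauerPairIdx G)) (b := ⟨R, g⟩) hf' hg)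
  exact ⟨g, hf'⟩

theorem stabilizes_of_mem_normalizer (hM : IsPModular p M) (hPe : IsBrauerPair p M P e)
    (hle : SubpairLE p M Q f P e) {y : G} (hy : y ∈ P) (hyN : y ∈ Subgroup.normalizer (Q : Set G)) :
    StabilizesBlock (Subgroup.centralizer (Q : Set G)) f y := by
  obtain ⟨g, hg⟩ := exists_normalSubpair_between hM hPe hle
    (le_inf (SubpairLE.le hle) Subgroup.le_normalizer)
    (inf_le_left : P ⊓ Subgroup.normalizer (Q : Set G) ≤ P) inf_le_right
  exact hg.2.2.2.2.1 y ⟨hy, hyN⟩

variable {T : Subgroup G} [Fintype T] {F : Set (IrrCharacter T)}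

/-- The part of `P` in `T` lies in a defect group of the block of `T` given by `f`. -/
theorem exists_defectGroup_ge (hM : IsPModular p M) (hPe : IsBrauerPair p M P e)
    (hle : SubpairLE p M Q f P e) (hCT : Subgroup.centralizer (Q : Set G) ≤ T)
    (hTN : T ≤ Subgroup.normalizer (Q : Set G)) (hF : IsPBlock M F)
    (hFc : ∀ t : T, blockCoeff F t =
      subgroupBlockCoeff (Subgroup.centralizer (Q : Set G)) f (t : G)) :
    ∃ D : Subgroup T, IsDefectGroup p M F D ∧ (P ⊓ T).subgroupOf T ≤ D := by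
  classical
  have hQP := SubpairLE.le hle
  obtain ⟨g, hg⟩ := exists_normalSubpair_between hM hPe hle (R := Q ⊔ P ⊓ T) le_sup_left
    (sup_le hQP inf_le_left) (sup_le Subgroup.le_normalizer (inf_le_right.trans hTN))
  obtain ⟨ξ, hξ⟩ := IsPBlock.nonempty hg.2.1.2
  obtain ⟨c, hc, hu⟩ := exists_support_of_res_eq_one
    (isStableFun_subgroupBlockCoeff hg.2.2.1 hg.1.2 hg.2.2.2.2.1) (IsNormalSubpair.res_eq_one hg hξ)
  have hcQ : c ∈ Subgroup.centralizer (Q : Set G) :=
    Subgroup.centralizer_le (SetLike.coe_subset_coe.mpr le_sup_left) hc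
  obtain ⟨D, hD⟩ := exists_isDefectGroup hM hF
  have hu' : ¬ MemLocalIdeal M (blockCoeff F ⟨c, hCT hcQ⟩) := by rw [hFc]; exact hu
  obtain ⟨x, hx⟩ := IsDefectGroup.exists_le_conj_of_support hM hF hD hu'
    (Q := (P ⊓ T).subgroupOf T)
    ((hPe.1.to_le inf_le_left).comap_of_injective T.subtype T.subtype_injective) fun r hr =>
      Subgroup.mem_centralizer_singleton_iff.mpr (Subtype.ext
        (Subgroup.mem_centralizer_iff.mp hc r
          ((le_sup_right : P ⊓ T ≤ Q ⊔ P ⊓ T) (Subgroup.mem_subgroupOf.mp hr))))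
  exact ⟨_, IsDefectGroup.conj hM hD x, hx⟩

/-- Some conjugate pair below `(P, e)` has the part of `P` in the conjugate of `T` as a defect
group. -/
theorem exists_conj_defectGroup (hM : IsPModular p M) {B : Set (IrrCharacter G)}
    (hmax : IsMaximalBrauerPair p M B P e) (hle : SubpairLE p M Q f P e)
    (hCT : Subgroup.centralizer (Q : Set G) ≤ T) (hTN : T ≤ Subgroup.normalizer (Q : Set G))
    (hst : ∀ t ∈ T, StabilizesBlock (Subgroup.centralizer (Q : Set G)) f t) (hF : IsPBlock M F)
    (hFc : ∀ t : T, blockCoeff F t =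
      subgroupBlockCoeff (Subgroup.centralizer (Q : Set G)) f (t : G)) :
    ∃ x : G, SubpairLE p M (Q.map (MulAut.conj x).toMonoidHom) (conjBlock Q x f) P e ∧
      ∀ (T' : Subgroup G) [Fintype T'], (∀ y, x * y * x⁻¹ ∈ T' ↔ y ∈ T) →
        ∀ F' : Set (IrrCharacter T'), IsPBlock M F' →
          (∀ t : T', blockCoeff F' t = subgroupBlockCoeff
            (Subgroup.centralizer ((Q.map (MulAut.conj x).toMonoidHom : Subgroup G) : Set G))
            (conjBlock Q x f) (t : G)) →
          IsDefectGroup p M F' ((P ⊓ T').subgroupOf T') := by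
  classical
  have hPe := hmax.1.1
  have hQf := SubpairLE.isBrauerPair hle hPe
  obtain ⟨D, hD⟩ := exists_isDefectGroup hM hF
  have hDp := IsDefectGroup.isPGroup hM hD
  obtain ⟨c, hc, hcu⟩ := (exists_support_centralizing_iff hM hF hD hDp).mpr
    ⟨1, fun q hq => by rwa [map_conj_one] at hq⟩
  have hcQ : (c : G) ∈ Subgroup.centralizer (Q : Set G) := by
    by_contra h
    rw [hFc, subgroupBlockCoeff_eq, extendByZero_eq_zero _ _ h] at hcu
    exact hcu memLocalIdeal_zero
  have hDT : D.map T.subtype ≤ T := Subgroup.map_subtype_le D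
  set S := Q ⊔ D.map T.subtype with hSdef
  have hS : IsPGroup p S := by
    rw [hSdef, sup_comm]
    exact IsPGroup.to_sup_of_normal_right' (hDp.map _) hQf.1 (hDT.trans hTN)
  have hstab : ∀ y ∈ S, StabilizesBlock (Subgroup.centralizer (Q : Set G)) f y := fun y hy =>
    mem_blockStab.mp ((sup_le (fun q hq => mem_blockStab.mpr (stabilizes_self_of_mem hq f))
      fun q hq => mem_blockStab.mpr (hst q (hDT hq)) : S ≤ _) hy)
  have hcS : (c : G) ∈ Subgroup.centralizer (S : Set G) := by
    have h1 : S ≤ Subgroup.centralizer ({(c : G)} : Set G) := by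
      refine sup_le (fun q hq => Subgroup.mem_centralizer_singleton_iff.mpr
        (Subgroup.mem_centralizer_iff.mp hcQ q hq)) ?_
      rintro _ ⟨q, hq, rfl⟩
      exact Subgroup.mem_centralizer_singleton_iff.mpr (congrArg Subtype.val (hc q hq))
    exact fun q hq => Subgroup.mem_centralizer_singleton_iff.mp (h1 hq)
  have hs := isStableFun_subgroupBlockCoeff (le_sup_left : Q ≤ S) hQf.2 hstab
  obtain ⟨ξ, hξ⟩ := exists_res_eq_one_of_support hM hS hs (conv_subgroupBlockCoeff_self _ _) hcS
    (by rw [← hFc]; exact hcu)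
  have hns : IsNormalSubpair p M Q f S (blockOf M (ξ : Subgroup.centralizer (S : Set G) → ℂ)) :=
    isNormalSubpair_of_res ⟨hS, isPBlock_blockOf ξ⟩ le_sup_left
      (sup_le Subgroup.le_normalizer (hDT.trans hTN)) hQf.2 hstab (mem_blockOf_self ξ) hξ
  have hQB := (SubpairLE.isBrauerPairOf_iff hM hle hmax.1.2.1).mp hmax.1
  have hle1 : SubpairLE p M Q f S
      (blockOf M (ξ : Subgroup.centralizer (S : Set G) → ℂ)) := Relation.ReflTransGen.single hns
  obtain ⟨x, hx⟩ := exists_conjPair_le_maximal hM hmax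
    ((SubpairLE.isBrauerPairOf_iff hM hle1 hmax.1.2.1).mpr hQB)
  have hle' : SubpairLE p M (Q.map (MulAut.conj x).toMonoidHom) (conjBlock Q x f) P e :=
    Relation.ReflTransGen.trans (subpairLE_conjPair x hle1) hx
  have hSP : S.map (MulAut.conj x).toMonoidHom ≤ P :=
    SubpairLE.le (Q := (conjPair x ⟨S, blockOf M (ξ : Subgroup.centralizer (S : Set G) → ℂ)⟩).1) hx
  refine ⟨x, hle', fun T' _ hT' F' hF' hFc' => ?_⟩
  have hmem : ∀ y, y ∈ T' → x⁻¹ * y * x ∈ T := fun y hy => (hT' _).mp (by simpa [mul_assoc] using hy)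
  have hCT' : Subgroup.centralizer ((Q.map (MulAut.conj x).toMonoidHom : Subgroup G) : Set G) ≤ T' :=
    fun z hz => by
      have h1 : x⁻¹ * z * x ∈ Subgroup.centralizer (Q : Set G) :=
        (centralizer_map_conj_iff Q x _).mp (by simpa [mul_assoc] using hz)
      simpa [mul_assoc] using (hT' _).mpr (hCT h1)
  have hTN' : T' ≤ Subgroup.normalizer ((Q.map (MulAut.conj x).toMonoidHom : Subgroup G) : Set G) :=
    fun z hz => by
      refine Subgroup.mem_normalizer_iff.mpr fun g => ?_
      rw [mem_map_conj_iff, mem_map_conj_iff,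
        Subgroup.mem_normalizer_iff.mp (hTN (hmem z hz)) (x⁻¹ * g * x)]
      simp [mul_assoc]
  have hFF : conjSet x T T' F = F' := eq_of_blockCoeff_eq fun t => by
    have h1 : (t : G) = x * (x⁻¹ * (t : G) * x) * x⁻¹ := by group
    rw [blockCoeff_conjSet hT' F (c := ⟨_, hmem t t.2⟩) (c' := t) h1, hFc, hFc']
    conv_rhs => rw [h1]
    exact (subgroupBlockCoeff_conjSet (centralizer_map_conj_iff Q x) f _).symm
  obtain ⟨E, hE, hPE⟩ := exists_defectGroup_ge hM hPe hle' hCT' hTN' hF' hFc'
  have hcard : Nat.card E ≤ Nat.card ((P ⊓ T').subgroupOf T') := by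
    rw [Nat.card_congr (Subgroup.subgroupOfEquivOfLe (inf_le_right : P ⊓ T' ≤ T')).toEquiv,
      IsDefectGroup.card_eq hM hF' hE, ← hFF, blockDefect_conjSet hT' F,
      ← IsDefectGroup.card_eq hM hF hD, ← Subgroup.card_map_of_injective T.subtype_injective,
      ← card_map_conj (D.map T.subtype) x]
    refine Subgroup.card_le_of_le (le_inf ((Subgroup.map_mono le_sup_right).trans hSP) ?_)
    rintro _ ⟨q, hq, rfl⟩
    exact (hT' q).mpr (hDT hq)
  exact Subgroup.eq_of_le_of_card_ge hPE hcard ▸ hE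

end CfsgLib.Blocks
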