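import Cfsg.Agent.Lib.Blocks.Defect
import Cfsg.Agent.Lib.Groups.SelfCentPrime

/-!
# Normal subgroups of order prime to `p`, kernels of blocks, blocks of quotients
-/

set_option autoImplicit false
set_option linter.unusedSectionVars false

namespace CfsgLib.Blocks

open Cfsg
open scoped ComplexConjugate CfsgLib.Char

variable {p : ℕ} {M : Ideal AlgInt} {G : Type*} [Group G] [Fintype G]

/-- The indicator function of a subgroup. -/
noncomputable def subgroupInd (N : Subgroup G) : G → ℂ :=
  fun x => open Classical in if x ∈ N then 1 else 0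

theorem isClassFunction_subgroupInd (N : Subgroup G) [hN : N.Normal] :
    IsClassFunction G (subgroupInd N) := fun x b => by
  classical
  exact if_congr ⟨fun h => by simpa [mul_assoc] using hN.conj_mem _ h b⁻¹,
    fun h => hN.conj_mem x h b⟩ rfl rfl

theorem memLocalRing_subgroupInd [M.IsPrime] (N : Subgroup G) (x : G) :
    MemLocalRing M (subgroupInd N x) := by
  classical
  unfold subgroupInd
  split
  exacts [memLocalRing_one, memLocalRing_zero]

theorem omega_subgroupInd_of_trivial (N : Subgroup G) {χ : IrrCharacter G}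
    (h : ∀ n ∈ N, (χ : G → ℂ) n = (χ : G → ℂ) 1) :
    omega (χ : G → ℂ) (subgroupInd N) = (Nat.card N : ℂ) := by
  classical
  rw [omega, div_eq_iff (Char.irr_degree_ne_zero χ.2)]
  simp only [subgroupInd, ite_mul, one_mul, zero_mul]
  rw [← Finset.sum_filter, Finset.sum_congr rfl (g := fun _ => (χ : G → ℂ) 1) fun x hx =>
    h x (Finset.mem_filter.mp hx).2, Finset.sum_const, nsmul_eq_mul, ← Fintype.card_subtype,
    Nat.card_eq_fintype_card]

/-- An irreducible character with nonzero sum over a normal subgroup is trivial on it. -/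
theorem trivial_on_of_omega_subgroupInd_ne_zero (N : Subgroup G) [N.Normal] {χ : IrrCharacter G}
    (h : omega (χ : G → ℂ) (subgroupInd N) ≠ 0) : ∀ n ∈ N, (χ : G → ℂ) n = (χ : G → ℂ) 1 := by
  classical
  intro u hu
  obtain ⟨n, ρ, hρ, hρχ⟩ := χ.2
  rw [← hρχ] at h ⊢
  have hinv : ρ u * actFun ρ (subgroupInd N) = actFun ρ (subgroupInd N) := by
    rw [actFun, Finset.mul_sum]
    refine Fintype.sum_equiv (Equiv.mulLeft u) _ _ fun x => ?_
    rw [Equiv.coe_mulLeft, mul_smul_comm, ← map_mul]
    congr 1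
    exact if_congr (N.mul_mem_cancel_left hu).symm rfl rfl
  rw [actFun_eq_omega ρ (isClassFunction_subgroupInd N), mul_smul_comm, mul_one] at hinv
  have hu1 : ρ u = 1 := smul_right_injective _ h hinv
  show LinearMap.trace ℂ _ (ρ u) = LinearMap.trace ℂ _ (ρ 1)
  rw [hu1, map_one ρ]

/-- A normal `p'`-subgroup in the kernel of one member of a block is in the kernel of all. -/
theorem trivial_on_of_sameBlock (hM : IsPModular p M) (N : Subgroup G) [N.Normal]
    (hN : ¬ p ∣ Nat.card N) {χ ψ : IrrCharacter G} (h : SameBlock M (χ : G → ℂ) (ψ : G → ℂ))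
    (hχ : ∀ n ∈ N, (χ : G → ℂ) n = (χ : G → ℂ) 1) : ∀ n ∈ N, (ψ : G → ℂ) n = (ψ : G → ℂ) 1 := by
  have := isPrime_of_isPModular hM
  refine trivial_on_of_omega_subgroupInd_ne_zero N fun h0 => hN ((memLocalIdeal_natCast_iff hM).mp ?_)
  have hc := sub_mem_localIdeal_of_sameBlock h (isClassFunction_subgroupInd N)
    (memLocalRing_subgroupInd N)
  rwa [omega_subgroupInd_of_trivial N hχ, h0, sub_zero] at hc

theorem trivial_on_of_mem_principalBlock (hM : IsPModular p M) (N : Subgroup G) [N.Normal]
    (hN : ¬ p ∣ Nat.card N) {χ : IrrCharacter G} (hχ : χ ∈ principalBlock M G) :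
    ∀ n ∈ N, (χ : G → ℂ) n = (χ : G → ℂ) 1 :=
  trivial_on_of_sameBlock hM N hN (χ := trivIrr G) hχ fun _ _ => rfl

/-- The kernel of a block, as a subgroup. -/
theorem exists_blockKer_subgroup (B : Set (IrrCharacter G)) :
    ∃ K : Subgroup G, K.Normal ∧ (K : Set G) = blockKer B := by
  have hk : ∀ (g : G) (χ : IrrCharacter G) (n : ℕ) (ρ : Representation ℂ G (Fin n → ℂ)),
      ρ.character = (χ : G → ℂ) → ((χ : G → ℂ) g = (χ : G → ℂ) 1 ↔ ρ g = 1) := by
    intro g χ n ρ hρ
    rw [← hρ, Representation.char_one]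
    exact Char.character_eq_finrank_iff ρ g
  refine ⟨{ carrier := blockKer B, one_mem' := fun χ _ => rfl, mul_mem' := ?_, inv_mem' := ?_ },
    ⟨fun a ha b χ hχ => (irr_classFunction χ a b).trans (ha χ hχ)⟩, rfl⟩
  · intro a b ha hb χ hχ
    obtain ⟨n, ρ, hρ, hρχ⟩ := χ.2
    rw [hk _ χ n ρ hρχ, map_mul, (hk a χ n ρ hρχ).mp (ha χ hχ), (hk b χ n ρ hρχ).mp (hb χ hχ),
      one_mul]
  · intro a ha χ hχ
    rw [irr_value_inv χ.2, ha χ hχ, (irr_degree_eq χ).1, map_natCast]

/-- The kernel of a block has order prime to `p`. -/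
theorem not_dvd_card_of_le_blockKer (hM : IsPModular p M) {B : Set (IrrCharacter G)}
    (hB : IsPBlock M B) (K : Subgroup G) (hK : (K : Set G) ⊆ blockKer B) : ¬ p ∣ Nat.card K := by
  classical
  have := isPrime_of_isPModular hM
  have : Fact p.Prime := ⟨hM.1⟩
  intro hdvd
  obtain ⟨u, hu⟩ := exists_prime_orderOf_dvd_card' p hdvd
  have hs : ¬ IsPRegular p (u : G) := by rw [IsPRegular, not_not, Subgroup.orderOf_coe, hu]
  have h1 : IsPRegular p (1 : G) := by rw [IsPRegular, orderOf_one]; exact hM.1.not_dvd_one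
  have h := sum_block_mul_conj_eq_zero hM (S := {χ : IrrCharacter G | χ ∈ B})
    (by simpa using IsPBlock.isBlockUnion hB) h1 hs
  obtain ⟨ψ, hψ⟩ := IsPBlock.nonempty hB
  rw [Finset.sum_congr rfl (g := fun χ : IrrCharacter G => ((charDegree (χ : G → ℂ) ^ 2 : ℕ) : ℂ))
    fun χ hχ => by
      rw [hK u.2 χ (Finset.mem_filter.mp hχ).2, (irr_degree_eq χ).1, map_natCast, Nat.cast_pow, sq],
    ← Nat.cast_sum, Nat.cast_eq_zero, Finset.sum_eq_zero_iff] at h
  exact (pow_pos (irr_degree_eq ψ).2 2).ne' (h ψ (by simp [hψ]))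

/-- The order of a `p'`-core is prime to `p`. -/
theorem not_dvd_card_pPrimeCore (hp : p.Prime) {H : Type*} [Group H] [Finite H] :
    ¬ p ∣ Nat.card (pPrimeCore p H) :=
  (hp.coprime_iff_not_dvd).mp (SelfCent.pPrimeCore_coprime (G := H) p).symm

/-- Inflation preserves the relation of lying in the same block. -/
theorem sameBlock_inflate [M.IsPrime] {G' : Type*} [Group G'] (f : G →* G')
    (hf : Function.Surjective f) {η η' : IrrCharacter G'}
    (h : SameBlock M (η : G' → ℂ) (η' : G' → ℂ)) :
    SameBlock M (inflate f hf η : G → ℂ) (inflate f hf η' : G → ℂ) := fun g => by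
  show MemLocalIdeal M (centralChar ((η : G' → ℂ) ∘ f) g - centralChar ((η' : G' → ℂ) ∘ f) g)
  rw [centralChar_comp f hf, centralChar_comp f hf, ← mul_sub]
  exact memLocalIdeal_mul_left (memLocalRing_natCast _) (h _)

/-- For a kernel of order prime to `p` the converse holds. -/
theorem sameBlock_of_inflate (hM : IsPModular p M) {G' : Type*} [Group G'] [Fintype G'] (f : G →* G')
    (hf : Function.Surjective f) (hker : ¬ p ∣ Nat.card f.ker) {η η' : IrrCharacter G'}
    (h : SameBlock M (inflate f hf η : G → ℂ) (inflate f hf η' : G → ℂ)) :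
    SameBlock M (η : G' → ℂ) (η' : G' → ℂ) := by
  classical
  have := isPrime_of_isPModular hM
  intro g'
  have hF : IsClassFunction G (fun x => classInd g' (f x)) := fun x b => by
    simp only [map_mul, map_inv, isClassFunction_classInd g' (f x) (f b)]
  have hc := sub_mem_localIdeal_of_sameBlock h hF (fun x => memLocalRing_classInd g' (f x))
  have hω : ∀ η : IrrCharacter G', omega (inflate f hf η : G → ℂ) (fun x => classInd g' (f x)) =
      (Nat.card f.ker : ℂ) * centralChar (η : G' → ℂ) g' := by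
    intro η
    rw [← omega_classInd, omega, omega, show (inflate f hf η : G → ℂ) 1 = (η : G' → ℂ) 1 by
      show (η : G' → ℂ) (f 1) = _; rw [map_one], ← mul_div_assoc, Finset.mul_sum]
    congr 1
    rw [← Finset.sum_fiberwise Finset.univ f]
    refine Finset.sum_congr rfl fun y _ => ?_
    obtain ⟨a, rfl⟩ := hf y
    have hcard : ({x | f x = f a} : Finset G).card = Nat.card f.ker := by
      rw [← Fintype.card_subtype, ← Nat.card_eq_fintype_card]
      exact Nat.card_congr
        { toFun := fun x => ⟨a⁻¹ * x.1, by simp [MonoidHom.mem_ker, x.2]⟩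
          invFun := fun x => ⟨a * x.1, by simp [MonoidHom.mem_ker.mp x.2]⟩
          left_inv := fun x => by simp
          right_inv := fun x => by simp }
    rw [Finset.sum_congr rfl (g := fun _ => classInd g' (f a) * (η : G' → ℂ) (f a)) fun x hx => by
      show classInd g' (f x) * (η : G' → ℂ) (f x) = _
      rw [(Finset.mem_filter.mp hx).2], Finset.sum_const, nsmul_eq_mul, hcard]
  rw [hω, hω, ← mul_sub] at hc
  exact (memLocalIdeal_or_of_mul (memLocalRing_natCast _)
    (memLocalRing_sub (memLocalRing_centralChar η g') (memLocalRing_centralChar η' g')) hc).resolve_left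
    fun h' => hker ((memLocalIdeal_natCast_iff hM).mp h')

/-- A `p`-group has only one block. -/
theorem sameBlock_of_isPGroup (hM : IsPModular p M) (hG : IsPGroup p G) (χ ψ : IrrCharacter G) :
    SameBlock M (χ : G → ℂ) (ψ : G → ℂ) := by
  classical
  have := isPrime_of_isPModular hM
  have : Fact p.Prime := ⟨hM.1⟩
  set B := blockOf M (χ : G → ℂ)
  have hB : IsPBlock M B := isPBlock_blockOf χ
  have he : blockCoeff B = blockCoeff B 1 • deltaOne := by
    funext g
    rw [Pi.smul_apply, smul_eq_mul, deltaOne_apply]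
    rcases eq_or_ne g 1 with rfl | hg
    · simp
    · rw [if_neg hg, mul_zero, blockCoeff_eq_zero_of_not_regular hM (IsPBlock.isBlockUnion hB)]
      rw [IsPRegular, not_not]
      obtain ⟨k, hk⟩ := IsPGroup.iff_orderOf.mp hG g
      rw [hk]
      exact dvd_pow_self p fun h0 => hg (orderOf_eq_one_iff.mp (by rw [hk, h0, pow_zero]))
  have hval : ∀ η : IrrCharacter G, indVec B η = blockCoeff B 1 := fun η => by
    rw [← omega_blockCoeff, he, omega_smul, omega_deltaOne, mul_one, Pi.smul_apply, smul_eq_mul,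
      deltaOne_apply, if_pos rfl, mul_one]
  by_contra h
  have h1 := hval χ
  rw [indVec_of_mem (mem_blockOf_self χ), ← hval ψ, indVec_of_notMem h] at h1
  exact one_ne_zero h1

end CfsgLib.Blocks
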