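import Cfsg.Agent.Lib.Blocks.BrauerHom

/-!
# Brauer's first main theorem
-/

set_option autoImplicit false
set_option linter.unusedSectionVars false

namespace CfsgLib.Blocks

open Cfsg
open scoped ComplexConjugate CfsgLib.Char

variable {p : ℕ} {M : Ideal AlgInt} {G : Type*} [Group G] [Fintype G]

/-- The idempotent of a block evaluated by the Brauer homomorphism detects block induction. -/
theorem resQuot_brauerHom_blockIdem (hM : IsPModular p M) [M.IsPrime] {P H : Subgroup G} [Fintype H]
    (hP : IsPGroup p P) (hCH : Subgroup.centralizer (P : Set G) ≤ H)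
    (hHN : H ≤ Subgroup.normalizer (P : Set G)) {B : Set (IrrCharacter G)} (hB : IsPBlock M B)
    (ξ : IrrCharacter H) :
    (resQuot ξ (brauerHom hM P H hP hCH hHN (blockIdem hB)) = 1 ∧ ∀ χ ∈ B, ∀ g : G,
        MemLocalIdeal M (brauerCentralChar P H (ξ : H → ℂ) g - centralChar (χ : G → ℂ) g)) ∨
      (resQuot ξ (brauerHom hM P H hP hCH hHN (blockIdem hB)) = 0 ∧ ∃ χ ∈ B, ∃ g : G,
        ¬ MemLocalIdeal M (brauerCentralChar P H (ξ : H → ℂ) g - centralChar (χ : G → ℂ) g)) := by
  set φ : ZO M G →+* ResField M :=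
    ((resQuot ξ).comp (brauerHom hM P H hP hCH hHN)).comp (Ideal.Quotient.mk (nullIdeal M G))
  obtain ⟨B', ⟨hB', hBφ⟩, -⟩ :=
    exists_block_of_hom φ fun c hc => resQuot_brauerHom_scalar hM P H hP hCH hHN ξ c hc
  obtain ⟨ψ, hψ⟩ := IsPBlock.nonempty hB'
  obtain ⟨χ, hχ⟩ := IsPBlock.nonempty hB
  have hcong : ∀ η ∈ B', ∀ g : G,
      MemLocalIdeal M (brauerCentralChar P H (ξ : H → ℂ) g - centralChar (η : G → ℂ) g) := by
    intro η hη g
    rw [← res_eq_iff (memLocalRing_brauerCentralChar hHN ξ g) (memLocalRing_centralChar η g),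
      ← resQuot_brauerHom_classVec hM P H hP hCH hHN]
    exact RingHom.congr_fun (hBφ η hη) (classVec g)
  have hval : resQuot ξ (brauerHom hM P H hP hCH hHN (blockIdem hB)) = res M (indVec B ψ) :=
    RingHom.congr_fun (hBφ ψ hψ) ⟨indVec B, indVec_mem_ZO (IsPBlock.isBlockUnion hB)⟩
  by_cases hBB : B = B'
  · subst hBB
    exact Or.inl ⟨by rw [hval, indVec_of_mem hψ, res_one], hcong⟩
  · refine Or.inr ⟨?_, χ, hχ, ?_⟩
    · rw [hval, indVec_of_notMem fun h => hBB (IsPBlock.eq_of_mem_of_mem hB hB' h hψ), res_zero]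
    · by_contra hall
      push Not at hall
      exact hBB (IsPBlock.eq_of_mem_of_mem hB hB' hχ (IsPBlock.mem_of_sameBlock hB' hψ fun g =>
        memLocalIdeal_sub_trans (memLocalIdeal_sub_comm (hcong ψ hψ g)) (hall g)))

theorem resQuot_brauerHom_blockIdem_eq_one_iff (hM : IsPModular p M) [M.IsPrime] {P H : Subgroup G}
    [Fintype H] (hP : IsPGroup p P) (hPH : P ≤ H) (hCH : Subgroup.centralizer (P : Set G) ≤ H)
    (hHN : H ≤ Subgroup.normalizer (P : Set G)) {B : Set (IrrCharacter G)} (hB : IsPBlock M B)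
    (ξ : IrrCharacter H) :
    resQuot ξ (brauerHom hM P H hP hCH hHN (blockIdem hB)) = 1 ↔
      IsInducedBlock M H (blockOf M (ξ : H → ℂ)) B := by
  rw [isInducedBlock_iff_brauer hM hP hPH hHN (isPBlock_blockOf ξ) hB]
  constructor
  · intro h η hη χ hχ g
    rcases resQuot_brauerHom_blockIdem hM hP hCH hHN hB ξ with ⟨-, hc⟩ | ⟨h0, -⟩
    · exact memLocalIdeal_sub_trans (resQuot_brauerHom_eq_of_mem hM hP hCH hHN
        (SameBlock.symm hη) g) (hc χ hχ g)
    · exact absurd (h0.symm.trans h) zero_ne_one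
  · intro h
    rcases resQuot_brauerHom_blockIdem hM hP hCH hHN hB ξ with ⟨h1, -⟩ | ⟨-, χ, hχ, g, hg⟩
    · exact h1
    · exact absurd (h ξ (mem_blockOf_self ξ) χ hχ g) hg

/-- The image of a block idempotent is nonzero exactly if some element of its support centralizes
`P`. -/
theorem brauerHom_blockIdem_ne_zero_iff (hM : IsPModular p M) [M.IsPrime] {P H : Subgroup G}
    [Fintype H] (hP : IsPGroup p P) (hCH : Subgroup.centralizer (P : Set G) ≤ H)
    (hHN : H ≤ Subgroup.normalizer (P : Set G)) {B : Set (IrrCharacter G)} (hB : IsPBlock M B) :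
    brauerHom hM P H hP hCH hHN (blockIdem hB) ≠ 0 ↔
      ∃ c ∈ Subgroup.centralizer (P : Set G), ¬ MemLocalIdeal M (blockCoeff B c) := by
  rw [blockIdem, brauerHom_mk, Ne, Ideal.Quotient.eq_zero_iff_mem, mem_nullIdeal,
    ofOmega_brauerVec]
  show (¬ ∀ h, MemLocalIdeal M (brauerFun P H (ofOmega (indVec B)) h)) ↔ _
  rw [ofOmega_indVec]
  constructor
  · intro h
    push Not at h
    obtain ⟨h, hh⟩ := h
    by_cases hc : (h : G) ∈ Subgroup.centralizer (P : Set G)
    · exact ⟨h, hc, brauerFun_of_mem (f := blockCoeff B) hc ▸ hh⟩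
    · exact absurd (brauerFun_of_notMem (f := blockCoeff B) hc ▸ memLocalIdeal_zero) hh
  · rintro ⟨c, hc, hu⟩ h
    exact hu (brauerFun_of_mem (f := blockCoeff B) (h := ⟨c, hCH hc⟩) hc ▸ h ⟨c, hCH hc⟩)

/-- The support of a block idempotent meets `C_G(P)` exactly if `P` is conjugate into the defect
group. -/
theorem exists_support_centralizing_iff (hM : IsPModular p M) {B : Set (IrrCharacter G)}
    (hB : IsPBlock M B) {D : Subgroup G} (hD : IsDefectGroup p M B D) {P : Subgroup G}
    (hP : IsPGroup p P) :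
    (∃ c ∈ Subgroup.centralizer (P : Set G), ¬ MemLocalIdeal M (blockCoeff B c)) ↔
      ∃ x : G, P.map (MulAut.conj x).toMonoidHom ≤ D := by
  have : Fact p.Prime := ⟨hM.1⟩
  constructor
  · rintro ⟨c, hc, hu⟩
    obtain ⟨x, hx⟩ := IsDefectGroup.exists_le_conj_of_support hM hB hD hu hP
      fun q hq => Subgroup.mem_centralizer_singleton_iff.mpr (Subgroup.mem_centralizer_iff.mp hc q hq)
    refine ⟨x⁻¹, ?_⟩
    rintro _ ⟨q, hq, rfl⟩
    have := hx hq
    rw [Subgroup.mem_map_equiv] at this
    simpa using this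
  · rintro ⟨x, hx⟩
    obtain ⟨g, hg, hsyl⟩ := isDefectGroup_iff.mp hD
    refine ⟨x⁻¹ * g * x, Subgroup.mem_centralizer_iff.mpr fun q hq => ?_, ?_⟩
    · have hxq := Subgroup.mem_centralizer_singleton_iff.mp (hsyl.1 (hx ⟨q, hq, rfl⟩))
      calc q * (x⁻¹ * g * x) = x⁻¹ * ((MulAut.conj x).toMonoidHom q * g) * x := by simp [mul_assoc]
        _ = x⁻¹ * (g * (MulAut.conj x).toMonoidHom q) * x := by rw [hxq]
        _ = x⁻¹ * g * x * q := by simp [mul_assoc]
    · intro h
      apply hg.2.1
      have hc := isClassFunction_blockCoeff B g x⁻¹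
      rw [inv_inv] at hc
      exact hc ▸ h

/-- A block is induced from some block of `H` exactly when `P` is conjugate into the defect
group. -/
theorem exists_isInducedBlock_iff (hM : IsPModular p M) {P H : Subgroup G} [Fintype H]
    (hP : IsPGroup p P) (hPH : P ≤ H) (hCH : Subgroup.centralizer (P : Set G) ≤ H)
    (hHN : H ≤ Subgroup.normalizer (P : Set G)) {B : Set (IrrCharacter G)} (hB : IsPBlock M B)
    {D : Subgroup G} (hD : IsDefectGroup p M B D) :
    (∃ b : Set (IrrCharacter H), IsInducedBlock M H b B) ↔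
      ∃ x : G, P.map (MulAut.conj x).toMonoidHom ≤ D := by
  classical
  have := isPrime_of_isPModular hM
  rw [← exists_support_centralizing_iff hM hB hD hP,
    ← brauerHom_blockIdem_ne_zero_iff hM hP hCH hHN hB]
  constructor
  · rintro ⟨b, hb⟩ h0
    obtain ⟨ξ, hξ⟩ := IsPBlock.nonempty hb.1
    have h1 := (resQuot_brauerHom_blockIdem_eq_one_iff hM hP hPH hCH hHN hB ξ).mpr
      (IsPBlock.eq_blockOf hb.1 hξ ▸ hb)
    rw [h0, map_zero] at h1
    exact zero_ne_one h1
  · intro h
    by_contra hcon
    push Not at hcon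
    refine h (eq_zero_of_idempotent ((isIdempotentElem_blockIdem hB).map _) fun ξ => ?_)
    rcases resQuot_brauerHom_blockIdem hM hP hCH hHN hB ξ with ⟨h1, -⟩ | ⟨h0, -⟩
    · exact absurd ((resQuot_brauerHom_blockIdem_eq_one_iff hM hP hPH hCH hHN hB ξ).mp h1) (hcon _)
    · exact h0

theorem inducedCentralChar_eq_omega (H : Subgroup G) [Fintype H] (ξ : H → ℂ) (g : G) :
    inducedCentralChar H ξ g = omega ξ (fun h : H => classInd g (h : G)) := by
  classical
  rw [inducedCentralChar, omega, Finset.sum_div,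
    finsum_mem_eq_sum_of_inter_support_eq (t := ({h | IsConj g (h : G)} : Finset H)) _ (by simp),
    Finset.sum_filter]
  refine Finset.sum_congr rfl fun h _ => ?_
  by_cases hg : IsConj g (h : G) <;> simp [classInd, hg, -isConj_iff]

/-- A defect group of a block of `H` is contained in a defect group of the induced block. -/
theorem IsInducedBlock.exists_defectGroup_le (hM : IsPModular p M) {H : Subgroup G} [Fintype H]
    {b : Set (IrrCharacter H)} {B : Set (IrrCharacter G)} (h : IsInducedBlock M H b B)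
    {D : Subgroup H} (hD : IsDefectGroup p M b D) :
    ∃ E : Subgroup G, IsDefectGroup p M B E ∧ D.map H.subtype ≤ E := by
  classical
  have := isPrime_of_isPModular hM
  have : Fact p.Prime := ⟨hM.1⟩
  have : Fintype (ConjClasses H) := Fintype.ofFinite _
  have : Fintype (ConjClasses G) := Fintype.ofFinite _
  obtain ⟨hb, hB, hc⟩ := h
  obtain ⟨ξ, hξ⟩ := IsPBlock.nonempty hb
  obtain ⟨χ, hχ⟩ := IsPBlock.nonempty hB
  set f : H → ℂ := fun h => blockCoeff B (h : G)
  have hf : IsClassFunction H f := fun a x => by simpa [f] using isClassFunction_blockCoeff B (a : G) x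
  have key : MemLocalIdeal M (omega (ξ : H → ℂ) f - 1) := by
    have h1 : omega (χ : G → ℂ) (blockCoeff B) = 1 := by rw [omega_blockCoeff, indVec_of_mem hχ]
    rw [← h1, omega_eq_sum_classes χ (isClassFunction_blockCoeff B)]
    have hexp : omega (ξ : H → ℂ) f = ∑ c : ConjClasses G,
        blockCoeff B (Quotient.out c) * inducedCentralChar H (ξ : H → ℂ) (Quotient.out c) := by
      have hq : ∀ (c : ConjClasses G) (x : G), IsConj (Quotient.out c) x ↔ c = ConjClasses.mk x :=
        fun c x => by
          rw [← ConjClasses.mk_eq_mk_iff_isConj,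
            show ConjClasses.mk (Quotient.out c) = c from Quotient.out_eq c]
      simp only [inducedCentralChar_eq_omega, ← omega_smul, ← omega_sum]
      congr 1
      funext h
      simp only [Finset.sum_apply, Pi.smul_apply, smul_eq_mul, classInd, hq, mul_ite, mul_one,
        mul_zero, Finset.sum_ite_eq', Finset.mem_univ, if_true]
      exact (IsClassFunction.eq_of_isConj (isClassFunction_blockCoeff B) ((hq _ _).mpr rfl)).symm
    rw [hexp, ← Finset.sum_sub_distrib]
    refine memLocalIdeal_sum _ _ fun c _ => ?_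
    rw [← mul_sub]
    exact memLocalIdeal_mul_left (IsPBlock.memLocalRing_blockCoeff hB _) (hc ξ hξ χ hχ _)
  obtain ⟨c, hcu⟩ : ∃ c : ConjClasses H, ¬ MemLocalIdeal M
      (f (Quotient.out c) * centralChar (ξ : H → ℂ) (Quotient.out c)) := by
    by_contra hcon
    push Not at hcon
    refine not_memLocalIdeal_one (M := M) ?_
    have hsum : MemLocalIdeal M (omega (ξ : H → ℂ) f) := by
      rw [omega_eq_sum_classes ξ hf]
      exact memLocalIdeal_sum _ _ fun c _ => hcon c
    simpa using memLocalIdeal_sub hsum key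
  have hu1 : ¬ MemLocalIdeal M (f (Quotient.out c)) := fun h => hcu
    (memLocalIdeal_mul_right h (memLocalRing_centralChar ξ _))
  have hu2 : ¬ MemLocalIdeal M (centralChar (ξ : H → ℂ) (Quotient.out c)) := fun h => hcu
    (memLocalIdeal_mul_left (IsPBlock.memLocalRing_blockCoeff hB _) h)
  obtain ⟨y, hy, hDy⟩ := IsDefectGroup.exists_isConj_centralizing hM hb hD hξ hu2
  obtain ⟨E, hE⟩ := exists_isDefectGroup hM hB
  have hu : ¬ MemLocalIdeal M (blockCoeff B (y : G)) := by
    rw [← IsClassFunction.eq_of_isConj (isClassFunction_blockCoeff B)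
      (show IsConj ((Quotient.out c : H) : G) (y : G) from H.subtype.map_isConj hy)]
    exact hu1
  obtain ⟨x, hx⟩ := IsDefectGroup.exists_le_conj_of_support hM hB hE hu
    ((IsDefectGroup.isPGroup hM hD).map H.subtype) (Q := D.map H.subtype) (by
      rintro _ ⟨q, hq, rfl⟩
      exact Subgroup.mem_centralizer_singleton_iff.mpr
        (congrArg Subtype.val (Subgroup.mem_centralizer_singleton_iff.mp (hDy hq))))
  exact ⟨_, IsDefectGroup.conj hM hE x, hx⟩

section First

variable [hp : Fact p.Prime] {D : Subgroup G}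

/-- If `D` is a Sylow subgroup of the centralizer of `c` within `N_G(D)`, it is one in `G`. -/
theorem isSylowCent_of_normalizer (hDp : IsPGroup p D) {c : Subgroup.normalizer (D : Set G)}
    (hc : IsSylowCent p c (D.subgroupOf (Subgroup.normalizer (D : Set G)))) :
    IsSylowCent p (c : G) D := by
  set C := Subgroup.centralizer ({(c : G)} : Set G)
  have hDN : D ≤ (Subgroup.normalizer (D : Set G)) := Subgroup.le_normalizer
  have hcard : Nat.card (D.subgroupOf (Subgroup.normalizer (D : Set G))) = Nat.card D :=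
    Nat.card_congr (Subgroup.subgroupOfEquivOfLe hDN).toEquiv
  have hDC : D ≤ C := fun q hq => Subgroup.mem_centralizer_singleton_iff.mpr
    (congrArg Subtype.val (Subgroup.mem_centralizer_singleton_iff.mp
      (hc.1 (show (⟨q, hDN hq⟩ : (Subgroup.normalizer (D : Set G))) ∈ D.subgroupOf (Subgroup.normalizer (D : Set G)) from Subgroup.mem_subgroupOf.mpr hq))))
  refine ⟨hDC, ?_⟩
  have hDp' : IsPGroup p (D.subgroupOf C) := hDp.of_equiv (Subgroup.subgroupOfEquivOfLe hDC).symm
  obtain ⟨R, hR⟩ := hDp'.exists_le_sylow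
  rcases eq_or_lt_of_le hR with h | h
  · rw [← Nat.card_congr (Subgroup.subgroupOfEquivOfLe hDC).toEquiv, h]
    exact R.card_eq_multiplicity
  · exfalso
    set R' : Subgroup G := (R : Subgroup C).map C.subtype
    have hDR : D < R' := by
      refine lt_of_le_of_ne ?_ fun he => h.ne ?_
      · have := Subgroup.map_mono (f := C.subtype) hR
        rwa [Subgroup.subgroupOf_map_subtype, inf_eq_left.mpr hDC] at this
      · rw [he]
        exact Subgroup.comap_map_eq_self_of_injective C.subtype_injective _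
    have hR'p : IsPGroup p R' := R.2.map _
    obtain ⟨r, hrR, hrD, hrN⟩ : ∃ r ∈ R', r ∉ D ∧ r ∈ (Subgroup.normalizer (D : Set G)) := by
      have : Group.IsNilpotent R' := hR'p.isNilpotent
      have hlt : D.subgroupOf R' < ⊤ := lt_top_iff_ne_top.mpr fun he =>
        hDR.not_ge (Subgroup.subgroupOf_eq_top.mp he)
      obtain ⟨r, hrn, hrd⟩ := SetLike.exists_of_lt (normalizerCondition_of_isNilpotent _ hlt)
      refine ⟨r, r.2, fun h => hrd (Subgroup.mem_subgroupOf.mpr h), Subgroup.mem_normalizer_iff.mpr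
        fun q => ?_⟩
      constructor
      · intro hq
        have := (Subgroup.mem_normalizer_iff.mp hrn ⟨q, hDR.le hq⟩).mp (Subgroup.mem_subgroupOf.mpr hq)
        simpa [Subgroup.mem_subgroupOf] using this
      · intro hq
        have hq' : q ∈ R' := by
          have := R'.mul_mem (R'.mul_mem (R'.inv_mem r.2) (hDR.le hq)) r.2
          simpa [mul_assoc] using this
        have := (Subgroup.mem_normalizer_iff.mp hrn ⟨q, hq'⟩).mpr
          (by simpa [Subgroup.mem_subgroupOf] using hq)
        simpa [Subgroup.mem_subgroupOf] using this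
    -- the `p`-group generated by `D` and `r` inside `C_N(c)` contradicts maximality
    set S : Subgroup G := R' ⊓ (Subgroup.normalizer (D : Set G))
    have hSp : IsPGroup p S := hR'p.to_le inf_le_left
    have hDS : D < S := lt_of_le_of_ne (le_inf hDR.le hDN) fun he => hrD (he ▸ ⟨hrR, hrN⟩)
    have hSle : S.subgroupOf (Subgroup.normalizer (D : Set G)) ≤ Subgroup.centralizer ({c} : Set (Subgroup.normalizer (D : Set G))) := fun x hx => by
      refine Subgroup.mem_centralizer_singleton_iff.mpr (Subtype.ext ?_)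
      exact Subgroup.mem_centralizer_singleton_iff.mp
        (Subgroup.map_subtype_le _ (Subgroup.mem_subgroupOf.mp hx).1)
    obtain ⟨k, hk⟩ := IsPGroup.iff_card.mp hSp
    have hdvd : Nat.card S ∣ Nat.card (Subgroup.centralizer ({c} : Set (Subgroup.normalizer (D : Set G)))) := by
      rw [← Nat.card_congr (Subgroup.subgroupOfEquivOfLe (inf_le_right : S ≤ (Subgroup.normalizer (D : Set G)))).toEquiv]
      exact Subgroup.card_dvd_of_le hSle
    rw [hk, hp.1.pow_dvd_iff_le_factorization Nat.card_pos.ne'] at hdvd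
    have hlt : Nat.card D < Nat.card S :=
      lt_of_not_ge fun h => hDS.ne (Subgroup.eq_of_le_of_card_ge hDS.le h)
    rw [← hcard, hc.2, hk] at hlt
    exact absurd (Nat.pow_le_pow_right hp.1.pos hdvd) (not_le.mpr hlt)

/-- Conjugates in `C_G(D)` of an element with Sylow `D` are conjugate by `N_G(D)`. -/
theorem exists_normalizer_conj {c : G} (hc : IsSylowCent p c D) {c' : G} (hcc : IsConj c c')
    (hc' : c' ∈ Subgroup.centralizer (D : Set G)) :
    ∃ n ∈ Subgroup.normalizer (D : Set G), n * c * n⁻¹ = c' := by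
  obtain ⟨x, rfl⟩ := isConj_iff.mp hcc
  have hle : D.map (MulAut.conj x⁻¹).toMonoidHom ≤ Subgroup.centralizer ({c} : Set G) := by
    rintro _ ⟨q, hq, rfl⟩
    refine Subgroup.mem_centralizer_singleton_iff.mpr ?_
    have := Subgroup.mem_centralizer_iff.mp hc' q hq
    calc (MulAut.conj x⁻¹).toMonoidHom q * c = x⁻¹ * (q * (x * c * x⁻¹)) * x := by simp [mul_assoc]
      _ = x⁻¹ * (x * c * x⁻¹ * q) * x := by rw [this]
      _ = c * (MulAut.conj x⁻¹).toMonoidHom q := by simp [mul_assoc]
  obtain ⟨y, hy, hxy⟩ := IsSylowCent.exists_conj_le hc ((IsSylowCent.isPGroup hc).map _) hle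
  have heq := Subgroup.eq_of_le_of_card_ge hxy (by rw [card_map_conj, card_map_conj])
  refine ⟨x * y, ?_, ?_⟩
  · have h2 := congrArg (Subgroup.map (MulAut.conj x).toMonoidHom) heq
    rw [Subgroup.map_map, Subgroup.map_map] at h2
    have h3 : D.map (MulAut.conj (x * y)).toMonoidHom = D := by
      convert h2.symm using 2
      · ext z; simp [mul_assoc]
      · conv_lhs => rw [← Subgroup.map_id D]
        congr 1
        ext z; simp [mul_assoc]
    refine Subgroup.mem_normalizer_iff.mpr fun q => ⟨fun hq => ?_, fun hq => ?_⟩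
    · rw [← h3]; exact ⟨q, hq, by simp [mul_assoc]⟩
    · obtain ⟨r, hr, hrq⟩ := Subgroup.mem_map.mp (h3.symm ▸ hq :
        x * y * q * (x * y)⁻¹ ∈ D.map (MulAut.conj (x * y)).toMonoidHom)
      rwa [show r = q from (MulAut.conj (x * y)).injective hrq] at hr
  · rw [Subgroup.mem_centralizer_singleton_iff] at hy
    calc x * y * c * (x * y)⁻¹ = x * (y * c) * y⁻¹ * x⁻¹ := by group
      _ = x * (c * y) * y⁻¹ * x⁻¹ := by rw [hy]
      _ = x * c * x⁻¹ := by group

/-- Truncation does not change a block idempotent of a group in which `P` is normal. -/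
theorem blockCoeff_mem_localIdeal_of_not_centralizing (hM : IsPModular p M) (P : Subgroup G)
    [P.Normal] (hP : IsPGroup p P) {B : Set (IrrCharacter G)} (hB : IsPBlock M B) {g : G}
    (hg : g ∉ Subgroup.centralizer (P : Set G)) : MemLocalIdeal M (blockCoeff B g) := by
  classical
  have := isPrime_of_isPModular hM
  set H : Subgroup G := ⊤
  have : Fintype (ConjClasses G) := Fintype.ofFinite _
  set f : G → ℂ := fun x => if x ∈ Subgroup.centralizer (P : Set G) then blockCoeff B x else 0
  have hiff : ∀ x b : G, b * x * b⁻¹ ∈ Subgroup.centralizer (P : Set G) ↔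
      x ∈ Subgroup.centralizer (P : Set G) := fun x b =>
    conj_mem_centralizer_iff (by rw [Subgroup.normalizer_eq_top]; exact Subgroup.mem_top b)
  have hf : IsClassFunction G f := fun x b => by
    simp only [f]
    exact if_congr (hiff x b) (isClassFunction_blockCoeff B x b) rfl
  have hl : ∀ x, MemLocalRing M (f x) := fun x => by
    simp only [f]
    split
    exacts [IsPBlock.memLocalRing_blockCoeff hB x, memLocalRing_zero]
  -- the truncated element is congruent to an idempotent
  have hid : IsIdempotentElem (Ideal.Quotient.mk (nullIdeal M G) (toZO f hf hl)) := by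
    rw [IsIdempotentElem, ← map_mul, mk_eq_mk_iff]
    intro x
    rw [MulMemClass.coe_mul, ofOmega_mul, ofOmega_toZO hf hl]
    have hconv := brauerFun_conv_congr hM (P := P) (H := ⊤) hP le_top
      (isClassFunction_blockCoeff B) (isClassFunction_blockCoeff B)
      (IsPBlock.memLocalRing_blockCoeff hB) (IsPBlock.memLocalRing_blockCoeff hB)
      ⟨x, Subgroup.mem_top x⟩
    have hee : conv (blockCoeff B) (blockCoeff B) = blockCoeff B := by
      rw [← ofOmega_indVec, ← ofOmega_mul]
      congr 1
      funext χ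
      by_cases h : χ ∈ B
      · simp [indVec_of_mem h]
      · simp [indVec_of_notMem h]
    rw [hee] at hconv
    have hbf : ∀ h : (⊤ : Subgroup G), brauerFun P ⊤ (blockCoeff B) h = f h := fun h => by
      simp only [brauerFun, f]
    have hconv' : conv (brauerFun P (⊤ : Subgroup G) (blockCoeff B))
        (brauerFun P (⊤ : Subgroup G) (blockCoeff B)) ⟨x, Subgroup.mem_top x⟩ = conv f f x := by
      refine Fintype.sum_equiv Subgroup.topEquiv.toEquiv _ _ fun y => ?_
      rw [hbf, hbf]
      rfl
    rw [hbf, hconv'] at hconv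
    exact memLocalIdeal_sub_comm hconv
  have heq : Ideal.Quotient.mk (nullIdeal M G) (toZO f hf hl) = blockIdem hB := by
    refine idempotent_ext hid (isIdempotentElem_blockIdem hB) fun χ => ?_
    rw [blockIdem, resQuot_mk, resQuot_mk, res_eq_iff (memLocalRing_of_mem_ZO (toZO f hf hl).2 χ)
      (memLocalRing_of_mem_ZO (indVec_mem_ZO (IsPBlock.isBlockUnion hB)) χ)]
    show MemLocalIdeal M (omega (χ : G → ℂ) f - indVec B χ)
    rw [← omega_blockCoeff, omega_eq_sum_classes χ hf,
      omega_eq_sum_classes χ (isClassFunction_blockCoeff B), ← Finset.sum_sub_distrib]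
    refine memLocalIdeal_sum _ _ fun c _ => ?_
    simp only [f]
    split_ifs with hc
    · exact memLocalIdeal_sub_self _
    · rw [zero_mul, zero_sub]
      exact memLocalIdeal_neg (memLocalIdeal_mul_left (IsPBlock.memLocalRing_blockCoeff hB _)
        (memLocalIdeal_centralChar_of_not_centralizing hM P hP χ hc))
  rw [blockIdem, mk_eq_mk_iff] at heq
  have := heq g
  rw [ofOmega_toZO hf hl] at this
  rw [show ofOmega ((⟨indVec B, indVec_mem_ZO (IsPBlock.isBlockUnion hB)⟩ : ZO M G) :
    IrrCharacter G → ℂ) = blockCoeff B from ofOmega_indVec B] at this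
  simp only [f, if_neg hg, zero_sub] at this
  simpa using memLocalIdeal_neg this

/-- At most one block of `N_G(D)` with defect group `D` induces a given block. -/
theorem inducing_block_unique (hM : IsPModular p M) (hDp : IsPGroup p D)
    [Fintype (Subgroup.normalizer (D : Set G))]
    {b b' : Set (IrrCharacter (Subgroup.normalizer (D : Set G)))} {B : Set (IrrCharacter G)}
    (hbd : IsDefectGroup p M b (D.subgroupOf (Subgroup.normalizer (D : Set G))))
    (h : IsInducedBlock M (Subgroup.normalizer (D : Set G)) b B)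
    (h' : IsInducedBlock M (Subgroup.normalizer (D : Set G)) b' B) : b = b' := by
  classical
  have := isPrime_of_isPModular hM
  have hb := h.1
  have hCN : Subgroup.centralizer (D : Set G) ≤ (Subgroup.normalizer (D : Set G)) := Subgroup.centralizer_le_normalizer _
  have hDN : D ≤ (Subgroup.normalizer (D : Set G)) := Subgroup.le_normalizer
  let Good : G → Prop := fun c => c ∈ Subgroup.centralizer (D : Set G) ∧ IsSylowCent p c D
  have hcons : ∀ c₁ c₂ : (Subgroup.normalizer (D : Set G)), Good c₁ → Good c₂ → IsConj (c₁ : G) c₂ →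
      blockCoeff b c₁ = blockCoeff b c₂ := fun c₁ c₂ h₁ h₂ hc => by
    obtain ⟨n, hn, hne⟩ := exists_normalizer_conj h₁.2 hc h₂.1
    exact IsClassFunction.eq_of_isConj (isClassFunction_blockCoeff b)
      (isConj_iff.mpr ⟨⟨n, hn⟩, Subtype.ext hne⟩)
  set F : G → ℂ := fun g =>
    if hg : ∃ c : (Subgroup.normalizer (D : Set G)), Good c ∧ IsConj g (c : G) then blockCoeff b hg.choose else 0
  have hFval : ∀ (c : (Subgroup.normalizer (D : Set G))) (g : G), Good c → IsConj g (c : G) → F g = blockCoeff b c := by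
    intro c g hc hgc
    have hg : ∃ c : (Subgroup.normalizer (D : Set G)), Good c ∧ IsConj g (c : G) := ⟨c, hc, hgc⟩
    simp only [F, dif_pos hg]
    exact hcons _ _ hg.choose_spec.1 hc (hg.choose_spec.2.symm.trans hgc)
  have hFcls : IsClassFunction G F := fun g x => by
    have hconj : IsConj g (x * g * x⁻¹) := isConj_iff.mpr ⟨x, rfl⟩
    by_cases hg : ∃ c : (Subgroup.normalizer (D : Set G)), Good c ∧ IsConj g (c : G)
    · obtain ⟨c, hc, hgc⟩ := hg
      rw [hFval c g hc hgc, hFval c _ hc (hconj.symm.trans hgc)]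
    · have hg' : ¬ ∃ c : (Subgroup.normalizer (D : Set G)), Good c ∧ IsConj (x * g * x⁻¹) (c : G) :=
        fun ⟨c, hc, hxc⟩ => hg ⟨c, hc, hconj.trans hxc⟩
      simp only [F, dif_neg hg, dif_neg hg']
  have hFl : ∀ g, MemLocalRing M (F g) := fun g => by
    simp only [F]
    split
    exacts [IsPBlock.memLocalRing_blockCoeff hb _, memLocalRing_zero]
  have hBr : brauerHom hM D (Subgroup.normalizer (D : Set G)) hDp hCN le_rfl (Ideal.Quotient.mk _ (toZO F hFcls hFl)) =
      blockIdem hb := by
    rw [brauerHom_mk, blockIdem, mk_eq_mk_iff]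
    intro c
    rw [ofOmega_brauerVec, ofOmega_toZO hFcls hFl,
      show ofOmega ((⟨indVec b, indVec_mem_ZO (IsPBlock.isBlockUnion hb)⟩ : ZO M (Subgroup.normalizer (D : Set G))) :
        IrrCharacter (Subgroup.normalizer (D : Set G)) → ℂ) = blockCoeff b from ofOmega_indVec b]
    by_cases hcC : (c : G) ∈ Subgroup.centralizer (D : Set G)
    · rw [brauerFun_of_mem hcC]
      by_cases hgood : Good c
      · rw [hFval c c hgood (IsConj.refl _)]
        exact memLocalIdeal_sub_self _
      · have hF0 : F c = 0 := by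
          simp only [F]
          refine dif_neg ?_
          rintro ⟨c', hc', hcc⟩
          refine hgood ⟨hcC, fun q hq => Subgroup.mem_centralizer_singleton_iff.mpr
            (Subgroup.mem_centralizer_iff.mp hcC q hq), ?_⟩
          rw [hc'.2.2]
          obtain ⟨a, ha⟩ := isConj_iff.mp hcc
          rw [← ha, ← map_conj_centralizer, card_map_conj]
        rw [hF0, zero_sub]
        refine memLocalIdeal_neg ?_
        by_contra hu
        obtain ⟨Q, hQ⟩ := exists_isSylowCent (p := p) c
        obtain ⟨x, hx⟩ := IsDefectGroup.exists_le_conj_of_support hM hb hbd hu hQ.isPGroup hQ.1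
        apply hgood
        refine ⟨hcC, isSylowCent_of_normalizer hDp ⟨fun q hq => ?_, ?_⟩⟩
        · exact Subgroup.mem_centralizer_singleton_iff.mpr (Subtype.ext
            (Subgroup.mem_centralizer_iff.mp hcC _ (Subgroup.mem_subgroupOf.mp hq)))
        · refine le_antisymm ?_ ?_
          · obtain ⟨k, hk⟩ := IsPGroup.iff_card.mp
              (hDp.of_equiv (Subgroup.subgroupOfEquivOfLe hDN).symm)
            have hdvd : Nat.card (D.subgroupOf (Subgroup.normalizer (D : Set G))) ∣ Nat.card (Subgroup.centralizer ({c} : Set (Subgroup.normalizer (D : Set G)))) :=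
              Subgroup.card_dvd_of_le fun q hq => Subgroup.mem_centralizer_singleton_iff.mpr
                (Subtype.ext (Subgroup.mem_centralizer_iff.mp hcC _ (Subgroup.mem_subgroupOf.mp hq)))
            rw [hk] at hdvd ⊢
            exact Nat.pow_le_pow_right hp.1.pos
              ((hp.1.pow_dvd_iff_le_factorization Nat.card_pos.ne').mp hdvd)
          · rw [← hQ.2]
            exact (Subgroup.card_le_of_le hx).trans_eq (card_map_conj _ _)
    · rw [brauerFun_of_notMem hcC, zero_sub]
      refine memLocalIdeal_neg ?_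
      have : (D.subgroupOf (Subgroup.normalizer (D : Set G))).Normal := Subgroup.normal_in_normalizer
      refine blockCoeff_mem_localIdeal_of_not_centralizing hM (D.subgroupOf (Subgroup.normalizer (D : Set G)))
        (hDp.of_equiv (Subgroup.subgroupOfEquivOfLe hDN).symm) hb fun hc => hcC ?_
      intro q hq
      exact congrArg Subtype.val (hc (⟨q, hDN hq⟩ : (Subgroup.normalizer (D : Set G))) (Subgroup.mem_subgroupOf.mpr hq))
  obtain ⟨ξ, hξ⟩ := IsPBlock.nonempty hb
  obtain ⟨η, hη⟩ := IsPBlock.nonempty h'.1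
  have key : ∀ ζ : IrrCharacter (Subgroup.normalizer (D : Set G)), IsInducedBlock M (Subgroup.normalizer (D : Set G)) (blockOf M (ζ : (Subgroup.normalizer (D : Set G)) → ℂ)) B →
      ∀ χ ∈ B, resQuot ζ (brauerHom hM D (Subgroup.normalizer (D : Set G)) hDp hCN le_rfl
        (Ideal.Quotient.mk _ (toZO F hFcls hFl))) = res M (omega (χ : G → ℂ) F) := by
    intro ζ hζ χ hχ
    have hc := (isInducedBlock_iff_brauer hM hDp hDN le_rfl (isPBlock_blockOf ζ) h.2.1).mp hζ
      ζ (mem_blockOf_self ζ) χ hχ
    set φ : ZO M G →+* ResField M :=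
      ((resQuot ζ).comp (brauerHom hM D (Subgroup.normalizer (D : Set G)) hDp hCN le_rfl)).comp (Ideal.Quotient.mk (nullIdeal M G))
    obtain ⟨B', ⟨hB', hBφ⟩, -⟩ :=
      exists_block_of_hom φ fun c hc => resQuot_brauerHom_scalar hM D (Subgroup.normalizer (D : Set G)) hDp hCN le_rfl ζ c hc
    obtain ⟨ψ, hψ⟩ := IsPBlock.nonempty hB'
    have hBB : ψ ∈ B := IsPBlock.mem_of_sameBlock h.2.1 hχ fun g => by
      refine memLocalIdeal_sub_trans (memLocalIdeal_sub_comm (hc g)) ?_
      rw [← res_eq_iff (memLocalRing_brauerCentralChar le_rfl ζ g) (memLocalRing_centralChar ψ g),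
        ← resQuot_brauerHom_classVec hM D (Subgroup.normalizer (D : Set G)) hDp hCN le_rfl]
      exact RingHom.congr_fun (hBφ ψ hψ) (classVec g)
    have := RingHom.congr_fun (hBφ ψ hψ) (toZO F hFcls hFl)
    show φ (toZO F hFcls hFl) = _
    rw [this]
    show res M (omega (ψ : G → ℂ) F) = _
    exact (res_eq_iff (memLocalRing_omega ψ hFcls hFl) (memLocalRing_omega χ hFcls hFl)).mpr
      (sub_mem_localIdeal_of_sameBlock (IsPBlock.sameBlock h.2.1 hBB hχ) hFcls hFl)
  obtain ⟨χ, hχ⟩ := IsPBlock.nonempty h.2.1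
  have e₁ := key ξ (IsPBlock.eq_blockOf hb hξ ▸ h) χ hχ
  have e₂ := key η (IsPBlock.eq_blockOf h'.1 hη ▸ h') χ hχ
  rw [hBr, ← e₂, hBr, resQuot_blockIdem hb, resQuot_blockIdem hb, if_pos hξ] at e₁
  split_ifs at e₁ with hηb
  · exact IsPBlock.eq_of_mem_of_mem hb h'.1 hηb hη
  · exact absurd e₁ one_ne_zero

/-- Brauer's first main theorem. -/
theorem first_main_theorem (hM : IsPModular p M) (hDp : IsPGroup p D) :
    (∀ b : Set (IrrCharacter (Subgroup.normalizer (D : Set G))), IsPBlock M b →
      IsDefectGroup p M b (D.subgroupOf (Subgroup.normalizer (D : Set G))) →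
      ∃ B : Set (IrrCharacter G), IsPBlock M B ∧ IsDefectGroup p M B D ∧
        IsInducedBlock M (Subgroup.normalizer (D : Set G)) b B) ∧
    (∀ B : Set (IrrCharacter G), IsPBlock M B → IsDefectGroup p M B D →
      ∃! b : Set (IrrCharacter (Subgroup.normalizer (D : Set G))), IsPBlock M b ∧
        IsDefectGroup p M b (D.subgroupOf (Subgroup.normalizer (D : Set G))) ∧
        IsInducedBlock M (Subgroup.normalizer (D : Set G)) b B) := by
  have := isPrime_of_isPModular hM
  set N := Subgroup.normalizer (D : Set G)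
  have : Fintype N := Fintype.ofFinite _
  have hCN : Subgroup.centralizer (D : Set G) ≤ N := Subgroup.centralizer_le_normalizer _
  have hDN : D ≤ N := Subgroup.le_normalizer
  constructor
  · intro b hb hbd
    obtain ⟨B, hind⟩ := inducedBlockDefined_of_le_normalizer hM hDp hDN hCN le_rfl hb
    refine ⟨B, hind.2.1, ?_, hind⟩
    obtain ⟨E, hE, hDE⟩ := IsInducedBlock.exists_defectGroup_le hM hind hbd
    rw [Subgroup.subgroupOf_map_subtype, inf_eq_left.mpr hDN] at hDE
    obtain ⟨c, hcdef, hcsyl⟩ := isDefectGroup_iff.mp hbd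
    have hsyl : IsSylowCent p (c : G) D := isSylowCent_of_normalizer hDp hcsyl
    obtain ⟨ξ, hξ⟩ := IsPBlock.nonempty hb
    obtain ⟨χ, hχ⟩ := IsPBlock.nonempty hind.2.1
    have hcC : (c : G) ∈ Subgroup.centralizer (D : Set G) := fun q hq =>
      Subgroup.mem_centralizer_singleton_iff.mp (hsyl.1 hq)
    have hbr : brauerCentralChar D N (ξ : N → ℂ) (c : G) = centralChar (ξ : N → ℂ) c := by
      classical
      rw [← omega_brauerFun_classInd, ← omega_classInd]
      congr 1
      funext h
      simp only [brauerFun, classInd]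
      by_cases hh : IsConj c h
      · rw [if_pos hh, if_pos, if_pos (show IsConj (c : G) (h : G) from N.subtype.map_isConj hh)]
        obtain ⟨n, hn⟩ := isConj_iff.mp hh
        rw [← hn]
        exact (conj_mem_centralizer_iff n.2).mpr hcC
      · rw [if_neg hh]
        by_cases hhC : (h : G) ∈ Subgroup.centralizer (D : Set G)
        · rw [if_pos hhC, if_neg]
          intro hcon
          obtain ⟨n, hn, hne⟩ := exists_normalizer_conj hsyl hcon hhC
          exact hh (isConj_iff.mpr ⟨⟨n, hn⟩, Subtype.ext hne⟩)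
        · rw [if_neg hhC]
    have hu : ¬ MemLocalIdeal M (centralChar (χ : G → ℂ) (c : G)) := by
      intro h
      apply hcdef.2.2 ξ hξ
      rw [← hbr]
      exact (memLocalIdeal_iff_of_sub ((isInducedBlock_iff_brauer hM hDp hDN le_rfl hb hind.2.1).mp
        hind ξ hξ χ hχ c)).mpr h
    obtain ⟨y, hy, hEy⟩ := IsDefectGroup.exists_isConj_centralizing hM hind.2.1 hE hχ hu
    obtain ⟨x, hx⟩ := IsSylowCent.exists_conj_le_of_isConj hsyl hy (IsDefectGroup.isPGroup hM hE) hEy
    have hED : D = E := Subgroup.eq_of_le_of_card_ge hDE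
      ((Subgroup.card_le_of_le hx).trans_eq (card_map_conj _ _))
    exact hED ▸ hE
  · intro B hB hBD
    obtain ⟨b, hind⟩ := (exists_isInducedBlock_iff hM hDp hDN hCN le_rfl hB hBD).mpr
      ⟨1, by rw [map_one]; exact fun q ⟨r, hr, h⟩ => h ▸ hr⟩
    have hdef : ∀ b' : Set (IrrCharacter N), IsInducedBlock M N b' B →
        IsDefectGroup p M b' (D.subgroupOf N) := fun b' hb' => by
      obtain ⟨Q, hQ⟩ := exists_isDefectGroup hM hb'.1
      have : (D.subgroupOf N).Normal := Subgroup.normal_in_normalizer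
      have hle := IsDefectGroup.normal_le hM hb'.1 hQ (D.subgroupOf N)
        (hDp.of_equiv (Subgroup.subgroupOfEquivOfLe hDN).symm)
      obtain ⟨E, hE, hQE⟩ := IsInducedBlock.exists_defectGroup_le hM hb' hQ
      obtain ⟨x, hx⟩ := IsDefectGroup.exists_conj_eq hM hB hBD hE
      have hcard : Nat.card Q ≤ Nat.card (D.subgroupOf N) := by
        rw [Nat.card_congr (Subgroup.subgroupOfEquivOfLe hDN).toEquiv,
          ← Subgroup.card_map_of_injective N.subtype_injective, ← card_map_conj D x, ← hx]
        exact Subgroup.card_le_of_le hQE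
      exact (Subgroup.eq_of_le_of_card_ge hle hcard) ▸ hQ
    exact ⟨b, ⟨hind.1, hdef b hind, hind⟩, fun b' hb' =>
      (inducing_block_unique hM hDp (hdef b hind) hind hb'.2.2).symm⟩

end First

end CfsgLib.Blocks
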