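import Cfsg.Agent.Lib.Blocks.HeightZero
import Cfsg.Agent.Lib.Blocks.MainFirst

/-!
# Okuyama's criterion and Brauer's third main theorem
-/

set_option autoImplicit false
set_option linter.unusedSectionVars false

namespace CfsgLib.Blocks

open Cfsg
open scoped ComplexConjugate CfsgLib.Char

variable {p : ℕ} {M : Ideal AlgInt} {G : Type*} [Group G] [Fintype G]

/-- Induced blocks: the congruence holds for every class function with local integer values. -/
theorem IsInducedBlock.omega_congr [M.IsPrime] {H : Subgroup G} [Fintype H]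
    {b : Set (IrrCharacter H)} {B : Set (IrrCharacter G)} (h : IsInducedBlock M H b B)
    {ξ : IrrCharacter H} (hξ : ξ ∈ b) {χ : IrrCharacter G} (hχ : χ ∈ B) {f : G → ℂ}
    (hf : IsClassFunction G f) (hl : ∀ g, MemLocalRing M (f g)) :
    MemLocalIdeal M (omega (ξ : H → ℂ) (fun h : H => f (h : G)) - omega (χ : G → ℂ) f) := by
  classical
  have : Fintype (ConjClasses G) := Fintype.ofFinite _
  have hexp : omega (ξ : H → ℂ) (fun h : H => f (h : G)) = ∑ c : ConjClasses G,
      f (Quotient.out c) * inducedCentralChar H (ξ : H → ℂ) (Quotient.out c) := by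
    have hq : ∀ (c : ConjClasses G) (x : G), IsConj (Quotient.out c) x ↔ c = ConjClasses.mk x :=
      fun c x => by
        rw [← ConjClasses.mk_eq_mk_iff_isConj,
          show ConjClasses.mk (Quotient.out c) = c from Quotient.out_eq c]
    simp only [inducedCentralChar_eq_omega, ← omega_smul, ← omega_sum]
    congr 1
    funext h
    simp only [Finset.sum_apply, Pi.smul_apply, smul_eq_mul, classInd, hq, mul_ite, mul_one,
      mul_zero, Finset.sum_ite_eq', Finset.mem_univ, if_true]
    exact (IsClassFunction.eq_of_isConj hf ((hq _ _).mpr rfl)).symm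
  rw [hexp, omega_eq_sum_classes χ hf, ← Finset.sum_sub_distrib]
  refine memLocalIdeal_sum _ _ fun c _ => ?_
  rw [← mul_sub]
  exact memLocalIdeal_mul_left (hl _) (h.2.2 ξ hξ χ hχ _)

/-- Okuyama: if `χ` and its irreducible restriction to `H` have height zero, a block of `H` with
defined induced block induces the block of `χ` exactly if it is the block of the restriction. -/
theorem okuyama_criterion (hM : IsPModular p M) {H : Subgroup G} [Fintype H] {χ : IrrCharacter G}
    {ψ : IrrCharacter H} (hψ : (ψ : H → ℂ) = fun h : H => (χ : G → ℂ) (h : G))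
    (hχ0 : blockHeight p (blockOf M (χ : G → ℂ)) (χ : G → ℂ) = 0)
    (hψ0 : blockHeight p (blockOf M (ψ : H → ℂ)) (ψ : H → ℂ) = 0)
    {e : Set (IrrCharacter H)} (he : InducedBlockDefined M H e) :
    IsInducedBlock M H e (blockOf M (χ : G → ℂ)) ↔ e = blockOf M (ψ : H → ℂ) := by
  have := isPrime_of_isPModular hM
  obtain ⟨B, hB⟩ := he
  obtain ⟨η, hη⟩ := IsPBlock.nonempty hB.1
  obtain ⟨ζ, hζ⟩ := IsPBlock.nonempty hB.2.1
  have hc := IsInducedBlock.omega_congr hB hη hζ (f := dualReg p (χ : G → ℂ))
    (isClassFunction_dualReg (irr_classFunction χ)) (memLocalRing_dualReg χ)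
  rw [dualReg_comp_subtype, ← hψ] at hc
  have h1 : e = blockOf M (ψ : H → ℂ) ↔ B = blockOf M (χ : G → ℂ) := by
    rw [show e = blockOf M (ψ : H → ℂ) ↔ η ∈ blockOf M (ψ : H → ℂ) from
        ⟨fun h => h ▸ hη, fun h => IsPBlock.eq_of_mem_of_mem hB.1 (isPBlock_blockOf ψ) hη h⟩,
      show B = blockOf M (χ : G → ℂ) ↔ ζ ∈ blockOf M (χ : G → ℂ) from
        ⟨fun h => h ▸ hζ, fun h => IsPBlock.eq_of_mem_of_mem hB.2.1 (isPBlock_blockOf χ) hζ h⟩,
      mem_block_iff_omega_dualReg hM (isPBlock_blockOf ψ) (mem_blockOf_self ψ) hψ0,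
      mem_block_iff_omega_dualReg hM (isPBlock_blockOf χ) (mem_blockOf_self χ) hχ0,
      memLocalIdeal_iff_of_sub hc]
  rw [h1]
  exact ⟨fun h => IsInducedBlock.unique hB h, fun h => h ▸ hB⟩

/-- The trivial character has height zero. -/
theorem blockHeight_triv (H : Type*) [Group H] :
    blockHeight p (blockOf M (trivIrr H : H → ℂ)) (trivIrr H : H → ℂ) = 0 := by
  rw [blockHeight, show charDegree (trivIrr H : H → ℂ) = 1 by simp [charDegree, trivIrr]]
  simp

/-- Brauer's third main theorem. -/
theorem third_main_theorem (hM : IsPModular p M) {H : Subgroup G} [Fintype H]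
    {b : Set (IrrCharacter H)} (hdef : InducedBlockDefined M H b) :
    IsInducedBlock M H b (principalBlock M G) ↔ b = principalBlock M H :=
  okuyama_criterion hM (χ := trivIrr G) (ψ := trivIrr H) rfl (blockHeight_triv G)
    (blockHeight_triv H) hdef

/-- The principal block of a subgroup induces the principal block whenever it induces one. -/
theorem isInducedBlock_principal (hM : IsPModular p M) {H : Subgroup G} [Fintype H]
    (hdef : InducedBlockDefined M H (principalBlock M H)) :
    IsInducedBlock M H (principalBlock M H) (principalBlock M G) :=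
  (third_main_theorem hM hdef).mpr rfl

/-- A height zero character of `B` has, in every block inducing `B`, a height zero constituent with
multiplicity prime to `p`. -/
theorem exists_height_zero_constituent (hM : IsPModular p M) {H : Subgroup G} [Fintype H]
    {b : Set (IrrCharacter H)} {B : Set (IrrCharacter G)} (hind : IsInducedBlock M H b B)
    {χ : IrrCharacter G} (hχ : χ ∈ B) (h0 : blockHeight p B (χ : G → ℂ) = 0) :
    ∃ ξ ∈ b, blockHeight p b (ξ : H → ℂ) = 0 ∧ ∃ n : ℕ,
      classInner (fun h : H => (χ : G → ℂ) (h : G)) (ξ : H → ℂ) = (n : ℂ) ∧ ¬ p ∣ n := by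
  classical
  have := isPrime_of_isPModular hM
  obtain ⟨n, hn⟩ := Char.exists_multiplicities
    (Char.isCharacter_restrict H (Char.isCharacter_of_isIrr χ.2))
  have hinner : ∀ ξ : IrrCharacter H,
      classInner (fun h : H => (χ : G → ℂ) (h : G)) (ξ : H → ℂ) = (n ξ : ℂ) := fun ξ => by
    rw [hn, Char.classInner_sum_smul_irr]
  obtain ⟨η, hη, hη0⟩ := exists_blockHeight_eq_zero hM hind.1
  have hu := not_memLocalIdeal_omega_dualReg hM hind.2.1 hχ h0 hχ
  have hc := IsInducedBlock.omega_congr hind hη hχ (f := dualReg p (χ : G → ℂ))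
    (isClassFunction_dualReg (irr_classFunction χ)) (memLocalRing_dualReg χ)
  rw [dualReg_comp_subtype, hn] at hc
  have hlin : dualReg p (∑ ξ : IrrCharacter H, (n ξ : ℂ) • (ξ : H → ℂ)) =
      ∑ ξ : IrrCharacter H, (n ξ : ℂ) • dualReg p (ξ : H → ℂ) := by
    funext h
    by_cases hh : IsPRegular p h
    · simp [dualReg, regPart_of_regular hh, Finset.sum_apply]
    · simp [dualReg, regPart_of_singular hh, Finset.sum_apply]
  rw [hlin, omega_sum] at hc
  by_contra hcon
  push Not at hcon
  refine hu ((memLocalIdeal_iff_of_sub hc).mp (memLocalIdeal_sum _ _ fun ξ _ => ?_))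
  rw [omega_smul]
  by_cases hξ : ξ ∈ b
  · by_cases hξ0 : blockHeight p b (ξ : H → ℂ) = 0
    · exact memLocalIdeal_mul_right
        ((memLocalIdeal_natCast_iff hM).mpr (hcon ξ hξ hξ0 (n ξ) (hinner ξ)))
        (memLocalRing_omega η (isClassFunction_dualReg (irr_classFunction ξ)) (memLocalRing_dualReg ξ))
    · refine memLocalIdeal_mul_left (memLocalRing_natCast _) ?_
      have hswap : omega (η : H → ℂ) (dualReg p (ξ : H → ℂ)) =
          omega (ξ : H → ℂ) (dualReg p (η : H → ℂ)) * ((ξ : H → ℂ) 1 / (η : H → ℂ) 1) := by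
        rw [omega_dualReg, omega_dualReg, classInner_regPart_comm]
        have := Char.irr_degree_ne_zero ξ.2
        field_simp
      rw [hswap]
      refine memLocalIdeal_mul_left (memLocalRing_omega ξ
        (isClassFunction_dualReg (irr_classFunction η)) (memLocalRing_dualReg η)) ?_
      exact memLocalIdeal_degree_div_of_height_pos hM hind.1 hη hη0 hξ hξ0
  · rw [omega_dualReg_eq_zero hM fun hs => hξ (IsPBlock.mem_of_sameBlock hind.1 hη (SameBlock.symm hs)),
      mul_zero]
    exact memLocalIdeal_zero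

end CfsgLib.Blocks
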