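import Cfsg.Agent.Lib.Blocks.MaxPairs

/-!
# Blocks over a normal `p`-subgroup
-/

set_option autoImplicit false
set_option linter.unusedSectionVars false

namespace CfsgLib.Blocks

open Cfsg
open scoped ComplexConjugate CfsgLib.Char

variable {p : ℕ} {M : Ideal AlgInt} {G : Type*} [Group G] [Fintype G] [M.IsPrime]

theorem omega_idem_zero_or_one {v : G → ℂ} (hv : IsClassFunction G v) (hvv : conv v v = v)
    (χ : IrrCharacter G) : omega (χ : G → ℂ) v = 0 ∨ omega (χ : G → ℂ) v = 1 := by
  have h2 := omega_conv χ hv hv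
  rw [hvv] at h2
  rcases eq_or_ne (omega (χ : G → ℂ) v) 0 with h | h
  · exact Or.inl h
  · exact Or.inr (mul_left_cancel₀ h (by rw [mul_one]; exact h2.symm))

/-- A nonzero idempotent below a block idempotent is that block idempotent. -/
theorem eq_blockCoeff_of_idempotent_le {b : Set (IrrCharacter G)} (hb : IsPBlock M b) {v : G → ℂ}
    (hv : IsClassFunction G v) (hl : ∀ g, MemLocalRing M (v g)) (hvv : conv v v = v)
    (hne : ∃ g, v g ≠ 0) (hle : ∀ χ : IrrCharacter G, omega (χ : G → ℂ) v = 1 → χ ∈ b) :
    v = blockCoeff b := by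
  have h01 := omega_idem_zero_or_one hv hvv
  obtain ⟨χ₀, hχ₀⟩ : ∃ χ : IrrCharacter G, omega (χ : G → ℂ) v = 1 := by
    by_contra hcon
    push Not at hcon
    obtain ⟨g, hg⟩ := hne
    refine hg ?_
    have : v = blockCoeff (∅ : Set (IrrCharacter G)) :=
      eq_of_omega_eq hv (isClassFunction_blockCoeff _) fun χ => by
        rw [omega_blockCoeff, indVec_of_notMem (Set.notMem_empty χ)]
        exact (h01 χ).resolve_right (hcon χ)
    rw [this]
    simp [blockCoeff]
  refine eq_of_omega_eq hv (isClassFunction_blockCoeff _) fun χ => ?_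
  rw [omega_blockCoeff]
  by_cases hχ : χ ∈ b
  · rw [indVec_of_mem hχ]
    refine (h01 χ).resolve_left fun h0 => not_memLocalIdeal_one (M := M) ?_
    have h2 := sub_mem_localIdeal_of_sameBlock (IsPBlock.sameBlock hb (hle χ₀ hχ₀) hχ) hv hl
    rwa [hχ₀, h0, sub_zero] at h2
  · rw [indVec_of_notMem hχ]
    exact (h01 χ).resolve_right fun h => hχ (hle χ h)

theorem mem_of_omega_eq_one_of_conv {b : Set (IrrCharacter G)} {v : G → ℂ}
    (hv : IsClassFunction G v) (hc : conv (blockCoeff b) v = v) (χ : IrrCharacter G)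
    (hχ : omega (χ : G → ℂ) v = 1) : χ ∈ b := by
  have h2 := omega_conv χ (isClassFunction_blockCoeff b) hv
  rw [hc, hχ, omega_blockCoeff, mul_one] at h2
  by_contra hn
  rw [indVec_of_notMem hn] at h2
  exact one_ne_zero h2

/-- Over a normal `p`-subgroup every block has a Brauer pair. -/
theorem exists_pair_of_normal (hM : IsPModular p M) (P : Subgroup G) [P.Normal]
    (hP : IsPGroup p P) {B : Set (IrrCharacter G)} (hB : IsPBlock M B) :
    ∃ e : Set (IrrCharacter (Subgroup.centralizer (P : Set G))), IsBrauerPairOf p M B P e := by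
  classical
  have : Fact p.Prime := ⟨hM.1⟩
  by_contra hcon
  push Not at hcon
  have hs : IsStableFun M P (blockCoeff B) := isStableFun_blockCoeff hB P
  have h0 : ∀ ξ : IrrCharacter (Subgroup.centralizer (P : Set G)),
      res M (brauerOmega P (blockCoeff B) (ξ : Subgroup.centralizer (P : Set G) → ℂ)) = 0 := fun ξ => by
    by_contra hne
    exact hcon _ (isBrauerPairOf_of_res hB ⟨hP, isPBlock_blockOf ξ⟩ (mem_blockOf_self ξ)
      (mul_left_cancel₀ hne (by
        rw [mul_one]; exact res_brauerOmega_idem hM hP hs (conv_blockCoeff_self B) ξ)))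
  obtain ⟨χ, hχ⟩ := IsPBlock.nonempty hB
  refine not_memLocalIdeal_one (M := M) ?_
  have h2 := memLocalIdeal_omega (M := M) χ (isClassFunction_blockCoeff B) fun g => by
    by_cases hg : g ∈ Subgroup.centralizer (P : Set G)
    · exact memLocalIdeal_of_res_eq_zero hM hP hs (conv_blockCoeff_self B) h0 hg
    · exact blockCoeff_mem_localIdeal_of_not_centralizing hM P hP hB hg
  rwa [omega_blockCoeff, indVec_of_mem hχ] at h2

/-- Over a normal `p`-subgroup the idempotent of a block is the orbit sum of one of its pairs. -/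
theorem orbitFun_eq_blockCoeff (hM : IsPModular p M) (P : Subgroup G) [P.Normal]
    {B : Set (IrrCharacter G)} {e : Set (IrrCharacter (Subgroup.centralizer (P : Set G)))}
    (h : IsBrauerPairOf p M B P e) : orbitFun M P e = blockCoeff B := by
  classical
  have : Fact p.Prime := ⟨hM.1⟩
  obtain ⟨⟨hP, he⟩, hB, -⟩ := id h
  have hN : ∀ x : G, x ∈ Subgroup.normalizer (P : Set G) := fun x => by
    rw [Subgroup.normalizer_eq_top]; exact Subgroup.mem_top x
  have hcls : IsClassFunction G (orbitFun M P e) := fun g x => orbitFun_conj he (hN x) g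
  refine eq_blockCoeff_of_idempotent_le hB hcls memLocalRing_orbitFun conv_orbitFun_self
    (exists_ne_zero_orbitFun h.1) fun χ hχ => ?_
  have hd : ∀ c, MemLocalIdeal M
      (conv (blockCoeff B) (orbitFun M P e) c - orbitFun M P e c) := fun c => by
    by_cases hc : c ∈ Subgroup.centralizer (P : Set G)
    · rw [conv_orbitFun_right]
      show MemLocalIdeal M (∑ f ∈ pairOrbit M P e, _ - ∑ f ∈ pairOrbit M P e, _)
      rw [← Finset.sum_sub_distrib]
      refine memLocalIdeal_sum _ _ fun f hf => ?_
      obtain ⟨m, hm, hme⟩ := (mem_pairOrbit he).mp hf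
      have h2 := isBrauerPairOf_conjPair m (a := ⟨P, e⟩) h
      rw [conjPair_of_mem_normalizer hm, hme] at h2
      obtain ⟨η, hη⟩ := IsPBlock.nonempty h2.1.2
      rcases conv_subgroupBlockCoeff_congr hM hP h2.1.2 (isStableFun_blockCoeff hB P)
        (conv_blockCoeff_self B) hη with ⟨-, hc1⟩ | ⟨h0, -⟩
      · exact hc1 c hc
      · exact absurd ((IsBrauerPairOf.res_eq_one h2 hη).symm.trans h0) one_ne_zero
    · rw [orbitFun_eq_zero hc, sub_zero]
      refine memLocalIdeal_sum _ _ fun y _ => ?_
      by_cases hy : y⁻¹ * c ∈ Subgroup.centralizer (P : Set G)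
      · exact memLocalIdeal_mul_right (blockCoeff_mem_localIdeal_of_not_centralizing hM P hP hB
          fun hy' => hc (by simpa using mul_mem hy' hy)) (memLocalRing_orbitFun _)
      · rw [orbitFun_eq_zero hy, mul_zero]
        exact memLocalIdeal_zero
  have h3 := res_omega_congr χ (isClassFunction_conv (isClassFunction_blockCoeff B) hcls) hcls
    (fun c => memLocalRing_sum _ _ fun y _ => memLocalRing_mul
      (IsPBlock.memLocalRing_blockCoeff hB _) (memLocalRing_orbitFun _)) memLocalRing_orbitFun hd
  rw [omega_conv χ (isClassFunction_blockCoeff B) hcls, hχ, mul_one, omega_blockCoeff, res_one] at h3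
  by_contra hn
  rw [indVec_of_notMem hn, res_zero] at h3
  exact zero_ne_one h3

/-- Block idempotents are supported on the centralizer of a normal `p`-subgroup. -/
theorem blockCoeff_eq_zero_of_not_centralizing (hM : IsPModular p M) (P : Subgroup G) [P.Normal]
    (hP : IsPGroup p P) {B : Set (IrrCharacter G)} (hB : IsPBlock M B) {g : G}
    (hg : g ∉ Subgroup.centralizer (P : Set G)) : blockCoeff B g = 0 := by
  obtain ⟨e, he⟩ := exists_pair_of_normal hM P hP hB
  rw [← orbitFun_eq_blockCoeff hM P he, orbitFun_eq_zero hg]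

/-- A block of `C_G(Q)` is a block idempotent of any group between `C_G(Q)` and its stabilizer. -/
theorem exists_block_of_stabilizer (hM : IsPModular p M) {Q : Subgroup G} (hQ : IsPGroup p Q)
    {f : Set (IrrCharacter (Subgroup.centralizer (Q : Set G)))} (hf : IsPBlock M f)
    {T : Subgroup G} [Fintype T] (hCT : Subgroup.centralizer (Q : Set G) ≤ T) (hQT : Q ≤ T)
    (hTN : T ≤ Subgroup.normalizer (Q : Set G))
    (hst : ∀ t ∈ T, StabilizesBlock (Subgroup.centralizer (Q : Set G)) f t) :
    ∃ F : Set (IrrCharacter T), IsPBlock M F ∧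
      ∀ t : T, blockCoeff F t = subgroupBlockCoeff (Subgroup.centralizer (Q : Set G)) f (t : G) := by
  classical
  set β := subgroupBlockCoeff (Subgroup.centralizer (Q : Set G)) f with hβdef
  have hβ : ∀ g, g ∉ Subgroup.centralizer (Q : Set G) → β g = 0 := fun g hg => by
    rw [hβdef, subgroupBlockCoeff_eq, extendByZero_eq_zero _ _ hg]
  set v : T → ℂ := fun t => β (t : G) with hvdef
  have hext : extendByZero T v = β := funext fun g => by
    by_cases hg : g ∈ T
    · exact extendByZero_apply T v ⟨g, hg⟩
    · rw [extendByZero_eq_zero T v hg, hβ g fun h => hg (hCT h)]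
  have hv : IsClassFunction T v := fun a x => by
    obtain ⟨hn, he⟩ := stabilizesBlock_iff.mp (hst x x.2)
    show β ((x : G) * a * (x : G)⁻¹) = β a
    rw [hβdef]
    conv_lhs => rw [← he]
    exact subgroupBlockCoeff_conjSet (conj_mem_iff_of_mem_normalizer hn) f a
  have hl : ∀ t, MemLocalRing M (v t) := fun t => by
    show MemLocalRing M (β t)
    rw [hβdef, subgroupBlockCoeff_eq]
    by_cases hg : (t : G) ∈ Subgroup.centralizer (Q : Set G)
    · exact (extendByZero_apply _ (blockCoeff f) ⟨t, hg⟩).symm ▸
        IsPBlock.memLocalRing_blockCoeff hf _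
    · exact (extendByZero_eq_zero _ (blockCoeff f) hg).symm ▸ memLocalRing_zero
  have hvv : conv v v = v := funext fun t => by
    have h2 := congrFun (conv_extendByZero T v v) (t : G)
    rw [hext, hβdef, conv_subgroupBlockCoeff_self, extendByZero_apply] at h2
    exact h2.symm
  obtain ⟨χ, hχ⟩ : ∃ χ : IrrCharacter T, omega (χ : T → ℂ) v = 1 := by
    by_contra hcon
    push Not at hcon
    have hv0 : v = blockCoeff (∅ : Set (IrrCharacter T)) :=
      eq_of_omega_eq hv (isClassFunction_blockCoeff _) fun χ => by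
        rw [omega_blockCoeff, indVec_of_notMem (Set.notMem_empty χ)]
        exact (omega_idem_zero_or_one hv hvv χ).resolve_right (hcon χ)
    obtain ⟨ξ, hξ⟩ := IsPBlock.nonempty hf
    have h2 := omega_blockCoeff f ξ
    rw [indVec_of_mem hξ, show blockCoeff f = fun _ => (0 : ℂ) from funext fun c => by
      have h3 : β (c : G) = v ⟨c, hCT c.2⟩ := rfl
      rw [hβdef, subgroupBlockCoeff_eq, extendByZero_apply, hv0] at h3
      rw [h3]
      simp [blockCoeff]] at h2
    simp [omega] at h2
  set F := blockOf M (χ : T → ℂ)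
  have hF : IsPBlock M F := isPBlock_blockOf χ
  refine ⟨F, hF, ?_⟩
  have : (Q.subgroupOf T).Normal := ⟨fun a ha x => by
    simpa [Subgroup.mem_subgroupOf] using (Subgroup.mem_normalizer_iff.mp (hTN x.2) a).mp ha⟩
  set E := extendByZero T (blockCoeff F) with hE
  have hEsupp : ∀ g, g ∉ Subgroup.centralizer (Q : Set G) → E g = 0 := fun g hg => by
    by_cases hgT : g ∈ T
    · refine (extendByZero_apply T (blockCoeff F) ⟨g, hgT⟩).trans ?_
      refine blockCoeff_eq_zero_of_not_centralizing hM (Q.subgroupOf T)
        (hQ.of_equiv (Subgroup.subgroupOfEquivOfLe hQT).symm) hF fun hc => hg fun q hq => ?_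
      exact congrArg Subtype.val (hc (⟨q, hQT hq⟩ : T) (Subgroup.mem_subgroupOf.mpr hq))
    · exact extendByZero_eq_zero T (blockCoeff F) hgT
  have hFv : conv v (blockCoeff F) = blockCoeff F :=
    eq_of_omega_eq (isClassFunction_conv hv (isClassFunction_blockCoeff F))
      (isClassFunction_blockCoeff F) fun η => by
        rw [omega_conv η hv (isClassFunction_blockCoeff F), omega_blockCoeff]
        by_cases hη : η ∈ F
        · rw [indVec_of_mem hη, mul_one]
          refine (omega_idem_zero_or_one hv hvv η).resolve_left fun h0 =>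
            not_memLocalIdeal_one (M := M) ?_
          have h2 := sub_mem_localIdeal_of_sameBlock
            (IsPBlock.sameBlock hF (mem_blockOf_self χ) hη) hv hl
          rwa [hχ, h0, sub_zero] at h2
        · rw [indVec_of_notMem hη, mul_zero]
  set w : Subgroup.centralizer (Q : Set G) → ℂ := fun c => E (c : G) with hwdef
  have hwext : extendByZero (Subgroup.centralizer (Q : Set G)) w = E := funext fun g => by
    by_cases hg : g ∈ Subgroup.centralizer (Q : Set G)
    · exact extendByZero_apply _ w ⟨g, hg⟩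
    · rw [extendByZero_eq_zero _ w hg, hEsupp g hg]
  have hw : IsClassFunction (Subgroup.centralizer (Q : Set G)) w := fun a x => by
    show E _ = E _
    rw [hE, show (a : G) = ((⟨a, hCT a.2⟩ : T) : G) from rfl, extendByZero_apply]
    refine (extendByZero_apply T (blockCoeff F) ⟨_, hCT (x * a * x⁻¹).2⟩).trans ?_
    exact isClassFunction_blockCoeff F ⟨a, hCT a.2⟩ ⟨x, hCT x.2⟩
  have hwl : ∀ c, MemLocalRing M (w c) := fun c => by
    show MemLocalRing M (extendByZero T (blockCoeff F) ((⟨c, hCT c.2⟩ : T) : G))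
    exact (extendByZero_apply T (blockCoeff F) ⟨c, hCT c.2⟩).symm ▸
      IsPBlock.memLocalRing_blockCoeff hF _
  have hww : conv w w = w := funext fun c => by
    have h2 := congrFun (conv_extendByZero (Subgroup.centralizer (Q : Set G)) w w) (c : G)
    rw [hwext, extendByZero_apply, hE, conv_extendByZero, conv_blockCoeff_self] at h2
    exact h2.symm.trans rfl
  have hwne : ∃ c, w c ≠ 0 := by
    by_contra hcon
    push Not at hcon
    obtain ⟨η, hη⟩ := IsPBlock.nonempty hF
    have h2 := omega_blockCoeff F η
    rw [indVec_of_mem hη, show blockCoeff F = fun _ => (0 : ℂ) from funext fun t => by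
      have h3 : E (t : G) = blockCoeff F t := extendByZero_apply T (blockCoeff F) t
      rw [← h3]
      by_cases hg : (t : G) ∈ Subgroup.centralizer (Q : Set G)
      · exact hcon ⟨t, hg⟩
      · exact hEsupp _ hg] at h2
    simp [omega] at h2
  have hfw : conv (blockCoeff f) w = w := funext fun c => by
    have h2 := congrFun (conv_extendByZero (Subgroup.centralizer (Q : Set G)) (blockCoeff f) w) (c : G)
    rw [extendByZero_apply, hwext, ← subgroupBlockCoeff_eq, ← hβdef, ← hext, hE,
      conv_extendByZero, hFv] at h2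
    exact h2.symm
  have hwf := eq_blockCoeff_of_idempotent_le hf hw hwl hww hwne
    (mem_of_omega_eq_one_of_conv hw hfw)
  intro t
  have h4 : E (t : G) = blockCoeff F t := extendByZero_apply T (blockCoeff F) t
  rw [← h4]
  show E t = β t
  rw [← hwext, hwf, hβdef, subgroupBlockCoeff_eq]

theorem blockDefect_conjSet {x : G} {K K' : Subgroup G} (h : ∀ g, x * g * x⁻¹ ∈ K' ↔ g ∈ K)
    (f : Set (IrrCharacter K)) : blockDefect p (conjSet x K K' f) = blockDefect p f := by
  have hd : ∀ χ : IrrCharacter K,
      charDegree (conjIrr h χ : K' → ℂ) = charDegree (χ : K → ℂ) := fun χ => by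
    rw [charDegree, charDegree, conjIrr_apply h χ (c := 1) (c' := 1) (by simp)]
  rw [blockDefect, blockDefect, Nat.card_congr (conjIso h).toEquiv, conjSet_eq_image h,
    Set.image_image]
  simp only [hd]

theorem eq_of_blockCoeff_eq {S T : Set (IrrCharacter G)}
    (h : ∀ g, blockCoeff S g = blockCoeff T g) : S = T := by
  ext χ
  have h2 := congrArg (omega (χ : G → ℂ)) (funext h : blockCoeff S = blockCoeff T)
  rw [omega_blockCoeff, omega_blockCoeff] at h2
  by_cases hS : χ ∈ S <;> by_cases hT : χ ∈ T <;> simp_all [indVec]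

end CfsgLib.Blocks
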