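import Cfsg.Agent.Lib.Blocks.MaxPairs

/-!
# Brauer pairs of an intermediate subgroup read in the group

For `H ≤ G` and a subgroup `A` of `H` with `C_G(A) ≤ H`, the centralizers of `A` in `H` and in `G`
are the same, so a block of one is a block of the other.
-/

set_option autoImplicit false
set_option linter.unusedSectionVars false

namespace CfsgLib.Blocks

open Cfsg
open scoped ComplexConjugate CfsgLib.Char

variable {p : ℕ} {M : Ideal AlgInt} {G : Type*} [Group G] [Fintype G]

/-- Transport of an irreducible character along an isomorphism. -/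
noncomputable def irrEquiv {A B : Type*} [Group A] [Group B] (φ : A ≃* B) :
    IrrCharacter A ≃ IrrCharacter B where
  toFun χ := ⟨(χ : A → ℂ) ∘ φ.symm,
    isIrrCharacter_comp_of_surjective χ.2 φ.symm.toMonoidHom φ.symm.surjective⟩
  invFun χ := ⟨(χ : B → ℂ) ∘ φ,
    isIrrCharacter_comp_of_surjective χ.2 φ.toMonoidHom φ.surjective⟩
  left_inv χ := Subtype.ext (funext fun a => congrArg (χ : A → ℂ) (φ.symm_apply_apply a))
  right_inv χ := Subtype.ext (funext fun b => congrArg (χ : B → ℂ) (φ.apply_symm_apply b))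

theorem irrEquiv_apply {A B : Type*} [Group A] [Group B] (φ : A ≃* B) (χ : IrrCharacter A) (a : A) :
    (irrEquiv φ χ : B → ℂ) (φ a) = (χ : A → ℂ) a :=
  congrArg (χ : A → ℂ) (φ.symm_apply_apply a)

theorem isPBlock_image_irrEquiv [M.IsPrime] {A B : Type*} [Group A] [Group B] [Finite A] [Finite B]
    (φ : A ≃* B)
    {f : Set (IrrCharacter A)} (hf : IsPBlock M f) : IsPBlock M (irrEquiv φ '' f) := by
  have := Fintype.ofFinite A
  have := Fintype.ofFinite B
  obtain ⟨χ, rfl⟩ := hf
  refine ⟨irrEquiv φ χ, Set.ext fun ψ => ?_⟩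
  rw [mem_blockOf_iff]
  constructor
  · rintro ⟨η, hη, rfl⟩
    exact sameBlock_inflate φ.symm.toMonoidHom φ.symm.surjective hη
  · intro hψ
    refine ⟨(irrEquiv φ).symm ψ, ?_, (irrEquiv φ).apply_symm_apply ψ⟩
    rw [mem_blockOf_iff]
    have h := sameBlock_inflate φ.toMonoidHom φ.surjective hψ
    convert h using 1
    · exact funext fun a => (irrEquiv_apply φ χ a).symm
    · rfl

theorem blockCoeff_image_irrEquiv {A B : Type*} [Group A] [Group B] (φ : A ≃* B)
    (f : Set (IrrCharacter A)) (a : A) : blockCoeff (irrEquiv φ '' f) (φ a) = blockCoeff f a := by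
  rw [blockCoeff, blockCoeff, Nat.card_congr φ.toEquiv,
    finsum_mem_image (irrEquiv φ).injective.injOn]
  congr 1
  refine finsum_mem_congr rfl fun χ _ => ?_
  rw [irrEquiv_apply, ← map_one φ, irrEquiv_apply]

variable {H : Subgroup G} (A : Subgroup H)

theorem centralizer_map_le_of_le {A₀ : Subgroup G} (h : A₀ ≤ A.map H.subtype)
    (hA : Subgroup.centralizer (A₀ : Set G) ≤ H) :
    Subgroup.centralizer ((A.map H.subtype : Subgroup G) : Set G) ≤ H :=
  (Subgroup.centralizer_le (SetLike.coe_subset_coe.mpr h)).trans hA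

/-- The centralizer in `H` of a subgroup, as a subgroup of `G`. -/
def centEquiv (h : Subgroup.centralizer ((A.map H.subtype : Subgroup G) : Set G) ≤ H) :
    Subgroup.centralizer (A : Set H) ≃*
      Subgroup.centralizer ((A.map H.subtype : Subgroup G) : Set G) where
  toFun c := ⟨((c : H) : G), by
    rintro _ ⟨a, ha, rfl⟩
    exact congrArg Subtype.val (c.2 a ha)⟩
  invFun c := ⟨⟨(c : G), h c.2⟩, fun a ha =>
    Subtype.ext (c.2 _ ⟨a, ha, rfl⟩)⟩
  left_inv _ := rfl
  right_inv _ := rfl
  map_mul' _ _ := rfl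

/-- A block of `C_H(A)` read as a block of `C_G(A)`. -/
noncomputable def upBlock
    (h : Subgroup.centralizer ((A.map H.subtype : Subgroup G) : Set G) ≤ H)
    (f : Set (IrrCharacter (Subgroup.centralizer (A : Set H)))) :
    Set (IrrCharacter (Subgroup.centralizer ((A.map H.subtype : Subgroup G) : Set G))) :=
  irrEquiv (centEquiv A h) '' f

variable {A} (h : Subgroup.centralizer ((A.map H.subtype : Subgroup G) : Set G) ≤ H)

theorem isPBlock_upBlock [M.IsPrime] {f : Set (IrrCharacter (Subgroup.centralizer (A : Set H)))}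
    (hf : IsPBlock M f) : IsPBlock M (upBlock A h f) :=
  isPBlock_image_irrEquiv _ hf

theorem subgroupBlockCoeff_upBlock
    (f : Set (IrrCharacter (Subgroup.centralizer (A : Set H)))) (z : H) :
    subgroupBlockCoeff (Subgroup.centralizer ((A.map H.subtype : Subgroup G) : Set G))
      (upBlock A h f) (z : G) = subgroupBlockCoeff (Subgroup.centralizer (A : Set H)) f z := by
  classical
  rw [subgroupBlockCoeff_eq, subgroupBlockCoeff_eq]
  by_cases hz : z ∈ Subgroup.centralizer (A : Set H)
  · rw [show (z : G) = ((centEquiv A h ⟨z, hz⟩ :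
      Subgroup.centralizer ((A.map H.subtype : Subgroup G) : Set G)) : G) from rfl,
      extendByZero_apply, upBlock, blockCoeff_image_irrEquiv]
    exact (extendByZero_apply _ (blockCoeff f) ⟨z, hz⟩).symm
  · rw [extendByZero_eq_zero _ _ hz, extendByZero_eq_zero]
    intro hc
    exact hz ((centEquiv A h).symm ⟨z, hc⟩).2

theorem brauerOmega_upBlock {β : G → ℂ} {β' : H → ℂ} (hβ : ∀ z : H, β (z : G) = β' z)
    (ξ : IrrCharacter (Subgroup.centralizer (A : Set H))) :
    brauerOmega (A.map H.subtype) β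
      (irrEquiv (centEquiv A h) ξ :
        Subgroup.centralizer ((A.map H.subtype : Subgroup G) : Set G) → ℂ) =
      brauerOmega A β' (ξ : Subgroup.centralizer (A : Set H) → ℂ) := by
  rw [brauerOmega, brauerOmega, ← finsum_comp_equiv (centEquiv A h).toEquiv]
  refine finsum_congr fun c => ?_
  have h1 := irrEquiv_apply (centEquiv A h) ξ c
  have h2 := irrEquiv_apply (centEquiv A h) ξ 1
  rw [map_one] at h2
  show β ((c : H) : G) * _ / _ = _
  rw [hβ, h2]
  exact congrArg (fun t => β' (c : H) * t / (ξ : Subgroup.centralizer (A : Set H) → ℂ) 1) h1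

/-- Normal inclusions in `H` are normal inclusions in `G`. -/
theorem isNormalSubpair_upBlock [M.IsPrime] {A' : Subgroup H}
    (h' : Subgroup.centralizer ((A'.map H.subtype : Subgroup G) : Set G) ≤ H)
    {f : Set (IrrCharacter (Subgroup.centralizer (A : Set H)))}
    {g : Set (IrrCharacter (Subgroup.centralizer (A' : Set H)))}
    (hn : IsNormalSubpair p M A f A' g) :
    IsNormalSubpair p M (A.map H.subtype) (upBlock A h f) (A'.map H.subtype) (upBlock A' h' g) := by
  classical
  obtain ⟨hAf, hAg, hle, hN, hst, hω⟩ := hn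
  have hN' : A'.map H.subtype ≤ Subgroup.normalizer ((A.map H.subtype : Subgroup G) : Set G) := by
    rintro _ ⟨y, hy, rfl⟩
    refine Subgroup.mem_normalizer_iff.mpr fun g => ?_
    constructor
    · rintro ⟨z, hz, rfl⟩
      exact ⟨y * z * y⁻¹, (Subgroup.mem_normalizer_iff.mp (hN hy) z).mp hz, by simp⟩
    · rintro ⟨z, hz, hzg⟩
      refine ⟨y⁻¹ * z * y, (Subgroup.mem_normalizer_iff.mp (hN hy) _).mpr
        (by simpa [mul_assoc] using hz), ?_⟩
      simp only [map_mul, map_inv, hzg]
      simp [mul_assoc]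
  refine ⟨⟨hAf.1.map _, isPBlock_upBlock h hAf.2⟩, ⟨hAg.1.map _, isPBlock_upBlock h' hAg.2⟩,
    Subgroup.map_mono hle, hN', ?_, ?_⟩
  · rintro _ ⟨y, hy, rfl⟩
    refine ⟨mem_normalizer_centralizer (hN' ⟨y, hy, rfl⟩), ?_⟩
    rintro _ ⟨χ, hχ, rfl⟩
    obtain ⟨χ', hχ', hval⟩ := (hst y hy).2 χ hχ
    refine ⟨_, ⟨χ', hχ', rfl⟩, fun k k' hk => ?_⟩
    exact hval ((centEquiv A h).symm k) ((centEquiv A h).symm k') (Subtype.ext hk)
  · rintro _ ⟨ξ, hξ, rfl⟩
    rw [brauerOmega_upBlock h' (β' := subgroupBlockCoeff (Subgroup.centralizer (A : Set H)) f)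
      (subgroupBlockCoeff_upBlock h f) ξ]
    exact hω ξ hξ

/-- Chains of normal inclusions in `H` above a group with centralizer in `H` go to `G`. -/
theorem subpairLE_upBlock [M.IsPrime] {A' : Subgroup H}
    (h' : Subgroup.centralizer ((A'.map H.subtype : Subgroup G) : Set G) ≤ H)
    {f : Set (IrrCharacter (Subgroup.centralizer (A : Set H)))}
    {g : Set (IrrCharacter (Subgroup.centralizer (A' : Set H)))}
    (hle : SubpairLE p M A f A' g) :
    SubpairLE p M (A.map H.subtype) (upBlock A h f) (A'.map H.subtype) (upBlock A' h' g) := by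
  classical
  have key : ∀ a b : BrauerPairIdx H, Relation.ReflTransGen (NormalSubpairRel p M) a b →
      ∀ (ha : Subgroup.centralizer ((a.1.map H.subtype : Subgroup G) : Set G) ≤ H)
        (hb : Subgroup.centralizer ((b.1.map H.subtype : Subgroup G) : Set G) ≤ H),
        SubpairLE p M (a.1.map H.subtype) (upBlock a.1 ha a.2) (b.1.map H.subtype)
          (upBlock b.1 hb b.2) := fun a b hab => by
    induction hab with
    | refl => exact fun _ _ => Relation.ReflTransGen.refl
    | @tail b c hab hbc ih =>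
      intro ha hc
      have hb : Subgroup.centralizer ((b.1.map H.subtype : Subgroup G) : Set G) ≤ H :=
        centralizer_map_le_of_le b.1 (Subgroup.map_mono (SubpairLE.le (Q := a.1) (P := b.1) hab)) ha
      exact Relation.ReflTransGen.tail (ih ha hb) (isNormalSubpair_upBlock hb hc hbc)
  exact key _ _ hle h h'

end CfsgLib.Blocks
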