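import Cfsg.Agent.Lib.Blocks.MaxPairs
import Cfsg.Agent.Lib.Blocks.PairTransport
import Cfsg.Agent.Lib.Blocks.DefectPairs
import Cfsg.Agent.Lib.Blocks.NormalPBlocks
import Cfsg.Agent.Lib.Blocks.KernelBlock
import Cfsg.Agent.Lib.Blocks.MainThird
import Cfsg.Agent.S1886

/-!
# Cores of centralizers in the kernels of Brauer pairs

For a set `ρ` of primes not containing `p`, the `ρ`-core of `C_G(Q)` lies in the kernel of the block
of a Brauer pair `(Q, e)` exactly as it does for the pairs below and (when the `ρ`-elements form the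
core) above it.
-/

set_option autoImplicit false
set_option linter.unusedSectionVars false

namespace CfsgLib.Blocks

open Cfsg
open scoped ComplexConjugate CfsgLib.Char

variable {p : ℕ} {M : Ideal AlgInt} {ρ : Set ℕ} {G : Type*} [Group G]

/-- The `ρ`-core of `C_G(Q)` is in the kernel of `e`. -/
def CoreTrivial (ρ : Set ℕ) (a : BrauerPairIdx G) : Prop :=
  ∀ c : Subgroup.centralizer (a.1 : Set G), c ∈ piCore ρ (Subgroup.centralizer (a.1 : Set G)) →
    ∀ ξ ∈ a.2, (ξ : Subgroup.centralizer (a.1 : Set G) → ℂ) c =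
      (ξ : Subgroup.centralizer (a.1 : Set G) → ℂ) 1

/-- The `ρ`-elements lie in the `ρ`-core. -/
def RhoClosed (ρ : Set ℕ) (C : Subgroup G) : Prop :=
  ∀ x : C, (∀ q : ℕ, q.Prime → q ∣ orderOf x → q ∈ ρ) → x ∈ piCore ρ C

variable [Fintype G]

theorem piCore_prime_mem {H : Type*} [Group H] [Finite H] {q : ℕ} (hq : q.Prime)
    (h : q ∣ Nat.card (piCore ρ H)) : q ∈ ρ :=
  Cfsg.Agent.S1886.piCore_isPi ρ q hq h

theorem piCore_orderOf {x : G} (hx : x ∈ piCore ρ G) {q : ℕ} (hq : q.Prime) (h : q ∣ orderOf x) :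
    q ∈ ρ :=
  piCore_prime_mem (H := G) hq (h.trans (by
    rw [show orderOf x = orderOf (⟨x, hx⟩ : piCore ρ G) from (Subgroup.orderOf_mk x hx).symm]
    exact orderOf_dvd_natCard _))

theorem not_dvd_card_piCore (hp : p.Prime) (hpρ : p ∉ ρ) {H : Type*} [Group H] [Finite H] :
    ¬ p ∣ Nat.card (piCore ρ H) :=
  fun h => hpρ (Cfsg.Agent.S1886.piCore_isPi ρ p hp h)

theorem piCore_map_equiv {A B : Type*} [Group A] [Group B] [Finite A] [Finite B] (φ : A ≃* B)
    {a : A} (ha : a ∈ piCore ρ A) : φ a ∈ piCore ρ B := by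
  have hle : (piCore ρ A).map φ.toMonoidHom ≤ piCore ρ B := by
    refine le_sSup ⟨(piCore_normal ρ A).map _ φ.surjective, fun q hq hd => ?_⟩
    rw [Subgroup.card_map_of_injective (show Function.Injective φ.toMonoidHom from φ.injective)] at hd
    exact Cfsg.Agent.S1886.piCore_isPi ρ q hq hd
  exact hle ⟨a, ha, rfl⟩

/-- A normal subgroup with `ρ`-elements only is in the core, seen inside a subgroup. -/
theorem mem_piCore_of_mem {C : Subgroup G} (X : Subgroup G)
    (hXn : ∀ c ∈ C, ∀ x ∈ X, c * x * c⁻¹ ∈ X) (hX : ∀ q : ℕ, q.Prime → q ∣ Nat.card X → q ∈ ρ)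
    {c : C} (hc : (c : G) ∈ X) : c ∈ piCore ρ C := by
  have hle : X.subgroupOf C ≤ piCore ρ C := by
    refine le_sSup ⟨⟨fun x hx g => ?_⟩, fun q hq hd => hX q hq ?_⟩
    · rw [Subgroup.mem_subgroupOf] at hx ⊢
      exact hXn g g.2 x hx
    · refine hd.trans ?_
      rw [← Subgroup.card_map_of_injective (K := X.subgroupOf C) C.subtype_injective]
      exact Subgroup.card_dvd_of_le (Subgroup.map_comap_le _ _)
  exact hle (Subgroup.mem_subgroupOf.mpr hc)

theorem RhoClosed.mono {C D : Subgroup G} (h : RhoClosed ρ D) (hCD : C ≤ D) : RhoClosed ρ C := by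
  intro x hx
  refine mem_piCore_of_mem ((piCore ρ D).map D.subtype) (fun c hc y hy => ?_) (fun q hq hd => ?_)
    ⟨⟨x, hCD x.2⟩, h _ ?_, rfl⟩
  · obtain ⟨y, hy, rfl⟩ := hy
    exact ⟨(⟨c, hCD hc⟩ : D) * y * (⟨c, hCD hc⟩ : D)⁻¹,
      (piCore_normal ρ D).conj_mem y hy _, by simp⟩
  · rw [Subgroup.card_map_of_injective D.subtype_injective] at hd
    exact piCore_prime_mem hq hd
  · rwa [show orderOf (⟨(x : G), hCD x.2⟩ : D) = orderOf x by
      rw [← Subgroup.orderOf_coe, ← Subgroup.orderOf_coe]]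

/-! ### Kernels and idempotents -/

/-- Convolving with a function whose central characters are constant on `U` scales `e_U`. -/
theorem conv_blockCoeff_of_omega {U : Set (IrrCharacter G)} {f : G → ℂ} (hf : IsClassFunction G f)
    {c : ℂ} (h : ∀ χ ∈ U, omega (χ : G → ℂ) f = c) :
    conv (blockCoeff U) f = c • blockCoeff U := by
  rw [← ofOmega_indVec, ← ofOmega_smul]
  conv_lhs => rw [← ofOmega_omega hf]
  rw [← ofOmega_mul]
  congr 1
  funext χ
  by_cases hχ : χ ∈ U
  · simp [indVec_of_mem hχ, h χ hχ]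
  · simp [indVec_of_notMem hχ]

theorem res_brauerOmega_smul [M.IsPrime] {P : Subgroup G} {β : G → ℂ} (h : IsStableFun M P β)
    {c : ℂ} (hc : MemLocalRing M c) (ξ : IrrCharacter (Subgroup.centralizer (P : Set G))) :
    res M (brauerOmega P (c • β) (ξ : Subgroup.centralizer (P : Set G) → ℂ)) =
      res M c * res M (brauerOmega P β (ξ : Subgroup.centralizer (P : Set G) → ℂ)) := by
  classical
  rw [← res_mul hc (memLocalRing_brauerOmega h ξ), brauerOmega_eq, brauerOmega_eq,
    show (fun x : Subgroup.centralizer (P : Set G) => (c • β) (x : G)) =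
      c • (fun x : Subgroup.centralizer (P : Set G) => β (x : G)) from rfl, omega_smul]

theorem isStableFun_subgroupInd [M.IsPrime] {P X : Subgroup G}
    (hP : ∀ g ∈ P, ∀ x, g * x * g⁻¹ ∈ X ↔ x ∈ X)
    (hC : ∀ g ∈ Subgroup.centralizer (P : Set G), ∀ x, g * x * g⁻¹ ∈ X ↔ x ∈ X) :
    IsStableFun M P (subgroupInd X) := by
  classical
  exact ⟨fun g => memLocalRing_subgroupInd X g, fun g hg x => if_congr (hP g hg x) rfl rfl,
    fun g hg x => if_congr (hC g hg x) rfl rfl⟩

/-- For an element `β` with `β 1_X = c β` and `ξ` in its Brauer image, `ξ` is trivial on `X ∩ C(P)`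
exactly if `c` is a unit. -/
theorem trivial_iff_of_conv [M.IsPrime] (hM : IsPModular p M) {P : Subgroup G} (hP : IsPGroup p P)
    {β : G → ℂ} (hβ : IsStableFun M P β) (X : Subgroup G) (hXP : ∀ g ∈ P, ∀ x, g * x * g⁻¹ ∈ X ↔ x ∈ X)
    (hXC : ∀ g ∈ Subgroup.centralizer (P : Set G), ∀ x, g * x * g⁻¹ ∈ X ↔ x ∈ X)
    (hX : ¬ p ∣ Nat.card X) {c : ℕ} (hconv : conv β (subgroupInd X) = (c : ℂ) • β)
    {ξ : IrrCharacter (Subgroup.centralizer (P : Set G))}
    (h1 : res M (brauerOmega P β (ξ : Subgroup.centralizer (P : Set G) → ℂ)) = 1) :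
    (∀ z : Subgroup.centralizer (P : Set G), (z : G) ∈ X →
      (ξ : Subgroup.centralizer (P : Set G) → ℂ) z =
        (ξ : Subgroup.centralizer (P : Set G) → ℂ) 1) ↔ ¬ p ∣ c := by
  classical
  have : Fact p.Prime := ⟨hM.1⟩
  have : (X.subgroupOf (Subgroup.centralizer (P : Set G))).Normal := ⟨fun x hx g => by
    rw [Subgroup.mem_subgroupOf] at hx ⊢
    exact (hXC g g.2 x).mpr hx⟩
  have hstX : IsStableFun M P (subgroupInd X) := isStableFun_subgroupInd hXP hXC
  have hXom : brauerOmega P (subgroupInd X) (ξ : Subgroup.centralizer (P : Set G) → ℂ) =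
      omega (ξ : Subgroup.centralizer (P : Set G) → ℂ) (subgroupInd (X.subgroupOf (Subgroup.centralizer (P : Set G)))) := by
    rw [brauerOmega_eq]
    congr 1
  have hkey := res_brauerOmega_conv hM hP hβ hstX ξ
  rw [hconv, res_brauerOmega_smul hβ (memLocalRing_natCast c), h1, mul_one, one_mul, hXom] at hkey
  have hloc : MemLocalRing M (omega (ξ : Subgroup.centralizer (P : Set G) → ℂ) (subgroupInd (X.subgroupOf (Subgroup.centralizer (P : Set G))))) :=
    hXom ▸ memLocalRing_brauerOmega hstX ξ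
  have hXC' : ¬ p ∣ Nat.card (X.subgroupOf (Subgroup.centralizer (P : Set G))) := fun h => hX (h.trans (by
    rw [← Subgroup.card_map_of_injective (K := X.subgroupOf (Subgroup.centralizer (P : Set G))) (Subgroup.centralizer (P : Set G)).subtype_injective]
    exact Subgroup.card_dvd_of_le (Subgroup.map_comap_le _ _)))
  constructor
  · intro ht hpc
    rw [omega_subgroupInd_of_trivial _ (fun z hz => ht z (Subgroup.mem_subgroupOf.mp hz)),
      res_eq_iff (memLocalRing_natCast _) (memLocalRing_natCast _)] at hkey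
    refine hXC' ((memLocalIdeal_natCast_iff hM).mp ?_)
    exact (memLocalIdeal_iff_of_sub hkey).mp ((memLocalIdeal_natCast_iff hM).mpr hpc)
  · intro hpc z hz
    refine trivial_on_of_omega_subgroupInd_ne_zero (X.subgroupOf (Subgroup.centralizer (P : Set G))) (χ := ξ) (fun h0 => hpc ?_) z
      (Subgroup.mem_subgroupOf.mpr hz)
    rw [h0, res_zero, res_eq_zero_iff (memLocalRing_natCast c)] at hkey
    exact (memLocalIdeal_natCast_iff hM).mp hkey

/-- A normal `p'`-subgroup of `G` lies in the kernel of a block exactly if its intersection with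
`C_G(Q)` lies in the kernel of a pair at `Q`. -/
theorem le_blockKer_iff_of_pair (hM : IsPModular p M) {B : Set (IrrCharacter G)} {Q : Subgroup G}
    {e : Set (IrrCharacter (Subgroup.centralizer (Q : Set G)))} (hpair : IsBrauerPairOf p M B Q e)
    (X : Subgroup G) [hXn : X.Normal] (hX : ¬ p ∣ Nat.card X) :
    (∀ x ∈ X, x ∈ blockKer B) ↔
      ∀ z : Subgroup.centralizer (Q : Set G), (z : G) ∈ X → z ∈ blockKer e := by
  classical
  have := isPrime_of_isPModular hM
  have hB := hpair.2.1
  have hst := isStableFun_blockCoeff hB Q (M := M)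
  have hconj : ∀ g : G, ∀ x, g * x * g⁻¹ ∈ X ↔ x ∈ X := fun g x =>
    ⟨fun h => by simpa [mul_assoc] using hXn.conj_mem _ h g⁻¹, fun h => hXn.conj_mem x h g⟩
  by_cases ht : ∀ x ∈ X, x ∈ blockKer B
  · refine iff_of_true ht fun z hz ξ hξ => ?_
    exact (trivial_iff_of_conv hM hpair.1.1 hst X (fun g _ => hconj g) (fun g _ => hconj g) hX
      (conv_blockCoeff_of_omega (isClassFunction_subgroupInd X) fun χ hχ =>
        omega_subgroupInd_of_trivial X fun x hx => ht x hx χ hχ)
      (IsBrauerPairOf.res_eq_one hpair hξ)).mpr hX z hz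
  · refine iff_of_false ht fun h => ?_
    obtain ⟨ξ, hξ⟩ := IsPBlock.nonempty hpair.1.2
    have hz : ∀ χ ∈ B, omega (χ : G → ℂ) (subgroupInd X) = ((0 : ℕ) : ℂ) := by
      intro χ hχ
      rw [Nat.cast_zero]
      by_contra hne
      exact ht fun x hx ψ hψ => trivial_on_of_sameBlock hM X hX (IsPBlock.sameBlock hB hχ hψ)
        (trivial_on_of_omega_subgroupInd_ne_zero X hne) x hx
    exact (trivial_iff_of_conv hM hpair.1.1 hst X (fun g _ => hconj g) (fun g _ => hconj g) hX
      (conv_blockCoeff_of_omega (isClassFunction_subgroupInd X) hz)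
      (IsBrauerPairOf.res_eq_one hpair hξ)).mp (fun z hz => h z hz ξ hξ) (dvd_zero p)

theorem conj_mem_map_piCore_iff {Q : Subgroup G} {g : G}
    (hg : g ∈ Subgroup.normalizer (Q : Set G)) (x : G) :
    g * x * g⁻¹ ∈ (piCore ρ (Subgroup.centralizer (Q : Set G))).map
        (Subgroup.centralizer (Q : Set G)).subtype ↔
      x ∈ (piCore ρ (Subgroup.centralizer (Q : Set G))).map
        (Subgroup.centralizer (Q : Set G)).subtype := by
  have key : ∀ g ∈ Subgroup.normalizer (Q : Set G), ∀ x,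
      x ∈ (piCore ρ (Subgroup.centralizer (Q : Set G))).map
        (Subgroup.centralizer (Q : Set G)).subtype →
      g * x * g⁻¹ ∈ (piCore ρ (Subgroup.centralizer (Q : Set G))).map
        (Subgroup.centralizer (Q : Set G)).subtype := by
    rintro g hg _ ⟨c, hc, rfl⟩
    exact ⟨_, piCore_map_equiv (conjIso (conj_mem_iff_of_mem_normalizer
      (mem_normalizer_centralizer hg))) hc, rfl⟩
  exact ⟨fun h => by simpa [mul_assoc] using key g⁻¹ (inv_mem hg) _ h, key g hg x⟩

/-- The two directions along a normal inclusion. -/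
theorem coreTrivial_normalSubpair (hM : IsPModular p M) (hpρ : p ∉ ρ) {Q R : Subgroup G}
    {f : Set (IrrCharacter (Subgroup.centralizer (Q : Set G)))}
    {e : Set (IrrCharacter (Subgroup.centralizer (R : Set G)))}
    (h : IsNormalSubpair p M Q f R e) :
    (CoreTrivial ρ ⟨R, e⟩ → CoreTrivial ρ ⟨Q, f⟩) ∧
      (RhoClosed ρ (Subgroup.centralizer (Q : Set G)) → CoreTrivial ρ ⟨Q, f⟩ →
        CoreTrivial ρ ⟨R, e⟩) := by
  classical
  have := isPrime_of_isPModular hM
  have : Fintype (Subgroup.centralizer (Q : Set G)) := Fintype.ofFinite _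
  obtain ⟨hQf, hRe, hQR, hRN, hstab, -⟩ := id h
  have hCC : Subgroup.centralizer (R : Set G) ≤ Subgroup.centralizer (Q : Set G) :=
    Subgroup.centralizer_le (SetLike.coe_subset_coe.mpr hQR)
  set K := piCore ρ (Subgroup.centralizer (Q : Set G)) with hKdef
  set X := K.map (Subgroup.centralizer (Q : Set G)).subtype with hXdef
  have hXcard : Nat.card X = Nat.card K :=
    Subgroup.card_map_of_injective (Subgroup.centralizer (Q : Set G)).subtype_injective
  have hK : ¬ p ∣ Nat.card K := not_dvd_card_piCore hM.1 hpρ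
  have hst : IsStableFun M R (subgroupBlockCoeff (Subgroup.centralizer (Q : Set G)) f) :=
    isStableFun_subgroupBlockCoeff hQR hQf.2 hstab
  have hXR : ∀ g ∈ R, ∀ x, g * x * g⁻¹ ∈ X ↔ x ∈ X := fun g hg =>
    conj_mem_map_piCore_iff (hRN hg)
  have hXC : ∀ g ∈ Subgroup.centralizer (R : Set G), ∀ x, g * x * g⁻¹ ∈ X ↔ x ∈ X := fun g hg =>
    conj_mem_map_piCore_iff (Subgroup.centralizer_le_normalizer _ (hCC hg))
  have hind : subgroupInd X = extendByZero (Subgroup.centralizer (Q : Set G)) (subgroupInd K) := by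
    funext g
    by_cases hg : g ∈ Subgroup.centralizer (Q : Set G)
    · rw [show g = ((⟨g, hg⟩ : Subgroup.centralizer (Q : Set G)) : G) from rfl, extendByZero_apply]
      exact if_congr ⟨fun ⟨y, hy, e⟩ => by rwa [← Subtype.ext (a1 := y) (a2 := ⟨g, hg⟩) e],
        fun h => ⟨_, h, rfl⟩⟩ rfl rfl
    · rw [extendByZero_eq_zero _ _ hg]
      exact if_neg fun hx => hg (Subgroup.map_subtype_le _ hx)
  have hconv : ∀ c : ℕ, (∀ η ∈ f, omega (η : Subgroup.centralizer (Q : Set G) → ℂ) (subgroupInd K) =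
      (c : ℂ)) → conv (subgroupBlockCoeff (Subgroup.centralizer (Q : Set G)) f) (subgroupInd X) =
        (c : ℂ) • subgroupBlockCoeff (Subgroup.centralizer (Q : Set G)) f := fun c hc => by
    rw [hind, subgroupBlockCoeff_eq, conv_extendByZero,
      conv_blockCoeff_of_omega (isClassFunction_subgroupInd K) hc]
    funext g
    by_cases hg : g ∈ Subgroup.centralizer (Q : Set G)
    · rw [Pi.smul_apply, show g = ((⟨g, hg⟩ : Subgroup.centralizer (Q : Set G)) : G) from rfl,
        extendByZero_apply, extendByZero_apply]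
      rfl
    · rw [Pi.smul_apply, extendByZero_eq_zero _ _ hg, extendByZero_eq_zero _ _ hg, smul_zero]
  have hres : ∀ ξ ∈ e, res M (brauerOmega R (subgroupBlockCoeff (Subgroup.centralizer (Q : Set G)) f)
      (ξ : Subgroup.centralizer (R : Set G) → ℂ)) = 1 := fun ξ hξ =>
    IsNormalSubpair.res_eq_one h hξ
  refine ⟨fun ht => ?_, fun hcl ht => ?_⟩
  · by_contra hnt
    have hz : ∀ η ∈ f, omega (η : Subgroup.centralizer (Q : Set G) → ℂ) (subgroupInd K) =
        ((0 : ℕ) : ℂ) := by
      intro η hη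
      rw [Nat.cast_zero]
      by_contra hne
      exact hnt fun c hc η' hη' => trivial_on_of_sameBlock hM K hK
        (IsPBlock.sameBlock hQf.2 hη hη') (trivial_on_of_omega_subgroupInd_ne_zero K hne) c hc
    obtain ⟨ξ, hξ⟩ := IsPBlock.nonempty hRe.2
    refine (trivial_iff_of_conv hM hRe.1 hst X hXR hXC (hXcard ▸ hK) (hconv 0 hz) (hres ξ hξ)).mp
      (fun z hz' => ht z ?_ ξ hξ) (dvd_zero p)
    exact mem_piCore_of_mem X (fun c hc x hx => (hXC c hc x).mpr hx)
      (fun q hq hd => piCore_prime_mem hq (hXcard ▸ hd)) hz'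
  · intro z hz ξ hξ
    refine (trivial_iff_of_conv hM hRe.1 hst X hXR hXC (hXcard ▸ hK) (hconv _ fun η hη =>
      omega_subgroupInd_of_trivial K fun c hc => ht c hc η hη) (hres ξ hξ)).mpr hK z
      ⟨⟨z, hCC z.2⟩, hcl _ fun q hq hd => piCore_orderOf hz hq ?_, rfl⟩
    rw [← Subgroup.orderOf_coe] at hd ⊢
    exact hd

theorem RhoClosed.subpair (hM : IsPModular p M) (hpρ : p ∉ ρ) {a b : BrauerPairIdx G}
    (h : Relation.ReflTransGen (NormalSubpairRel p M) a b)
    (hc : RhoClosed ρ (Subgroup.centralizer (a.1 : Set G))) (ha : CoreTrivial ρ a) :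
    CoreTrivial ρ b := by
  have := isPrime_of_isPModular hM
  induction h with
  | refl => exact ha
  | @tail b c hab hbc ih =>
    exact (coreTrivial_normalSubpair hM hpρ hbc).2 (hc.mono (Subgroup.centralizer_le
      (SetLike.coe_subset_coe.mpr (SubpairLE.le (Q := a.1) (P := b.1) hab)))) ih

theorem coreTrivial_of_le (hM : IsPModular p M) (hpρ : p ∉ ρ) {a b : BrauerPairIdx G}
    (h : Relation.ReflTransGen (NormalSubpairRel p M) a b) (hb : CoreTrivial ρ b) :
    CoreTrivial ρ a := by
  induction h with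
  | refl => exact hb
  | tail _ hbc ih => exact ih ((coreTrivial_normalSubpair hM hpρ hbc).1 hb)

theorem coreTrivial_conjPair (x : G) {a : BrauerPairIdx G} (ha : CoreTrivial ρ a) :
    CoreTrivial ρ (conjPair x a) := by
  obtain ⟨Q, f⟩ := a
  intro c' hc' ξ' hξ'
  obtain ⟨ξ, hξ, hval⟩ := hξ'
  have h := centralizer_conj_iff (Q := Q) (x := x) rfl
  have hc : (conjIso h).symm c' ∈ piCore ρ (Subgroup.centralizer (Q : Set G)) :=
    piCore_map_equiv (conjIso h).symm hc'
  exact (hval ((conjIso h).symm c') c'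
    (congrArg Subtype.val ((conjIso h).apply_symm_apply c')).symm).trans
      ((ha _ hc ξ hξ).trans (hval 1 1 (by simp)).symm)

theorem coreTrivial_conjPair_iff (x : G) {a : BrauerPairIdx G} :
    CoreTrivial ρ (conjPair x a) ↔ CoreTrivial ρ a :=
  ⟨fun h => by
    have := coreTrivial_conjPair x⁻¹ h
    rwa [conjPair_conjPair, inv_mul_cancel, conjPair_one] at this, coreTrivial_conjPair x⟩

/-- If one maximal pair has the core in its kernel then all pairs of the block do. -/
theorem coreTrivial_of_maximal (hM : IsPModular p M) (hpρ : p ∉ ρ) {B : Set (IrrCharacter G)}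
    {a b : BrauerPairIdx G} (hmax : IsMaximalBrauerPair p M B a.1 a.2) (ha : CoreTrivial ρ a)
    (hb : IsBrauerPairOf p M B b.1 b.2) : CoreTrivial ρ b := by
  have := isPrime_of_isPModular hM
  obtain ⟨x, hx⟩ := exists_conjPair_le_maximal hM hmax hb
  exact (coreTrivial_conjPair_iff x).mp (coreTrivial_of_le hM hpρ hx ha)

/-! ### Passing from a subgroup to the group -/

/-- In the Brauer image of a block, truncation evaluates as the central character of the block. -/
theorem res_brauerOmega_eq_omega (hM : IsPModular p M) [M.IsPrime] {B : Set (IrrCharacter G)}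
    {Q : Subgroup G} {e : Set (IrrCharacter (Subgroup.centralizer (Q : Set G)))}
    (hpair : IsBrauerPairOf p M B Q e) {ξ : IrrCharacter (Subgroup.centralizer (Q : Set G))}
    (hξ : ξ ∈ e) {χ : IrrCharacter G} (hχ : χ ∈ B) {f : G → ℂ} (hf : IsClassFunction G f)
    (hl : ∀ g, MemLocalRing M (f g)) :
    res M (brauerOmega Q f (ξ : Subgroup.centralizer (Q : Set G) → ℂ)) =
      res M (omega (χ : G → ℂ) f) := by
  classical
  have hHN : (Subgroup.centralizer (Q : Set G)) ≤ Subgroup.normalizer (Q : Set G) := Subgroup.centralizer_le_normalizer _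
  set φ : ZO M G →+* ResField M :=
    ((resQuot ξ).comp (brauerHom hM Q (Subgroup.centralizer (Q : Set G)) hpair.1.1 le_rfl hHN)).comp
      (Ideal.Quotient.mk (nullIdeal M G))
  obtain ⟨B', ⟨hB', hBφ⟩, -⟩ :=
    exists_block_of_hom φ fun c hc => resQuot_brauerHom_scalar hM Q (Subgroup.centralizer (Q : Set G)) hpair.1.1 le_rfl hHN ξ c hc
  have hval : ∀ (v : G → ℂ) (hv : IsClassFunction G v) (hvl : ∀ g, MemLocalRing M (v g)),
      ∀ χ' ∈ B', res M (brauerOmega Q v (ξ : (Subgroup.centralizer (Q : Set G)) → ℂ)) = res M (omega (χ' : G → ℂ) v) := by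
    intro v hv hvl χ' hχ'
    have h := RingHom.congr_fun (hBφ χ' hχ') (toZO v hv hvl)
    show _ = resHom χ' (toZO v hv hvl)
    rw [← h]
    show _ = resQuot ξ (brauerHom hM Q (Subgroup.centralizer (Q : Set G)) hpair.1.1 le_rfl hHN (Ideal.Quotient.mk _ (toZO v hv hvl)))
    rw [brauerHom_mk, resQuot_mk]
    show _ = res M (omega (ξ : (Subgroup.centralizer (Q : Set G)) → ℂ) (brauerFun Q (Subgroup.centralizer (Q : Set G)) (ofOmega ((toZO v hv hvl : ZO M G) : IrrCharacter G → ℂ))))
    rw [ofOmega_toZO, brauerOmega_eq]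
    congr 2
    funext c
    exact (brauerFun_of_mem c.2).symm
  obtain ⟨χ', hχ'⟩ := IsPBlock.nonempty hB'
  have h1 := hval _ (isClassFunction_blockCoeff B) (IsPBlock.memLocalRing_blockCoeff hpair.2.1) χ' hχ'
  rw [IsBrauerPairOf.res_eq_one hpair hξ, omega_blockCoeff] at h1
  have hmem : χ' ∈ B := by
    by_contra hn
    rw [indVec_of_notMem hn, res_zero] at h1
    exact one_ne_zero h1
  exact hval f hf hl χ (IsPBlock.eq_of_mem_of_mem hB' hpair.2.1 hχ' hmem ▸ hχ)

/-- A pair of `b` is a pair of the induced block when the centralizer lies in the subgroup. -/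
theorem isBrauerPairOf_upBlock (hM : IsPModular p M) {H : Subgroup G} [Fintype H]
    {b : Set (IrrCharacter H)} {B : Set (IrrCharacter G)} (hind : IsInducedBlock M H b B)
    {A : Subgroup H} (hA : Subgroup.centralizer ((A.map H.subtype : Subgroup G) : Set G) ≤ H)
    {f : Set (IrrCharacter (Subgroup.centralizer (A : Set H)))}
    (hf : IsBrauerPairOf p M b A f) :
    IsBrauerPairOf p M B (A.map H.subtype) (upBlock A hA f) := by
  classical
  have := isPrime_of_isPModular hM
  obtain ⟨ξ, hξ⟩ := IsPBlock.nonempty hf.1.2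
  obtain ⟨η, hη⟩ := IsPBlock.nonempty hind.1
  obtain ⟨χ, hχ⟩ := IsPBlock.nonempty hind.2.1
  refine isBrauerPairOf_of_res hind.2.1 ⟨hf.1.1.map _, isPBlock_upBlock hA hf.1.2⟩
    (ξ := irrEquiv (centEquiv A hA) ξ) ⟨ξ, hξ, rfl⟩ ?_
  rw [brauerOmega_upBlock hA (β' := fun z : H => blockCoeff B (z : G)) (fun z => rfl) ξ,
    res_brauerOmega_eq_omega hM hf hξ hη
      (fun a x => isClassFunction_blockCoeff B (a : G) (x : G))
      (fun z => IsPBlock.memLocalRing_blockCoeff hind.2.1 _)]
  have h := IsInducedBlock.omega_congr hind hη hχ (isClassFunction_blockCoeff B)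
    (IsPBlock.memLocalRing_blockCoeff hind.2.1)
  rw [omega_blockCoeff, indVec_of_mem hχ] at h
  rw [← res_one]
  exact (res_eq_iff (memLocalRing_omega η
    (fun a x => isClassFunction_blockCoeff B (a : G) (x : G))
    fun z => IsPBlock.memLocalRing_blockCoeff hind.2.1 _) memLocalRing_one).mpr h

theorem coreTrivial_upBlock {H : Subgroup G} [Fintype H] {A : Subgroup H}
    (hA : Subgroup.centralizer ((A.map H.subtype : Subgroup G) : Set G) ≤ H)
    (f : Set (IrrCharacter (Subgroup.centralizer (A : Set H)))) :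
    CoreTrivial ρ (⟨A.map H.subtype, upBlock A hA f⟩ : BrauerPairIdx G) ↔
      CoreTrivial ρ (⟨A, f⟩ : BrauerPairIdx H) := by
  constructor
  · intro h c hc ξ hξ
    have := h _ (piCore_map_equiv (centEquiv A hA) hc) _ ⟨ξ, hξ, rfl⟩
    rwa [irrEquiv_apply, ← map_one (centEquiv A hA), irrEquiv_apply] at this
  · rintro h c hc _ ⟨ξ, hξ, rfl⟩
    obtain ⟨c, rfl⟩ := (centEquiv A hA).surjective c
    rw [irrEquiv_apply, ← map_one (centEquiv A hA), irrEquiv_apply]
    refine h c ?_ ξ hξ
    have := piCore_map_equiv (centEquiv A hA).symm hc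
    rwa [MulEquiv.symm_apply_apply] at this

/-- If the core of a centralizer is in the kernel of a pair then the core of the group is in the
kernel of the block. -/
theorem piCore_le_blockKer (hM : IsPModular p M) (hpρ : p ∉ ρ) {B : Set (IrrCharacter G)}
    {Q : Subgroup G} {e : Set (IrrCharacter (Subgroup.centralizer (Q : Set G)))}
    (hpair : IsBrauerPairOf p M B Q e) (h : CoreTrivial ρ ⟨Q, e⟩) :
    ∀ x ∈ piCore ρ G, x ∈ blockKer B :=
  (le_blockKer_iff_of_pair hM hpair (piCore ρ G) (not_dvd_card_piCore hM.1 hpρ)).mpr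
    fun z hz ξ hξ => h z (mem_piCore_of_mem (piCore ρ G)
      (fun c _ x hx => (piCore_normal ρ G).conj_mem x hx c) (fun q hq hd => piCore_prime_mem hq hd) hz)
      ξ hξ

/-- Conversely for a normal `p`-subgroup. -/
theorem coreTrivial_of_le_blockKer (hM : IsPModular p M) (hpρ : p ∉ ρ) {B : Set (IrrCharacter G)}
    {Q : Subgroup G} [Q.Normal] {e : Set (IrrCharacter (Subgroup.centralizer (Q : Set G)))}
    (hpair : IsBrauerPairOf p M B Q e)
    (h : ∀ c : Subgroup.centralizer (Q : Set G), c ∈ piCore ρ (Subgroup.centralizer (Q : Set G)) →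
      (c : G) ∈ blockKer B) : CoreTrivial ρ ⟨Q, e⟩ := by
  set X := (piCore ρ (Subgroup.centralizer (Q : Set G))).map
    (Subgroup.centralizer (Q : Set G)).subtype with hXdef
  have : X.Normal := ⟨fun x hx g =>
    (conj_mem_map_piCore_iff (Subgroup.mem_normalizer_iff.mpr fun n =>
      ⟨fun hn => Subgroup.Normal.conj_mem inferInstance n hn g,
        fun hn => by simpa [mul_assoc] using Subgroup.Normal.conj_mem inferInstance _ hn g⁻¹⟩) x).mpr hx⟩
  have hX : ¬ p ∣ Nat.card X := by
    rw [hXdef, Subgroup.card_map_of_injective (Subgroup.centralizer (Q : Set G)).subtype_injective]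
    exact not_dvd_card_piCore hM.1 hpρ
  intro c hc ξ hξ
  exact (le_blockKer_iff_of_pair hM hpair X hX).mp
    (by rintro _ ⟨d, hd, rfl⟩; exact h d hd) c ⟨c, hc, rfl⟩ ξ hξ

/-- A block has a pair at each of its defect groups. -/
theorem exists_pair_of_defectGroup (hM : IsPModular p M) {B : Set (IrrCharacter G)}
    (hB : IsPBlock M B) {D : Subgroup G} (hD : IsDefectGroup p M B D) :
    ∃ e : Set (IrrCharacter (Subgroup.centralizer (D : Set G))), IsBrauerPairOf p M B D e := by
  have := isPrime_of_isPModular hM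
  have : Fact p.Prime := ⟨hM.1⟩
  have hDp := IsDefectGroup.isPGroup hM hD
  obtain ⟨c, hc, hu⟩ := (exists_support_centralizing_iff hM hB hD hDp).mpr
    ⟨1, by rw [map_conj_one]⟩
  obtain ⟨ξ, hξ⟩ := exists_res_eq_one_of_support hM hDp (isStableFun_blockCoeff hB D)
    (conv_blockCoeff_self B) hc hu
  exact ⟨_, isBrauerPairOf_of_res hB ⟨hDp, isPBlock_blockOf ξ⟩ (mem_blockOf_self _) hξ⟩

/-- A pair on a defect group is maximal. -/
theorem isMaximalBrauerPair_of_defectGroup (hM : IsPModular p M) {B : Set (IrrCharacter G)}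
    {D : Subgroup G} (hD : IsDefectGroup p M B D)
    {e : Set (IrrCharacter (Subgroup.centralizer (D : Set G)))} (he : IsBrauerPairOf p M B D e) :
    IsMaximalBrauerPair p M B D e := by
  have := isPrime_of_isPModular hM
  have : Fact p.Prime := ⟨hM.1⟩
  refine ⟨he, fun R g hg hle => ?_⟩
  obtain ⟨a, ha, hle'⟩ := exists_maximal_pair_above hM hg
  obtain ⟨x, hx⟩ := IsDefectGroup.exists_conj_eq hM he.2.1 hD (isDefectGroup_of_maximal hM ha)
  have hcard : Nat.card a.1 = Nat.card D := by
    rw [hx]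
    exact Subgroup.card_map_of_injective (MulAut.conj x).injective
  refine (Subgroup.eq_of_le_of_card_ge (SubpairLE.le hle) ?_).symm
  calc Nat.card R ≤ Nat.card a.1 := Subgroup.card_le_of_le (SubpairLE.le hle')
    _ = Nat.card D := hcard

/-- The hypothesis on the correspondent in the normalizer of a defect group, read on all pairs. -/
theorem coreTrivial_of_correspondent (hM : IsPModular p M) (hpρ : p ∉ ρ)
    {B : Set (IrrCharacter G)} {D : Subgroup G} (hBD : IsDefectGroup p M B D)
    [Fintype (Subgroup.normalizer (D : Set G))]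
    {B₁ : Set (IrrCharacter (Subgroup.normalizer (D : Set G)))}
    (hB₁ : IsInducedBlock M (Subgroup.normalizer (D : Set G)) B₁ B)
    (hker : ∀ n ∈ piCore ρ (Subgroup.normalizer (D : Set G)), n ∈ blockKer B₁)
    {a : BrauerPairIdx G} (ha : IsBrauerPairOf p M B a.1 a.2) : CoreTrivial ρ a := by
  have := isPrime_of_isPModular hM
  have : Fact p.Prime := ⟨hM.1⟩
  obtain ⟨A, hAdef⟩ : ∃ A, A = D.subgroupOf (Subgroup.normalizer (D : Set G)) := ⟨_, rfl⟩
  have hAD : A.map (Subgroup.normalizer (D : Set G)).subtype = D :=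
    hAdef ▸ Subgroup.map_subgroupOf_eq_of_le Subgroup.le_normalizer
  have : A.Normal := hAdef ▸ Subgroup.normal_in_normalizer
  have hAp : IsPGroup p A := by
    rw [hAdef]
    exact (IsDefectGroup.isPGroup hM hBD).of_equiv
      (Subgroup.subgroupOfEquivOfLe Subgroup.le_normalizer).symm
  obtain ⟨f, hf⟩ := exists_pair_of_normal hM A hAp hB₁.1
  have hA : Subgroup.centralizer ((A.map (Subgroup.normalizer (D : Set G)).subtype : Subgroup G) : Set G) ≤
      Subgroup.normalizer (D : Set G) := by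
    rw [hAD]; exact Subgroup.centralizer_le_normalizer _
  have hup := isBrauerPairOf_upBlock hM hB₁ hA hf
  have hmax := isMaximalBrauerPair_of_defectGroup hM (hAD.symm ▸ hBD) hup
  refine coreTrivial_of_maximal hM hpρ (a := ⟨_, _⟩) hmax ((coreTrivial_upBlock hA f).mpr
    (coreTrivial_of_le_blockKer hM hpρ hf fun c hc => hker _ ?_)) ha
  have hn : (Subgroup.centralizer (A : Set (Subgroup.normalizer (D : Set G)))).Normal :=
    inferInstance
  exact Cfsg.Agent.S1886.map_piCore_le ρ hn.isSubnormal ⟨c, hc, rfl⟩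

end CfsgLib.Blocks
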