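import Cfsg.Agent.Lib.Blocks.BlockFusion

/-!
# Fully normalized subgroups and saturation of the fusion system of a block
-/

set_option autoImplicit false
set_option linter.unusedSectionVars false

namespace CfsgLib.Blocks

open Cfsg
open scoped ComplexConjugate CfsgLib.Char

variable {p : ℕ} {M : Ideal AlgInt} {G : Type*} [Group G] [Fintype G]
  {P Q : Subgroup G} {e : Set (IrrCharacter (Subgroup.centralizer (P : Set G)))}
  {f : Set (IrrCharacter (Subgroup.centralizer (Q : Set G)))}

/-- The stabilizer of `f` in `N_G(Q)`. -/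
def blockT (Q : Subgroup G) (f : Set (IrrCharacter (Subgroup.centralizer (Q : Set G)))) :
    Subgroup G :=
  Subgroup.normalizer (Q : Set G) ⊓ blockStab (Subgroup.centralizer (Q : Set G)) f

theorem mem_blockT {y : G} :
    y ∈ blockT Q f ↔ y ∈ Subgroup.normalizer (Q : Set G) ∧
      StabilizesBlock (Subgroup.centralizer (Q : Set G)) f y := by
  rw [blockT, Subgroup.mem_inf, mem_blockStab]

theorem blockT_le_normalizer : blockT Q f ≤ Subgroup.normalizer (Q : Set G) := inf_le_left

theorem centralizer_le_blockT : Subgroup.centralizer (Q : Set G) ≤ blockT Q f := fun _ hy =>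
  ⟨Subgroup.centralizer_le_normalizer _ hy, Subgroup.le_normalizer hy, conjSet_of_mem hy f⟩

theorem le_blockT : Q ≤ blockT Q f := fun _ hy =>
  mem_blockT.mpr ⟨Subgroup.le_normalizer hy, stabilizes_self_of_mem hy f⟩

theorem conj_mem_blockT_iff {Q' : Subgroup G} {x : G}
    (hQ : Q' = Q.map (MulAut.conj x).toMonoidHom) (y : G) :
    x * y * x⁻¹ ∈ blockT Q' (conjSet x (Subgroup.centralizer (Q : Set G))
      (Subgroup.centralizer (Q' : Set G)) f) ↔ y ∈ blockT Q f := by
  have hN : x * y * x⁻¹ ∈ Subgroup.normalizer (Q' : Set G) ↔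
      y ∈ Subgroup.normalizer (Q : Set G) := by
    subst hQ
    rw [Subgroup.mem_normalizer_iff, Subgroup.mem_normalizer_iff]
    constructor
    · intro h g
      have := h (x * g * x⁻¹)
      rw [mem_map_conj_iff, mem_map_conj_iff] at this
      simpa [mul_assoc] using this
    · intro h g
      rw [mem_map_conj_iff, mem_map_conj_iff, h (x⁻¹ * g * x)]
      simp [mul_assoc]
  rw [mem_blockT, mem_blockT, hN]
  refine and_congr_right fun hy => ?_
  have hy' := conj_mem_iff_of_mem_normalizer (mem_normalizer_centralizer (hN.mpr hy))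
  have hy0 := conj_mem_iff_of_mem_normalizer (mem_normalizer_centralizer hy)
  have hC := centralizer_conj_iff hQ
  rw [stabilizesBlock_iff, stabilizesBlock_iff,
    and_iff_right (mem_normalizer_centralizer (hN.mpr hy)),
    and_iff_right (mem_normalizer_centralizer hy), conjSet_conjSet hC hy']
  refine ⟨fun h => ?_, fun h => ?_⟩
  · have h2 := h
    rw [show x * y * x⁻¹ * x = x * y by group, ← conjSet_conjSet hy0 hC, conjSet_eq_image hC,
      conjSet_eq_image hC] at h2
    exact Set.image_injective.mpr (conjIrr_injective hC) h2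
  · rw [show x * y * x⁻¹ * x = x * y by group, ← conjSet_conjSet hy0 hC, h]

theorem inf_normalizer_eq [M.IsPrime] (hM : IsPModular p M) (hPe : IsBrauerPair p M P e)
    (hle : SubpairLE p M Q f P e) :
    P ⊓ Subgroup.normalizer (Q : Set G) = P ⊓ blockT Q f :=
  le_antisymm (fun _ hy => ⟨hy.1, mem_blockT.mpr
      ⟨hy.2, stabilizes_of_mem_normalizer hM hPe hle hy.1 hy.2⟩⟩)
    (inf_le_inf_left _ blockT_le_normalizer)

theorem blockDefect_image_irrEquiv {A B : Type*} [Group A] [Group B] (φ : A ≃* B)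
    (f : Set (IrrCharacter A)) : blockDefect p (irrEquiv φ '' f) = blockDefect p f := by
  have hd : ∀ χ : IrrCharacter A,
      charDegree (irrEquiv φ χ : B → ℂ) = charDegree (χ : A → ℂ) := fun χ => by
    rw [charDegree, charDegree, ← map_one φ, irrEquiv_apply]
  rw [blockDefect, blockDefect, Nat.card_congr φ.toEquiv, Set.image_image]
  simp only [hd]

variable [M.IsPrime]

/-- A defect group of a block of `T ⊇ C_G(Q)` with the idempotent of `f` meets `C_G(Q)` in a group
of order `p ^ d(f)` and covers a Sylow subgroup of `T / C_G(Q)`. -/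
theorem stable_local_defect (hM : IsPModular p M) (hf : IsPBlock M f) {T : Subgroup G} [Fintype T]
    (hCT : Subgroup.centralizer (Q : Set G) ≤ T) (hTN : T ≤ Subgroup.normalizer (Q : Set G))
    {F : Set (IrrCharacter T)} (hF : IsPBlock M F)
    (hFc : ∀ t : T, blockCoeff F t =
      subgroupBlockCoeff (Subgroup.centralizer (Q : Set G)) f (t : G))
    {D : Subgroup T} (hD : IsDefectGroup p M F D) :
    Nat.card ↥(D.map T.subtype ⊓ Subgroup.centralizer (Q : Set G)) = p ^ blockDefect p f ∧
      ¬ p ∣ (Subgroup.centralizer (Q : Set G) ⊔ D.map T.subtype).relIndex T := by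
  classical
  have hN : ((Subgroup.centralizer (Q : Set G)).subgroupOf T).Normal := ⟨fun a ha y => by
    simpa [Subgroup.mem_subgroupOf] using
      (conj_mem_iff_of_mem_normalizer (mem_normalizer_centralizer (hTN y.2)) a).mpr ha⟩
  let φ := (Subgroup.subgroupOfEquivOfLe hCT).symm
  have hb : IsPBlock M (irrEquiv φ '' f) := isPBlock_image_irrEquiv φ hf
  have hc : ∀ t : T, blockCoeff F t =
      subgroupBlockCoeff ((Subgroup.centralizer (Q : Set G)).subgroupOf T) (irrEquiv φ '' f) t := by
    intro t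
    rw [hFc, subgroupBlockCoeff_eq, subgroupBlockCoeff_eq]
    by_cases ht : (t : G) ∈ Subgroup.centralizer (Q : Set G)
    · have h1 := extendByZero_apply (Subgroup.centralizer (Q : Set G)) (blockCoeff f) ⟨t, ht⟩
      have h2 := extendByZero_apply ((Subgroup.centralizer (Q : Set G)).subgroupOf T)
        (blockCoeff (irrEquiv φ '' f)) (φ ⟨t, ht⟩)
      rw [blockCoeff_image_irrEquiv] at h2
      exact h1.trans h2.symm
    · rw [extendByZero_eq_zero _ _ ht,
        extendByZero_eq_zero _ _ fun h => ht (Subgroup.mem_subgroupOf.mp h)]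
  obtain ⟨hdef, hidx⟩ := isDefectGroup_inf hM hb hF hc hD
  refine ⟨?_, ?_⟩
  · rw [← blockDefect_image_irrEquiv φ f, ← IsDefectGroup.card_eq hM hb hdef,
      ← Subgroup.card_map_of_injective ((Subgroup.centralizer (Q : Set G)).subgroupOf T).subtype_injective,
      Subgroup.subgroupOf_map_subtype, ← Subgroup.card_map_of_injective T.subtype_injective,
      Subgroup.map_inf _ _ _ T.subtype_injective, Subgroup.subgroupOf_map_subtype,
      inf_eq_left.mpr hCT]
  · rw [show D = (D.map T.subtype).subgroupOf T from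
      (Subgroup.comap_map_eq_self_of_injective T.subtype_injective D).symm,
      ← Subgroup.subgroupOf_sup hCT (Subgroup.map_subtype_le D)] at hidx
    exact hidx

theorem exists_blockT_block (hM : IsPModular p M) (hQf : IsBrauerPair p M Q f)
    [Fintype (blockT Q f)] :
    ∃ F : Set (IrrCharacter (blockT Q f)), IsPBlock M F ∧ ∀ t : blockT Q f,
      blockCoeff F t = subgroupBlockCoeff (Subgroup.centralizer (Q : Set G)) f (t : G) :=
  exists_block_of_stabilizer hM hQf.1 hQf.2 centralizer_le_blockT le_blockT blockT_le_normalizer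
    fun _ ht => (mem_blockT.mp ht).2

/-- `|N_P(Q)| ≤ p ^ d(F)` for the block `F` of `T`, with equality exactly if `N_P(Q)` is a defect
group. -/
theorem card_normalizerIn_le (hM : IsPModular p M) (hPe : IsBrauerPair p M P e)
    (hle : SubpairLE p M Q f P e) {T : Subgroup G} [Fintype T] (hT : T = blockT Q f)
    {F : Set (IrrCharacter T)} (hF : IsPBlock M F)
    (hFc : ∀ t : T, blockCoeff F t =
      subgroupBlockCoeff (Subgroup.centralizer (Q : Set G)) f (t : G)) :
    Nat.card ↥(P ⊓ Subgroup.normalizer (Q : Set G)) ≤ p ^ blockDefect p F ∧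
      (IsDefectGroup p M F ((P ⊓ Subgroup.normalizer (Q : Set G)).subgroupOf T) ↔
        Nat.card ↥(P ⊓ Subgroup.normalizer (Q : Set G)) = p ^ blockDefect p F) := by
  classical
  subst hT
  rw [inf_normalizer_eq hM hPe hle, ← card_inf_subgroupOf]
  obtain ⟨D, hD, hle'⟩ := exists_defectGroup_ge hM hPe hle centralizer_le_blockT
    blockT_le_normalizer hF hFc
  refine ⟨IsDefectGroup.card_eq hM hF hD ▸ Subgroup.card_le_of_le hle',
    fun h => IsDefectGroup.card_eq hM hF h, fun h => ?_⟩
  rwa [Subgroup.eq_of_le_of_card_ge hle' (by rw [h, IsDefectGroup.card_eq hM hF hD])]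

theorem blockCoeff_conjSet_local {T T' : Subgroup G} [Fintype T] [Fintype T'] {x : G}
    (hT' : ∀ y, x * y * x⁻¹ ∈ T' ↔ y ∈ T) {F : Set (IrrCharacter T)}
    (hFc : ∀ t : T, blockCoeff F t =
      subgroupBlockCoeff (Subgroup.centralizer (Q : Set G)) f (t : G)) (t : T') :
    blockCoeff (conjSet x T T' F) t = subgroupBlockCoeff
      (Subgroup.centralizer ((Q.map (MulAut.conj x).toMonoidHom : Subgroup G) : Set G))
      (conjBlock Q x f) (t : G) := by
  have h1 : (t : G) = x * (x⁻¹ * (t : G) * x) * x⁻¹ := by group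
  rw [blockCoeff_conjSet hT' F (c := ⟨_, (hT' _).mp (by rw [← h1]; exact t.2)⟩) (c' := t) h1, hFc]
  conv_rhs => rw [h1]
  exact (subgroupBlockCoeff_conjSet (centralizer_map_conj_iff Q x) f _).symm

variable {B : Set (IrrCharacter G)} {FS : FusionSystem P}

/-- Fully normalized subgroups are those whose normalizer in `P` is a defect group. -/
theorem isFullyNormalized_block_iff (hM : IsPModular p M)
    (hF : IsBlockFusionSystemOn p M B P e FS) (hle : SubpairLE p M Q f P e) {T : Subgroup G}
    [Fintype T] (hT : T = blockT Q f) {F : Set (IrrCharacter T)} (hFb : IsPBlock M F)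
    (hFc : ∀ t : T, blockCoeff F t =
      subgroupBlockCoeff (Subgroup.centralizer (Q : Set G)) f (t : G)) :
    FS.IsFullyNormalized Q ↔
      IsDefectGroup p M F ((P ⊓ Subgroup.normalizer (Q : Set G)).subgroupOf T) := by
  classical
  have hPe := hF.1.1.1
  obtain ⟨hbd, hiff⟩ := card_normalizerIn_le hM hPe hle hT hFb hFc
  rw [hiff]
  subst hT
  constructor
  · intro hfn
    obtain ⟨x, hx, hdef⟩ := exists_conj_defectGroup hM hF.1 hle centralizer_le_blockT
      blockT_le_normalizer (fun _ ht => (mem_blockT.mp ht).2) hFb hFc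
    have hT' : ∀ y, x * y * x⁻¹ ∈
        blockT (Q.map (MulAut.conj x).toMonoidHom) (conjBlock Q x f) ↔ y ∈ blockT Q f :=
      conj_mem_blockT_iff rfl
    have hd := hdef _ hT' _ (isPBlock_conjSet hT' hFb) (blockCoeff_conjSet_local hT' hFc)
    rw [← inf_normalizer_eq hM hPe hx] at hd
    have hcard := ((card_normalizerIn_le hM hPe hx rfl (isPBlock_conjSet hT' hFb)
      (blockCoeff_conjSet_local hT' hFc)).2).mp hd
    rw [blockDefect_conjSet hT' F] at hcard
    exact le_antisymm hbd (hcard ▸ hfn.2 _ ((isConj_block_iff hF).mpr ⟨x, ⟨f, hle, hx⟩, rfl⟩))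
  · intro h
    refine ⟨SubpairLE.le hle, fun R hR => ?_⟩
    obtain ⟨g, hg, rfl⟩ := (isConj_block_iff hF).mp hR
    obtain ⟨f', hf', hgf⟩ := hg
    obtain rfl := eq_of_le_top hM hPe hle hf'
    have hT' : ∀ y, g * y * g⁻¹ ∈
        blockT (Q.map (MulAut.conj g).toMonoidHom) (conjBlock Q g f) ↔ y ∈ blockT Q f :=
      conj_mem_blockT_iff rfl
    exact ((card_normalizerIn_le hM hPe (hgf : SubpairLE p M _ (conjBlock Q g f) P e) rfl
      (isPBlock_conjSet hT' hFb) (blockCoeff_conjSet_local hT' hFc)).1.trans_eq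
      (by rw [blockDefect_conjSet hT' F])).trans_eq h.symm

/-- If `C_P(Q)` is a defect group of `f`, pairs over `(Q, f)` inside `C_G(Q) N_P(Q)` are conjugate
below `(P, e)` by elements of `C_G(Q)`. -/
theorem exists_conj_into_local (hM : IsPModular p M) (hPe : IsBrauerPair p M P e)
    (hle : SubpairLE p M Q f P e)
    (hfc : Nat.card ↥(P ⊓ Subgroup.centralizer (Q : Set G)) = p ^ blockDefect p f) {S : Subgroup G}
    (hSH : S ≤ Subgroup.centralizer (Q : Set G) ⊔ (P ⊓ Subgroup.normalizer (Q : Set G)))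
    {s : Set (IrrCharacter (Subgroup.centralizer (S : Set G)))}
    (hns : IsNormalSubpair p M Q f S s) :
    ∃ c ∈ Subgroup.centralizer (Q : Set G), PairLE p M (conjPair c ⟨S, s⟩) ⟨P, e⟩ := by
  classical
  have : Fact p.Prime := ⟨hM.1⟩
  set D := P ⊓ Subgroup.normalizer (Q : Set G) with hDdef
  set H := Subgroup.centralizer (Q : Set G) ⊔ D with hHdef
  have hQf := hns.1
  have hCH : Subgroup.centralizer (Q : Set G) ≤ H := le_sup_left
  have hDH : D ≤ H := le_sup_right
  have hQD : Q ≤ D := le_inf (SubpairLE.le hle) Subgroup.le_normalizer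
  have hHT : H ≤ blockT Q f := sup_le centralizer_le_blockT fun y hy =>
    mem_blockT.mpr ⟨hy.2, stabilizes_of_mem_normalizer hM hPe hle hy.1 hy.2⟩
  obtain ⟨F, hF, hFc⟩ := exists_block_of_stabilizer hM hQf.1 hQf.2 hCH (hQD.trans hDH)
    (hHT.trans blockT_le_normalizer) fun y hy => (mem_blockT.mp (hHT hy)).2
  -- `D` is a defect group of `F`
  obtain ⟨E, hE, hDE⟩ := exists_defectGroup_ge hM hPe hle hCH (hHT.trans blockT_le_normalizer) hF hFc
  have hDpe : Nat.card ↥(D.subgroupOf H) = Nat.card D :=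
    Nat.card_congr (Subgroup.subgroupOfEquivOfLe hDH).toEquiv
  have hDleE : D.subgroupOf H ≤ E := fun y hy =>
    hDE (Subgroup.mem_subgroupOf.mpr ⟨(Subgroup.mem_subgroupOf.mp hy).1, y.2⟩)
  have hEcard : Nat.card E ≤ Nat.card D := by
    obtain ⟨h1, -⟩ := stable_local_defect hM hQf.2 hCH (hHT.trans blockT_le_normalizer) hF hFc hE
    set E' := E.map H.subtype
    set C := Subgroup.centralizer (Q : Set G)
    have hnorm : ∀ K : Subgroup G, K ≤ H → K ≤ Subgroup.normalizer (C : Set G) := fun K hK y hy =>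
      mem_normalizer_centralizer (blockT_le_normalizer (hHT (hK hy)))
    have a1 := Coprime.card_sup_mul_card_inf (K := C) (S := E') (hnorm _ (Subgroup.map_subtype_le _))
    have a2 := Coprime.card_sup_mul_card_inf (K := C) (S := D) (hnorm _ hDH)
    have hCD : C ⊓ D = P ⊓ C := le_antisymm (fun y hy => ⟨hy.2.1, hy.1⟩)
      fun y hy => ⟨hy.2, hy.1, Subgroup.centralizer_le_normalizer _ hy.2⟩
    rw [inf_comm] at h1
    rw [hCD, hfc] at a2
    rw [h1] at a1
    rw [← Subgroup.card_map_of_injective H.subtype_injective]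
    refine Nat.le_of_mul_le_mul_left ?_ (Nat.card_pos (α := C))
    rw [← a1, ← a2]
    exact Nat.mul_le_mul_right _
      (Subgroup.card_le_of_le (sup_le hCH (Subgroup.map_subtype_le _)))
  have hdef : IsDefectGroup p M F (D.subgroupOf H) :=
    Subgroup.eq_of_le_of_card_ge hDleE (by rw [hDpe]; exact hEcard) ▸ hE
  -- the pairs in `H`
  have pairs : ∀ (R : Subgroup G) (r : Set (IrrCharacter (Subgroup.centralizer (R : Set G)))),
      R ≤ H → IsNormalSubpair p M Q f R r →
      ∃ (hR : Subgroup.centralizer (((R.subgroupOf H).map H.subtype : Subgroup G) : Set G) ≤ H)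
        (r₀ : Set (IrrCharacter (Subgroup.centralizer ((R.subgroupOf H : Subgroup H) : Set H)))),
        IsBrauerPairOf p M F (R.subgroupOf H) r₀ ∧
          (⟨(R.subgroupOf H).map H.subtype, upBlock (R.subgroupOf H) hR r₀⟩ : BrauerPairIdx G) =
            ⟨R, r⟩ := by
    intro R r hRH hr
    have key : ∀ (A : Subgroup H) (r : Set (IrrCharacter
          (Subgroup.centralizer ((A.map H.subtype : Subgroup G) : Set G)))),
        IsNormalSubpair p M Q f (A.map H.subtype) r →
        ∃ (hR : Subgroup.centralizer ((A.map H.subtype : Subgroup G) : Set G) ≤ H)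
          (r₀ : Set (IrrCharacter (Subgroup.centralizer (A : Set H)))),
          IsBrauerPairOf p M F A r₀ ∧ upBlock A hR r₀ = r := by
      intro A r hr
      have hR : Subgroup.centralizer ((A.map H.subtype : Subgroup G) : Set G) ≤ H :=
        (Subgroup.centralizer_le (SetLike.coe_subset_coe.mpr hr.2.2.1)).trans hCH
      refine ⟨hR, (irrEquiv (centEquiv A hR)).symm '' r, ?_, ?_⟩
      · refine ⟨⟨?_, ?_⟩, hF, ?_⟩
        · exact hr.2.1.1.of_equiv (Subgroup.equivMapOfInjective A _ H.subtype_injective).symm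
        · exact isPBlock_image_irrEquiv (centEquiv A hR).symm hr.2.1.2
        · rintro _ ⟨ξ, hξ, rfl⟩
          rw [← brauerOmega_upBlock hR (β := subgroupBlockCoeff (Subgroup.centralizer (Q : Set G)) f)
            (fun z => (hFc z).symm), Equiv.apply_symm_apply]
          exact hr.2.2.2.2.2 ξ hξ
      · rw [upBlock, Equiv.image_symm_image]
    have hmap : (R.subgroupOf H).map H.subtype = R := by
      rw [Subgroup.subgroupOf_map_subtype, inf_eq_left.mpr hRH]
    obtain ⟨r', hr'⟩ : ∃ r' : Set (IrrCharacter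
        (Subgroup.centralizer (((R.subgroupOf H).map H.subtype : Subgroup G) : Set G))),
        (⟨(R.subgroupOf H).map H.subtype, r'⟩ : BrauerPairIdx G) = ⟨R, r⟩ := by
      rw [hmap]
      exact ⟨r, rfl⟩
    have hr2 : IsNormalSubpair p M Q f ((R.subgroupOf H).map H.subtype) r' := by
      have h' : NormalSubpairRel p M ⟨Q, f⟩ (⟨R, r⟩ : BrauerPairIdx G) := hr
      rw [← hr'] at h'
      exact h'
    obtain ⟨hR, r₀, hp, he⟩ := key _ r' hr2
    exact ⟨hR, r₀, hp, by rw [he, hr']⟩
  obtain ⟨d, hdle⟩ := exists_le_top hM hPe (inf_le_left : D ≤ P)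
  obtain ⟨fd, hd, -⟩ := existsUnique_normalSubpair hM
    (SubpairLE.isBrauerPair (Q := D) hdle hPe) hQD (inf_le_right : D ≤ _)
  obtain rfl : f = fd := eq_of_le_top hM hPe hle
    (Relation.ReflTransGen.head (a := (⟨Q, fd⟩ : BrauerPairIdx G)) (b := ⟨D, d⟩) hd hdle)
  obtain ⟨hA, a₀, haF, haeq⟩ := pairs S s hSH hns
  obtain ⟨hD', d₀, hdF, hdeq⟩ := pairs D d hDH hd
  have hdmax : IsMaximalBrauerPair p M F (D.subgroupOf H) d₀ := by
    refine ⟨hdF, fun R g hg hRle => ?_⟩
    obtain ⟨ξ, hξ⟩ := IsPBlock.nonempty hg.1.2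
    obtain ⟨c, hc, hu⟩ := exists_support_of_res_eq_one (isStableFun_blockCoeff hF R)
      (IsBrauerPairOf.res_eq_one hg hξ)
    obtain ⟨x, hx⟩ := (exists_support_centralizing_iff hM hF hdef hg.1.1).mp ⟨c, hc, hu⟩
    exact (Subgroup.eq_of_le_of_card_ge (SubpairLE.le hRle)
      ((card_map_conj R x).symm.trans_le (Subgroup.card_le_of_le hx))).symm
  obtain ⟨y, hy⟩ := exists_conjPair_le_maximal hM hdmax haF
  have hyN : Subgroup.centralizer
      ((((S.subgroupOf H).map (MulAut.conj y).toMonoidHom).map H.subtype : Subgroup G) : Set G) ≤ H := by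
    refine centralizer_map_le_of_le _ (A₀ := Q) (fun q hq => ?_) hCH
    have hq2 : (y : G)⁻¹ * q * y ∈ Q := by
      have h2 := (Subgroup.mem_normalizer_iff.mp
        (inv_mem (blockT_le_normalizer (hHT y.2))) q).mp hq
      simpa using h2
    refine ⟨⟨q, (hQD.trans hDH) hq⟩, mem_map_conj_iff.mpr ?_, rfl⟩
    exact Subgroup.mem_subgroupOf.mpr (hns.2.2.1 hq2)
  have h1 := subpairLE_upBlock hyN hD'
    (f := conjBlock (S.subgroupOf H) y a₀) (g := d₀) hy
  have hup : (⟨((S.subgroupOf H).map (MulAut.conj y).toMonoidHom).map H.subtype,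
      upBlock _ hyN (conjBlock (S.subgroupOf H) y a₀)⟩ : BrauerPairIdx G) =
      conjPair (y : G) ⟨(S.subgroupOf H).map H.subtype, upBlock (S.subgroupOf H) hA a₀⟩ := by
    have hm : ((S.subgroupOf H).map (MulAut.conj y).toMonoidHom).map H.subtype =
        ((S.subgroupOf H).map H.subtype).map (MulAut.conj (y : G)).toMonoidHom := by
      rw [Subgroup.map_map, Subgroup.map_map]
      congr 1
    have key : ∀ (Z : Subgroup G)
        (hZ : Z = ((S.subgroupOf H).map H.subtype).map (MulAut.conj (y : G)).toMonoidHom),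
        conjPair (y : G) ⟨(S.subgroupOf H).map H.subtype, upBlock (S.subgroupOf H) hA a₀⟩ =
          ⟨Z, conjSet (y : G)
            (Subgroup.centralizer (((S.subgroupOf H).map H.subtype : Subgroup G) : Set G))
            (Subgroup.centralizer (Z : Set G)) (upBlock (S.subgroupOf H) hA a₀)⟩ := by
      rintro Z rfl
      rfl
    rw [key _ hm]
    congr 1
    have hC1 := centralizer_conj_iff (Q := (S.subgroupOf H).map H.subtype) (x := (y : G)) hm
    have hC2 := centralizer_conj_iff (Q := S.subgroupOf H) (x := y) rfl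
    rw [upBlock, upBlock, conjBlock_eq, conjSet_eq_image hC1, conjSet_eq_image hC2,
      Set.image_image, Set.image_image]
    refine Set.image_congr fun ξ _ => eq_conjIrr hC1 fun c c' hc => ?_
    refine Eq.trans ?_ (Eq.trans (conjIrr_apply hC2 ξ
      (c := (centEquiv (S.subgroupOf H) hA).symm c) (c' := (centEquiv _ hyN).symm c')
      (Subtype.ext hc)) ?_)
    · exact (irrEquiv_apply (centEquiv _ hyN) _ ((centEquiv _ hyN).symm c'))
    · exact (irrEquiv_apply (centEquiv _ hA) ξ ((centEquiv _ hA).symm c)).symm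
  have h2 : PairLE p M (conjPair (y : G) ⟨S, s⟩) ⟨P, e⟩ := by
    have h3 : PairLE p M (conjPair (y : G) ⟨S, s⟩) ⟨D, d⟩ := by
      rw [← haeq, ← hup, ← hdeq]
      exact h1
    exact h3.trans hdle
  have hy2 : (y : G) ∈ D ⊔ Subgroup.centralizer (Q : Set G) := by
    rw [sup_comm]; exact y.2
  rw [← SetLike.mem_coe, Subgroup.coe_mul_of_left_le_normalizer_right _ _ (fun z hz =>
    mem_normalizer_centralizer (hz : z ∈ D).2)] at hy2
  obtain ⟨d1, hd1, c, hc, hdc⟩ := hy2
  refine ⟨c, hc, ?_⟩
  have h4 := subpairLE_conjPair d1⁻¹ h2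
  rwa [conjPair_conjPair, conjPair_top (inv_mem hd1.1), ← hdc, inv_mul_cancel_left] at h4

end CfsgLib.Blocks

namespace CfsgLib.Blocks

open Cfsg
open scoped ComplexConjugate CfsgLib.Char

variable {p : ℕ} {M : Ideal AlgInt} {G : Type*} [Group G] [Fintype G] [M.IsPrime]
  {P Q : Subgroup G} {e : Set (IrrCharacter (Subgroup.centralizer (P : Set G)))}
  {f : Set (IrrCharacter (Subgroup.centralizer (Q : Set G)))}
  {B : Set (IrrCharacter G)} {FS : FusionSystem P}

theorem carries_of_mem_blockT (hle : SubpairLE p M Q f P e) {g : G} (hg : g ∈ blockT Q f) :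
    Carries p M P e g Q := by
  refine ⟨f, hle, ?_⟩
  rw [conjPair_of_mem_normalizer hg.1, (stabilizesBlock_iff.mp (mem_blockT.mp hg).2).2]
  exact hle

theorem mem_blockT_of_carries (hM : IsPModular p M) (hPe : IsBrauerPair p M P e)
    (hle : SubpairLE p M Q f P e) {g : G} (hg : Carries p M P e g Q)
    (hn : g ∈ Subgroup.normalizer (Q : Set G)) : g ∈ blockT Q f := by
  obtain ⟨f', hf', hgf⟩ := hg
  obtain rfl := eq_of_le_top hM hPe hle hf'
  rw [conjPair_of_mem_normalizer hn] at hgf
  exact mem_blockT.mpr ⟨hn, stabilizesBlock_iff.mpr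
    ⟨mem_normalizer_centralizer hn, (eq_of_le_top hM hPe hle hgf).symm⟩⟩

/-- `Aut_F(Q)` is induced by the stabilizer of `f` in `N_G(Q)`. -/
theorem autGroup_block (hM : IsPModular p M) (hF : IsBlockFusionSystemOn p M B P e FS)
    (hle : SubpairLE p M Q f P e) : FS.autGroup Q = autInducedBy (blockT Q f) Q := by
  ext α
  rw [Fusion.mem_autGroup_iff (SubpairLE.le hle), Fusion.mem_autInducedBy_iff]
  constructor
  · intro h
    obtain ⟨g, hg, hQ, hv⟩ := isIso_block hF h
    refine ⟨g, mem_blockT_of_carries hM hF.1.1.1 hle hg ?_, fun x => ?_⟩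
    · refine Subgroup.mem_normalizer_iff.mpr fun z => ?_
      constructor
      · intro hz
        rw [hQ]
        exact ⟨z, hz, rfl⟩
      · intro hz
        rw [hQ, mem_map_conj_iff] at hz
        simpa [mul_assoc] using hz
    · rw [← Fusion.autFun_coe α x]
      exact hv x x.2
  · rintro ⟨g, hg, hv⟩
    refine ⟨(isMap_block_iff hF).mpr ⟨g, carries_of_mem_blockT hle hg, fun x hx => ?_⟩, ?_⟩
    · rw [Fusion.autFun_apply α hx, hv]
    · ext z
      constructor
      · rintro ⟨x, hx, rfl⟩
        exact Fusion.autFun_mem α hx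
      · intro hz
        refine ⟨(α.symm ⟨z, hz⟩ : Q), (α.symm ⟨z, hz⟩).2, ?_⟩
        rw [Fusion.autFun_apply α (α.symm ⟨z, hz⟩).2]
        simp

theorem isFullyAutomized_block (hM : IsPModular p M) (hF : IsBlockFusionSystemOn p M B P e FS)
    (hle : SubpairLE p M Q f P e) (hn : FS.IsFullyNormalized Q) :
    FS.IsFullyAutomized p Q := by
  classical
  have : Fact p.Prime := ⟨hM.1⟩
  have hPe := hF.1.1.1
  have hQf := SubpairLE.isBrauerPair hle hPe
  obtain ⟨F, hFb, hFc⟩ := exists_blockT_block hM hQf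
  have hd := (isFullyNormalized_block_iff hM hF hle rfl hFb hFc).mp hn
  obtain ⟨-, hidx⟩ := stable_local_defect hM hQf.2 centralizer_le_blockT blockT_le_normalizer
    hFb hFc hd
  rw [Subgroup.subgroupOf_map_subtype] at hidx
  have hDle : P ⊓ Subgroup.normalizer (Q : Set G) ≤ blockT Q f := fun y hy =>
    mem_blockT.mpr ⟨hy.2, stabilizes_of_mem_normalizer hM hPe hle hy.1 hy.2⟩
  rw [inf_eq_left.mpr hDle] at hidx
  refine ⟨SubpairLE.le hle, IsPGroup.toSylow
    (P := (autInducedBy P Q).subgroupOf (FS.autGroup Q))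
    ((Fusion.isPGroup_autInducedBy hPe.1 Q).comap_of_injective _ (Subgroup.subtype_injective _))
    ?_, ?_⟩
  · rw [← Subgroup.relIndex, autGroup_block hM hF hle, Fusion.autInducedBy_eq_map,
      Fusion.autInducedBy_eq_map, Subgroup.relIndex_map_map, Subgroup.normalizerMonoidHom_ker]
    intro hdvd
    apply hidx
    set N := Subgroup.normalizer (Q : Set G)
    rw [← Subgroup.inf_subgroupOf_right P, ← Subgroup.subgroupOf_sup inf_le_right
      (Subgroup.centralizer_le_normalizer _), ← Subgroup.subgroupOf_sup blockT_le_normalizer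
      (Subgroup.centralizer_le_normalizer _), Subgroup.relIndex_subgroupOf
        (sup_le blockT_le_normalizer (Subgroup.centralizer_le_normalizer _)),
      sup_eq_left.mpr centralizer_le_blockT, sup_comm] at hdvd
    exact hdvd
  · rfl

theorem isReceptive_block (hM : IsPModular p M) (hF : IsBlockFusionSystemOn p M B P e FS)
    (hle : SubpairLE p M Q f P e) (hc : FS.IsFullyCentralized Q) : FS.IsReceptive Q := by
  classical
  have hPe := hF.1.1.1
  have hfc := ((card_centralizerIn_le hM hPe hle).2).mp ((isFullyCentralized_block_iff hM hF hle).mp hc)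
  refine Fusion.isReceptive_iff.mpr ⟨SubpairLE.le hle, fun R φ hφ => ?_⟩
  obtain ⟨g, hg, rfl, hv⟩ := isIso_block hF hφ
  obtain ⟨r, hr, hgr⟩ := hg
  obtain rfl : conjBlock R g r = f := eq_of_le_top hM hPe hgr hle
  set N := Fusion.nPhi P R φ with hN
  have hRN : R ≤ N := Fusion.le_nPhi hφ.isMap
  have hNP : N ≤ P := Fusion.nPhi_le_self R φ
  have hNN : N ≤ Subgroup.normalizer (R : Set G) := fun y hy => hy.2.1
  obtain ⟨n, hn⟩ := exists_le_top hM hPe hNP
  obtain ⟨r', hr', -⟩ := existsUnique_normalSubpair hM (SubpairLE.isBrauerPair (Q := N) hn hPe) hRN hNN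
  obtain rfl : r = r' := eq_of_le_top hM hPe hr
    (Relation.ReflTransGen.head (a := (⟨R, r'⟩ : BrauerPairIdx G)) (b := ⟨N, n⟩) hr' hn)
  have hns := isNormalSubpair_conj (x := g) (Q' := R.map (MulAut.conj g).toMonoidHom)
    (P' := N.map (MulAut.conj g).toMonoidHom) rfl rfl hr'
  have hSH : N.map (MulAut.conj g).toMonoidHom ≤
      Subgroup.centralizer ((R.map (MulAut.conj g).toMonoidHom : Subgroup G) : Set G) ⊔
        (P ⊓ Subgroup.normalizer ((R.map (MulAut.conj g).toMonoidHom : Subgroup G) : Set G)) := by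
    rintro _ ⟨y, ⟨hyP, hyN, h, hhP, hh⟩, rfl⟩
    have hconj : ∀ x ∈ R.map (MulAut.conj g).toMonoidHom,
        h⁻¹ * (g * y * g⁻¹) * x * (h⁻¹ * (g * y * g⁻¹))⁻¹ = x := by
      rintro _ ⟨x, hx, rfl⟩
      have h1 := hh x hx
      rw [hv _ ((Subgroup.mem_normalizer_iff.mp hyN x).mp hx), hv x hx] at h1
      show h⁻¹ * (g * y * g⁻¹) * (g * x * g⁻¹) * (h⁻¹ * (g * y * g⁻¹))⁻¹ = g * x * g⁻¹
      calc _ = h⁻¹ * (g * (y * x * y⁻¹) * g⁻¹) * h := by group
        _ = h⁻¹ * (h * (g * x * g⁻¹) * h⁻¹) * h := by rw [h1]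
        _ = _ := by group
    have hcC := Fusion.mem_centralizer_of_conj_eq hconj
    have hgy : g * y * g⁻¹ ∈ Subgroup.normalizer
        ((R.map (MulAut.conj g).toMonoidHom : Subgroup G) : Set G) := Fusion.map_conj_mem_normalizer hyN
    have hhN : h ∈ Subgroup.normalizer ((R.map (MulAut.conj g).toMonoidHom : Subgroup G) : Set G) := by
      have := mul_mem hgy (inv_mem (Subgroup.centralizer_le_normalizer _ hcC))
      simpa [mul_assoc] using this
    show g * y * g⁻¹ ∈ _
    rw [show g * y * g⁻¹ = h * (h⁻¹ * (g * y * g⁻¹)) by group]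
    exact mul_mem (Subgroup.mem_sup_right ⟨hhP, hhN⟩) (Subgroup.mem_sup_left hcC)
  obtain ⟨c, hcC, hcle⟩ := exists_conj_into_local hM hPe hle hfc hSH hns
  have hcg : Carries p M P e (c * g) N := ⟨n, hn, by rw [← conjPair_conjPair]; exact hcle⟩
  refine ⟨fun x => (c * g) * x * (c * g)⁻¹, (isMap_block_iff hF).mpr ⟨c * g, hcg, fun _ _ => rfl⟩,
    fun x hx => ?_⟩
  rw [hv x hx]
  have h1 := Fusion.conj_eq_self_of_mem_centralizer hcC
    (Subgroup.mem_map_of_mem (MulAut.conj g).toMonoidHom hx)
  calc c * g * x * (c * g)⁻¹ = c * (g * x * g⁻¹) * c⁻¹ := by group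
    _ = g * x * g⁻¹ := h1

theorem isFullyCentralized_block_of_normalized (hM : IsPModular p M)
    (hF : IsBlockFusionSystemOn p M B P e FS) (hle : SubpairLE p M Q f P e)
    (hn : FS.IsFullyNormalized Q) : FS.IsFullyCentralized Q := by
  classical
  have hPe := hF.1.1.1
  have hQf := SubpairLE.isBrauerPair hle hPe
  obtain ⟨F, hFb, hFc⟩ := exists_blockT_block hM hQf
  have hd := (isFullyNormalized_block_iff hM hF hle rfl hFb hFc).mp hn
  obtain ⟨hcard, -⟩ := stable_local_defect hM hQf.2 centralizer_le_blockT blockT_le_normalizer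
    hFb hFc hd
  rw [isFullyCentralized_block_iff hM hF hle, (card_centralizerIn_le hM hPe hle).2, ← hcard,
    Subgroup.subgroupOf_map_subtype]
  congr 2
  refine le_antisymm (fun y hy => ⟨⟨⟨hy.1, Subgroup.centralizer_le_normalizer _ hy.2⟩,
    centralizer_le_blockT hy.2⟩, hy.2⟩) fun y hy => ⟨hy.1.1.1, hy.2⟩

/-- The fusion system of a block is saturated. -/
theorem isSaturated_block (hM : IsPModular p M) (hF : IsBlockFusionSystemOn p M B P e FS) :
    FS.IsSaturated p := by
  have : Fact p.Prime := ⟨hM.1⟩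
  refine Fusion.isSaturated_of_axioms fun R hR => ?_
  obtain ⟨r, hr⟩ := exists_le_top hM hF.1.1.1 hR.1
  exact ⟨isFullyAutomized_block hM hF hr hR,
    isReceptive_block hM hF hr (isFullyCentralized_block_of_normalized hM hF hr hR)⟩

end CfsgLib.Blocks
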