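import Cfsg.Agent.Lib.Blocks.CosetPieces
import Cfsg.Agent.Lib.Blocks.NormalPBlocks

/-!
# Defect groups of a covering block meet the normal subgroup in defect groups of covered blocks
-/

set_option autoImplicit false
set_option linter.unusedSectionVars false

namespace CfsgLib.Blocks

open Cfsg
open scoped ComplexConjugate CfsgLib.Char

variable {p : ℕ} {M : Ideal AlgInt} {G : Type*} [Group G] [Fintype G] {N : Subgroup G}
  [hN : N.Normal] [Fintype N]

theorem conj_mem_normal_iff (x g : G) : x * g * x⁻¹ ∈ N ↔ g ∈ N :=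
  ⟨fun h => by simpa [mul_assoc] using hN.conj_mem _ h x⁻¹, fun h => hN.conj_mem g h x⟩

/-- Membership in a conjugate block. -/
theorem mem_conjSet_normal_iff (g : G) (b : Set (IrrCharacter N)) (ψ : IrrCharacter N) :
    ψ ∈ conjSet g N N b ↔ conjI g ψ ∈ b := by
  have h := conj_mem_normal_iff (N := N) g
  constructor
  · rintro ⟨ξ, hξ, hval⟩
    have e : conjI g ψ = ξ := Subtype.ext (funext fun n => by
      rw [coe_conjI, Char.conjBy_apply]
      exact hval n ⟨g * n * g⁻¹, hN.conj_mem n n.2 g⟩ rfl)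
    rwa [e]
  · intro hψ
    refine ⟨conjI g ψ, hψ, fun c c' hc => ?_⟩
    rw [coe_conjI, Char.conjBy_apply]
    exact congrArg _ (Subtype.ext hc)

variable [M.IsPrime] {b : Set (IrrCharacter N)} (hb : IsPBlock M b) {B : Set (IrrCharacter G)}
  (hB : IsPBlock M B) {χ : IrrCharacter G} (hχ : χ ∈ B) {θ : IrrCharacter N} (hθ : θ ∈ b)
  (hcon : classInner (fun n : N => (χ : G → ℂ) n) (θ : N → ℂ) ≠ 0)
include hb hB hχ hθ hcon

/-- The idempotent of a covering block absorbs that of the orbit. -/
theorem conv_blockCoeff_orbitIdem : conv (blockCoeff B) (orbitIdem b) = blockCoeff B := by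
  have hc := isClassFunction_orbitIdem (G := G) b
  refine eq_of_omega_eq (isClassFunction_conv (isClassFunction_blockCoeff B) hc)
    (isClassFunction_blockCoeff B) fun χ' => ?_
  rw [omega_conv χ' (isClassFunction_blockCoeff B) hc, omega_blockCoeff]
  by_cases hχ' : χ' ∈ B
  · obtain ⟨θ', hθ'⟩ := Char.exists_constituent N (Char.isCharacter_of_isIrr χ'.2)
      (Char.irr_degree_ne_zero χ'.2)
    have h1 := sub_mem_localIdeal_of_sameBlock (IsPBlock.sameBlock hB hχ hχ') hc
      (memLocalRing_orbitIdem hb)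
    rw [omega_orbitIdem hb hcon, omega_orbitIdem hb hθ', indVec_of_mem
      (show θ ∈ conjUnion (G := G) b from ⟨1, by rwa [conjI_one]⟩)] at h1
    rw [omega_orbitIdem hb hθ']
    by_cases hm : θ' ∈ conjUnion (G := G) b
    · rw [indVec_of_mem hm, mul_one]
    · rw [indVec_of_notMem hm, sub_zero] at h1
      exact absurd h1 not_memLocalIdeal_one
  · rw [indVec_of_notMem hχ', zero_mul]

variable (hM : IsPModular p M) {Q : Subgroup G} (hQN : Q ≤ N)
  (hQ : IsDefectGroup p M b (Q.subgroupOf N)) {P : Subgroup G} (hP : IsDefectGroup p M B P)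
include hM hQN hQ hP

/-- A defect group of a covered block lies in one of the covering block. -/
theorem exists_le_conj_of_covering : ∃ x : G, Q ≤ P.map (MulAut.conj x).toMonoidHom := by
  have hQp : IsPGroup p Q := by
    have h := (IsDefectGroup.isPGroup hM hQ).map N.subtype
    rwa [Subgroup.subgroupOf_map_subtype, inf_eq_left.mpr hQN] at h
  by_contra hno
  obtain ⟨g, hg, -⟩ := id hP
  have hnull : CentNull M Q (blockCoeff B) := fun x c hc => by
    rw [isClassFunction_blockCoeff B c x]
    by_contra hu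
    have hP' : IsDefectGroup p M B P := hP
    exact hno (IsDefectGroup.exists_le_conj_of_support hM hB hP' hu hQp fun q hq =>
      Subgroup.mem_centralizer_singleton_iff.mpr (Subgroup.mem_centralizer_iff.mp hc q hq))
  exact hg.2.1 (memLocalIdeal_of_centNull hb hM hQN hQ (isClassFunction_blockCoeff B)
    (IsPBlock.memLocalRing_blockCoeff hB) (conv_blockCoeff_self B)
    (conv_blockCoeff_orbitIdem hb hB hχ hθ hcon) hnull g)

/-- A conjugate of the covered block is stable under the defect group and meets it in a defect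
group. -/
theorem exists_stable_covered :
    ∃ c : Set (IrrCharacter N), IsPBlock M c ∧
      (∀ x ∈ P, StabilizesBlock N c x) ∧
      (∃ χ' ∈ B, ∃ θ' ∈ c, classInner (fun n : N => (χ' : G → ℂ) n) (θ' : N → ℂ) ≠ 0) ∧
      IsDefectGroup p M c ((P ⊓ N).subgroupOf N) ∧ Nat.card ↥(P ⊓ N) = Nat.card Q := by
  classical
  haveI := Fact.mk hM.1
  have hPp : IsPGroup p P := IsDefectGroup.isPGroup hM hP
  obtain ⟨g, hg, hsyl⟩ := isDefectGroup_iff.mp hP
  have hgC : g ∈ Subgroup.centralizer (P : Set G) := Subgroup.mem_centralizer_iff.mpr fun q hq =>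
    Subgroup.mem_centralizer_singleton_iff.mp (hsyl.1 hq)
  have hεc := isClassFunction_orbitIdem (G := G) b
  -- a unit coefficient of the orbit idempotent at an element centralizing `P`
  have hy : ∃ y ∈ Subgroup.centralizer (P : Set G), ¬ MemLocalIdeal M (orbitIdem b y) := by
    by_contra hno
    push Not at hno
    have habs : conv (orbitIdem b) (blockCoeff B) = blockCoeff B := by
      rw [conv_comm hεc, conv_blockCoeff_orbitIdem hb hB hχ hθ hcon]
    have h := restrict_conv_congr hM hPp (memLocalRing_orbitIdem hb)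
      (IsPBlock.memLocalRing_blockCoeff hB) (fun x _ z => hεc z x)
      (fun x _ z => isClassFunction_blockCoeff B z x) ⟨g, hgC⟩
    rw [habs] at h
    exact hg.2.1 ((memLocalIdeal_iff_of_sub h).mpr (memLocalIdeal_sum _ _ fun y _ =>
      memLocalIdeal_mul_right (hno _ y.2) (IsPBlock.memLocalRing_blockCoeff hB _)))
  obtain ⟨y, hyP, hyu⟩ := hy
  have hyN : y ∈ N := by
    by_contra h
    apply hyu
    rw [orbitIdem, extendByZero_eq_zero N _ h]
    exact memLocalIdeal_zero
  set yN : N := ⟨y, hyN⟩
  have hε : orbitIdem b y = blockCoeff (conjUnion (G := G) b) yN := extendByZero_apply N _ yN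
  -- the orbit of `b`
  set O : Finset (Set (IrrCharacter N)) := Finset.univ.image fun x : G => conjSet x N N b with hO
  have hOblock : ∀ c ∈ O, IsPBlock M c := fun c hc => by
    obtain ⟨x, -, rfl⟩ := Finset.mem_image.mp hc
    exact isPBlock_conjSet (conj_mem_normal_iff x) hb
  have hsum : blockCoeff (conjUnion (G := G) b) = ∑ c ∈ O, blockCoeff c := by
    refine eq_of_omega_eq (isClassFunction_blockCoeff _) (fun a x => by
      simp only [Finset.sum_apply]
      exact Finset.sum_congr rfl fun c _ => isClassFunction_blockCoeff c a x) fun η => ?_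
    rw [omega_sum, omega_blockCoeff]
    simp only [omega_blockCoeff]
    by_cases hη : η ∈ conjUnion (G := G) b
    · obtain ⟨x, hx⟩ := hη
      have hη' : η ∈ conjSet x N N b := (mem_conjSet_normal_iff x b η).mpr hx
      rw [indVec_of_mem (show η ∈ conjUnion (G := G) b from ⟨x, hx⟩),
        Finset.sum_eq_single (conjSet x N N b)]
      · exact (indVec_of_mem hη').symm
      · intro c hc hne
        exact indVec_of_notMem fun hm => hne (IsPBlock.eq_of_mem_of_mem (hOblock c hc)
          (isPBlock_conjSet (conj_mem_normal_iff x) hb) hm hη')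
      · exact fun h => absurd (Finset.mem_image_of_mem _ (Finset.mem_univ x)) h
    · rw [indVec_of_notMem hη, Finset.sum_eq_zero fun c hc => indVec_of_notMem fun hm => hη ?_]
      obtain ⟨x, -, rfl⟩ := Finset.mem_image.mp hc
      exact ⟨x, (mem_conjSet_normal_iff x b η).mp hm⟩
  letI : MulAction P {c // c ∈ O} :=
    { smul := fun q c => ⟨conjSet (q : G) N N c.1, by
        obtain ⟨x, -, hx⟩ := Finset.mem_image.mp c.2
        rw [← hx, conjSet_conjSet (conj_mem_normal_iff x) (conj_mem_normal_iff (q : G))]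
        exact Finset.mem_image_of_mem _ (Finset.mem_univ _)⟩
      one_smul := fun c => Subtype.ext (conjSet_of_mem N.one_mem c.1)
      mul_smul := fun q r c => Subtype.ext
        (conjSet_conjSet (conj_mem_normal_iff (r : G)) (conj_mem_normal_iff (q : G)) c.1).symm }
  have hsm : ∀ (q : P) (c : {c // c ∈ O}), ((q • c : {c // c ∈ O}) : Set (IrrCharacter N)) =
      conjSet (q : G) N N c.1 := fun q c => rfl
  have hfixed : ∃ c : {c // c ∈ O}, c ∈ MulAction.fixedPoints P {c // c ∈ O} ∧
      ¬ MemLocalIdeal M (blockCoeff c.1 yN) := by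
    by_contra hno
    push Not at hno
    have h := memLocalIdeal_sum_sub_fixed (α := {c // c ∈ O}) hM hPp
      (f := fun c => blockCoeff c.1 yN)
      (fun c => IsPBlock.memLocalRing_blockCoeff (hOblock c.1 c.2) _) (fun q c => by
        show blockCoeff (conjSet (q : G) N N c.1) yN = blockCoeff c.1 yN
        refine blockCoeff_conjSet (conj_mem_normal_iff (q : G)) c.1 ?_
        show y = (q : G) * y * (q : G)⁻¹
        rw [Subgroup.mem_centralizer_iff.mp hyP q q.2, mul_inv_cancel_right])
    refine hyu ?_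
    rw [hε, hsum, Finset.sum_apply, ← Finset.sum_coe_sort O fun c => blockCoeff c yN]
    exact (memLocalIdeal_iff_of_sub h).mpr
      (memLocalIdeal_sum _ _ fun c hc => hno c (Finset.mem_filter.mp hc).2)
  obtain ⟨⟨c, hc⟩, hfix, hcu⟩ := hfixed
  have hcb := hOblock c hc
  obtain ⟨x₀, -, hx₀⟩ := Finset.mem_image.mp hc
  obtain ⟨D, hD⟩ := exists_isDefectGroup hM hcb
  have hcardD : Nat.card D = Nat.card Q := by
    rw [IsDefectGroup.card_eq hM hcb hD, ← hx₀, blockDefect_conjSet (conj_mem_normal_iff x₀),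
      ← IsDefectGroup.card_eq hM hb hQ, Nat.card_congr (Subgroup.subgroupOfEquivOfLe hQN).toEquiv]
  set R := (P ⊓ N).subgroupOf N
  have hRcard : Nat.card R = Nat.card ↥(P ⊓ N) :=
    Nat.card_congr (Subgroup.subgroupOfEquivOfLe (inf_le_right : P ⊓ N ≤ N)).toEquiv
  obtain ⟨n, hn⟩ := IsDefectGroup.exists_le_conj_of_support hM hcb hD hcu
    (Q := R) ((hPp.to_le inf_le_left).comap_of_injective N.subtype N.subtype_injective)
    fun r hr => Subgroup.mem_centralizer_singleton_iff.mpr (Subtype.ext
      (Subgroup.mem_centralizer_iff.mp hyP (r : G) (Subgroup.mem_subgroupOf.mp hr).1))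
  obtain ⟨x, hx⟩ := exists_le_conj_of_covering hb hB hχ hθ hcon hM hQN hQ hP
  have hge : Nat.card Q ≤ Nat.card ↥(P ⊓ N) := by
    refine (Subgroup.card_le_of_le (show Q ≤ (P ⊓ N).map (MulAut.conj x).toMonoidHom from
      fun q hq => ?_)).trans_eq (card_map_conj _ _)
    obtain ⟨u, hu, rfl⟩ := hx hq
    exact ⟨u, ⟨hu, (conj_mem_normal_iff x u).mp (hQN hq)⟩, rfl⟩
  have e : R = D.map (MulAut.conj n).toMonoidHom := Subgroup.eq_of_le_of_card_ge hn (by
    rw [card_map_conj, hcardD, hRcard]; exact hge)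
  refine ⟨c, hcb, fun u hu => ?_, ?_, e ▸ IsDefectGroup.conj hM hD n, ?_⟩
  · refine stabilizesBlock_iff.mpr
      ⟨Subgroup.normalizer_eq_top N ▸ Subgroup.mem_top u, ?_⟩
    exact congrArg Subtype.val (hfix ⟨u, hu⟩)
  · refine ⟨χ, hχ, conjI x₀⁻¹ θ, ?_, ?_⟩
    · rw [← hx₀, mem_conjSet_normal_iff, ← conjI_mul, inv_mul_cancel, conjI_one]
      exact hθ
    · rw [coe_conjI, ← Char.conjBy_restrict N (irr_classFunction χ) x₀⁻¹, Char.classInner_conjBy]
      exact hcon
  · rw [← hRcard, e, card_map_conj, hcardD]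

/-- Some defect group of the covering block meets `N` in `Q`. -/
theorem exists_defectGroup_inf_eq : ∃ P' : Subgroup G, IsDefectGroup p M B P' ∧ P' ⊓ N = Q := by
  obtain ⟨x, hx⟩ := exists_le_conj_of_covering hb hB hχ hθ hcon hM hQN hQ hP
  have hP' := IsDefectGroup.conj hM hP x
  obtain ⟨c, -, -, -, -, hcard⟩ := exists_stable_covered hb hB hχ hθ hcon hM hQN hQ hP'
  exact ⟨_, hP', (Subgroup.eq_of_le_of_card_ge (le_inf hx hQN) hcard.le).symm⟩

end CfsgLib.Blocks
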