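import Cfsg.Agent.Lib.Blocks.InducingBlocks
import Cfsg.Agent.Lib.Blocks.CoveringDefect
import Cfsg.Agent.Lib.Blocks.BlockSaturation
import Cfsg.Agent.Lib.Blocks.MainThird
import Cfsg.Prelude.Def_BlockLocal

/-!
# Tools for the Harris–Knörr correspondence
-/

set_option autoImplicit false
set_option linter.unusedSectionVars false

namespace CfsgLib.Blocks

open Cfsg
open scoped ComplexConjugate CfsgLib.Char

variable {p : ℕ} {M : Ideal AlgInt} {G : Type*} [Group G] [Fintype G]

/-- `ω` is invariant under isomorphisms. -/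
theorem omega_comp_mulEquiv {A B : Type*} [Group A] [Fintype A] [Group B] [Fintype B] (φ : A ≃* B)
    (χ f : B → ℂ) : omega (fun a => χ (φ a)) (fun a => f (φ a)) = omega χ f := by
  rw [omega, omega, Finset.sum_div, Finset.sum_div]
  exact Fintype.sum_equiv φ.toEquiv _ _ fun a => by simp [map_one]

/-- Induction inside `N`, read in the group `N`. -/
theorem isInducedBlock_of_isInducedBlockIn [M.IsPrime] {N L : Subgroup G} {H' : Subgroup N}
    (φ : H' ≃* L) (hφ : ∀ y : H', ((φ y : L) : G) = ((y : N) : G)) {f : Set (IrrCharacter L)}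
    {d : Set (IrrCharacter N)} (h : IsInducedBlockIn M N L f d) :
    IsInducedBlock M H' (irrEquiv φ.symm '' f) d := by
  classical
  refine ⟨isPBlock_image_irrEquiv _ h.1, h.2.1, ?_⟩
  rintro _ ⟨ξ, hξ, rfl⟩ χ hχ g
  have e : inducedCentralChar H' (irrEquiv φ.symm ξ : H' → ℂ) g =
      inducedCentralCharIn N L (ξ : L → ℂ) (g : G) := by
    have := Fintype.ofFinite H'
    have := Fintype.ofFinite L
    rw [inducedCentralChar, inducedCentralCharIn, finsum_mem_def, finsum_mem_def,
      ← finsum_comp_equiv φ.toEquiv]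
    refine finsum_congr fun y => ?_
    have h1 : (irrEquiv φ.symm ξ : H' → ℂ) y = (ξ : L → ℂ) (φ y) := rfl
    have h2 : (irrEquiv φ.symm ξ : H' → ℂ) 1 = (ξ : L → ℂ) 1 := by
      show (ξ : L → ℂ) (φ 1) = _
      rw [map_one]
    have hiff : IsConj g (y : N) ↔ ∃ x : N, (x : G) * ((φ y : L) : G) * (x : G)⁻¹ = (g : G) := by
      rw [hφ, isConj_comm, isConj_iff]
      exact exists_congr fun x => by
        rw [Subtype.ext_iff, Subgroup.coe_mul, Subgroup.coe_mul, Subgroup.coe_inv]
    show Set.indicator _ _ y = Set.indicator _ _ (φ y)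
    simp only [Set.indicator_apply, Set.mem_setOf_eq, hiff, h1, h2]
  rw [e]
  exact h.2.2 ξ hξ χ hχ g

/-- Two blocks of `H ≤ N_G(Q)` inducing the same block are equal once the idempotent of one of
them lifts to a class function of `G`. -/
theorem eq_of_induced_of_lift (hM : IsPModular p M) {Q H : Subgroup G} [Fintype H]
    (hQ : IsPGroup p Q) (hQH : Q ≤ H) (hHN : H ≤ Subgroup.normalizer (Q : Set G))
    {c c' : Set (IrrCharacter H)} {B : Set (IrrCharacter G)}
    (hc : IsInducedBlock M H c B) (hc' : IsInducedBlock M H c' B) {F : G → ℂ}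
    (hF : IsClassFunction G F) (hFl : ∀ g, MemLocalRing M (F g))
    (hlift : ∀ h : H, (h : G) ∈ Subgroup.centralizer (Q : Set G) →
      MemLocalIdeal M (F h - blockCoeff c h)) : c = c' := by
  classical
  have := isPrime_of_isPModular hM
  have : Fact p.Prime := ⟨hM.1⟩
  have : (Q.subgroupOf H).Normal := Subgroup.normal_subgroupOf_of_le_normalizer hHN
  have hQH' : IsPGroup p (Q.subgroupOf H) := hQ.comap_of_injective _ (Subgroup.subtype_injective _)
  obtain ⟨χ, hχ⟩ := IsPBlock.nonempty hc.2.1
  obtain ⟨ξ, hξ⟩ := IsPBlock.nonempty hc.1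
  obtain ⟨η, hη⟩ := IsPBlock.nonempty hc'.1
  have hFH : IsClassFunction H fun h : H => F (h : G) := fun a x => hF (a : G) (x : G)
  have key : ∀ ζ : IrrCharacter H,
      MemLocalIdeal M (omega (ζ : H → ℂ) (fun h : H => F (h : G)) - indVec c ζ) := by
    intro ζ
    rw [← omega_blockCoeff, omega_eq_sum_classes ζ hFH,
      omega_eq_sum_classes ζ (isClassFunction_blockCoeff c), ← Finset.sum_sub_distrib]
    refine memLocalIdeal_sum _ _ fun C _ => ?_
    rw [← sub_mul]
    by_cases hC : ((Quotient.out C : H) : G) ∈ Subgroup.centralizer (Q : Set G)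
    · exact memLocalIdeal_mul_right (hlift _ hC) (memLocalRing_centralChar ζ _)
    · refine memLocalIdeal_mul_left
        (memLocalRing_sub (hFl _) (IsPBlock.memLocalRing_blockCoeff hc.1 _))
        (memLocalIdeal_centralChar_of_not_centralizing hM _ hQH' ζ fun h => hC ?_)
      intro q hq
      exact congrArg Subtype.val (h ⟨q, hQH hq⟩ hq)
  have h1 := IsInducedBlock.omega_congr hc hξ hχ hF hFl
  have h2 := IsInducedBlock.omega_congr hc' hη hχ hF hFl
  have h3 := memLocalIdeal_sub_trans h1 (memLocalIdeal_sub_comm h2)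
  have h4 := memLocalIdeal_sub_trans (memLocalIdeal_sub_comm (key ξ))
    (memLocalIdeal_sub_trans h3 (key η))
  rw [indVec_of_mem hξ] at h4
  by_cases hη' : η ∈ c
  · exact IsPBlock.eq_of_mem_of_mem hc.1 hc'.1 hη' hη
  · rw [indVec_of_notMem hη', sub_zero] at h4
    exact absurd h4 not_memLocalIdeal_one

/-- The idempotent of a covering block vanishes at elements centralized by a subgroup of `N` larger
than the defect groups below. -/
theorem memLocalIdeal_blockCoeff_of_covering (hM : IsPModular p M) {N : Subgroup G} [N.Normal]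
    [Fintype N] {b : Set (IrrCharacter N)} (hb : IsPBlock M b) {B : Set (IrrCharacter G)}
    (hB : IsPBlock M B) {χ : IrrCharacter G} (hχ : χ ∈ B) {θ : IrrCharacter N} (hθ : θ ∈ b)
    (hcon : classInner (fun n : N => (χ : G → ℂ) n) (θ : N → ℂ) ≠ 0)
    {R : Subgroup G} (hR : IsPGroup p R) (hRN : R ≤ N) (hbig : p ^ blockDefect p b < Nat.card R)
    {y : G} (hy : y ∈ Subgroup.centralizer (R : Set G)) : MemLocalIdeal M (blockCoeff B y) := by
  classical
  have := isPrime_of_isPModular hM
  have : Fact p.Prime := ⟨hM.1⟩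
  have hεc := isClassFunction_orbitIdem (G := G) b
  have habs : conv (orbitIdem b) (blockCoeff B) = blockCoeff B := by
    rw [conv_comm hεc, conv_blockCoeff_orbitIdem hb hB hχ hθ hcon]
  have hzero : ∀ z ∈ Subgroup.centralizer (R : Set G), MemLocalIdeal M (orbitIdem b z) := by
    intro z hz
    by_cases hzN : z ∈ N
    · rw [orbitIdem, show z = ((⟨z, hzN⟩ : N) : G) from rfl, extendByZero_apply,
        blockCoeff_eq_sum_blocks (isBlockUnion_conjUnion (G := G) hb)]
      refine memLocalIdeal_sum _ _ fun b' hb' => ?_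
      obtain ⟨hb1, hb2⟩ := Finset.mem_filter.mp hb'
      have hb'' := mem_blocks.mp hb1
      obtain ⟨η, hη⟩ := IsPBlock.nonempty hb''
      obtain ⟨g, hg⟩ := hb2 hη
      set φ : N ≃* N := (MulAut.conjNormal g : MulAut N)
      have hmem : η ∈ irrEquiv φ '' b := by
        refine ⟨conjI g η, hg, Subtype.ext (funext fun n => ?_)⟩
        show (η : N → ℂ) ((MulAut.conjNormal g : MulAut N) (φ.symm n)) = (η : N → ℂ) n
        rw [show (MulAut.conjNormal g : MulAut N) (φ.symm n) = n from φ.apply_symm_apply n]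
      have hdef : blockDefect p b' = blockDefect p b := by
        rw [IsPBlock.eq_of_mem_of_mem hb'' (isPBlock_image_irrEquiv φ hb) hη hmem,
          blockDefect_image_irrEquiv]
      by_contra hu
      obtain ⟨D, hD⟩ := exists_isDefectGroup hM hb''
      obtain ⟨x, hx⟩ := IsDefectGroup.exists_le_conj_of_support hM hb'' hD hu
        (Q := R.subgroupOf N) (hR.comap_of_injective _ (Subgroup.subtype_injective _)) fun r hr =>
          Subgroup.mem_centralizer_singleton_iff.mpr (Subtype.ext
            (Subgroup.mem_centralizer_iff.mp hz _ (Subgroup.mem_subgroupOf.mp hr)))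
      have h1 := Subgroup.card_le_of_le hx
      rw [Nat.card_congr (Subgroup.subgroupOfEquivOfLe hRN).toEquiv, card_map_conj,
        IsDefectGroup.card_eq hM hb'' hD, hdef] at h1
      exact absurd h1 (not_le.mpr hbig)
    · rw [orbitIdem, extendByZero_eq_zero N _ hzN]
      exact memLocalIdeal_zero
  have h := restrict_conv_congr hM hR (memLocalRing_orbitIdem hb)
    (IsPBlock.memLocalRing_blockCoeff hB) (fun x _ z => hεc z x)
    (fun x _ z => isClassFunction_blockCoeff B z x) ⟨y, hy⟩
  rw [habs] at h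
  exact (memLocalIdeal_iff_of_sub h).mpr (memLocalIdeal_sum _ _ fun z _ =>
    memLocalIdeal_mul_right (hzero _ z.2) (IsPBlock.memLocalRing_blockCoeff hB _))

/-- If a `p`-group centralizing `y` inside `N` is larger than `Q`, one normalizing `Q` is too. -/
theorem exists_normalizing_larger [Fact p.Prime] {N Q : Subgroup G} (hQ : IsPGroup p Q)
    (hQN : Q ≤ N) {y : G} (hy : y ∈ Subgroup.centralizer (Q : Set G)) {R : Subgroup G}
    (hR : IsPGroup p R) (hRX : R ≤ N ⊓ Subgroup.centralizer ({y} : Set G))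
    (hbig : Nat.card Q < Nat.card R) :
    ∃ R' : Subgroup G, IsPGroup p R' ∧
      R' ≤ Subgroup.normalizer (Q : Set G) ⊓ (N ⊓ Subgroup.centralizer ({y} : Set G)) ∧
      Nat.card Q < Nat.card R' := by
  classical
  set X := N ⊓ Subgroup.centralizer ({y} : Set G)
  have hQX : Q ≤ X := le_inf hQN fun q hq => Subgroup.mem_centralizer_singleton_iff.mpr
    (Subgroup.mem_centralizer_iff.mp hy q hq)
  obtain ⟨S, hS⟩ := IsPGroup.exists_le_sylow (G := X)
    (hQ.comap_of_injective X.subtype X.subtype_injective : IsPGroup p (Q.subgroupOf X))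
  obtain ⟨S', hS'⟩ := IsPGroup.exists_le_sylow (G := X)
    (hR.comap_of_injective X.subtype X.subtype_injective : IsPGroup p (R.subgroupOf X))
  have hcard : Nat.card Q < Nat.card (S : Subgroup X) := by
    rw [S.card_eq_multiplicity, ← S'.card_eq_multiplicity]
    refine lt_of_lt_of_le hbig ?_
    rw [← Nat.card_congr (Subgroup.subgroupOfEquivOfLe hRX).toEquiv]
    exact Subgroup.card_le_of_le hS'
  have hlt : (Q.subgroupOf X).subgroupOf (S : Subgroup X) < ⊤ := by
    refine lt_top_iff_ne_top.mpr fun he => ?_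
    have h := Subgroup.card_le_of_le (Subgroup.subgroupOf_eq_top.mp he)
    rw [Nat.card_congr (Subgroup.subgroupOfEquivOfLe hQX).toEquiv] at h
    omega
  have : Group.IsNilpotent (S : Subgroup X) := S.2.isNilpotent
  have hnc := Group.normalizerCondition_of_isNilpotent _ hlt
  set T := ((S : Subgroup X).map X.subtype) ⊓ Subgroup.normalizer (Q : Set G) with hT
  have hTp : IsPGroup p T := (S.2.map X.subtype).to_le inf_le_left
  refine ⟨T, hTp, le_inf inf_le_right (inf_le_left.trans (Subgroup.map_subtype_le _)), ?_⟩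
  have hQT : Q ≤ T := le_inf (fun q hq => ⟨⟨q, hQX hq⟩, hS hq, rfl⟩) Subgroup.le_normalizer
  obtain ⟨r, hrn, hrQ⟩ := SetLike.exists_of_lt hnc
  have hrT : ((r : X) : G) ∈ T := by
    refine ⟨⟨(r : X), r.2, rfl⟩, Subgroup.mem_normalizer_iff.mpr fun q => ?_⟩
    have hn := Subgroup.mem_normalizer_iff.mp hrn
    constructor
    · intro hq
      exact Subgroup.mem_subgroupOf.mp (Subgroup.mem_subgroupOf.mp
        ((hn ⟨⟨q, hQX hq⟩, hS hq⟩).mp hq))
    · intro hq
      have hqX : q ∈ X := by
        have h := X.mul_mem (X.mul_mem (X.inv_mem (r : X).2) (hQX hq)) (r : X).2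
        simpa [mul_assoc] using h
      have hqS : (⟨q, hqX⟩ : X) ∈ (S : Subgroup X) := by
        have h := (S : Subgroup X).mul_mem ((S : Subgroup X).mul_mem ((S : Subgroup X).inv_mem r.2)
          (hS (show (⟨_, hQX hq⟩ : X) ∈ Q.subgroupOf X from hq))) r.2
        convert h using 1
        exact Subtype.ext (by simp [mul_assoc])
      exact Subgroup.mem_subgroupOf.mp (Subgroup.mem_subgroupOf.mp
        ((hn ⟨⟨q, hqX⟩, hqS⟩).mpr hq))
  refine Set.ncard_lt_ncard (s := (Q : Set G)) (t := (T : Set G)) ⟨hQT, fun h => hrQ ?_⟩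
    (Set.toFinite _)
  exact h hrT

end CfsgLib.Blocks
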