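import Cfsg.Agent.S4437
import Cfsg.Agent.Lib.Blocks.BlockNilpotent
import Cfsg.Agent.Lib.Blocks.HarrisKnorr
import Cfsg.Agent.Lib.Blocks.CoreKernel

/-!
# Local blocks below a maximal pair with abelian defect group

For `Q ≤ P` the block of `C_G(Q)` below `(P, c)` is the block induced from `c`.  These blocks are
all nilpotent exactly when the inertial quotient acts freely on `P`.
-/

set_option autoImplicit false
set_option linter.unusedSectionVars false

namespace CfsgLib.Blocks

open Cfsg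
open scoped ComplexConjugate CfsgLib.Char

variable {p : ℕ} {M : Ideal AlgInt} [M.IsPrime] {G : Type*} [Group G] [Fintype G]

/-- Induction in the group `N`, read inside `N`. -/
theorem isInducedBlockIn_of_isInducedBlock {N L : Subgroup G} {H' : Subgroup N}
    (φ : H' ≃* L) (hφ : ∀ y : H', ((φ y : L) : G) = ((y : N) : G)) {f : Set (IrrCharacter L)}
    (hf : IsPBlock M f) {d : Set (IrrCharacter N)}
    (h : IsInducedBlock M H' (irrEquiv φ.symm '' f) d) : IsInducedBlockIn M N L f d := by
  classical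
  refine ⟨hf, h.2.1, fun ξ hξ χ hχ g => ?_⟩
  have e : inducedCentralChar H' (irrEquiv φ.symm ξ : H' → ℂ) g =
      inducedCentralCharIn N L (ξ : L → ℂ) (g : G) := by
    have := Fintype.ofFinite H'
    have := Fintype.ofFinite L
    rw [inducedCentralChar, inducedCentralCharIn, finsum_mem_def, finsum_mem_def,
      ← finsum_comp_equiv φ.toEquiv]
    refine finsum_congr fun y => ?_
    have h1 : (irrEquiv φ.symm ξ : H' → ℂ) y = (ξ : L → ℂ) (φ y) := rfl
    have h2 : (irrEquiv φ.symm ξ : H' → ℂ) 1 = (ξ : L → ℂ) 1 := by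
      show (ξ : L → ℂ) (φ 1) = _
      rw [map_one]
    have hiff : IsConj g (y : N) ↔ ∃ x : N, (x : G) * ((φ y : L) : G) * (x : G)⁻¹ = (g : G) := by
      rw [hφ, isConj_comm, isConj_iff]
      exact exists_congr fun x => by
        rw [Subtype.ext_iff, Subgroup.coe_mul, Subgroup.coe_mul, Subgroup.coe_inv]
    show Set.indicator _ _ y = Set.indicator _ _ (φ y)
    simp only [Set.indicator_apply, Set.mem_setOf_eq, hiff, h1, h2]
  rw [← e]
  exact h.2.2 _ ⟨ξ, hξ, rfl⟩ χ hχ g

theorem IsInducedBlockIn.unique {H K : Subgroup G} {c : Set (IrrCharacter K)}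
    {f f' : Set (IrrCharacter H)} (h : IsInducedBlockIn M H K c f)
    (h' : IsInducedBlockIn M H K c f') : f = f' := by
  obtain ⟨ξ, hξ⟩ := IsPBlock.nonempty h.1
  obtain ⟨χ, hχ⟩ := IsPBlock.nonempty h.2.1
  obtain ⟨χ', hχ'⟩ := IsPBlock.nonempty h'.2.1
  refine IsPBlock.eq_of_mem_of_mem h.2.1 h'.2.1 (IsPBlock.mem_of_sameBlock h.2.1 hχ fun g => ?_) hχ'
  exact memLocalIdeal_sub_trans (memLocalIdeal_sub_comm (h.2.2 ξ hξ χ hχ g))
    (h'.2.2 ξ hξ χ' hχ' g)

section AbelianTop

variable {P : Subgroup G} {c : Set (IrrCharacter (Subgroup.centralizer (P : Set G)))}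

/-- The centralizer of `P` in `C_G(Q)` is the one in `G`. -/
def centTop {Q : Subgroup G} (hQP : Q ≤ P) (hPH : P ≤ Subgroup.centralizer (Q : Set G)) :
    Subgroup.centralizer
        ((P.subgroupOf (Subgroup.centralizer (Q : Set G)) :
          Subgroup (Subgroup.centralizer (Q : Set G))) : Set (Subgroup.centralizer (Q : Set G))) ≃*
      Subgroup.centralizer (P : Set G) where
  toFun k := ⟨((k : Subgroup.centralizer (Q : Set G)) : G), fun y hy =>
    congrArg Subtype.val (k.2 ⟨y, hPH hy⟩ hy)⟩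
  invFun d := ⟨⟨(d : G), Subgroup.centralizer_le (SetLike.coe_subset_coe.mpr hQP) d.2⟩,
    fun y hy => Subtype.ext (d.2 (y : G) hy)⟩
  left_inv _ := rfl
  right_inv _ := rfl
  map_mul' _ _ := rfl

/-- A block below `(P, c)` is induced from `c`, and has the pair of `c`. -/
theorem below_data (hM : IsPModular p M) (hPc : IsBrauerPair p M P c) (hPab : ∀ x ∈ P, ∀ y ∈ P, x * y = y * x)
    {Q : Subgroup G} {f : Set (IrrCharacter (Subgroup.centralizer (Q : Set G)))}
    (hPH : P ≤ Subgroup.centralizer (Q : Set G)) (hle : SubpairLE p M Q f P c) :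
    IsInducedBlockIn M (Subgroup.centralizer (Q : Set G)) (Subgroup.centralizer (P : Set G)) c f ∧
      IsBrauerPairOf p M f (P.subgroupOf (Subgroup.centralizer (Q : Set G)))
        (irrEquiv (centTop (SubpairLE.le hle) hPH).symm '' c) := by
  classical
  have : Fact p.Prime := ⟨hM.1⟩
  have hQP := SubpairLE.le hle
  have hPN : P ≤ Subgroup.normalizer (Q : Set G) :=
    hPH.trans (Subgroup.centralizer_le_normalizer _)
  obtain ⟨f', hns, -⟩ := existsUnique_normalSubpair hM hPc hQP hPN
  rw [← (existsUnique_subpair hM hPc hQP).unique hle (Relation.ReflTransGen.single hns)] at hns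
  let := Fintype.ofFinite (Subgroup.centralizer (Q : Set G))
  set P' := P.subgroupOf (Subgroup.centralizer (Q : Set G))
  let := Fintype.ofFinite (Subgroup.centralizer (P' : Set (Subgroup.centralizer (Q : Set G))))
  set φ := centTop hQP hPH
  set c' := irrEquiv φ.symm '' c with hc'
  have hP'p : IsPGroup p P' := hPc.1.comap_of_injective _ (Subgroup.subtype_injective _)
  have hc'b : IsPBlock M c' := isPBlock_image_irrEquiv _ hPc.2
  have hpair : IsBrauerPairOf p M f P' c' := by
    refine ⟨⟨hP'p, hc'b⟩, hns.1.2, ?_⟩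
    rintro _ ⟨ξ, hξ, rfl⟩
    have h := hns.2.2.2.2.2 ξ hξ
    convert h using 3
    rw [brauerOmega, brauerOmega, ← finsum_comp_equiv φ.toEquiv]
    refine finsum_congr fun k => ?_
    have h1 : (irrEquiv φ.symm ξ : Subgroup.centralizer (P' : Set (Subgroup.centralizer (Q : Set G))) → ℂ) k =
        (ξ : Subgroup.centralizer (P : Set G) → ℂ) (φ k) := rfl
    have h2 : (irrEquiv φ.symm ξ : Subgroup.centralizer (P' : Set (Subgroup.centralizer (Q : Set G))) → ℂ) 1 =
        (ξ : Subgroup.centralizer (P : Set G) → ℂ) 1 := by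
      show (ξ : Subgroup.centralizer (P : Set G) → ℂ) (φ 1) = _
      rw [map_one]
    rw [h1, h2, blockCoeff_centralizer f (k : Subgroup.centralizer (Q : Set G))]
    rfl
  refine ⟨?_, hpair⟩
  have hab : P' ≤ Subgroup.centralizer (P' : Set (Subgroup.centralizer (Q : Set G))) := fun a ha b hb =>
    Subtype.ext (hPab (b : G) hb (a : G) ha)
  obtain ⟨B', hB'⟩ := inducedBlockDefined_of_le_normalizer hM hP'p hab le_rfl
    (Subgroup.centralizer_le_normalizer _) hc'b
  have hB'pair := Cfsg.Agent.S4437.isBrauerPairOf_of_induced hM hP'p hab le_rfl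
    (Subgroup.centralizer_le_normalizer _) hc'b hc'b
    (fun t => blockCoeff_centralizer c' t) hB'
  rw [(existsUnique_isBrauerPairOf hM hpair.1).unique hpair hB'pair]
  exact isInducedBlockIn_of_isInducedBlock φ (fun _ => rfl) hPc.2 hB'

/-- With a free action of the inertial quotient the blocks of pairs are nilpotent. -/
theorem isNilpotentBlock_of_free (hM : IsPModular p M) {B : Set (IrrCharacter G)}
    (hmax : IsMaximalBrauerPair p M B P c) (hPab : ∀ x ∈ P, ∀ y ∈ P, x * y = y * x)
    (hfree : ∀ g ∈ blockT P c, ∀ x ∈ P, x ≠ 1 → g * x * g⁻¹ = x →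
      g ∈ Subgroup.centralizer (P : Set G))
    {Q : Subgroup G} (hQ : Q ≠ ⊥) {f : Set (IrrCharacter (Subgroup.centralizer (Q : Set G)))}
    (hQf : IsBrauerPairOf p M B Q f) : IsNilpotentBlock p M f := by
  classical
  refine ⟨hQf.1.2, fun R r hR x hx hst _ => ?_⟩
  let := Fintype.ofFinite (Subgroup.centralizer (Q : Set G))
  obtain ⟨hS, hxN, hxst⟩ := exists_pair_centSup hM hQf hR hx hst
  set S := Q ⊔ R.map (Subgroup.centralizer (Q : Set G)).subtype
  obtain ⟨g, hg⟩ := exists_conjPair_le_maximal hM hmax hS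
  have hy := blockT_conjPair (g := g) (mem_blockT.mpr ⟨hxN, hxst⟩)
  obtain ⟨y, hy1, k, hk, heq⟩ := exists_blockT_factor hM hmax hPab hg hy
  obtain ⟨⟨q, hq⟩, hq1⟩ := Subgroup.ne_bot_iff_exists_ne_one.mp hQ
  have hzS : g * q * g⁻¹ ∈ (conjPair g ⟨S, irrEquiv (centSupEquiv Q R) '' r⟩).1 :=
    ⟨q, Subgroup.mem_sup_left hq, rfl⟩
  have hzP : g * q * g⁻¹ ∈ P := SubpairLE.le hg hzS
  have hxq : (x : G) * q * (x : G)⁻¹ = q := by rw [← x.2 q hq, mul_inv_cancel_right]
  have hkz : k * (g * q * g⁻¹) * k⁻¹ = g * q * g⁻¹ := by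
    rw [← hk _ hzS, mul_inv_cancel_right]
  have hyz : y * (g * q * g⁻¹) * y⁻¹ = g * q * g⁻¹ := by
    have h1 : g * x * g⁻¹ * (g * q * g⁻¹) * (g * x * g⁻¹)⁻¹ = g * q * g⁻¹ := by
      calc g * x * g⁻¹ * (g * q * g⁻¹) * (g * x * g⁻¹)⁻¹ =
          g * ((x : G) * q * (x : G)⁻¹) * g⁻¹ := by group
        _ = _ := by rw [hxq]
    rw [heq] at h1
    conv_rhs => rw [← h1]
    conv_lhs => rw [← hkz]
    group
  have hyC := hfree y hy1 _ hzP (fun h => hq1 (Subtype.ext (conj_eq_one_iff.mp h))) hyz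
  have hxC : (x : G) ∈ Subgroup.centralizer (S : Set G) := mem_centralizer_of_conj (g := g) (by
    rw [heq]
    exact mul_mem (Subgroup.centralizer_le (SetLike.coe_subset_coe.mpr (SubpairLE.le hg)) hyC) hk)
  exact fun z hz => Subtype.ext (hxC _ (Subgroup.mem_sup_right ⟨z, hz, rfl⟩))

/-- Nilpotent blocks below `(P, c)` force a free action. -/
theorem free_of_isNilpotentBlock (hM : IsPModular p M) {B : Set (IrrCharacter G)}
    (hmax : IsMaximalBrauerPair p M B P c) (hPab : ∀ x ∈ P, ∀ y ∈ P, x * y = y * x)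
    (hm : ¬ p ∣ (Subgroup.centralizer (P : Set G)).relIndex (blockT P c))
    (hnil : ∀ Q : Subgroup G, Q ≤ P → Q ≠ ⊥ →
      ∀ f : Set (IrrCharacter (Subgroup.centralizer (Q : Set G))),
        IsInducedBlockIn M (Subgroup.centralizer (Q : Set G)) (Subgroup.centralizer (P : Set G)) c f →
          IsNilpotentBlock p M f)
    {g : G} (hg : g ∈ blockT P c) {x : G} (hx : x ∈ P) (hx1 : x ≠ 1) (hfix : g * x * g⁻¹ = x) :
    g ∈ Subgroup.centralizer (P : Set G) := by
  classical
  have hp := hM.1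
  have hPc := hmax.1.1
  have hQP : Subgroup.zpowers x ≤ P := Subgroup.zpowers_le.mpr hx
  have hPH : P ≤ Subgroup.centralizer ((Subgroup.zpowers x : Subgroup G) : Set G) :=
    fun a ha b hb => hPab b (hQP hb) a ha
  obtain ⟨f, hf⟩ := exists_le_top hM hPc hQP
  obtain ⟨hind, hpair⟩ := below_data hM hPc hPab hPH hf
  have hnf := hnil _ hQP (by simpa using hx1) f hind
  have hgH : g ∈ Subgroup.centralizer ((Subgroup.zpowers x : Subgroup G) : Set G) :=
    fun a ha => by
      obtain ⟨n, rfl⟩ := Subgroup.mem_zpowers_iff.mp ha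
      exact (Commute.zpow_left (show Commute x g from (mul_inv_eq_iff_eq_mul.mp hfix).symm) n).eq
  set v := (orderOf g).factorization p
  set z : Subgroup.centralizer ((Subgroup.zpowers x : Subgroup G) : Set G) := ⟨g, hgH⟩ ^ p ^ v with hz
  have hzg : (z : G) = g ^ p ^ v := by rw [hz, Subgroup.coe_pow]
  have hzT : (z : G) ∈ blockT P c := hzg ▸ pow_mem hg _
  obtain ⟨hzN, hzst⟩ := mem_blockT.mp hzT
  have hzC := hnf.2 _ _ hpair z (Subgroup.mem_normalizer_iff.mpr fun a => by
      simp only [Subgroup.mem_subgroupOf, Subgroup.coe_mul, Subgroup.coe_inv]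
      exact Subgroup.mem_normalizer_iff.mp hzN (a : G))
    ⟨mem_normalizer_centralizer (Subgroup.mem_normalizer_iff.mpr fun a => by
      simp only [Subgroup.mem_subgroupOf, Subgroup.coe_mul, Subgroup.coe_inv]
      exact Subgroup.mem_normalizer_iff.mp hzN (a : G)), by
      rintro _ ⟨χ, hχ, rfl⟩
      obtain ⟨χ', hχ', hval⟩ := hzst.2 χ hχ
      refine ⟨_, ⟨χ', hχ', rfl⟩, fun a b hab => ?_⟩
      exact hval (centTop hQP hPH a) (centTop hQP hPH b) (congrArg Subtype.val hab)⟩
    (by
      show ¬ p ∣ orderOf z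
      rw [← Subgroup.orderOf_coe, hzg, orderOf_pow_of_dvd (pow_ne_zero _ hp.ne_zero)
        (Nat.ordProj_dvd _ p)]
      exact Nat.not_dvd_ordCompl hp (orderOf_pos g).ne')
  have hgp : g ^ p ^ v ∈ Subgroup.centralizer (P : Set G) := fun a ha => by
    have h := congrArg Subtype.val (hzC ⟨a, hPH ha⟩ ha)
    simpa [hzg] using h
  set m := (Subgroup.centralizer (P : Set G)).relIndex (blockT P c)
  have hC : ((Subgroup.centralizer (P : Set G)).subgroupOf (blockT P c)).Normal :=
    Subgroup.normal_subgroupOf_of_le_normalizer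
      (blockT_le_normalizer.trans fun a ha => mem_normalizer_centralizer ha)
  have hgm : g ^ m ∈ Subgroup.centralizer (P : Set G) :=
    Subgroup.mem_subgroupOf.mp (Subgroup.pow_index_mem
      ((Subgroup.centralizer (P : Set G)).subgroupOf (blockT P c)) (⟨g, hg⟩ : blockT P c))
  obtain ⟨a, b, hab⟩ := Int.isCoprime_iff_nat_coprime.mpr
    (show Nat.Coprime (m : ℤ).natAbs ((p ^ v : ℕ) : ℤ).natAbs by
      rw [Int.natAbs_natCast, Int.natAbs_natCast]
      exact Nat.Coprime.pow_right _ (hp.coprime_iff_not_dvd.mpr hm).symm)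
  rw [← zpow_one g, ← hab, zpow_add, mul_comm a, mul_comm b, zpow_mul, zpow_mul, zpow_natCast,
    zpow_natCast]
  exact mul_mem (zpow_mem hgm a) (zpow_mem hgp b)

/-- A block of `C_G(P)` inducing `B` gives a maximal pair, with inertial index prime to `p`. -/
theorem maximal_of_induced (hM : IsPModular p M) {B : Set (IrrCharacter G)}
    (hPD : IsDefectGroup p M B P) (hPab : ∀ x ∈ P, ∀ y ∈ P, x * y = y * x)
    (hc : IsInducedBlock M (Subgroup.centralizer (P : Set G)) c B) :
    IsMaximalBrauerPair p M B P c ∧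
      ¬ p ∣ (Subgroup.centralizer (P : Set G)).relIndex (blockT P c) := by
  classical
  have : Fact p.Prime := ⟨hM.1⟩
  have := Fintype.ofFinite (Subgroup.centralizer (P : Set G))
  have hPp := IsDefectGroup.isPGroup hM hPD
  have hPC : P ≤ Subgroup.centralizer (P : Set G) := fun x hx y hy => hPab y hy x hx
  have hpair : IsBrauerPairOf p M B P c :=
    Cfsg.Agent.S4437.isBrauerPairOf_of_induced hM hPp hPC le_rfl
      (Subgroup.centralizer_le_normalizer _) hc.1 hc.1 (fun t => blockCoeff_centralizer c t) hc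
  have hmax := isMaximalBrauerPair_of_defectGroup hM hPD hpair
  have : ((Subgroup.centralizer (P : Set G)).subgroupOf (blockT P c)).Normal :=
    Subgroup.normal_subgroupOf_of_le_normalizer
      (blockT_le_normalizer.trans fun a ha => mem_normalizer_centralizer ha)
  refine ⟨hmax, (not_dvd_relIndex_iff centralizer_le_blockT).mpr fun g hg hgp => ?_⟩
  haveI := Fintype.ofFinite (blockT P c)
  obtain ⟨F, hF, hFc⟩ := exists_blockT_block hM hpair.1
  have hdef := (exists_maximal_iff hM hpair.1 (fun g => mem_blockT) hF hFc).mp ⟨B, hmax⟩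
  have hel := ((isDefectGroup_stab_iff hM hPp hpair.1.2 le_blockT centralizer_le_blockT
    blockT_le_normalizer hF hFc).mp hdef).2 g hg hgp
  rwa [sup_eq_right.mpr hPC] at hel

end AbelianTop

end CfsgLib.Blocks
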