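import Cfsg.Agent.Lib.Blocks.CoveringConstituents
import Cfsg.Agent.Lib.Blocks.KernelBlock
import Cfsg.Agent.Lib.Blocks.Sections
import Cfsg.Agent.Lib.Char.MeanValue

/-!
# Restriction of the principal block to a normal subgroup of `p'`-index covering the centralizer
quotient

If `N` is normal of index prime to `p` and `G = N C(P)` for a Sylow `p`-subgroup `P`, restriction
is a bijection of the principal blocks. No member of the principal block vanishes on a whole coset
of `N`, and the mean of the squared values on a coset is a non-negative character of `G/N`.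
-/

set_option autoImplicit false
set_option linter.unusedSectionVars false

namespace CfsgLib.Blocks

open Cfsg
open scoped ComplexConjugate CfsgLib.Char

variable {p : ℕ} {M : Ideal AlgInt} {G : Type*} [Group G] [Fintype G]

/-- A root of unity of order prime to `p` congruent to one is one. -/
theorem eq_one_of_sub_one_mem (hM : IsPModular p M) {m : ℕ} (hm : ¬ p ∣ m) {z : ℂ}
    (hz : z ^ m = 1) (h : MemLocalIdeal M (z - 1)) : z = 1 := by
  have := isPrime_of_isPModular hM
  by_contra hne
  have hm0 : m ≠ 0 := by rintro rfl; exact hm (dvd_zero p)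
  have hzl : MemLocalRing M z := memLocalRing_of_isIntegral
    (IsIntegral.of_pow (Nat.pos_of_ne_zero hm0) (by rw [hz]; exact isIntegral_one))
  have hs : ∀ i : ℕ, MemLocalIdeal M (z ^ i - 1) := fun i => by
    induction i with
    | zero => simpa using memLocalIdeal_zero
    | succ i ih =>
      rw [show z ^ (i + 1) - 1 = (z ^ i - 1) * z + (z - 1) by rw [pow_succ]; ring]
      exact memLocalIdeal_add (memLocalIdeal_mul_right ih hzl) h
  have h2 : MemLocalIdeal M (∑ i ∈ Finset.range m, (z ^ i - 1)) :=
    memLocalIdeal_sum _ _ fun i _ => hs i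
  rw [Finset.sum_sub_distrib, geom_sum_eq hne, hz, sub_self, zero_div, zero_sub, Finset.sum_const,
    Finset.card_range, nsmul_eq_mul, mul_one] at h2
  exact hm ((memLocalIdeal_natCast_iff hM).mp (by simpa using memLocalIdeal_neg h2))

/-- A member of the principal block at an element centralizing a Sylow subgroup. -/
theorem value_congr_of_principal [Fact p.Prime] (hM : IsPModular p M) (P : Sylow p G)
    {χ : IrrCharacter G} (hχ : χ ∈ principalBlock M G) {c : G}
    (hc : c ∈ Subgroup.centralizer ((P : Subgroup G) : Set G)) :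
    MemLocalIdeal M ((χ : G → ℂ) c / (χ : G → ℂ) 1 - 1) := by
  have := isPrime_of_isPModular hM
  set i := (Subgroup.centralizer ({c} : Set G)).index
  have hi : ¬ p ∣ i := fun h => P.not_dvd_index (h.trans (Subgroup.index_dvd_of_le fun x hx =>
    Subgroup.mem_centralizer_singleton_iff.mpr (Subgroup.mem_centralizer_iff.mp hc x hx)))
  have hi0 : i ≠ 0 := fun h => hi (h ▸ dvd_zero p)
  have h := IsPBlock.sameBlock isPBlock_principalBlock hχ
    (principalBlock_eq (M := M) (G := G) ▸ mem_blockOf_self (trivIrr G)) c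
  rw [centralChar, centralChar] at h
  have h1 : ((Subgroup.centralizer ({c} : Set G)).index : ℂ) * (trivIrr G : G → ℂ) c /
      (trivIrr G : G → ℂ) 1 = i := by
    show (i : ℂ) * 1 / 1 = i
    simp
  rw [h1] at h
  have h2 := memLocalIdeal_mul_left (unit_natCast_div hM (a := 1) (b := i) one_ne_zero hi0 (by
    rw [Nat.factorization_eq_zero_of_not_dvd hi, Nat.factorization_one]; rfl)).1 h
  refine (congrArg (MemLocalIdeal M) ?_).mp h2
  have hi' : (i : ℂ) ≠ 0 := Nat.cast_ne_zero.mpr hi0
  have := Char.irr_degree_ne_zero χ.2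
  field_simp
  push_cast
  ring

variable (N : Subgroup G) [hN : N.Normal] [Fintype N]

/-- Every coset of `N` contains a `p`-regular element centralizing `P`. -/
theorem exists_regular_centralizing [Fact p.Prime] (hidx : ¬ p ∣ N.index) (P : Subgroup G)
    (hsup : N ⊔ Subgroup.centralizer (P : Set G) = ⊤) (g : G) :
    ∃ n : N, IsPRegular p ((n : G) * g) ∧ (n : G) * g ∈ Subgroup.centralizer (P : Set G) := by
  have hp : p.Prime := Fact.out
  obtain ⟨n₀, hn₀, c, hc, e⟩ := Subgroup.mem_sup_of_normal_left.mp (hsup ▸ Subgroup.mem_top g)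
  set a := (Nat.card G).factorization p
  have hcop : (p ^ a).Coprime N.index := ((hp.coprime_iff_not_dvd).mpr hidx).pow_left a
  obtain ⟨k, hk0, hk1⟩ := Nat.chineseRemainder hcop 0 1
  obtain ⟨j, rfl⟩ := Nat.modEq_zero_iff_dvd.mp hk0
  have hj : p ^ a * j ≡ 1 [MOD N.index] := hk1
  set c' := c ^ (p ^ a * j) with hc'
  have hmem : c' * c⁻¹ ∈ N := by
    rw [← QuotientGroup.eq_one_iff (N := N) _, QuotientGroup.mk_mul, QuotientGroup.mk_inv, hc',
      QuotientGroup.mk_pow, mul_inv_eq_one]
    conv_rhs => rw [← pow_one (c : G ⧸ N)]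
    exact pow_eq_pow_iff_modEq.mpr (hj.of_dvd (orderOf_dvd_natCard _))
  refine ⟨⟨c' * c⁻¹ * n₀⁻¹, N.mul_mem hmem (N.inv_mem hn₀)⟩, ?_⟩
  have e' : c' * c⁻¹ * n₀⁻¹ * g = c' := by rw [← e]; group
  simp only [e']
  refine ⟨fun h => ?_, Subgroup.pow_mem _ hc _⟩
  have h1 : c' ^ (Nat.card G / p ^ a) = 1 := by
    rw [hc', ← pow_mul, show p ^ a * j * (Nat.card G / p ^ a) = Nat.card G * j by
      rw [mul_right_comm, Nat.mul_div_cancel' (Nat.ordProj_dvd _ _)], pow_mul, pow_card_eq_one',
      one_pow]
  exact Nat.not_dvd_ordCompl hp Nat.card_pos.ne' (h.trans (orderOf_dvd_of_pow_eq_one h1))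

theorem sum_avgN (f : G → ℂ) : ∑ g, Char.avgN N f g = ∑ g, f g := by
  simp only [Char.avgN, Finset.mul_sum]
  rw [Finset.sum_comm]
  have h : ∀ n : N, ∑ g, (Nat.card N : ℂ)⁻¹ * f ((n : G) * g) =
      (Nat.card N : ℂ)⁻¹ * ∑ g, f g := fun n => by
    rw [← Finset.mul_sum]; exact congrArg _ (Equiv.sum_comp (Equiv.mulLeft (n : G)) f)
  rw [Finset.sum_congr rfl fun n _ => h n, Finset.sum_const, Finset.card_univ,
    ← Nat.card_eq_fintype_card, nsmul_eq_mul,
    mul_inv_cancel_left₀ (Nat.cast_ne_zero.mpr Nat.card_pos.ne')]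

theorem avgN_mul_left (f : G → ℂ) (n : N) (g : G) :
    Char.avgN N f ((n : G) * g) = Char.avgN N f g := by
  simp only [Char.avgN]
  congr 1
  exact Fintype.sum_equiv (Equiv.mulRight n) _ _ fun m => by simp [mul_assoc]

theorem avgN_mul_conj_one (χ χ' : G → ℂ) :
    Char.avgN N (fun g => χ' g * conj (χ g)) 1 =
      classInner (fun n : N => χ' n) (fun n : N => χ n) := by
  simp [Char.avgN, classInner]

variable [Fact p.Prime] (hM : IsPModular p M) (hidx : ¬ p ∣ N.index) (P : Sylow p G)
  (hsup : N ⊔ Subgroup.centralizer ((P : Subgroup G) : Set G) = ⊤)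
include hM hidx hsup

/-- A member of the principal block restricts irreducibly. -/
theorem isIrr_restrict_of_principal {χ : IrrCharacter G} (hχ : χ ∈ principalBlock M G) :
    IsIrrCharacter N (fun n : N => (χ : G → ℂ) n) := by
  classical
  have := isPrime_of_isPModular hM
  have hχc := Char.isCharacter_of_isIrr χ.2
  have hres := Char.isCharacter_restrict N hχc
  refine Char.isIrr_of_norm_one hres ?_
  obtain ⟨e, he⟩ := Char.exists_nat_classInner hres hres
  rw [he]
  suffices he1 : e = 1 by rw [he1, Nat.cast_one]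
  have he0 : e ≠ 0 := fun h => by
    rw [h, Nat.cast_zero] at he
    have h1 := congrFun (Char.eq_zero_of_classInner_self he) 1
    simp only [OneMemClass.coe_one, Pi.zero_apply] at h1
    exact Char.irr_degree_ne_zero χ.2 h1
  set f := Char.avgN N (fun g => (χ : G → ℂ) g * conj ((χ : G → ℂ) g)) with hf
  have hfc : IsCharacter G f :=
    Char.isCharacter_avgN N (Char.isCharacter_mul hχc (Char.isCharacter_conj hχc))
  have hfr : ∀ g, f g =
      (((Nat.card N : ℝ)⁻¹ * ∑ n : N, Complex.normSq ((χ : G → ℂ) ((n : G) * g)) : ℝ) : ℂ) := by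
    intro g
    rw [hf, Char.avgN]
    simp only [Complex.mul_conj]
    push_cast
    rfl
  have hne : ∀ g, f g ≠ 0 := fun g h0 => by
    obtain ⟨n, hreg, hcent⟩ := exists_regular_centralizing N hidx (P : Subgroup G) hsup g
    rw [hfr, Complex.ofReal_eq_zero, mul_eq_zero] at h0
    have h1 := (Finset.sum_eq_zero_iff_of_nonneg fun n _ => Complex.normSq_nonneg _).mp
      (h0.resolve_left (inv_ne_zero (Nat.cast_ne_zero.mpr Nat.card_pos.ne'))) n (Finset.mem_univ _)
    have h2 := value_congr_of_principal hM P hχ hcent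
    rw [Complex.normSq_eq_zero.mp h1, zero_div, zero_sub] at h2
    exact not_memLocalIdeal_one (by simpa using memLocalIdeal_neg h2)
  set T : Finset G := Finset.univ.filter fun g => g ∉ N
  have hle := Char.card_support_le_sum hfc (fun g => ⟨_, mul_nonneg (inv_nonneg.mpr (Nat.cast_nonneg _)) (Finset.sum_nonneg fun n _ => Complex.normSq_nonneg _), hfr g⟩) T fun a b h ha => by
    simp only [T, Finset.mem_filter, Finset.mem_univ, true_and] at ha ⊢
    exact fun hb => ha (Subgroup.zpowers_le.mpr hb (h ▸ Subgroup.mem_zpowers a))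
  rw [Finset.filter_true_of_mem fun a _ => hne a] at hle
  have htot : ∑ g, f g = (Nat.card G : ℂ) := by
    rw [hf, sum_avgN]
    have h := Char.classInner_irr χ.2 χ.2
    rw [if_pos rfl, classInner, inv_mul_eq_one₀ (Nat.cast_ne_zero.mpr Nat.card_pos.ne')] at h
    exact h.symm
  have hN' : ∀ g ∈ N, f g = (e : ℂ) := fun g hg => by
    have h := avgN_mul_left N (fun g => (χ : G → ℂ) g * conj ((χ : G → ℂ) g)) ⟨g, hg⟩ 1
    rw [mul_one] at h
    rw [hf, h, avgN_mul_conj_one, he]
  have hsplit := Finset.sum_filter_add_sum_filter_not Finset.univ (fun g => g ∈ N) f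
  rw [htot, Finset.sum_congr rfl fun g hg => hN' g (Finset.mem_filter.mp hg).2, Finset.sum_const,
    nsmul_eq_mul] at hsplit
  have hre := congrArg Complex.re hsplit
  simp only [Complex.add_re, Complex.re_sum, Complex.mul_re, Complex.natCast_re, Complex.natCast_im,
    mul_zero, sub_zero] at hre
  have hcard : ((Finset.univ.filter fun g => g ∈ N).card : ℝ) + T.card = Nat.card G := by
    rw [← Nat.cast_add, Finset.card_filter_add_card_filter_not, Finset.card_univ,
      Nat.card_eq_fintype_card]
  have hNpos : (0 : ℝ) < ((Finset.univ.filter fun g : G => g ∈ N).card : ℝ) :=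
    Nat.cast_pos.mpr (Finset.card_pos.mpr ⟨1, by simp [N.one_mem]⟩)
  have : (e : ℝ) ≤ 1 := by
    by_contra h
    push Not at h
    nlinarith
  have : e ≤ 1 := by exact_mod_cast this
  omega

/-- The restriction lies in the principal block. -/
theorem restrict_mem_principal {χ : IrrCharacter G} (hχ : χ ∈ principalBlock M G)
    {θ : IrrCharacter N} (hθ : (θ : N → ℂ) = fun n : N => (χ : G → ℂ) n) :
    θ ∈ principalBlock M N := by
  classical
  have := isPrime_of_isPModular hM
  have hb : IsPBlock M (principalBlock M N) := isPBlock_principalBlock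
  have ht : trivIrr G ∈ principalBlock M G := mem_blockOf_self (trivIrr G)
  have ht' : trivIrr N ∈ principalBlock M N := mem_blockOf_self (trivIrr N)
  have hcon : classInner (fun n : N => (trivIrr G : G → ℂ) n) (trivIrr N : N → ℂ) ≠ 0 := by
    rw [show (fun n : N => (trivIrr G : G → ℂ) n) = (trivIrr N : N → ℂ) from rfl,
      Char.classInner_irr (trivIrr N).2 (trivIrr N).2, if_pos rfl]
    exact one_ne_zero
  obtain ⟨g, hg⟩ := exists_conjI_mem_of_congr hb ht'
    (fun v hv hl hs => omega_congr_of_covering isPBlock_principalBlock hb ht ht' hcon hχ ht' hv hl hs)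
    (ψ := θ) (by rw [← hθ, Char.classInner_irr θ.2 θ.2, if_pos rfl]; exact one_ne_zero)
  have e : conjI g θ = θ := Subtype.ext (by
    rw [coe_conjI, hθ]
    exact Char.conjBy_restrict N (irr_classFunction χ) g)
  rwa [e] at hg

/-- Restriction is injective on the principal block. -/
theorem eq_of_restrict_eq {χ χ' : IrrCharacter G} (hχ : χ ∈ principalBlock M G)
    (hχ' : χ' ∈ principalBlock M G) (h : ∀ n : N, (χ' : G → ℂ) n = (χ : G → ℂ) n) : χ' = χ := by
  classical
  have := isPrime_of_isPModular hM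
  have hirr := isIrr_restrict_of_principal N hM hidx P hsup hχ
  set H := Char.avgN N (fun g => (χ' : G → ℂ) g * conj ((χ : G → ℂ) g)) with hHdef
  set F := Char.avgN N (fun g => (χ : G → ℂ) g * conj ((χ : G → ℂ) g)) with hFdef
  set F' := Char.avgN N (fun g => (χ' : G → ℂ) g * conj ((χ' : G → ℂ) g)) with hF'def
  have hc := Char.isCharacter_of_isIrr χ.2
  have hc' := Char.isCharacter_of_isIrr χ'.2
  have hone : ∀ (a b : IrrCharacter G), (∀ n : N, (a : G → ℂ) n = (χ : G → ℂ) n) →
      (∀ n : N, (b : G → ℂ) n = (χ : G → ℂ) n) →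
      Char.avgN N (fun g => (b : G → ℂ) g * conj ((a : G → ℂ) g)) 1 = 1 := fun a b ha hb => by
    rw [avgN_mul_conj_one, funext ha, funext hb, Char.classInner_irr hirr hirr, if_pos rfl]
  have hH : IsCharacter G H :=
    Char.isCharacter_avgN N (Char.isCharacter_mul hc' (Char.isCharacter_conj hc))
  have hH1 : H 1 = 1 := hone χ χ' (fun _ => rfl) h
  have hm : N.index ≠ 0 := Subgroup.index_ne_zero_of_finite
  have hHroot : ∀ g, H g ^ N.index = 1 := fun g => by
    rw [← Char.linearHom_apply hH hH1, ← Units.val_pow_eq_pow_val, ← map_pow]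
    show H (g ^ N.index) = 1
    have e := avgN_mul_left N (fun g => (χ' : G → ℂ) g * conj ((χ : G → ℂ) g))
      ⟨g ^ N.index, N.pow_index_mem g⟩ 1
    rw [mul_one] at e
    rw [← hH1]
    exact e
  have habs : ∀ (a : IrrCharacter G), (∀ n : N, (a : G → ℂ) n = (χ : G → ℂ) n) → ∀ g : G,
      ∑ n : N, Complex.normSq ((a : G → ℂ) ((n : G) * g)) = Nat.card N := by
    intro a ha g
    set A := Char.avgN N (fun g => (a : G → ℂ) g * conj ((a : G → ℂ) g)) with hAdef
    have hA : IsCharacter G A := Char.isCharacter_avgN N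
      (Char.isCharacter_mul (Char.isCharacter_of_isIrr a.2)
        (Char.isCharacter_conj (Char.isCharacter_of_isIrr a.2)))
    have hA1 : A 1 = 1 := hone a a ha ha
    obtain ⟨r, hr0, hr⟩ : ∃ r : ℝ, 0 ≤ r ∧ A g = r :=
      ⟨(Nat.card N : ℝ)⁻¹ * ∑ n : N, Complex.normSq ((a : G → ℂ) ((n : G) * g)), mul_nonneg (inv_nonneg.mpr (Nat.cast_nonneg _)) (Finset.sum_nonneg fun n _ => Complex.normSq_nonneg _), by
        rw [hAdef, Char.avgN]
        simp only [Pi.mul_apply, Complex.mul_conj]
        push_cast
        rfl⟩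
    have hn : ‖A g‖ = 1 := Complex.norm_eq_one_of_pow_eq_one (n := Nat.card G) (by
      rw [← Char.linearHom_apply hA hA1, ← Units.val_pow_eq_pow_val, ← map_pow, pow_card_eq_one',
        map_one, Units.val_one]) Nat.card_pos.ne'
    rw [hr, Complex.norm_real, Real.norm_of_nonneg hr0] at hn
    rw [hn, hAdef, Char.avgN] at hr
    simp only [Pi.mul_apply, Complex.mul_conj, Complex.ofReal_one,
      inv_mul_eq_one₀ (show (Nat.card N : ℂ) ≠ 0 from Nat.cast_ne_zero.mpr Nat.card_pos.ne')] at hr
    exact_mod_cast hr.symm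
  have hzero : ∀ g, (χ' : G → ℂ) g = H g * (χ : G → ℂ) g := by
    intro g
    have hz : ‖H g‖ = 1 := Complex.norm_eq_one_of_pow_eq_one (hHroot g) hm
    have hzs : Complex.normSq (H g) = 1 := by rw [Complex.normSq_eq_norm_sq, hz, one_pow]
    have hcross : ∑ n : N, ((χ' : G → ℂ) ((n : G) * g) * conj (H g * (χ : G → ℂ) ((n : G) * g))).re =
        (Nat.card N : ℝ) := by
      rw [← Complex.re_sum]
      have e : ∑ n : N, (χ' : G → ℂ) ((n : G) * g) * conj (H g * (χ : G → ℂ) ((n : G) * g)) =
          (Nat.card N : ℂ) * (H g * conj (H g)) := by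
        rw [← mul_assoc, hHdef]
        simp only [Char.avgN, Pi.mul_apply]
        rw [mul_inv_cancel_left₀ (Nat.cast_ne_zero.mpr Nat.card_pos.ne'), Finset.sum_mul]
        refine Finset.sum_congr rfl fun n _ => ?_
        rw [map_mul]; ring
      rw [e, Complex.mul_conj, hzs]
      simp
    have hs : ∑ n : N, Complex.normSq ((χ' : G → ℂ) ((n : G) * g) -
        H g * (χ : G → ℂ) ((n : G) * g)) = 0 := by
      simp only [Complex.normSq_sub, Finset.sum_sub_distrib, Finset.sum_add_distrib, Complex.normSq_mul,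
        hzs, one_mul, ← Finset.mul_sum, hcross, habs χ (fun _ => rfl) g, habs χ' h g]
      ring
    have h1 := (Finset.sum_eq_zero_iff_of_nonneg fun n _ => Complex.normSq_nonneg _).mp hs 1
      (Finset.mem_univ _)
    rw [Complex.normSq_eq_zero, sub_eq_zero, OneMemClass.coe_one, one_mul] at h1
    exact h1
  have hHone : ∀ g, H g = 1 := fun g => by
    obtain ⟨n, -, hcent⟩ := exists_regular_centralizing N hidx (P : Subgroup G) hsup g
    have e : H ((n : G) * g) = H g := avgN_mul_left N _ n g
    rw [← e]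
    refine eq_one_of_sub_one_mem hM hidx (hHroot _) ?_
    have h1 := value_congr_of_principal hM P hχ' hcent
    have h2 := value_congr_of_principal hM P hχ hcent
    have hd : (χ' : G → ℂ) 1 = (χ : G → ℂ) 1 := by simpa using h 1
    rw [hd, hzero, mul_div_assoc] at h1
    have hl : MemLocalRing M (H ((n : G) * g)) :=
      memLocalRing_of_isIntegral (Char.isIntegral_value hH _)
    have h3 := memLocalIdeal_mul_left hl h2
    refine (congrArg (MemLocalIdeal M) ?_).mp (memLocalIdeal_sub h1 h3)
    ring
  exact Subtype.ext (funext fun g => by rw [hzero, hHone, one_mul])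

end CfsgLib.Blocks
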