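import Cfsg.Agent.Lib.Blocks.LocalRing

/-!
# Sums invariant under a `p`-group, modulo the local ideal
-/

set_option autoImplicit false
set_option linter.unusedSectionVars false

namespace CfsgLib.Blocks

open Cfsg MulAction

variable {p : ℕ} {M : Ideal AlgInt} {Q α : Type*} [Group Q] [MulAction Q α] [Fintype α]

/-- An invariant sum over a set acted on by a `p`-group without fixed points lies in the ideal. -/
theorem memLocalIdeal_sum_of_fixedPoint_zero (hM : IsPModular p M) (hQ : IsPGroup p Q)
    {f : α → ℂ} (hf : ∀ a, MemLocalRing M (f a)) (hinv : ∀ (q : Q) (a : α), f (q • a) = f a)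
    (hfix : ∀ a ∈ fixedPoints Q α, f a = 0) : MemLocalIdeal M (∑ a, f a) := by
  classical
  have := isPrime_of_isPModular hM
  have : Fact p.Prime := ⟨hM.1⟩
  have : Fintype (Quotient (orbitRel Q α)) := Fintype.ofFinite _
  rw [← Finset.sum_fiberwise Finset.univ (Quotient.mk (orbitRel Q α)) f]
  refine memLocalIdeal_sum _ _ fun ω _ => ?_
  induction ω using Quotient.inductionOn with
  | h a =>
    set s : Finset α :=
      {b | Quotient.mk (orbitRel Q α) b = Quotient.mk (orbitRel Q α) a} with hs
    have hmem : ∀ b, b ∈ s ↔ b ∈ orbit Q a := fun b => by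
      rw [hs, Finset.mem_filter, Quotient.eq, orbitRel_apply]
      exact and_iff_right (Finset.mem_univ b)
    have hconst : ∀ b ∈ s, f b = f a := fun b hb => by
      obtain ⟨q, rfl⟩ := (hmem b).mp hb
      exact hinv q a
    rw [Finset.sum_congr rfl hconst, Finset.sum_const, nsmul_eq_mul]
    by_cases ha : a ∈ fixedPoints Q α
    · rw [hfix a ha, mul_zero]
      exact memLocalIdeal_zero
    · refine memLocalIdeal_mul_right ((memLocalIdeal_natCast_iff hM).mpr ?_) (hf a)
      obtain ⟨n, hn⟩ := hQ.card_orbit a
      have hcard : s.card = Nat.card (orbit Q a) := by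
        rw [← Nat.card_eq_finsetCard s]
        exact Nat.card_congr (Equiv.subtypeEquivRight hmem)
      rcases n with - | n
      · rw [pow_zero] at hn
        have hsub : Subsingleton (orbit Q a) := (Nat.card_eq_one_iff_unique.mp hn).1
        exact absurd (fun q => congrArg Subtype.val
          (Subsingleton.elim (⟨q • a, mem_orbit a q⟩ : orbit Q a) ⟨a, mem_orbit_self a⟩)) ha
      · rw [hcard, hn]
        exact dvd_pow_self p (Nat.succ_ne_zero n)

/-- An invariant sum is congruent to its sum over the fixed points. -/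
theorem memLocalIdeal_sum_sub_fixed (hM : IsPModular p M) (hQ : IsPGroup p Q)
    [DecidablePred (· ∈ fixedPoints Q α)]
    {f : α → ℂ} (hf : ∀ a, MemLocalRing M (f a)) (hinv : ∀ (q : Q) (a : α), f (q • a) = f a) :
    MemLocalIdeal M (∑ a, f a - ∑ a with a ∈ fixedPoints Q α, f a) := by
  have := isPrime_of_isPModular hM
  rw [Finset.sum_filter, ← Finset.sum_sub_distrib]
  refine memLocalIdeal_sum_of_fixedPoint_zero hM hQ (fun a => ?_) (fun q a => ?_) fun a ha => ?_
  · exact memLocalRing_sub (hf a) (by split <;> [exact hf a; exact memLocalRing_zero])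
  · by_cases ha : a ∈ fixedPoints Q α
    · rw [ha q]
    · have hqa : q • a ∉ fixedPoints Q α := fun h => ha (by
        have h2 : q • a = a := Eq.symm (by simpa using h q⁻¹)
        exact h2 ▸ h)
      rw [hinv, if_neg ha, if_neg hqa]
  · rw [if_pos ha, sub_self]

end CfsgLib.Blocks
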