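import Cfsg.Agent.Lib.Blocks.ConjBlock
import Cfsg.Agent.Lib.Blocks.OrbitSum

/-!
# Central characters of truncations of stable elements of the group ring
-/

set_option autoImplicit false
set_option linter.unusedSectionVars false

namespace CfsgLib.Blocks

open Cfsg
open scoped ComplexConjugate CfsgLib.Char

variable {p : ℕ} {M : Ideal AlgInt} {G : Type*} [Group G]

/-- `β` lists the coefficients of an element of the group ring over the local ring fixed under
conjugation by `P` and by `C_G(P)`. -/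
structure IsStableFun (M : Ideal AlgInt) (P : Subgroup G) (β : G → ℂ) : Prop where
  loc : ∀ g, MemLocalRing M (β g)
  conjP : ∀ x ∈ P, ∀ g, β (x * g * x⁻¹) = β g
  conjC : ∀ x ∈ Subgroup.centralizer (P : Set G), ∀ g, β (x * g * x⁻¹) = β g

theorem IsStableFun.classFun {P : Subgroup G} {β : G → ℂ} (h : IsStableFun M P β) :
    IsClassFunction (Subgroup.centralizer (P : Set G))
      fun c : Subgroup.centralizer (P : Set G) => β (c : G) :=
  fun c x => h.conjC x x.2 c

variable [M.IsPrime]

theorem isStableFun_of_classFun {P : Subgroup G} {β : G → ℂ} (hβ : IsClassFunction G β)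
    (hl : ∀ g, MemLocalRing M (β g)) : IsStableFun M P β :=
  ⟨hl, fun x _ g => hβ g x, fun x _ g => hβ g x⟩

theorem isStableFun_deltaOne [Fintype G] (P : Subgroup G) :
    IsStableFun M P (deltaOne : G → ℂ) :=
  isStableFun_of_classFun (isClassFunction_classInd 1) (memLocalRing_classInd 1)

theorem isStableFun_blockCoeff [Fintype G] {B : Set (IrrCharacter G)} (hB : IsPBlock M B)
    (P : Subgroup G) : IsStableFun M P (blockCoeff B) :=
  isStableFun_of_classFun (isClassFunction_blockCoeff B) (IsPBlock.memLocalRing_blockCoeff hB)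

/-- The truncated idempotent of a `P`-stable block of `C_G(Q)` is stable. -/
theorem isStableFun_subgroupBlockCoeff [Fintype G] {P Q : Subgroup G} (hQP : Q ≤ P)
    {f : Set (IrrCharacter (Subgroup.centralizer (Q : Set G)))} (hf : IsPBlock M f)
    (hst : ∀ x ∈ P, StabilizesBlock (Subgroup.centralizer (Q : Set G)) f x) :
    IsStableFun M P (subgroupBlockCoeff (Subgroup.centralizer (Q : Set G)) f) := by
  classical
  refine ⟨fun g => ?_, fun x hx g => ?_, fun x hx g => ?_⟩
  · rw [subgroupBlockCoeff_eq]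
    by_cases hg : g ∈ Subgroup.centralizer (Q : Set G)
    · exact (extendByZero_apply _ (blockCoeff f) ⟨g, hg⟩).symm ▸
        IsPBlock.memLocalRing_blockCoeff hf _
    · exact (extendByZero_eq_zero _ (blockCoeff f) hg).symm ▸ memLocalRing_zero
  · obtain ⟨hn, he⟩ := stabilizesBlock_iff.mp (hst x hx)
    conv_lhs => rw [← he]
    exact subgroupBlockCoeff_conjSet (conj_mem_iff_of_mem_normalizer hn) f g
  · have hxC := Subgroup.centralizer_le (SetLike.coe_subset_coe.mpr hQP) hx
    conv_lhs => rw [← conjSet_of_mem hxC f]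
    exact subgroupBlockCoeff_conjSet (conj_mem_iff_of_mem hxC) f g

variable [Fintype G]

theorem brauerOmega_eq (P : Subgroup G) [Fintype (Subgroup.centralizer (P : Set G))] (β : G → ℂ)
    (ξ : Subgroup.centralizer (P : Set G) → ℂ) :
    brauerOmega P β ξ = omega ξ (fun c : Subgroup.centralizer (P : Set G) => β (c : G)) := by
  rw [brauerOmega, finsum_eq_sum_of_fintype, omega, Finset.sum_div]

theorem memLocalRing_brauerOmega {P : Subgroup G} {β : G → ℂ} (h : IsStableFun M P β)
    (ξ : IrrCharacter (Subgroup.centralizer (P : Set G))) :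
    MemLocalRing M (brauerOmega P β (ξ : Subgroup.centralizer (P : Set G) → ℂ)) := by
  classical
  rw [brauerOmega_eq]
  exact memLocalRing_omega ξ h.classFun fun c => h.loc c

/-- An element congruent to zero has central characters congruent to zero. -/
theorem memLocalIdeal_omega {H : Type*} [Group H] [Fintype H] (χ : IrrCharacter H) {f : H → ℂ}
    (hf : IsClassFunction H f) (hl : ∀ h, MemLocalIdeal M (f h)) :
    MemLocalIdeal M (omega (χ : H → ℂ) f) := by
  classical
  have : Fintype (ConjClasses H) := Fintype.ofFinite _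
  rw [omega_eq_sum_classes χ hf]
  exact memLocalIdeal_sum _ _ fun c _ =>
    memLocalIdeal_mul_right (hl _) (memLocalRing_centralChar χ _)

theorem res_omega_congr {H : Type*} [Group H] [Fintype H] (χ : IrrCharacter H) {f f' : H → ℂ}
    (hf : IsClassFunction H f) (hf' : IsClassFunction H f') (hl : ∀ h, MemLocalRing M (f h))
    (hl' : ∀ h, MemLocalRing M (f' h)) (hd : ∀ h, MemLocalIdeal M (f h - f' h)) :
    res M (omega (χ : H → ℂ) f) = res M (omega (χ : H → ℂ) f') := by
  rw [res_eq_iff (memLocalRing_omega χ hf hl) (memLocalRing_omega χ hf' hl')]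
  have h := memLocalIdeal_omega χ (f := fun h => f h - f' h)
    (fun a b => by show f _ - f' _ = f a - f' a; rw [hf a b, hf' a b]) hd
  rw [omega] at h
  simpa [omega, sub_mul, Finset.sum_sub_distrib, sub_div] using h

theorem res_brauerOmega_congr {P : Subgroup G} {β β' : G → ℂ} (h : IsStableFun M P β)
    (h' : IsStableFun M P β') (ξ : IrrCharacter (Subgroup.centralizer (P : Set G)))
    (hd : ∀ c ∈ Subgroup.centralizer (P : Set G), MemLocalIdeal M (β c - β' c)) :
    res M (brauerOmega P β (ξ : Subgroup.centralizer (P : Set G) → ℂ)) =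
      res M (brauerOmega P β' (ξ : Subgroup.centralizer (P : Set G) → ℂ)) := by
  classical
  rw [brauerOmega_eq, brauerOmega_eq]
  exact res_omega_congr ξ h.classFun h'.classFun (fun c => h.loc c) (fun c => h'.loc c)
    fun c => hd c c.2

theorem res_brauerOmega_sameBlock {P : Subgroup G} {β : G → ℂ} (h : IsStableFun M P β)
    {ξ η : IrrCharacter (Subgroup.centralizer (P : Set G))}
    (hs : SameBlock M (ξ : Subgroup.centralizer (P : Set G) → ℂ)
      (η : Subgroup.centralizer (P : Set G) → ℂ)) :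
    res M (brauerOmega P β (ξ : Subgroup.centralizer (P : Set G) → ℂ)) =
      res M (brauerOmega P β (η : Subgroup.centralizer (P : Set G) → ℂ)) := by
  classical
  rw [res_eq_iff (memLocalRing_brauerOmega h ξ) (memLocalRing_brauerOmega h η), brauerOmega_eq,
    brauerOmega_eq]
  exact sub_mem_localIdeal_of_sameBlock hs h.classFun fun c => h.loc c

theorem res_brauerOmega_deltaOne (P : Subgroup G)
    (ξ : IrrCharacter (Subgroup.centralizer (P : Set G))) :
    res M (brauerOmega P (deltaOne : G → ℂ) (ξ : Subgroup.centralizer (P : Set G) → ℂ)) = 1 := by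
  classical
  rw [brauerOmega_eq, show (fun c : Subgroup.centralizer (P : Set G) => deltaOne (c : G)) =
    deltaOne from funext fun c => by simp [deltaOne_apply], omega_deltaOne, res_one]

theorem res_brauerOmega_zero (P : Subgroup G) (ξ : Subgroup.centralizer (P : Set G) → ℂ) :
    res M (brauerOmega P (fun _ : G => (0 : ℂ)) ξ) = 0 := by
  simp [brauerOmega, res_zero]

theorem memLocalIdeal_res_eq_one {z : ℂ} (hz : MemLocalRing M z) :
    MemLocalIdeal M (z - 1) ↔ res M z = 1 := by
  rw [← res_one, res_eq_iff hz memLocalRing_one]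

theorem IsStableFun.conv {P : Subgroup G} {β₁ β₂ : G → ℂ} (h₁ : IsStableFun M P β₁)
    (h₂ : IsStableFun M P β₂) : IsStableFun M P (conv β₁ β₂) := by
  classical
  have key : ∀ x : G, (∀ g, β₁ (x * g * x⁻¹) = β₁ g) → (∀ g, β₂ (x * g * x⁻¹) = β₂ g) →
      ∀ g, Blocks.conv β₁ β₂ (x * g * x⁻¹) = Blocks.conv β₁ β₂ g := fun x e₁ e₂ g => by
    refine (Fintype.sum_equiv (MulAut.conj x).toEquiv _ _ fun y => ?_).symm
    show _ = β₁ (x * y * x⁻¹) * β₂ ((x * y * x⁻¹)⁻¹ * (x * g * x⁻¹))
    rw [e₁, show (x * y * x⁻¹)⁻¹ * (x * g * x⁻¹) = x * (y⁻¹ * g) * x⁻¹ by group, e₂]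
  exact ⟨fun g => memLocalRing_sum _ _ fun y _ => memLocalRing_mul (h₁.loc y) (h₂.loc _),
    fun x hx => key x (h₁.conjP x hx) (h₂.conjP x hx),
    fun x hx => key x (h₁.conjC x hx) (h₂.conjC x hx)⟩

/-- The truncation to `C_G(P)` is multiplicative modulo the ideal on stable elements. -/
theorem restrict_conv_congr (hM : IsPModular p M) {P : Subgroup G} (hP : IsPGroup p P)
    [Fintype (Subgroup.centralizer (P : Set G))] {β₁ β₂ : G → ℂ}
    (l₁ : ∀ g, MemLocalRing M (β₁ g)) (l₂ : ∀ g, MemLocalRing M (β₂ g))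
    (i₁ : ∀ x ∈ P, ∀ g, β₁ (x * g * x⁻¹) = β₁ g) (i₂ : ∀ x ∈ P, ∀ g, β₂ (x * g * x⁻¹) = β₂ g)
    (c : Subgroup.centralizer (P : Set G)) :
    MemLocalIdeal M (conv β₁ β₂ c - conv (fun y : Subgroup.centralizer (P : Set G) => β₁ y)
      (fun y : Subgroup.centralizer (P : Set G) => β₂ y) c) := by
  classical
  let act : MulAction P G := MulAction.compHom G ((MulAut.conj : G →* MulAut G).comp P.subtype)
  have hfix : ∀ y : G, y ∈ MulAction.fixedPoints P G ↔ y ∈ Subgroup.centralizer (P : Set G) :=
    fun y => by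
      rw [Subgroup.mem_centralizer_iff]
      exact ⟨fun H q hq => mul_inv_eq_iff_eq_mul.mp (H ⟨q, hq⟩),
        fun H q => mul_inv_eq_iff_eq_mul.mpr (H q q.2)⟩
  have hkey := memLocalIdeal_sum_sub_fixed (α := G) hM hP
    (f := fun y => β₁ y * β₂ (y⁻¹ * c))
    (fun y => memLocalRing_mul (l₁ y) (l₂ _)) (fun q y => by
      show β₁ ((q : G) * y * (q : G)⁻¹) * β₂ (((q : G) * y * (q : G)⁻¹)⁻¹ * c) = _
      have hq : (q : G) * c = c * q := Subgroup.mem_centralizer_iff.mp c.2 q q.2
      rw [i₁ q q.2, show ((q : G) * y * (q : G)⁻¹)⁻¹ * c = (q : G) * (y⁻¹ * c) * (q : G)⁻¹ by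
        calc ((q : G) * y * (q : G)⁻¹)⁻¹ * c
            = (q : G) * y⁻¹ * (q : G)⁻¹ * c := by group
          _ = (q : G) * y⁻¹ * (q : G)⁻¹ * ((q : G) * c * (q : G)⁻¹) := by
              rw [hq, mul_inv_cancel_right]
          _ = _ := by group, i₂ q q.2])
  have hconv : conv (fun y : Subgroup.centralizer (P : Set G) => β₁ y)
      (fun y : Subgroup.centralizer (P : Set G) => β₂ y) c =
      ∑ y : G with y ∈ MulAction.fixedPoints P G, β₁ y * β₂ (y⁻¹ * c) := by
    rw [Finset.sum_subtype _ (p := fun y => y ∈ Subgroup.centralizer (P : Set G))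
      (fun y => by simp [hfix])]
    rfl
  rw [hconv]
  exact hkey

/-- Central characters of truncations are multiplicative. -/
theorem res_brauerOmega_conv (hM : IsPModular p M) {P : Subgroup G} (hP : IsPGroup p P)
    {β₁ β₂ : G → ℂ} (h₁ : IsStableFun M P β₁) (h₂ : IsStableFun M P β₂)
    (ξ : IrrCharacter (Subgroup.centralizer (P : Set G))) :
    res M (brauerOmega P (conv β₁ β₂) (ξ : Subgroup.centralizer (P : Set G) → ℂ)) =
      res M (brauerOmega P β₁ (ξ : Subgroup.centralizer (P : Set G) → ℂ)) *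
        res M (brauerOmega P β₂ (ξ : Subgroup.centralizer (P : Set G) → ℂ)) := by
  classical
  rw [← res_mul (memLocalRing_brauerOmega h₁ ξ) (memLocalRing_brauerOmega h₂ ξ), brauerOmega_eq,
    brauerOmega_eq, brauerOmega_eq, ← omega_conv ξ h₁.classFun h₂.classFun]
  exact res_omega_congr ξ (h₁.conv h₂).classFun (isClassFunction_conv h₁.classFun h₂.classFun)
    (fun c => (h₁.conv h₂).loc c)
    (fun c => memLocalRing_sum _ _ fun y _ => memLocalRing_mul (h₁.loc _) (h₂.loc _))
    fun c => restrict_conv_congr hM hP h₁.loc h₂.loc h₁.conjP h₂.conjP c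

theorem brauerOmega_sum (P : Subgroup G) {ι : Type*} (s : Finset ι) (β : ι → G → ℂ)
    (ξ : Subgroup.centralizer (P : Set G) → ℂ) :
    brauerOmega P (fun g => ∑ i ∈ s, β i g) ξ = ∑ i ∈ s, brauerOmega P (β i) ξ := by
  classical
  simp only [brauerOmega, finsum_eq_sum_of_fintype, Finset.sum_mul, Finset.sum_div]
  rw [Finset.sum_comm]

/-- Transport of central characters of truncations along conjugation. -/
theorem brauerOmega_conj {x : G} {P P' : Subgroup G}
    (h : ∀ g, x * g * x⁻¹ ∈ Subgroup.centralizer (P' : Set G) ↔ g ∈ Subgroup.centralizer (P : Set G))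
    {β β' : G → ℂ} (hβ : ∀ g, β' (x * g * x⁻¹) = β g)
    (ξ : IrrCharacter (Subgroup.centralizer (P : Set G))) :
    brauerOmega P' β' (conjIrr h ξ : Subgroup.centralizer (P' : Set G) → ℂ) =
      brauerOmega P β (ξ : Subgroup.centralizer (P : Set G) → ℂ) := by
  rw [brauerOmega, brauerOmega, ← finsum_comp_equiv (conjIso h).toEquiv]
  refine finsum_congr fun c => ?_
  show β' (x * c * x⁻¹) * (conjIrr h ξ : Subgroup.centralizer (P' : Set G) → ℂ) (conjIso h c) / (conjIrr h ξ : Subgroup.centralizer (P' : Set G) → ℂ) 1 = _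
  rw [hβ, conjIrr_apply h ξ (c := c) (c' := conjIso h c) rfl,
    conjIrr_apply h ξ (c := 1) (c' := 1) (by simp)]

theorem conv_extendByZero (N : Subgroup G) [Fintype N] (a b : N → ℂ) :
    conv (extendByZero N a) (extendByZero N b) = extendByZero N (conv a b) := by
  funext z
  rw [conv, sum_extendByZero_mul]
  by_cases hz : z ∈ N
  · rw [show z = ((⟨z, hz⟩ : N) : G) from rfl, extendByZero_apply, conv]
    exact Finset.sum_congr rfl fun k _ => by
      rw [← Subgroup.coe_inv, ← Subgroup.coe_mul, extendByZero_apply]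
  · rw [extendByZero_eq_zero N _ hz]
    refine Finset.sum_eq_zero fun k _ => ?_
    rw [extendByZero_eq_zero N _ fun h => hz ?_, mul_zero]
    simpa using N.mul_mem k.2 h

theorem conv_blockCoeff_inter (S T : Set (IrrCharacter G)) :
    conv (blockCoeff S) (blockCoeff T) = blockCoeff (S ∩ T) := by
  rw [← ofOmega_indVec, ← ofOmega_indVec, ← ofOmega_indVec, ← ofOmega_mul]
  congr 1
  funext χ
  by_cases hS : χ ∈ S <;> by_cases hT : χ ∈ T <;> simp [indVec, hS, hT]

theorem conv_subgroupBlockCoeff_self (K : Subgroup G) (f : Set (IrrCharacter K)) :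
    conv (subgroupBlockCoeff K f) (subgroupBlockCoeff K f) = subgroupBlockCoeff K f := by
  classical
  rw [subgroupBlockCoeff_eq, conv_extendByZero, conv_blockCoeff_self]

theorem conv_subgroupBlockCoeff_ne {K : Subgroup G} {f f' : Set (IrrCharacter K)}
    (hf : IsPBlock M f) (hf' : IsPBlock M f') (hne : f ≠ f') :
    conv (subgroupBlockCoeff K f) (subgroupBlockCoeff K f') = fun _ : G => (0 : ℂ) := by
  classical
  have hd : f ∩ f' = ∅ := Set.eq_empty_of_forall_notMem fun χ hχ =>
    hne (IsPBlock.eq_of_mem_of_mem hf hf' hχ.1 hχ.2)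
  rw [subgroupBlockCoeff_eq, subgroupBlockCoeff_eq, conv_extendByZero, conv_blockCoeff_inter, hd]
  funext g
  by_cases hg : g ∈ K
  · refine (extendByZero_apply K _ ⟨g, hg⟩).trans ?_
    simp [blockCoeff]
  · exact extendByZero_eq_zero K _ hg

end CfsgLib.Blocks
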