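import Mathlib

/-!
# Sylow subgroups of centralizers, as subgroups of the whole group
-/

set_option autoImplicit false
set_option linter.unusedSectionVars false

namespace CfsgLib.Blocks

variable {G : Type*} [Group G] [Finite G] {p : ℕ} [hp : Fact p.Prime]

/-- `D` is a Sylow `p`-subgroup of the centralizer of `g`. -/
def IsSylowCent (p : ℕ) (g : G) (D : Subgroup G) : Prop :=
  D ≤ Subgroup.centralizer ({g} : Set G) ∧
    Nat.card D = p ^ (Nat.card (Subgroup.centralizer ({g} : Set G))).factorization p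

theorem IsSylowCent.isPGroup {g : G} {D : Subgroup G} (h : IsSylowCent p g D) : IsPGroup p D :=
  IsPGroup.of_card h.2

theorem isSylowCent_sylow {g : G} (P : Sylow p (Subgroup.centralizer ({g} : Set G))) :
    IsSylowCent p g ((P : Subgroup (Subgroup.centralizer ({g} : Set G))).map
      (Subgroup.centralizer ({g} : Set G)).subtype) := by
  refine ⟨Subgroup.map_subtype_le _, ?_⟩
  rw [Subgroup.card_map_of_injective (Subgroup.subtype_injective _)]
  exact P.card_eq_multiplicity

theorem exists_isSylowCent (g : G) : ∃ D : Subgroup G, IsSylowCent p g D :=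
  ⟨_, isSylowCent_sylow (default : Sylow p (Subgroup.centralizer ({g} : Set G)))⟩

theorem isSylowCent_iff {g : G} {D : Subgroup G} :
    IsSylowCent p g D ↔ ∃ P : Sylow p (Subgroup.centralizer ({g} : Set G)),
      D = (P : Subgroup (Subgroup.centralizer ({g} : Set G))).map
        (Subgroup.centralizer ({g} : Set G)).subtype := by
  refine ⟨fun h => ?_, fun ⟨P, hP⟩ => hP ▸ isSylowCent_sylow P⟩
  have hc : Nat.card (D.subgroupOf (Subgroup.centralizer ({g} : Set G))) =
      p ^ (Nat.card (Subgroup.centralizer ({g} : Set G))).factorization p := by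
    rw [Nat.card_congr (Subgroup.subgroupOfEquivOfLe h.1).toEquiv]
    exact h.2
  refine ⟨Sylow.ofCard _ hc, ?_⟩
  rw [Sylow.coe_ofCard, Subgroup.subgroupOf_map_subtype, inf_eq_left.mpr h.1]

theorem mem_centralizer_conj {g x z : G} :
    x * z * x⁻¹ ∈ Subgroup.centralizer ({x * g * x⁻¹} : Set G) ↔
      z ∈ Subgroup.centralizer ({g} : Set G) := by
  simp only [Subgroup.mem_centralizer_singleton_iff]
  constructor <;> intro h
  · calc z * g = x⁻¹ * (x * z * x⁻¹ * (x * g * x⁻¹)) * x := by group
      _ = x⁻¹ * (x * g * x⁻¹ * (x * z * x⁻¹)) * x := by rw [h]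
      _ = g * z := by group
  · calc x * z * x⁻¹ * (x * g * x⁻¹) = x * (z * g) * x⁻¹ := by group
      _ = x * (g * z) * x⁻¹ := by rw [h]
      _ = x * g * x⁻¹ * (x * z * x⁻¹) := by group

theorem map_conj_centralizer (g x : G) :
    (Subgroup.centralizer ({g} : Set G)).map (MulAut.conj x).toMonoidHom =
      Subgroup.centralizer ({x * g * x⁻¹} : Set G) := by
  ext z
  rw [Subgroup.mem_map_equiv, ← mem_centralizer_conj (x := x)]
  simp [mul_assoc]

theorem card_map_conj (D : Subgroup G) (x : G) :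
    Nat.card (D.map (MulAut.conj x).toMonoidHom) = Nat.card D :=
  Subgroup.card_map_of_injective (MulAut.conj x).injective

theorem IsSylowCent.conj {g : G} {D : Subgroup G} (h : IsSylowCent p g D) (x : G) :
    IsSylowCent p (x * g * x⁻¹) (D.map (MulAut.conj x).toMonoidHom) := by
  refine ⟨map_conj_centralizer g x ▸ Subgroup.map_mono h.1, ?_⟩
  rw [card_map_conj, ← map_conj_centralizer g x, card_map_conj]
  exact h.2

/-- Every `p`-subgroup of a centralizer is conjugate into a given Sylow subgroup of it. -/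
theorem IsSylowCent.exists_conj_le {g : G} {D Q : Subgroup G} (h : IsSylowCent p g D)
    (hQ : IsPGroup p Q) (hQg : Q ≤ Subgroup.centralizer ({g} : Set G)) :
    ∃ x ∈ Subgroup.centralizer ({g} : Set G), Q ≤ D.map (MulAut.conj x).toMonoidHom := by
  obtain ⟨P, rfl⟩ := isSylowCent_iff.mp h
  have hQ' : IsPGroup p (Q.subgroupOf (Subgroup.centralizer ({g} : Set G))) :=
    hQ.of_equiv (Subgroup.subgroupOfEquivOfLe hQg).symm
  obtain ⟨R, hR⟩ := hQ'.exists_le_sylow
  obtain ⟨c, hc⟩ := MulAction.exists_smul_eq (Subgroup.centralizer ({g} : Set G)) P R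
  refine ⟨c, c.2, fun q hq => ?_⟩
  have hmem : (⟨q, hQg hq⟩ : Subgroup.centralizer ({g} : Set G)) ∈
      (R : Subgroup (Subgroup.centralizer ({g} : Set G))) := hR (Subgroup.mem_subgroupOf.mpr hq)
  rw [← hc, Sylow.coe_subgroup_smul, Subgroup.mem_pointwise_smul_iff_inv_smul_mem] at hmem
  rw [Subgroup.mem_map_equiv]
  refine Subgroup.mem_map.mpr ⟨_, hmem, ?_⟩
  simp [MulAut.smul_def, MulAut.conj_inv_apply]

/-- A `p`-subgroup centralizing a conjugate of `g` is conjugate into `D`. -/
theorem IsSylowCent.exists_conj_le_of_isConj {g y : G} {D Q : Subgroup G} (h : IsSylowCent p g D)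
    (hgy : IsConj g y) (hQ : IsPGroup p Q) (hQy : Q ≤ Subgroup.centralizer ({y} : Set G)) :
    ∃ x : G, Q ≤ D.map (MulAut.conj x).toMonoidHom := by
  obtain ⟨a, rfl⟩ := isConj_iff.mp hgy
  obtain ⟨x, -, hx⟩ := IsSylowCent.exists_conj_le (IsSylowCent.conj h a) hQ hQy
  refine ⟨x * a, ?_⟩
  rw [Subgroup.map_map] at hx
  convert hx using 2
  ext z
  simp [mul_assoc]

end CfsgLib.Blocks
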