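import Cfsg.Agent.Lib.Blocks.ConjBlock
import Cfsg.Agent.Lib.Blocks.Sylow
import Cfsg.Agent.Lib.Blocks.Stable
import Cfsg.Agent.Lib.Coprime.Action

/-!
# A block whose idempotent is the idempotent of a block of a normal subgroup
-/

set_option autoImplicit false
set_option linter.unusedSectionVars false

namespace CfsgLib.Blocks

open Cfsg
open scoped ComplexConjugate CfsgLib.Char

variable {p : ℕ} {M : Ideal AlgInt} {G : Type*} [Group G] [Fintype G]
  {N : Subgroup G} [N.Normal] {b : Set (IrrCharacter N)} {B : Set (IrrCharacter G)}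

/-- The central characters agree on elements of the centre supported in `N`. -/
theorem res_omega_restrict [M.IsPrime] [Fintype N] (hb : IsPBlock M b) (hB : IsPBlock M B)
    (hc : ∀ g, blockCoeff B g = subgroupBlockCoeff N b g) {χ : IrrCharacter G} (hχ : χ ∈ B)
    {ξ : IrrCharacter N} (hξ : ξ ∈ b) {v : G → ℂ} (hv : IsClassFunction G v)
    (hl : ∀ g, MemLocalRing M (v g)) (hsupp : ∀ g, g ∉ N → v g = 0) :
    res M (omega (χ : G → ℂ) v) = res M (omega (ξ : N → ℂ) fun n : N => v (n : G)) := by
  classical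
  have hE : blockCoeff B = extendByZero N (blockCoeff b) := by
    funext g; rw [hc, subgroupBlockCoeff_eq]
  set vN : N → ℂ := fun n => v (n : G)
  have hvN : IsClassFunction N vN := fun a x => hv (a : G) (x : G)
  set c₀ := omega (ξ : N → ℂ) vN
  have hc₀ : MemLocalRing M c₀ := memLocalRing_omega ξ hvN fun n => hl _
  set w : N → ℂ := fun n => vN n - c₀ * deltaOne n
  have hw : IsClassFunction N w := fun a x => by
    show vN _ - c₀ * deltaOne _ = vN a - c₀ * deltaOne a
    rw [hvN a x, show deltaOne (x * a * x⁻¹) = deltaOne a from isClassFunction_classInd 1 a x]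
  have hwl : ∀ n, MemLocalRing M (w n) := fun n =>
    memLocalRing_sub (hl _) (memLocalRing_mul hc₀ (memLocalRing_classInd _ _))
  set W : G → ℂ := fun g => v g - c₀ * deltaOne g
  have hW : IsClassFunction G W := fun a x => by
    show v _ - c₀ * deltaOne _ = v a - c₀ * deltaOne a
    rw [hv a x, show deltaOne (x * a * x⁻¹) = deltaOne a from isClassFunction_classInd 1 a x]
  have hWl : ∀ g, MemLocalRing M (W g) := fun g =>
    memLocalRing_sub (hl _) (memLocalRing_mul hc₀ (memLocalRing_classInd _ _))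
  have homega : ∀ {H : Type _} [Group H] [Fintype H] (η : IrrCharacter H) (u : H → ℂ),
      omega (η : H → ℂ) (fun h => u h - c₀ * deltaOne h) = omega (η : H → ℂ) u - c₀ := by
    intro H _ _ η u
    have h1 := omega_deltaOne η
    rw [omega] at h1
    simp only [omega, sub_mul, Finset.sum_sub_distrib, sub_div, mul_assoc, ← Finset.mul_sum,
      mul_div_assoc, h1, mul_one]
  have hWext : W = extendByZero N w := funext fun g => by
    by_cases hg : g ∈ N
    · refine Eq.trans ?_ (extendByZero_apply N w ⟨g, hg⟩).symm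
      show v g - c₀ * deltaOne g = v g - c₀ * deltaOne (⟨g, hg⟩ : N)
      simp [deltaOne_apply, Subtype.ext_iff]
    · rw [extendByZero_eq_zero N w hg]
      show v g - c₀ * deltaOne g = 0
      have h1 : g ≠ 1 := fun h => hg (h ▸ N.one_mem)
      simp [hsupp g hg, deltaOne_apply, h1]
  have hEcls := isClassFunction_blockCoeff B
  have hEl := IsPBlock.memLocalRing_blockCoeff hB
  have hxc : IsClassFunction N (conv w (blockCoeff b)) :=
    isClassFunction_conv hw (isClassFunction_blockCoeff b)
  have hxl : ∀ n, MemLocalRing M (conv w (blockCoeff b) n) := fun n => memLocalRing_sum _ _ fun y _ =>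
    memLocalRing_mul (hwl _) (IsPBlock.memLocalRing_blockCoeff hb _)
  have hXc : IsClassFunction G (conv W (blockCoeff B)) := isClassFunction_conv hW hEcls
  have hXl : ∀ g, MemLocalRing M (conv W (blockCoeff B) g) := fun g => memLocalRing_sum _ _ fun y _ =>
    memLocalRing_mul (hWl _) (hEl _)
  set x : ZO M N := toZO (conv w (blockCoeff b)) hxc hxl
  set X : ZO M G := toZO (conv W (blockCoeff B)) hXc hXl
  obtain ⟨n, hn⟩ : IsNilpotent (Ideal.Quotient.mk (nullIdeal M N) x) := by
    refine isNilpotent_of_resQuot_eq_zero fun η => ?_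
    rw [resQuot_mk]
    show res M (omega (η : N → ℂ) (conv w (blockCoeff b))) = 0
    rw [omega_conv η hw (isClassFunction_blockCoeff b), omega_blockCoeff]
    by_cases hη : η ∈ b
    · rw [indVec_of_mem hη, mul_one, homega, res_eq_zero_iff
        (memLocalRing_sub (memLocalRing_omega η hvN fun n => hl _) hc₀)]
      exact sub_mem_localIdeal_of_sameBlock (IsPBlock.sameBlock hb hη hξ) hvN fun n => hl _
    · rw [indVec_of_notMem hη, mul_zero, res_zero]
  rw [← map_pow, Ideal.Quotient.eq_zero_iff_mem, mem_nullIdeal] at hn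
  have hpow : ∀ k, ofOmega ((X ^ (k + 1) : ZO M G) : IrrCharacter G → ℂ) =
      extendByZero N (ofOmega ((x ^ (k + 1) : ZO M N) : IrrCharacter N → ℂ)) := fun k => by
    have h1 : ofOmega (X : IrrCharacter G → ℂ) =
        extendByZero N (ofOmega (x : IrrCharacter N → ℂ)) := by
      rw [ofOmega_toZO hXc hXl, ofOmega_toZO hxc hxl, hWext, hE, conv_extendByZero]
    induction k with
    | zero => simpa using h1
    | succ k ih =>
      rw [pow_succ X, pow_succ x, MulMemClass.coe_mul, MulMemClass.coe_mul, ofOmega_mul, ofOmega_mul,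
        ih, h1, conv_extendByZero]
  have hn1 : ∀ g, MemLocalIdeal M (ofOmega ((X ^ (n + 1) : ZO M G) : IrrCharacter G → ℂ) g) := fun g => by
    rw [hpow]
    by_cases hg : g ∈ N
    · refine (extendByZero_apply N _ ⟨g, hg⟩).symm ▸ ?_
      exact Ideal.mul_mem_right x (nullIdeal M N) (mem_nullIdeal.mpr hn) ⟨g, hg⟩
    · rw [extendByZero_eq_zero N _ hg]
      exact memLocalIdeal_zero
  have h2 := memLocalIdeal_omega χ (isClassFunction_ofOmega _) hn1
  rw [omega_ofOmega] at h2
  have hX1 : (X : IrrCharacter G → ℂ) χ = omega (χ : G → ℂ) v - c₀ := by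
    show omega (χ : G → ℂ) (conv W (blockCoeff B)) = _
    rw [omega_conv χ hW hEcls, omega_blockCoeff, indVec_of_mem hχ, mul_one, homega]
  rw [SubmonoidClass.coe_pow, Pi.pow_apply, hX1] at h2
  exact (res_eq_iff (memLocalRing_omega χ hv hl) hc₀).mpr
    (memLocalIdeal_of_pow (memLocalRing_sub (memLocalRing_omega χ hv hl) hc₀) h2)

theorem centralChar_conjIrr {x : G} {K K' : Subgroup G} (h : ∀ g, x * g * x⁻¹ ∈ K' ↔ g ∈ K)
    (ξ : IrrCharacter K) {c : K} {c' : K'} (hc : (c' : G) = x * (c : G) * x⁻¹) :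
    centralChar (conjIrr h ξ : K' → ℂ) c' = centralChar (ξ : K → ℂ) c := by
  rw [centralChar, centralChar, conjIrr_apply h ξ hc,
    conjIrr_apply h ξ (c := 1) (c' := 1) (by simp),
    show (Subgroup.centralizer ({c'} : Set K')).index =
      (Subgroup.centralizer ({c} : Set K)).index from ?_]
  have hcc : conjIso h c = c' := Subtype.ext hc.symm
  rw [← hcc, ← Subgroup.index_map_equiv _ (conjIso h)]
  congr 1
  ext y
  simp only [Subgroup.mem_centralizer_singleton_iff, Subgroup.mem_map]
  constructor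
  · intro hy
    refine ⟨(conjIso h).symm y, ?_, (conjIso h).apply_symm_apply y⟩
    apply (conjIso h).injective
    simpa using hy
  · rintro ⟨z, hz, rfl⟩
    have := congrArg (conjIso h) hz
    simpa using this

/-- A class of `N` at which the idempotent of a stable block `b` and the central character of a
character with the congruences of `b` are units is a defect class of `b`. -/
theorem defect_data_of_congr [M.IsPrime] [hp : Fact p.Prime] (hM : IsPModular p M) [Fintype N]
    (hb : IsPBlock M b) (hstab : ∀ x : G, conjSet x N N b = b) {χ : IrrCharacter G} {c : G}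
    (hcN : c ∈ N) (hbl : MemLocalRing M (blockCoeff b ⟨c, hcN⟩))
    (hbu : ¬ MemLocalIdeal M (blockCoeff b ⟨c, hcN⟩))
    (hω : ∀ ξ ∈ b, res M (centralChar (χ : G → ℂ) c) =
      res M (omega (ξ : N → ℂ) fun n : N => classInd c (n : G)))
    (hu : ¬ MemLocalIdeal M (centralChar (χ : G → ℂ) c)) :
    IsDefectClass M b ⟨c, hcN⟩ ∧ ¬ p ∣ (N ⊔ Subgroup.centralizer ({c} : Set G)).index := by
  classical
  have : Fintype (ConjClasses N) := Fintype.ofFinite _
  set vN : N → ℂ := fun n => classInd c (n : G)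
  have hvN : IsClassFunction N vN := fun a x => isClassFunction_classInd c (a : G) (x : G)
  set S : Finset (ConjClasses N) := {k | IsConj c ((Quotient.out k : N) : G)}
  -- the class sum of `c` evaluated on `N`
  have hexp : ∀ η : IrrCharacter N, omega (η : N → ℂ) vN =
      ∑ k ∈ S, centralChar (η : N → ℂ) (Quotient.out k) := fun η => by
    rw [omega_eq_sum_classes η hvN, Finset.sum_filter]
    refine Finset.sum_congr rfl fun k _ => ?_
    show classInd c _ * _ = _
    rw [classInd]
    split_ifs <;> simp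
  have hS : ∀ k ∈ S, ∃ x : G, ((Quotient.out k : N) : G) = x * c * x⁻¹ := fun k hk => by
    obtain ⟨x, hx⟩ := isConj_iff.mp (Finset.mem_filter.mp hk).2
    exact ⟨x, hx.symm⟩
  have hstab' : ∀ ξ ∈ b, ∀ k ∈ S,
      res M (centralChar (ξ : N → ℂ) (Quotient.out k)) =
        res M (centralChar (ξ : N → ℂ) ⟨c, hcN⟩) := fun ξ hξ k hk => by
    obtain ⟨x, hx⟩ := hS k hk
    have h := fun g => conj_mem_iff_of_mem_normalizer
      (K := N) (x := x⁻¹) (by rw [Subgroup.normalizer_eq_top]; exact Subgroup.mem_top _) g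
    rw [← centralChar_conjIrr h ξ (c := Quotient.out k) (c' := ⟨c, hcN⟩) (by
      show c = _
      rw [hx]; group)]
    exact (res_eq_iff (memLocalRing_centralChar _ _) (memLocalRing_centralChar _ _)).mpr
      (IsPBlock.sameBlock hb (hstab x⁻¹ ▸ conjIrr_mem_conjSet h hξ) hξ _)
  have hres : ∀ ξ ∈ b, res M (centralChar (χ : G → ℂ) c) =
      (S.card : ResField M) * res M (centralChar (ξ : N → ℂ) ⟨c, hcN⟩) := fun ξ hξ => by
    rw [hω ξ hξ, hexp,
      res_sum S (fun k => centralChar (ξ : N → ℂ) (Quotient.out k))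
        fun k _ => memLocalRing_centralChar _ _,
      Finset.sum_congr rfl (hstab' ξ hξ), Finset.sum_const, nsmul_eq_mul]
  have hne : res M (centralChar (χ : G → ℂ) c) ≠ 0 := fun h =>
    hu ((res_eq_zero_iff (memLocalRing_centralChar χ c)).mp h)
  refine ⟨⟨hbl, hbu, fun ξ hξ h0 => hne ?_⟩, ?_⟩
  · rw [hres ξ hξ, res_eq_zero h0, mul_zero]
  intro hdvd
  obtain ⟨ξ, hξ⟩ := IsPBlock.nonempty hb
  refine hne ?_
  rw [hres ξ hξ]
  suffices hm : S.card = (N ⊔ Subgroup.centralizer ({c} : Set G)).index by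
    haveI := charP_resField hM
    rw [hm, (CharP.cast_eq_zero_iff (ResField M) p _).mpr hdvd, zero_mul]
  -- counting, with the trivial character
  have hk : ∀ k ∈ S, (Subgroup.centralizer ({Quotient.out k} : Set N)).index =
      (Subgroup.centralizer ({⟨c, hcN⟩} : Set N)).index := fun k hk => by
    obtain ⟨x, hx⟩ := hS k hk
    have h := fun g => conj_mem_iff_of_mem_normalizer
      (K := N) (x := x) (by rw [Subgroup.normalizer_eq_top]; exact Subgroup.mem_top _) g
    have h1 := centralChar_conjIrr h (trivIrr N) (c := ⟨c, hcN⟩) (c' := Quotient.out k) hx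
    rw [show conjIrr h (trivIrr N) = trivIrr N from Subtype.ext (funext fun _ => rfl)] at h1
    simpa [centralChar, trivIrr] using h1
  have hcount : (S.card * (Subgroup.centralizer ({⟨c, hcN⟩} : Set N)).index : ℕ) =
      (Subgroup.centralizer ({c} : Set G)).index := by
    have h1 := hexp (trivIrr N)
    have h2 : omega (trivIrr N : N → ℂ) vN =
        ((Subgroup.centralizer ({c} : Set G)).index : ℂ) := by
      have h3 := omega_classInd (trivIrr G) c
      have h4 : omega (trivIrr N : N → ℂ) vN = omega (trivIrr G : G → ℂ) (classInd c) := by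
        simp only [omega, trivIrr, mul_one, div_one]
        refine Fintype.sum_of_injective Subtype.val Subtype.val_injective _ _ ?_ fun n => rfl
        intro g hg
        rw [classInd, if_neg]
        intro hcon
        obtain ⟨x, hx⟩ := isConj_iff.mp hcon
        exact hg ⟨⟨g, hx ▸ (inferInstance : N.Normal).conj_mem c hcN x⟩, rfl⟩
      rw [h4, h3]
      simp [centralChar, trivIrr]
    rw [h2, Finset.sum_congr rfl (g := fun _ =>
      (((Subgroup.centralizer ({⟨c, hcN⟩} : Set N)).index : ℕ) : ℂ)) (fun k hk' => by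
        rw [← hk k hk']; simp [centralChar, trivIrr]), Finset.sum_const, nsmul_eq_mul] at h1
    exact_mod_cast h1.symm
  have hidx : (Subgroup.centralizer ({⟨c, hcN⟩} : Set N)).index =
      (Subgroup.centralizer ({c} : Set G)).relIndex N := by
    rw [Subgroup.relIndex]
    congr 1
    ext y
    simp [Subgroup.mem_centralizer_singleton_iff, Subgroup.mem_subgroupOf, Subtype.ext_iff]
  have hpos : 0 < (Subgroup.centralizer ({c} : Set G)).relIndex N :=
    Nat.pos_of_ne_zero Subgroup.index_ne_zero_of_finite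
  apply Nat.eq_of_mul_eq_mul_right hpos
  set C := Subgroup.centralizer ({c} : Set G)
  have hrel : C.relIndex (N ⊔ C) = C.relIndex N := by
    have h1 := Coprime.card_sup_mul_card_inf (K := N) (S := C)
      (by rw [Subgroup.normalizer_eq_top]; exact le_top)
    have h2 := Coprime.relIndex_mul_card_inf C N
    have h3 := Coprime.relIndex_mul_card_inf C (N ⊔ C)
    rw [inf_eq_left.mpr (le_sup_right : C ≤ N ⊔ C)] at h3
    rw [inf_comm] at h2
    refine Nat.eq_of_mul_eq_mul_right (Nat.mul_pos (Nat.card_pos (α := C))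
      (Nat.card_pos (α := ↥(N ⊓ C)))) ?_
    calc C.relIndex (N ⊔ C) * (Nat.card C * Nat.card ↥(N ⊓ C))
        = C.relIndex (N ⊔ C) * Nat.card C * Nat.card ↥(N ⊓ C) := by ring
      _ = Nat.card N * Nat.card C := by rw [h3, h1]
      _ = C.relIndex N * Nat.card ↥(N ⊓ C) * Nat.card C := by rw [h2]
      _ = _ := by ring
  rw [← hidx, hcount, hidx, ← hrel, mul_comm]
  exact (Subgroup.relIndex_mul_index le_sup_right).symm


/-- A defect class of `B` meets `N`, its central character is `[G : N C_G(c)]` times the one of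
`b`, and a defect group meets `N` in a defect group of `b`. -/
theorem exists_defect_data [M.IsPrime] [hp : Fact p.Prime] (hM : IsPModular p M) [Fintype N]
    (hb : IsPBlock M b) (hB : IsPBlock M B)
    (hc : ∀ g, blockCoeff B g = subgroupBlockCoeff N b g) {c : G} (hdef : IsDefectClass M B c) :
    ∃ hcN : c ∈ N, IsDefectClass M b ⟨c, hcN⟩ ∧
      ¬ p ∣ (N ⊔ Subgroup.centralizer ({c} : Set G)).index := by
  classical
  have hcN : c ∈ N := by
    by_contra h
    have h1 := hdef.2.1
    rw [hc, subgroupBlockCoeff_eq, extendByZero_eq_zero N _ h] at h1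
    exact h1 memLocalIdeal_zero
  obtain ⟨χ, hχ⟩ := IsPBlock.nonempty hB
  -- `b` is stable under conjugation
  have hstab : ∀ x : G, conjSet x N N b = b := fun x => by
    have h := fun g => conj_mem_iff_of_mem_normalizer
      (K := N) (x := x) (by rw [Subgroup.normalizer_eq_top]; exact Subgroup.mem_top x) g
    refine Set.ext fun ψ => ?_
    have h2 : omega (ψ : N → ℂ) (blockCoeff (conjSet x N N b)) =
        omega (ψ : N → ℂ) (blockCoeff b) := by
      congr 1
      funext n
      have h3 : (n : G) = x * (x⁻¹ * (n : G) * x) * x⁻¹ := by group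
      have hm : x⁻¹ * (n : G) * x ∈ N := (h _).mp (by rw [← h3]; exact n.2)
      rw [blockCoeff_conjSet h b (c := ⟨_, hm⟩) (c' := n) h3]
      have e1 := extendByZero_apply N (blockCoeff b) ⟨_, hm⟩
      have e2 := extendByZero_apply N (blockCoeff b) n
      rw [← e1, ← e2, ← subgroupBlockCoeff_eq, ← hc, ← hc]
      conv_rhs => rw [h3]
      exact (isClassFunction_blockCoeff B _ x).symm
    rw [omega_blockCoeff, omega_blockCoeff] at h2
    by_cases h4 : ψ ∈ conjSet x N N b <;> by_cases h5 : ψ ∈ b <;> simp_all [indVec]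
  have hbc : blockCoeff B c = blockCoeff b ⟨c, hcN⟩ := by
    rw [hc, subgroupBlockCoeff_eq]
    exact extendByZero_apply N _ ⟨c, hcN⟩
  refine ⟨hcN, defect_data_of_congr hM hb hstab hcN (hbc ▸ hdef.1) (hbc ▸ hdef.2.1)
    (fun ξ hξ => ?_) (hdef.2.2 χ hχ)⟩
  rw [← omega_classInd, res_omega_restrict hb hB hc hχ hξ (isClassFunction_classInd c)
      (memLocalRing_classInd c) fun g hg => by
        rw [classInd, if_neg]
        intro hcon
        obtain ⟨x, hx⟩ := isConj_iff.mp hcon
        exact hg (hx ▸ (inferInstance : N.Normal).conj_mem c hcN x)]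

/-- The subgroup cut out on `N` by a Sylow subgroup of the centralizer of a class that carries
the defect data of `b`. -/
theorem isDefectGroup_inf_of_data [M.IsPrime] [Fintype N] (hM : IsPModular p M) {c : G}
    {D : Subgroup G} (hsyl : IsSylowCent p c D) (hcN : c ∈ N) (hdefb : IsDefectClass M b ⟨c, hcN⟩)
    (hidx : ¬ p ∣ (N ⊔ Subgroup.centralizer ({c} : Set G)).index) :
    IsDefectGroup p M b (D.subgroupOf N) ∧ ¬ p ∣ (N ⊔ D).index := by
  classical
  have : Fact p.Prime := ⟨hM.1⟩
  set C := Subgroup.centralizer ({c} : Set G) with hC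
  have hDC : D ≤ C := hsyl.1
  have hDi : ¬ p ∣ D.relIndex C := by
    obtain ⟨P, hP⟩ := isSylowCent_iff.mp hsyl
    rw [hP, Subgroup.relIndex, Subgroup.subgroupOf,
      Subgroup.comap_map_eq_self_of_injective (Subgroup.subtype_injective _)]
    exact P.not_dvd_index
  refine ⟨isDefectGroup_iff.mpr ⟨⟨c, hcN⟩, hdefb, ?_⟩, ?_⟩
  · have hle : D.subgroupOf N ≤ Subgroup.centralizer ({⟨c, hcN⟩} : Set N) := fun y hy =>
      Subgroup.mem_centralizer_singleton_iff.mpr
        (Subtype.ext (Subgroup.mem_centralizer_singleton_iff.mp (hDC hy)))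
    obtain ⟨E, hE⟩ := (((hsyl.isPGroup).comap_of_injective N.subtype
      N.subtype_injective).comap_of_injective (Subgroup.centralizer ({⟨c, hcN⟩} : Set N)).subtype
      (Subgroup.subtype_injective _)).exists_le_sylow
    have hEG : ((E : Subgroup _).map (Subgroup.centralizer ({⟨c, hcN⟩} : Set N)).subtype).map
        N.subtype ≤ C := by
      rintro _ ⟨_, ⟨z, -, rfl⟩, rfl⟩
      exact Subgroup.mem_centralizer_singleton_iff.mpr
        (congrArg Subtype.val (Subgroup.mem_centralizer_singleton_iff.mp z.2))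
    set E' := ((E : Subgroup _).map (Subgroup.centralizer ({⟨c, hcN⟩} : Set N)).subtype).map
      N.subtype with hE'
    have hEN : E' ≤ N := Subgroup.map_subtype_le _
    have hDE : D ⊓ N ≤ E' := fun y hy =>
      ⟨⟨y, hy.2⟩, ⟨⟨⟨y, hy.2⟩, hle hy.1⟩, hE hy.1, rfl⟩, rfl⟩
    have hEp : IsPGroup p E' := (E.2.map _).map _
    have hle' : E' ≤ D := by
      by_contra hnot
      have hDN : D ≤ Subgroup.normalizer ((C ⊓ N : Subgroup G) : Set G) := fun y hy =>
        Subgroup.mem_normalizer_iff.mpr fun z => by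
          simp only [Subgroup.mem_inf]
          exact and_congr (conj_mem_iff_of_mem (hDC hy) z).symm
            (conj_mem_iff_of_mem_normalizer (by rw [Subgroup.normalizer_eq_top]; trivial) z).symm
      -- the index of `D ∩ N` in `C ∩ N` divides the one of `D` in `C`
      have h1 : D.relIndex ((C ⊓ N) ⊔ D) = D.relIndex (C ⊓ N) := by
        have a1 := Coprime.card_sup_mul_card_inf (K := C ⊓ N) (S := D) hDN
        have a2 := Coprime.relIndex_mul_card_inf D (C ⊓ N)
        have a3 := Coprime.relIndex_mul_card_inf D ((C ⊓ N) ⊔ D)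
        rw [inf_eq_left.mpr (le_sup_right : D ≤ (C ⊓ N) ⊔ D)] at a3
        rw [inf_comm D (C ⊓ N)] at a2
        refine Nat.eq_of_mul_eq_mul_right (Nat.mul_pos (Nat.card_pos (α := D))
          (Nat.card_pos (α := ↥((C ⊓ N) ⊓ D)))) ?_
        calc D.relIndex ((C ⊓ N) ⊔ D) * (Nat.card D * Nat.card ↥((C ⊓ N) ⊓ D))
            = D.relIndex ((C ⊓ N) ⊔ D) * Nat.card D * Nat.card ↥((C ⊓ N) ⊓ D) := by ring
          _ = Nat.card ↥(C ⊓ N) * Nat.card D := by rw [a3, a1]
          _ = D.relIndex (C ⊓ N) * Nat.card ↥((C ⊓ N) ⊓ D) * Nat.card D := by rw [a2]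
          _ = _ := by ring
      have h2 : D.relIndex ((C ⊓ N) ⊔ D) ∣ D.relIndex C :=
        ⟨_, (Subgroup.relIndex_mul_relIndex _ _ _ le_sup_right (sup_le inf_le_left hDC)).symm⟩
      rw [h1] at h2
      have h3 : D.relIndex E' ∣ D.relIndex (C ⊓ N) := by
        have := Subgroup.relIndex_mul_relIndex (D ⊓ N) E' (C ⊓ N) hDE (le_inf hEG hEN)
        rw [show (D ⊓ N).relIndex E' = D.relIndex E' from by
          rw [← Subgroup.inf_relIndex_right (D ⊓ N), ← Subgroup.inf_relIndex_right D, inf_assoc,
            inf_eq_right.mpr hEN],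
          show (D ⊓ N).relIndex (C ⊓ N) = D.relIndex (C ⊓ N) from by
          rw [← Subgroup.inf_relIndex_right (D ⊓ N), ← Subgroup.inf_relIndex_right D, inf_assoc,
            inf_eq_right.mpr (inf_le_right : C ⊓ N ≤ N)]] at this
        exact ⟨_, this.symm⟩
      obtain ⟨k, hk⟩ := hEp.index (D.subgroupOf E')
      rcases k with - | k
      · rw [pow_zero] at hk
        exact hnot (Subgroup.relIndex_eq_one.mp hk)
      · exact hDi ((dvd_pow_self p (Nat.succ_ne_zero k)).trans
          (hk ▸ h3.trans h2))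
    refine isSylowCent_iff.mpr ⟨E, le_antisymm (fun y hy => ⟨⟨y, hle hy⟩, hE hy, rfl⟩) ?_⟩
    rintro _ ⟨z, hz, rfl⟩
    exact Subgroup.mem_subgroupOf.mpr (hle' ⟨_, ⟨z, hz, rfl⟩, rfl⟩)
  · intro hdvd
    rw [← Subgroup.relIndex_mul_index (sup_le_sup_left hDC N)] at hdvd
    rcases (Nat.Prime.dvd_mul hM.1).mp hdvd with h | h
    · have hN : ∀ H : Subgroup G, H ≤ Subgroup.normalizer (N : Set G) := fun H => by
        rw [Subgroup.normalizer_eq_top]; exact le_top
      have a1 := Coprime.card_sup_mul_card_inf (K := N) (S := C) (hN C)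
      have a2 := Coprime.card_sup_mul_card_inf (K := N) (S := D) (hN D)
      have a3 := Coprime.relIndex_mul_card_inf (N ⊔ D) (N ⊔ C)
      have a4 := Coprime.relIndex_mul_card_inf D C
      rw [inf_eq_left.mpr (sup_le_sup_left hDC N)] at a3
      rw [inf_eq_left.mpr hDC] at a4
      obtain ⟨u, hu⟩ : Nat.card ↥(N ⊓ D) ∣ Nat.card ↥(N ⊓ C) :=
        Subgroup.card_dvd_of_le (inf_le_inf_left N hDC)
      refine hDi (h.trans ⟨u, ?_⟩)
      refine Nat.eq_of_mul_eq_mul_right (Nat.mul_pos (Nat.card_pos (α := N)) (Nat.card_pos (α := D))) ?_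
      calc D.relIndex C * (Nat.card N * Nat.card D) = Nat.card N * (D.relIndex C * Nat.card D) := by
            ring
        _ = Nat.card ↥(N ⊔ C) * Nat.card ↥(N ⊓ C) := by rw [a4, a1]
        _ = (N ⊔ D).relIndex (N ⊔ C) * u * (Nat.card ↥(N ⊔ D) * Nat.card ↥(N ⊓ D)) := by
            rw [← a3, hu]; ring
        _ = _ := by rw [a2]
    · exact hidx h

/-- A defect group of `B` meets `N` in a defect group of `b` and covers a Sylow subgroup of
`G/N`. -/
theorem isDefectGroup_inf [M.IsPrime] [Fintype N] (hM : IsPModular p M) (hb : IsPBlock M b)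
    (hB : IsPBlock M B) (hc : ∀ g, blockCoeff B g = subgroupBlockCoeff N b g)
    {D : Subgroup G} (hD : IsDefectGroup p M B D) :
    IsDefectGroup p M b (D.subgroupOf N) ∧ ¬ p ∣ (N ⊔ D).index := by
  have : Fact p.Prime := ⟨hM.1⟩
  obtain ⟨c, hdef, hsyl⟩ := isDefectGroup_iff.mp hD
  obtain ⟨hcN, hdefb, hidx⟩ := exists_defect_data hM hb hB hc hdef
  exact isDefectGroup_inf_of_data hM hsyl hcN hdefb hidx

end CfsgLib.Blocks
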