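import Cfsg.Prelude.Def_BlockFusion
import Cfsg.Agent.Lib.Blocks.DefectPairs
import Cfsg.Agent.Lib.Blocks.StableBlock
import Cfsg.Agent.Lib.Blocks.PairTransport
import Cfsg.Agent.Lib.Fusion.Group
import Cfsg.Agent.Lib.Fusion.Axioms

/-!
# The fusion system of a block on a maximal Brauer pair
-/

set_option autoImplicit false
set_option linter.unusedSectionVars false

namespace CfsgLib.Blocks

open Cfsg
open scoped ComplexConjugate CfsgLib.Char

variable {p : ℕ} {M : Ideal AlgInt} {G : Type*} [Group G] [Fintype G] [M.IsPrime]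
  {P : Subgroup G} {e : Set (IrrCharacter (Subgroup.centralizer (P : Set G)))}

/-- Inclusion of Brauer pair indices. -/
abbrev PairLE (p : ℕ) (M : Ideal AlgInt) (a b : BrauerPairIdx G) : Prop :=
  Relation.ReflTransGen (NormalSubpairRel p M) a b

theorem PairLE.fst_le {a b : BrauerPairIdx G} (h : PairLE p M a b) : a.1 ≤ b.1 :=
  SubpairLE.le (Q := a.1) (P := b.1) (f := a.2) (e := b.2) h

theorem eq_of_le_top (hM : IsPModular p M) (hPe : IsBrauerPair p M P e) {Q : Subgroup G}
    {f f' : Set (IrrCharacter (Subgroup.centralizer (Q : Set G)))}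
    (h : PairLE p M ⟨Q, f⟩ ⟨P, e⟩) (h' : PairLE p M ⟨Q, f'⟩ ⟨P, e⟩) : f = f' :=
  (existsUnique_subpair hM hPe (PairLE.fst_le h)).unique h h'

theorem pair_eq_of_le_top (hM : IsPModular p M) (hPe : IsBrauerPair p M P e) {a b : BrauerPairIdx G}
    (ha : PairLE p M a ⟨P, e⟩) (hb : PairLE p M b ⟨P, e⟩) (h : a.1 = b.1) : a = b := by
  obtain ⟨Q, f⟩ := a
  obtain ⟨Q', f'⟩ := b
  obtain rfl : Q = Q' := h
  rw [eq_of_le_top hM hPe ha hb]

theorem le_of_le_top (hM : IsPModular p M) (hPe : IsBrauerPair p M P e) {a b : BrauerPairIdx G}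
    (ha : PairLE p M a ⟨P, e⟩) (hb : PairLE p M b ⟨P, e⟩) (h : a.1 ≤ b.1) : PairLE p M a b := by
  obtain ⟨f, hf, -⟩ := existsUnique_subpair hM
    (SubpairLE.isBrauerPair (Q := b.1) (f := b.2) hb hPe) h
  have hf' : PairLE p M ⟨a.1, f⟩ b := hf
  rwa [pair_eq_of_le_top hM hPe ha (hf'.trans hb) rfl]

theorem exists_le_top (hM : IsPModular p M) (hPe : IsBrauerPair p M P e) {Q : Subgroup G}
    (hQ : Q ≤ P) : ∃ f, PairLE p M ⟨Q, f⟩ ⟨P, e⟩ :=
  (existsUnique_subpair hM hPe hQ).exists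

theorem conjPair_top {g : G} (hg : g ∈ P) : conjPair g ⟨P, e⟩ = ⟨P, e⟩ := by
  rw [conjPair_of_mem_normalizer (Subgroup.le_normalizer hg),
    (stabilizesBlock_iff.mp (stabilizes_self_of_mem hg e)).2]

variable (p M P e) in
/-- `g` carries the pair below `(P, e)` on `Q` to a pair below `(P, e)`. -/
def Carries (g : G) (Q : Subgroup G) : Prop :=
  ∃ f, PairLE p M ⟨Q, f⟩ ⟨P, e⟩ ∧ PairLE p M (conjPair g ⟨Q, f⟩) ⟨P, e⟩

theorem Carries.le {g : G} {Q : Subgroup G} (h : Carries p M P e g Q) : Q ≤ P := by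
  obtain ⟨f, hf, -⟩ := h
  exact PairLE.fst_le hf

theorem Carries.map_le {g : G} {Q : Subgroup G} (h : Carries p M P e g Q) :
    Q.map (MulAut.conj g).toMonoidHom ≤ P := by
  obtain ⟨f, -, hf⟩ := h
  exact PairLE.fst_le hf

theorem carries_of_mem (hM : IsPModular p M) (hPe : IsBrauerPair p M P e) {g : G} {Q : Subgroup G}
    (hQ : Q ≤ P) (hg : g ∈ P) : Carries p M P e g Q := by
  obtain ⟨f, hf⟩ := exists_le_top hM hPe hQ
  exact ⟨f, hf, conjPair_top (e := e) hg ▸ subpairLE_conjPair g hf⟩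

theorem Carries.comp (hM : IsPModular p M) (hPe : IsBrauerPair p M P e) {g k : G}
    {Q R : Subgroup G} (hg : Carries p M P e g Q) (hk : Carries p M P e k R)
    (h : Q.map (MulAut.conj g).toMonoidHom ≤ R) : Carries p M P e (k * g) Q := by
  obtain ⟨f, hf, hgf⟩ := hg
  obtain ⟨f', hf', hkf⟩ := hk
  refine ⟨f, hf, ?_⟩
  rw [← conjPair_conjPair]
  exact (subpairLE_conjPair k (le_of_le_top hM hPe hgf hf' h)).trans hkf

theorem Carries.symm {g : G} {Q : Subgroup G} (hg : Carries p M P e g Q) :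
    Carries p M P e g⁻¹ (Q.map (MulAut.conj g).toMonoidHom) := by
  obtain ⟨f, hf, hgf⟩ := hg
  refine ⟨_, hgf, ?_⟩
  show PairLE p M (conjPair g⁻¹ (conjPair g ⟨Q, f⟩)) _
  rwa [conjPair_conjPair, inv_mul_cancel, conjPair_one]

/-- The fusion system of the block on `(P, e)`. -/
noncomputable def blockFusion (hM : IsPModular p M) (hPe : IsBrauerPair p M P e) :
    FusionSystem P where
  Hom Q := {φ | Q ≤ P ∧ ∃ g : G, (∀ u : Q, φ u = g * (u : G) * g⁻¹) ∧
        Q.map (MulAut.conj g).toMonoidHom ≤ P ∧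
        ∃ f : Set (IrrCharacter (Subgroup.centralizer (Q : Set G))),
          SubpairLE p M Q f P e ∧
            SubpairLE p M (Q.map (MulAut.conj g).toMonoidHom) (conjBlock Q g f) P e}
  le_of_mem := by
    rintro Q φ ⟨hQ, g, hg, hle, -⟩
    exact ⟨hQ, fun x => hg x ▸ hle ⟨x, x.2, rfl⟩⟩
  injective_of_mem := by
    rintro Q φ ⟨-, g, hg, -⟩ a b hab
    rw [hg, hg] at hab
    exact Subtype.ext (mul_left_cancel (mul_right_cancel hab))
  conj_mem := by
    intro Q g hQ hg
    exact ⟨hQ, g, fun u => rfl, (carries_of_mem hM hPe hQ hg).map_le,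
      carries_of_mem hM hPe hQ hg⟩
  comp_mem := by
    rintro Q R φ ψ ⟨hQ, g, hg, -, hgc⟩ ⟨-, k, hk, -, hkc⟩ h
    have hle : Q.map (MulAut.conj g).toMonoidHom ≤ R := by
      rintro _ ⟨x, hx, rfl⟩
      have := h ⟨x, hx⟩
      rw [hg] at this
      exact this
    have hc := Carries.comp hM hPe (g := g) (Q := Q) hgc (k := k) (R := R) hkc hle
    refine ⟨hQ, k * g, fun u => ?_, hc.map_le, hc⟩
    show ψ (φ.codRestrict R h u) = _
    rw [hk]
    show k * φ u * k⁻¹ = _
    rw [hg, mul_inv_rev]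
    simp only [mul_assoc]
  inv_mem := by
    rintro Q φ ⟨hQ, g, hg, hle, hc⟩
    have hr : φ.range = Q.map (MulAut.conj g).toMonoidHom := by
      ext y
      constructor
      · rintro ⟨x, rfl⟩
        exact ⟨x, x.2, (hg x).symm⟩
      · rintro ⟨x, hx, rfl⟩
        exact ⟨⟨x, hx⟩, hg _⟩
    have hc' : Carries p M P e g⁻¹ φ.range := hr ▸ Carries.symm (g := g) (Q := Q) hc
    refine ⟨conjHom φ.range g⁻¹, ⟨hc'.le, g⁻¹, fun u => rfl, hc'.map_le, hc'⟩, fun x => ?_⟩
    show g⁻¹ * φ x * g⁻¹⁻¹ = x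
    rw [hg, inv_inv]
    simp only [mul_assoc, inv_mul_cancel, mul_one, inv_mul_cancel_left]

theorem isBlockFusionSystemOn_blockFusion (hM : IsPModular p M) {B : Set (IrrCharacter G)}
    (hmax : IsMaximalBrauerPair p M B P e) :
    IsBlockFusionSystemOn p M B P e (blockFusion hM hmax.1.1) :=
  ⟨hmax, fun _ _ => Iff.rfl⟩

variable {B : Set (IrrCharacter G)} {F : FusionSystem P}

theorem isMap_block_iff (hF : IsBlockFusionSystemOn p M B P e F) {Q : Subgroup G} {f : G → G} :
    Fusion.IsMap F Q f ↔ ∃ g : G, Carries p M P e g Q ∧ ∀ x ∈ Q, f x = g * x * g⁻¹ := by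
  constructor
  · rintro ⟨φ, hφ, hv⟩
    obtain ⟨-, g, hg, -, hc⟩ := (hF.2 Q φ).mp hφ
    exact ⟨g, hc, fun x hx => (hv ⟨x, hx⟩).symm.trans (hg ⟨x, hx⟩)⟩
  · rintro ⟨g, hc, hv⟩
    exact ⟨conjHom Q g, (hF.2 Q _).mpr ⟨hc.le, g, fun u => rfl, hc.map_le, hc⟩,
      fun x => (hv x x.2).symm⟩

theorem isIso_block (hF : IsBlockFusionSystemOn p M B P e F) {Q R : Subgroup G} {f : G → G}
    (h : Fusion.IsIso F Q R f) :
    ∃ g : G, Carries p M P e g Q ∧ R = Q.map (MulAut.conj g).toMonoidHom ∧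
      ∀ x ∈ Q, f x = g * x * g⁻¹ := by
  obtain ⟨g, hc, hg⟩ := (isMap_block_iff hF).mp h.isMap
  refine ⟨g, hc, SetLike.coe_injective ?_, hg⟩
  rw [← h.image_eq, Subgroup.coe_map]
  exact Set.image_congr fun x hx => hg x hx

theorem isConj_block_iff (hF : IsBlockFusionSystemOn p M B P e F) {Q R : Subgroup G} :
    F.IsConj Q R ↔
      ∃ g : G, Carries p M P e g Q ∧ R = Q.map (MulAut.conj g).toMonoidHom := by
  rw [Fusion.isConj_iff]
  constructor
  · rintro ⟨f, hf⟩
    obtain ⟨g, hc, hR, -⟩ := isIso_block hF hf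
    exact ⟨g, hc, hR⟩
  · rintro ⟨g, hc, rfl⟩
    refine ⟨fun x => g * x * g⁻¹, (isMap_block_iff hF).mpr ⟨g, hc, fun _ _ => rfl⟩, ?_⟩
    rw [Subgroup.coe_map]
    rfl

variable {Q : Subgroup G} {f : Set (IrrCharacter (Subgroup.centralizer (Q : Set G)))}

theorem card_inf_subgroupOf {A B : Subgroup G} :
    Nat.card ((A ⊓ B).subgroupOf B) = Nat.card ↥(A ⊓ B) :=
  Nat.card_congr (Subgroup.subgroupOfEquivOfLe inf_le_right).toEquiv

theorem blockCoeff_centralizer (f : Set (IrrCharacter (Subgroup.centralizer (Q : Set G))))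
    [Fintype (Subgroup.centralizer (Q : Set G))] (t : Subgroup.centralizer (Q : Set G)) :
    blockCoeff f t = subgroupBlockCoeff (Subgroup.centralizer (Q : Set G)) f (t : G) := by
  rw [subgroupBlockCoeff_eq, extendByZero_apply]

/-- `|C_P(Q)| ≤ p ^ d(f)`, with equality exactly if `C_P(Q)` is a defect group of `f`. -/
theorem card_centralizerIn_le (hM : IsPModular p M) (hPe : IsBrauerPair p M P e)
    (hle : SubpairLE p M Q f P e) :
    Nat.card ↥(P ⊓ Subgroup.centralizer (Q : Set G)) ≤ p ^ blockDefect p f ∧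
      (IsDefectGroup p M f
          ((P ⊓ Subgroup.centralizer (Q : Set G)).subgroupOf (Subgroup.centralizer (Q : Set G))) ↔
        Nat.card ↥(P ⊓ Subgroup.centralizer (Q : Set G)) = p ^ blockDefect p f) := by
  classical
  have hf := (SubpairLE.isBrauerPair hle hPe).2
  obtain ⟨D, hD, hle'⟩ := exists_defectGroup_ge hM hPe hle le_rfl
    (Subgroup.centralizer_le_normalizer _) hf (blockCoeff_centralizer f)
  rw [← card_inf_subgroupOf]
  refine ⟨IsDefectGroup.card_eq hM hf hD ▸ Subgroup.card_le_of_le hle',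
    fun h => IsDefectGroup.card_eq hM hf h, fun h => ?_⟩
  rwa [Subgroup.eq_of_le_of_card_ge hle' (by rw [h, IsDefectGroup.card_eq hM hf hD])]

theorem blockDefect_conjBlock (g : G) (f : Set (IrrCharacter (Subgroup.centralizer (Q : Set G)))) :
    blockDefect p (conjBlock Q g f) = blockDefect p f :=
  blockDefect_conjSet (centralizer_map_conj_iff Q g) f

theorem exists_conj_centralizer_eq (hM : IsPModular p M) (hmax : IsMaximalBrauerPair p M B P e)
    (hle : SubpairLE p M Q f P e) :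
    ∃ x : G, Carries p M P e x Q ∧
      Nat.card ↥(P ⊓ Subgroup.centralizer
        ((Q.map (MulAut.conj x).toMonoidHom : Subgroup G) : Set G)) = p ^ blockDefect p f := by
  classical
  have hf := (SubpairLE.isBrauerPair hle hmax.1.1).2
  obtain ⟨x, hx, hdef⟩ := exists_conj_defectGroup hM hmax hle le_rfl
    (Subgroup.centralizer_le_normalizer _)
    (fun t ht => stabilizesBlock_iff.mpr ⟨Subgroup.le_normalizer ht, conjSet_of_mem ht f⟩) hf
    (blockCoeff_centralizer f)
  refine ⟨x, ⟨f, hle, hx⟩, ?_⟩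
  rw [← blockDefect_conjBlock x f]
  exact ((card_centralizerIn_le hM hmax.1.1 hx).2).mp (hdef _ (centralizer_map_conj_iff Q x) _
    (isPBlock_conjSet (centralizer_map_conj_iff Q x) hf) (blockCoeff_centralizer _))

/-- Fully centralized subgroups are those whose centralizer in `P` is a defect group. -/
theorem isFullyCentralized_block_iff (hM : IsPModular p M) (hF : IsBlockFusionSystemOn p M B P e F)
    (hle : SubpairLE p M Q f P e) :
    F.IsFullyCentralized Q ↔ IsDefectGroup p M f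
      ((P ⊓ Subgroup.centralizer (Q : Set G)).subgroupOf (Subgroup.centralizer (Q : Set G))) := by
  have hPe := hF.1.1.1
  obtain ⟨hbd, hiff⟩ := card_centralizerIn_le hM hPe hle
  rw [hiff]
  constructor
  · intro hfc
    obtain ⟨x, hx, hcard⟩ := exists_conj_centralizer_eq hM hF.1 hle
    exact le_antisymm hbd (hcard ▸ hfc.2 _ ((isConj_block_iff hF).mpr ⟨x, hx, rfl⟩))
  · intro h
    refine ⟨SubpairLE.le hle, fun R hR => ?_⟩
    obtain ⟨g, hg, rfl⟩ := (isConj_block_iff hF).mp hR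
    obtain ⟨f', hf', hgf⟩ := hg
    obtain rfl := eq_of_le_top hM hPe hle hf'
    exact ((card_centralizerIn_le hM hPe (hgf : SubpairLE p M _ (conjBlock Q g f) P e)).1.trans_eq
      (by rw [blockDefect_conjBlock])).trans_eq h.symm

/-- Centric subgroups are those whose centre is a defect group. -/
theorem isCentric_block_iff (hM : IsPModular p M) (hF : IsBlockFusionSystemOn p M B P e F)
    (hle : SubpairLE p M Q f P e) :
    F.IsCentric Q ↔ IsDefectGroup p M f
      ((Q ⊓ Subgroup.centralizer (Q : Set G)).subgroupOf (Subgroup.centralizer (Q : Set G))) := by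
  classical
  have hPe := hF.1.1.1
  obtain ⟨hbd, hiff⟩ := card_centralizerIn_le hM hPe hle
  have hQP : Q ≤ P := SubpairLE.le hle
  have hzc : ∀ x : G, Nat.card ↥(Q.map (MulAut.conj x).toMonoidHom ⊓
      Subgroup.centralizer ((Q.map (MulAut.conj x).toMonoidHom : Subgroup G) : Set G)) =
      Nat.card ↥(Q ⊓ Subgroup.centralizer (Q : Set G)) := fun x => by
    rw [show Q.map (MulAut.conj x).toMonoidHom ⊓
        Subgroup.centralizer ((Q.map (MulAut.conj x).toMonoidHom : Subgroup G) : Set G) =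
        (Q ⊓ Subgroup.centralizer (Q : Set G)).map (MulAut.conj x).toMonoidHom from ?_,
      card_map_conj]
    ext z
    simp only [Subgroup.mem_inf, mem_map_conj_iff]
    refine and_congr_right fun _ => ?_
    conv_lhs => rw [show z = x * (x⁻¹ * z * x) * x⁻¹ by group]
    exact centralizer_map_conj_iff Q x _
  constructor
  · intro hc
    obtain ⟨x, hx, hcard⟩ := exists_conj_centralizer_eq hM hF.1 hle
    have h1 := hc.2 _ ((isConj_block_iff hF).mpr ⟨x, hx, rfl⟩)
    have h2 : Nat.card ↥(Q ⊓ Subgroup.centralizer (Q : Set G)) = p ^ blockDefect p f := by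
      rw [← hzc x, ← hcard]
      refine le_antisymm (Subgroup.card_le_of_le (inf_le_inf_right _ hx.map_le))
        (Subgroup.card_le_of_le (le_inf h1 inf_le_right))
    have h3 : Q ⊓ Subgroup.centralizer (Q : Set G) = P ⊓ Subgroup.centralizer (Q : Set G) :=
      Subgroup.eq_of_le_of_card_ge (inf_le_inf_right _ hQP) (h2 ▸ hbd)
    rw [h3, hiff, ← h3, h2]
  · intro h
    have h2 : Nat.card ↥(Q ⊓ Subgroup.centralizer (Q : Set G)) = p ^ blockDefect p f := by
      rw [← card_inf_subgroupOf]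
      exact IsDefectGroup.card_eq hM (SubpairLE.isBrauerPair hle hPe).2 h
    refine ⟨hQP, fun R hR => ?_⟩
    obtain ⟨g, hg, rfl⟩ := (isConj_block_iff hF).mp hR
    obtain ⟨f', hf', hgf⟩ := hg
    obtain rfl := eq_of_le_top hM hPe hle hf'
    have hgQ : Q.map (MulAut.conj g).toMonoidHom ≤ P := SubpairLE.le (Q := _) hgf
    have h4 := (card_centralizerIn_le hM hPe (hgf : SubpairLE p M _ (conjBlock Q g f) P e)).1
    rw [blockDefect_conjBlock, ← h2, ← hzc g] at h4
    exact (Subgroup.eq_of_le_of_card_ge (inf_le_inf_right _ hgQ) h4).ge.trans inf_le_left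

end CfsgLib.Blocks
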