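import Cfsg.Agent.Lib.Blocks.Idempotent

/-!
# The centre of the group algebra over the residue field

`ZK M G` is the quotient of `ZO M G` by the elements with all coefficients in the local ideal.
-/

set_option autoImplicit false
set_option linter.unusedSectionVars false

namespace CfsgLib.Blocks

open Cfsg
open scoped ComplexConjugate CfsgLib.Char

variable {M : Ideal AlgInt} [hMp : M.IsPrime] {G : Type*} [Group G] [Fintype G]

variable (M G) in
/-- The elements of the centre with all coefficients in the local ideal. -/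
def nullIdeal : Ideal (ZO M G) where
  carrier := {v | ∀ g, MemLocalIdeal M (ofOmega (v : IrrCharacter G → ℂ) g)}
  zero_mem' := fun g => by
    have h := ofOmega_smul (0 : ℂ) (0 : IrrCharacter G → ℂ)
    rw [zero_smul, zero_smul] at h
    show MemLocalIdeal M (ofOmega (((0 : ZO M G)) : IrrCharacter G → ℂ) g)
    rw [ZeroMemClass.coe_zero, h]
    exact memLocalIdeal_zero
  add_mem' := fun {v w} hv hw g => by
    show MemLocalIdeal M (ofOmega ((v : IrrCharacter G → ℂ) + (w : IrrCharacter G → ℂ)) g)
    rw [ofOmega_add]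
    exact memLocalIdeal_add (hv g) (hw g)
  smul_mem' := fun c v hv g => by
    show MemLocalIdeal M (ofOmega ((c : IrrCharacter G → ℂ) * (v : IrrCharacter G → ℂ)) g)
    rw [ofOmega_mul]
    exact memLocalIdeal_sum _ _ fun x _ => memLocalIdeal_mul_left (c.2 x) (hv _)

theorem mem_nullIdeal {v : ZO M G} :
    v ∈ nullIdeal M G ↔ ∀ g, MemLocalIdeal M (ofOmega (v : IrrCharacter G → ℂ) g) := Iff.rfl

variable (M G) in
/-- The centre of the group algebra over the residue field. -/
abbrev ZK : Type _ := ZO M G ⧸ nullIdeal M G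

/-- The element of the centre given by a class function with local integer values. -/
noncomputable def toZO (f : G → ℂ) (hf : IsClassFunction G f) (hl : ∀ g, MemLocalRing M (f g)) :
    ZO M G := ⟨fun χ => omega (χ : G → ℂ) f, omega_mem_ZO hf hl⟩

theorem ofOmega_toZO {f : G → ℂ} (hf : IsClassFunction G f) (hl : ∀ g, MemLocalRing M (f g)) :
    ofOmega ((toZO f hf hl : ZO M G) : IrrCharacter G → ℂ) = f := ofOmega_omega hf

theorem mk_eq_mk_iff {v w : ZO M G} :
    Ideal.Quotient.mk (nullIdeal M G) v = Ideal.Quotient.mk (nullIdeal M G) w ↔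
      ∀ g, MemLocalIdeal M
        (ofOmega (v : IrrCharacter G → ℂ) g - ofOmega (w : IrrCharacter G → ℂ) g) := by
  rw [Ideal.Quotient.eq, mem_nullIdeal]
  refine forall_congr' fun g => ?_
  have : ofOmega (((v - w : ZO M G)) : IrrCharacter G → ℂ) g =
      ofOmega (v : IrrCharacter G → ℂ) g - ofOmega (w : IrrCharacter G → ℂ) g := by
    rw [AddSubgroupClass.coe_sub]
    simp [ofOmega, sub_mul, Finset.sum_sub_distrib, mul_sub]
  rw [this]

theorem smul_one_mem_nullIdeal {c : ℂ} (hc : MemLocalIdeal M c) :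
    (⟨c • 1, smul_mem_ZO (memLocalRing_of_memLocalIdeal hc) (one_mem _)⟩ : ZO M G) ∈
      nullIdeal M G := fun g => by
  show MemLocalIdeal M (ofOmega (c • (1 : IrrCharacter G → ℂ)) g)
  rw [ofOmega_smul]
  exact memLocalIdeal_mul_right hc (one_mem (ZO M G) g)

theorem resHom_eq_zero_of_mem_nullIdeal (χ : IrrCharacter G) {v : ZO M G}
    (hv : v ∈ nullIdeal M G) : resHom χ v = 0 := by
  refine res_eq_zero ?_
  have : Fintype (ConjClasses G) := Fintype.ofFinite _
  rw [← omega_ofOmega (v : IrrCharacter G → ℂ) χ,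
    omega_eq_sum_classes χ (isClassFunction_ofOmega _)]
  exact memLocalIdeal_sum _ _ fun c _ =>
    memLocalIdeal_mul_right (hv _) (memLocalRing_centralChar χ _)

/-- The central character of `χ` on the centre over the residue field. -/
noncomputable def resQuot (χ : IrrCharacter G) : ZK M G →+* ResField M :=
  Ideal.Quotient.lift (nullIdeal M G) (resHom χ) fun _ => resHom_eq_zero_of_mem_nullIdeal χ

theorem resQuot_mk (χ : IrrCharacter G) (v : ZO M G) :
    resQuot χ (Ideal.Quotient.mk (nullIdeal M G) v) = res M ((v : IrrCharacter G → ℂ) χ) := rfl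

theorem resQuot_eq_of_sameBlock {χ ψ : IrrCharacter G}
    (h : SameBlock M (χ : G → ℂ) (ψ : G → ℂ)) : (resQuot χ : ZK M G →+* ResField M) = resQuot ψ :=
  Ideal.Quotient.ringHom_ext (RingHom.ext fun v =>
    (res_eq_iff (memLocalRing_of_mem_ZO v.2 χ) (memLocalRing_of_mem_ZO v.2 ψ)).mpr (ZO_congr h v.2))

/-- The idempotent of a block in `ZK`. -/
noncomputable def blockIdem {B : Set (IrrCharacter G)} (hB : IsPBlock M B) : ZK M G :=
  Ideal.Quotient.mk _ ⟨indVec B, indVec_mem_ZO (IsPBlock.isBlockUnion hB)⟩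

theorem isIdempotentElem_blockIdem {B : Set (IrrCharacter G)} (hB : IsPBlock M B) :
    IsIdempotentElem (blockIdem hB) := by
  rw [IsIdempotentElem, blockIdem, ← map_mul]
  congr 1
  refine Subtype.ext (funext fun χ => ?_)
  show indVec B χ * indVec B χ = indVec B χ
  by_cases h : χ ∈ B
  · simp [indVec_of_mem h]
  · simp [indVec_of_notMem h]

theorem resQuot_blockIdem {B : Set (IrrCharacter G)} (hB : IsPBlock M B) (χ : IrrCharacter G)
    [Decidable (χ ∈ B)] : resQuot χ (blockIdem hB) = if χ ∈ B then 1 else 0 := by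
  rw [blockIdem, resQuot_mk]
  split_ifs with h
  · show res M (indVec B χ) = 1
    rw [indVec_of_mem h, res_one]
  · show res M (indVec B χ) = 0
    rw [indVec_of_notMem h, res_zero]

/-- An idempotent of `ZK` killed by every central character vanishes. -/
theorem eq_zero_of_idempotent {x : ZK M G} (hx : IsIdempotentElem x)
    (h : ∀ χ : IrrCharacter G, resQuot χ x = 0) : x = 0 := by
  classical
  obtain ⟨v, rfl⟩ := Ideal.Quotient.mk_surjective x
  have hv : ∀ χ, MemLocalIdeal M ((v : IrrCharacter G → ℂ) χ) := fun χ =>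
    (res_eq_zero_iff (memLocalRing_of_mem_ZO v.2 χ)).mp (h χ)
  have hprod : ∏ χ : IrrCharacter G, ((v : ZO M G) - ⟨((v : IrrCharacter G → ℂ) χ) • 1,
      smul_mem_ZO (memLocalRing_of_mem_ZO v.2 χ) (one_mem _)⟩) = 0 := by
    refine Subtype.ext (funext fun η => ?_)
    rw [SubmonoidClass.coe_finsetProd, Finset.prod_apply, ZeroMemClass.coe_zero, Pi.zero_apply]
    exact Finset.prod_eq_zero (Finset.mem_univ η) (by simp)
  have h2 := congrArg (Ideal.Quotient.mk (nullIdeal M G)) hprod
  rw [map_prod, map_zero] at h2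
  simp only [map_sub, Ideal.Quotient.eq_zero_iff_mem.mpr (smul_one_mem_nullIdeal (hv _)), sub_zero,
    Finset.prod_const, Finset.card_univ] at h2
  have : Nonempty (IrrCharacter G) := ⟨trivIrr G⟩
  obtain ⟨n, hn⟩ := Nat.exists_eq_succ_of_ne_zero (Fintype.card_ne_zero (α := IrrCharacter G))
  rw [hn, hx.pow_succ_eq] at h2
  exact h2

/-- An idempotent of `ZK` is determined by the central characters. -/
theorem idempotent_ext {x y : ZK M G} (hx : IsIdempotentElem x) (hy : IsIdempotentElem y)
    (h : ∀ χ : IrrCharacter G, resQuot χ x = resQuot χ y) : x = y := by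
  have key : ∀ a b : ZK M G, IsIdempotentElem a → IsIdempotentElem b →
      (∀ χ : IrrCharacter G, resQuot χ a = resQuot χ b) → a = a * b := fun a b ha hb hab => by
    refine (sub_eq_zero.mp (eq_zero_of_idempotent ?_ fun χ => ?_))
    · show (a - a * b) * (a - a * b) = a - a * b
      calc (a - a * b) * (a - a * b) = a * a - 2 * ((a * a) * b) + (a * a) * (b * b) := by ring
        _ = a - a * b := by rw [ha.eq, hb.eq]; ring
    · rw [map_sub, map_mul, ← hab χ, ← map_mul, ha.eq, sub_self]
  rw [key x y hx hy h, mul_comm, ← key y x hy hx fun χ => (h χ).symm]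

end CfsgLib.Blocks
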