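import Mathlib.RingTheory.SimpleModule.IsAlgClosed
import Mathlib.RingTheory.Artinian.Module
import Mathlib.RingTheory.Idempotents
import Mathlib.RingTheory.Jacobson.Semiprimary
import Mathlib.LinearAlgebra.Matrix.Trace
import Mathlib.LinearAlgebra.Dual.Lemmas

/-!
# Symmetric algebras with a centre of dimension at most two

An indecomposable symmetric algebra over an algebraically closed field whose centre has dimension
at most two has dimension at most twice the square of the degree of any of its representations.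
-/

set_option autoImplicit false
set_option linter.unusedSectionVars false
set_option linter.style.haveILetI false

namespace CfsgLib.Blocks.SmallCenter

variable {κ B : Type*} [Field κ] [Ring B] [Algebra κ B] [FiniteDimensional κ B]

/-- A functional with the trace property. -/
def IsTr (f : Module.Dual κ B) : Prop := ∀ x y, f (x * y) = f (y * x)

theorem not_indep_traces (τ : Module.Dual κ B) (hτ : IsTr τ)
    (hnd : ∀ x, (∀ y, τ (x * y) = 0) → x = 0)
    (hZ : ∀ z : Fin 3 → B, (∀ i b, z i * b = b * z i) → ¬ LinearIndependent κ z)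
    (f : Fin 3 → Module.Dual κ B) (hf : ∀ i, IsTr (f i)) : ¬ LinearIndependent κ f := by
  intro hli
  let Φ : B →ₗ[κ] Module.Dual κ B :=
    { toFun := fun z => τ.comp (LinearMap.mulLeft κ z)
      map_add' := fun a b => by ext y; simp [add_mul]
      map_smul' := fun c a => by ext y; simp }
  have hinj : Function.Injective Φ := (injective_iff_map_eq_zero Φ).mpr fun z hz =>
    hnd z fun y => LinearMap.congr_fun hz y
  have hsurj : Function.Surjective Φ := by
    refine (LinearMap.injective_iff_surjective_of_finrank_eq_finrank ?_).mp hinj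
    rw [Subspace.dual_finrank_eq]
  choose z hz using fun i => hsurj (f i)
  refine hZ z (fun i b => sub_eq_zero.mp (hnd _ fun y => ?_)) (LinearIndependent.of_comp Φ ?_)
  · have h : ∀ y, τ (z i * y) = f i y := fun y => LinearMap.congr_fun (hz i) y
    rw [sub_mul, map_sub, mul_assoc, h, mul_assoc b, hτ b, mul_assoc, h, hf i b y, sub_self]
  · rwa [show Φ ∘ z = f from funext hz]

section Corner

variable (e : B) (he : e * e = e) {ι : Type*} [Fintype ι] (u v : ι → B)
  (huv : ∑ i, u i * e * v i = 1)

/-- Extension of a functional from the corner ring. -/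
noncomputable def extend (f : Module.Dual κ B) : Module.Dual κ B :=
  ∑ i, f.comp ((LinearMap.mulLeft κ (e * v i)).comp (LinearMap.mulRight κ (u i * e)))

include he huv in
theorem isTr_extend (f : Module.Dual κ B)
    (hf : ∀ a b, f ((e * a * e) * (e * b * e)) = f ((e * b * e) * (e * a * e))) :
    IsTr (extend e u v f) ∧ ∀ a, extend e u v f (e * a * e) = f (e * a * e) := by
  have he' : ∀ a : B, e * (e * a) = e * a := fun a => by rw [← mul_assoc, he]
  have key : ∀ a b : B, extend e u v f (a * b) =
      ∑ i, ∑ j, f ((e * (v i * a * u j) * e) * (e * (v j * b * u i) * e)) := by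
    intro a b
    simp only [extend, LinearMap.sum_apply, LinearMap.comp_apply, LinearMap.mulLeft_apply,
      LinearMap.mulRight_apply]
    refine Finset.sum_congr rfl fun i _ => ?_
    rw [← map_sum]
    congr 1
    calc e * v i * (a * b * (u i * e)) = e * v i * a * (∑ j, u j * e * v j) * (b * u i * e) := by
          rw [huv, mul_one]; simp only [mul_assoc]
      _ = _ := by
          simp only [Finset.mul_sum, Finset.sum_mul]
          exact Finset.sum_congr rfl fun j _ => by simp only [mul_assoc, he']
  refine ⟨fun a b => ?_, fun a => ?_⟩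
  · rw [key, key, Finset.sum_comm]
    exact Finset.sum_congr rfl fun i _ => Finset.sum_congr rfl fun j _ => hf _ _
  · calc extend e u v f (e * a * e)
        = ∑ i, f ((e * v i * e) * (e * (a * e * u i) * e)) := by
          simp only [extend, LinearMap.sum_apply, LinearMap.comp_apply, LinearMap.mulLeft_apply,
            LinearMap.mulRight_apply]
          exact Finset.sum_congr rfl fun i _ => by simp only [mul_assoc, he']
      _ = ∑ i, f ((e * (a * e * u i) * e) * (e * v i * e)) :=
          Finset.sum_congr rfl fun i _ => hf _ _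
      _ = f (e * a * e * (∑ i, u i * e * v i) * e) := by
          rw [← map_sum]
          congr 1
          simp only [Finset.mul_sum, Finset.sum_mul]
          exact Finset.sum_congr rfl fun i _ => by simp only [mul_assoc, he']
      _ = f (e * a * e) := by rw [huv, mul_one, mul_assoc _ e e, he]

end Corner

open Classical in
/-- The dimension bound. -/
theorem dim_le [IsAlgClosed κ] [Nontrivial B] (τ : Module.Dual κ B) (hτ : IsTr τ)
    (hnd : ∀ x, (∀ y, τ (x * y) = 0) → x = 0)
    (hZ : ∀ z : Fin 3 → B, (∀ i b, z i * b = b * z i) → ¬ LinearIndependent κ z)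
    (hidem : ∀ c : B, IsIdempotentElem c → (∀ b, c * b = b * c) → c = 0 ∨ c = 1)
    {n : ℕ} [NeZero n] (φ : B →ₐ[κ] Matrix (Fin n) (Fin n) κ) :
    Module.finrank κ B ≤ 2 * n ^ 2 := by
  have htr := not_indep_traces τ hτ hnd hZ
  haveI : IsArtinianRing B := IsArtinianRing.of_finite κ B
  set J := Ring.jacobson B with hJ
  haveI : IsSemisimpleRing (B ⧸ J) := IsArtinianRing.isSemisimpleRing_iff_jacobson.mpr
    (Ring.jacobson_quotient_jacobson B)
  haveI : FiniteDimensional κ (B ⧸ J) :=
    Module.Finite.of_surjective (Ideal.Quotient.mkₐ κ J).toLinearMap (Ideal.Quotient.mkₐ_surjective κ J)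
  obtain ⟨N, hN⟩ : IsNilpotent J := IsSemiprimaryRing.isNilpotent
  obtain ⟨r, d, hd, ⟨ψ⟩⟩ :=
    IsSemisimpleRing.exists_algEquiv_pi_matrix_of_isAlgClosed κ (B ⧸ J)
  let π := ψ.toAlgHom.comp (Ideal.Quotient.mkₐ κ J)
  have hπs : Function.Surjective π := ψ.surjective.comp (Ideal.Quotient.mkₐ_surjective κ J)
  have hπk : ∀ x, π x = 0 ↔ x ∈ J := fun x => by
    show ψ (Ideal.Quotient.mk J x) = 0 ↔ _
    rw [map_eq_zero_iff ψ ψ.injective, Ideal.Quotient.eq_zero_iff_mem]
  have hnil : ∀ x ∈ J, IsNilpotent x := fun x hx => ⟨N, by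
    have := Ideal.pow_mem_pow hx N
    rwa [hN, Ideal.zero_eq_bot, Ideal.mem_bot] at this⟩
  have hunit : ∀ x, x - 1 ∈ J → IsUnit x := fun x hx => by
    simpa using IsNilpotent.isUnit_one_add (hnil _ hx)
  -- the number of factors
  let t : Fin r → Module.Dual κ B := fun i =>
    (Matrix.traceLinearMap (Fin (d i)) κ κ).comp ((LinearMap.proj i).comp π.toLinearMap)
  have ht : ∀ i, IsTr (t i) := fun i x y => by
    show Matrix.trace (π (x * y) i) = Matrix.trace (π (y * x) i)
    rw [map_mul, map_mul, Pi.mul_apply, Pi.mul_apply, Matrix.trace_mul_comm]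
  have hδ : ∀ i : Fin r, ∃ b, π b = Pi.single i (Matrix.single (0 : Fin (d i)) 0 (1 : κ)) := fun i =>
    hπs _
  choose δ hδ using hδ
  have htδ : ∀ i j, t j (δ i) = if i = j then 1 else 0 := fun i j => by
    show Matrix.trace (π (δ i) j) = _
    rw [hδ]
    rcases eq_or_ne i j with rfl | h
    · simp [Matrix.trace_single_eq_same]
    · simp [h]
  have htli : LinearIndependent κ t := by
    rw [Fintype.linearIndependent_iff]
    intro c hc j
    simpa [htδ] using LinearMap.congr_fun hc (δ j)
  have hr : r = 1 := by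
    rcases Nat.lt_trichotomy r 1 with h | h | h
    · exfalso
      have hr0 : r = 0 := by omega
      subst hr0
      have h1 : (1 : B) ∈ J := (hπk 1).mp (funext fun i => i.elim0)
      exact not_isUnit_zero (M₀ := B) (hunit 0 (by simpa using h1))
    · exact h
    exfalso
    rcases Nat.lt_or_ge 2 r with h3 | h3
    · exact htr (fun i => t (Fin.castLE h3 i)) (fun i => ht _)
        (htli.comp _ (Fin.castLE_injective _))
    have hr2 : r = 2 := le_antisymm h3 h
    subst hr2
    have hspan : τ ∈ Submodule.span κ (Set.range t) := by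
      by_contra hc
      refine htr (Fin.cons τ t) (fun i => ?_) (linearIndependent_finCons.mpr ⟨htli, hc⟩)
      refine Fin.cases hτ (fun j => ?_) i
      simpa using ht j
    obtain ⟨c, hc⟩ := (Submodule.mem_span_range_iff_exists_fun κ).mp hspan
    have hJ0 : ∀ x ∈ J, x = 0 := fun x hx => hnd x fun y => by
      have h0 : π (x * y) = 0 := (hπk _).mpr (J.mul_mem_right y hx)
      rw [← hc]
      simp [t, h0]
    obtain ⟨e, he⟩ := hπs (Pi.single 0 1)
    have hπi : Function.Injective π := (injective_iff_map_eq_zero π).mpr fun x hx =>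
      hJ0 x ((hπk x).mp hx)
    rcases hidem e (hπi (by rw [map_mul, he, ← Pi.single_mul, one_mul]))
      (fun b => hπi (by
        rw [map_mul, map_mul, he]
        funext i
        rcases eq_or_ne i 0 with rfl | hi
        · simp
        · simp [Pi.single_eq_of_ne hi])) with h0 | h0
    · rw [h0, map_zero] at he
      simpa using congrFun he 0
    · rw [h0, map_one] at he
      simpa using congrFun he 1
  subst hr
  -- the single factor
  set m := d 0 with hm
  let P : B →ₐ[κ] Matrix (Fin m) (Fin m) κ :=
    (Pi.evalAlgHom κ (fun i => Matrix (Fin (d i)) (Fin (d i)) κ) 0).comp π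
  have hPs : Function.Surjective P := fun X => by
    obtain ⟨b, hb⟩ := hπs (Pi.single 0 X)
    exact ⟨b, by simp [P, hb]⟩
  have hPk : ∀ x, P x = 0 ↔ x ∈ J := fun x => by
    rw [← hπk]
    refine ⟨fun h => funext fun i => ?_, fun h => by simp [P, h]⟩
    rw [Subsingleton.elim i 0]
    exact h
  choose E hE using fun i j : Fin m => hPs (Matrix.single i j 1)
  -- `m ≤ n`
  have hker : ∀ x, φ x = 0 → P x = 0 := by
    intro x hx
    by_contra hne
    obtain ⟨i, k, hik⟩ : ∃ i k, P x i k ≠ 0 := by
      by_contra hc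
      exact hne (Matrix.ext fun i k => by_contra fun h => hc ⟨i, k, h⟩)
    set y := (P x i k)⁻¹ • ∑ l, E l i * x * E k l with hy
    have hφy : φ y = 0 := by simp [hy, hx]
    have hPy : P y = 1 := by
      rw [hy, map_smul, map_sum]
      have : ∀ l, P (E l i * x * E k l) = (P x i k) • Matrix.single l l (1 : κ) := fun l => by
        rw [map_mul, map_mul, hE, hE, Matrix.single_mul_mul_single, one_mul, mul_one,
          Matrix.smul_single, smul_eq_mul, mul_one]
      simp only [this]
      rw [← Finset.smul_sum, smul_smul, inv_mul_cancel₀ hik, one_smul]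
      ext a b
      rcases eq_or_ne a b with rfl | hab
      · simp [Matrix.sum_apply, Matrix.single_apply]
      · rw [Matrix.one_apply_ne hab, Matrix.sum_apply]
        exact Finset.sum_eq_zero fun l _ => Matrix.single_apply_of_ne _ _ _ _ _ (by rintro ⟨rfl, rfl⟩; exact hab rfl)
    have hu := hunit y ((hPk _).mp (by rw [map_sub, hPy, map_one, sub_self]))
    have := hu.map φ
    rw [hφy] at this
    exact not_isUnit_zero this
  have hmn : m * m ≤ n ^ 2 := by
    have h1 := LinearMap.finrank_range_add_finrank_ker φ.toLinearMap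
    have h2 := LinearMap.finrank_range_add_finrank_ker P.toLinearMap
    have h3 : Module.finrank κ φ.toLinearMap.ker ≤ Module.finrank κ P.toLinearMap.ker :=
      Submodule.finrank_mono fun x hx => hker x hx
    have h4 := Submodule.finrank_le φ.toLinearMap.range
    rw [LinearMap.range_eq_top.mpr (show Function.Surjective P.toLinearMap from hPs), finrank_top]
      at h2
    simp only [Module.finrank_matrix, Module.finrank_self, Fintype.card_fin, mul_one] at h2 h4
    rw [sq]
    omega
  -- a primitive idempotent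
  set o : Fin m := 0
  obtain ⟨e, he, hPe⟩ := exists_isIdempotentElem_eq_of_ker_isNilpotent P.toRingHom
    (fun x hx => hnil x ((hPk x).mp hx)) (Matrix.single o o 1) ⟨E o o, hE o o⟩
    (by simp [IsIdempotentElem, Matrix.single_mul_single_same])
  have hPe' : P e = Matrix.single o o 1 := hPe
  obtain ⟨s, hs⟩ : IsUnit (∑ l, E l o * e * E o l) := hunit _ ((hPk _).mp (by
    rw [map_sub, map_sum, map_one, sub_eq_zero]
    simp only [map_mul, hE, hPe', Matrix.single_mul_single_same, one_mul]
    ext a b
    rcases eq_or_ne a b with rfl | hab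
    · simp [Matrix.sum_apply, Matrix.single_apply]
    · rw [Matrix.one_apply_ne hab, Matrix.sum_apply]
      exact Finset.sum_eq_zero fun l _ => Matrix.single_apply_of_ne _ _ _ _ _ (by rintro ⟨rfl, rfl⟩; exact hab rfl)))
  let u : Fin m → B := fun l => (↑s⁻¹ : B) * E l o
  let v : Fin m → B := fun l => E o l
  have huv : ∑ l, u l * e * v l = 1 := by
    simp only [u, v, mul_assoc, ← Finset.mul_sum]
    simp only [← mul_assoc, ← hs, Units.inv_mul]
  -- the filtration of the radical of the corner
  let E' : B →ₗ[κ] B := (LinearMap.mulLeft κ e).comp (LinearMap.mulRight κ e)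
  have hE' : ∀ b, E' b = e * b * e := fun b => by simp [E', mul_assoc]
  let V : ℕ → Submodule κ B := fun k => (J ^ k).restrictScalars κ ⊓ LinearMap.ker (E' - LinearMap.id)
  have hV : ∀ k b, b ∈ V k ↔ b ∈ J ^ k ∧ e * b * e = b := fun k b => by
    simp [V, sub_eq_zero, hE']
  have hVN : ∀ b ∈ V N, b = 0 := fun b hb => by
    have := ((hV N b).mp hb).1
    rwa [hN, Ideal.zero_eq_bot, Ideal.mem_bot] at this
  have hefix : ∀ b : B, e * (e * b * e) * e = e * b * e := fun b => by
    rw [show e * (e * b * e) * e = (e * e) * b * (e * e) by simp only [mul_assoc], he.eq]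
  have hVmul : ∀ a c x y, x ∈ V a → y ∈ V c → x * y ∈ V (a + c) := by
    intro a c x y hx hy
    rw [hV] at hx hy ⊢
    refine ⟨Ideal.IsTwoSided.pow_add (I := J) a c ▸ Ideal.mul_mem_mul hx.1 hy.1, ?_⟩
    rw [← hx.2, ← hy.2]
    simp only [← mul_assoc, he.eq]
    simp only [mul_assoc, he.eq]
  have hsucc : ∀ k, ∀ w ∈ V (k + 1), w ∈ Submodule.span κ {z | ∃ a ∈ V k, ∃ b ∈ V 1, z = a * b} := by
    intro k w hw
    obtain ⟨hwJ, hwe⟩ := (hV _ w).mp hw
    rw [← hwe, ← hE']
    clear hw hwe
    rw [Ideal.IsTwoSided.pow_add, Submodule.pow_one] at hwJ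
    induction hwJ using Submodule.mul_induction_on' with
    | mem_mul_mem a ha b hb =>
      have : E' (a * b) = ∑ l, (e * (a * u l) * e) * (e * (v l * b) * e) := by
        rw [hE']
        calc e * (a * b) * e = e * a * (∑ l, u l * e * v l) * (b * e) := by
              rw [huv, mul_one]; simp only [mul_assoc]
          _ = _ := by
              simp only [Finset.mul_sum, Finset.sum_mul]
              refine Finset.sum_congr rfl fun l _ => ?_
              simp only [← mul_assoc]
              rw [mul_assoc _ e e, he.eq]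
      rw [this]
      refine Submodule.sum_mem _ fun l _ => Submodule.subset_span
        ⟨_, (hV k _).mpr ⟨?_, hefix _⟩, _, (hV 1 _).mpr ⟨?_, hefix _⟩, rfl⟩
      · exact (J ^ k).mul_mem_right e ((J ^ k).mul_mem_left e ((J ^ k).mul_mem_right _ ha))
      · rw [Submodule.pow_one]
        exact J.mul_mem_right e (J.mul_mem_left e (J.mul_mem_left _ hb))
    | add x _ y _ hx hy => rw [map_add]; exact Submodule.add_mem _ hx hy
  -- the coordinate at `e`
  let g : Module.Dual κ B :=
    { toFun := fun b => P b o o
      map_add' := fun a b => by simp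
      map_smul' := fun c b => by simp }
  have hg1 : ∀ a, e * a * e - g (e * a * e) • e ∈ V 1 := by
    intro a
    rw [hV, Submodule.pow_one, ← hPk]
    refine ⟨?_, ?_⟩
    · rw [map_sub, map_smul]
      show P (e * a * e) - P (e * a * e) o o • P e = 0
      rw [map_mul, map_mul, hPe', Matrix.single_mul_mul_single, one_mul, mul_one,
        Matrix.single_apply_same, Matrix.smul_single, smul_eq_mul, mul_one, sub_self]
    · rw [mul_sub, sub_mul, hefix, mul_smul_comm, smul_mul_assoc, he.eq, he.eq]
  have hge : g e = 1 := by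
    show P e o o = 1
    rw [hPe', Matrix.single_apply_same]
  have hgV : ∀ b ∈ V 1, g b = 0 := fun b hb => by
    have h1 := ((hV 1 b).mp hb).1
    rw [Submodule.pow_one, ← hPk] at h1
    show P b o o = 0
    rw [h1]
    rfl
  have hgen : ∀ W : Submodule κ B, W ≤ V 1 → (∀ a ∈ V 1, ∀ b ∈ V 1, a * b - b * a ∈ W) →
      ∃ x ∈ V 1, V 1 ≤ Submodule.span κ {x} ⊔ W := by
    intro W hWV hWc
    by_contra hc
    simp only [not_exists, not_and, SetLike.not_le_iff_exists] at hc
    obtain ⟨x₁, hx₁, hx₁W⟩ := hc 0 (V 1).zero_mem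
    obtain ⟨x₂, hx₂, hx₂W⟩ := hc x₁ hx₁
    simp only [Submodule.span_zero_singleton, bot_sup_eq] at hx₁W
    have hnot1 : x₁ ∉ Submodule.span κ {e} ⊔ W := by
      intro h
      obtain ⟨_, hy, w, hw, hyw⟩ := Submodule.mem_sup.mp h
      obtain ⟨c, rfl⟩ := Submodule.mem_span_singleton.mp hy
      have := congrArg g hyw
      rw [map_add, map_smul, hge, hgV w (hWV hw), hgV x₁ hx₁, smul_eq_mul, mul_one, add_zero]
        at this
      rw [this, zero_smul, zero_add] at hyw
      exact hx₁W (hyw ▸ hw)
    have hnot2 : x₂ ∉ Submodule.span κ {e} ⊔ (Submodule.span κ {x₁} ⊔ W) := by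
      intro h
      obtain ⟨_, hy, w, hw, hyw⟩ := Submodule.mem_sup.mp h
      obtain ⟨c, rfl⟩ := Submodule.mem_span_singleton.mp hy
      have hwV : w ∈ V 1 := (sup_le ((Submodule.span_singleton_le_iff_mem _ _).mpr hx₁) hWV) hw
      have := congrArg g hyw
      rw [map_add, map_smul, hge, hgV w hwV, hgV x₂ hx₂, smul_eq_mul, mul_one, add_zero] at this
      rw [this, zero_smul, zero_add] at hyw
      exact hx₂W (hyw ▸ hw)
    obtain ⟨f₁, hf₁, hf₁0⟩ := Submodule.exists_dual_map_eq_bot_of_notMem hnot1 inferInstance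
    obtain ⟨f₂, hf₂, hf₂0⟩ := Submodule.exists_dual_map_eq_bot_of_notMem hnot2 inferInstance
    have hf₁0' : ∀ y ∈ Submodule.span κ {e} ⊔ W, f₁ y = 0 := fun y hy =>
      (Submodule.eq_bot_iff _).mp hf₁0 _ (Submodule.mem_map_of_mem hy)
    have hf₂0' : ∀ y ∈ Submodule.span κ {e} ⊔ (Submodule.span κ {x₁} ⊔ W), f₂ y = 0 := fun y hy =>
      (Submodule.eq_bot_iff _).mp hf₂0 _ (Submodule.mem_map_of_mem hy)
    have htr' : ∀ f : Module.Dual κ B, (∀ w ∈ W, f w = 0) → ∀ a b,
        f ((e * a * e) * (e * b * e)) = f ((e * b * e) * (e * a * e)) := by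
      intro f hf a b
      set a' := e * a * e - g (e * a * e) • e with ha'
      set b' := e * b * e - g (e * b * e) • e with hb'
      have ha : e * a * e = g (e * a * e) • e + a' := (add_sub_cancel _ _).symm
      have hb : e * b * e = g (e * b * e) • e + b' := (add_sub_cancel _ _).symm
      have hav : a' ∈ V 1 := hg1 a
      have hbv : b' ∈ V 1 := hg1 b
      have hea : e * a' = a' ∧ a' * e = a' := by
        have h := ((hV 1 a').mp hav).2
        constructor
        · rw [← h, ← mul_assoc, ← mul_assoc, he.eq]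
        · rw [← h, mul_assoc _ e e, he.eq]
      have heb : e * b' = b' ∧ b' * e = b' := by
        have h := ((hV 1 b').mp hbv).2
        constructor
        · rw [← h, ← mul_assoc, ← mul_assoc, he.eq]
        · rw [← h, mul_assoc _ e e, he.eq]
      rw [ha, hb, ← sub_eq_zero, ← map_sub]
      refine hf _ ?_
      have : (g (e * a * e) • e + a') * (g (e * b * e) • e + b') -
          (g (e * b * e) • e + b') * (g (e * a * e) • e + a') = a' * b' - b' * a' := by
        simp only [add_mul, mul_add, smul_mul_assoc, mul_smul_comm, he.eq, hea.1, hea.2, heb.1,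
          heb.2, smul_add, smul_smul]
        rw [mul_comm (g (e * b * e))]
        abel
      rw [this]
      exact hWc _ hav _ hbv
    have hgtr : ∀ a b, g ((e * a * e) * (e * b * e)) = g ((e * b * e) * (e * a * e)) := by
      intro a b
      show P _ o o = P _ o o
      simp only [map_mul, hPe', Matrix.single_mul_mul_single, one_mul, mul_one,
        Matrix.single_mul_single_same, Matrix.single_apply_same]
      rw [mul_comm]
    obtain ⟨T₀, A₀⟩ := isTr_extend e he.eq u v huv g hgtr
    obtain ⟨T₁, A₁⟩ := isTr_extend e he.eq u v huv f₁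
      (htr' f₁ fun w hw => hf₁0' w (Submodule.mem_sup_right hw))
    obtain ⟨T₂, A₂⟩ := isTr_extend e he.eq u v huv f₂
      (htr' f₂ fun w hw => hf₂0' w (Submodule.mem_sup_right (Submodule.mem_sup_right hw)))
    refine htr ![extend e u v g, extend e u v f₁, extend e u v f₂] (fun i => ?_) ?_
    · fin_cases i <;> assumption
    rw [Fintype.linearIndependent_iff]
    intro c hc
    have hval : ∀ w, e * w * e = w → c 0 * g w + c 1 * f₁ w + c 2 * f₂ w = 0 := by
      intro w hw
      have := LinearMap.congr_fun hc w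
      simp [Fin.sum_univ_three] at this
      rw [← hw, A₀, A₁, A₂, hw] at this
      exact this
    have h0 := hval e (by rw [he.eq, he.eq])
    rw [hge, hf₁0' e (Submodule.mem_sup_left (Submodule.mem_span_singleton_self e)),
      hf₂0' e (Submodule.mem_sup_left (Submodule.mem_span_singleton_self e)), mul_zero, mul_zero,
      add_zero, add_zero, mul_one] at h0
    have h1 := hval x₁ ((hV 1 x₁).mp hx₁).2
    rw [hf₂0' x₁ (Submodule.mem_sup_right (Submodule.mem_sup_left
      (Submodule.mem_span_singleton_self x₁))), h0, zero_mul, mul_zero, zero_add, add_zero] at h1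
    have h1' := (mul_eq_zero.mp h1).resolve_right hf₁
    have h2 := hval x₂ ((hV 1 x₂).mp hx₂).2
    rw [h0, h1', zero_mul, zero_mul, zero_add, zero_add] at h2
    intro i
    fin_cases i
    · exact h0
    · exact h1'
    · exact (mul_eq_zero.mp h2).resolve_right hf₂
  -- the corner is commutative
  have hV21 : V 2 ≤ V 1 := fun b hb => by
    rw [hV] at hb ⊢
    exact ⟨Ideal.pow_le_pow_right one_le_two hb.1, hb.2⟩
  obtain ⟨x, hx, hV1⟩ := hgen (V 2) hV21 fun a ha b hb =>
    (V 2).sub_mem (hVmul 1 1 a b ha hb) (hVmul 1 1 b a hb ha)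
  have hxpow : ∀ k, 1 ≤ k → x ^ k ∈ V k ∧ V k ≤ Submodule.span κ {x ^ k} ⊔ V (k + 1) := by
    intro k hk
    induction k, hk using Nat.le_induction with
    | base => rw [pow_one]; exact ⟨hx, hV1⟩
    | succ k _ ihk =>
      obtain ⟨hk1, hk2⟩ := ihk
      refine ⟨pow_succ x k ▸ hVmul k 1 _ _ hk1 hx, fun w hw => ?_⟩
      refine Submodule.span_le.mpr ?_ (hsucc k w hw)
      rintro _ ⟨a, ha, b, hb, rfl⟩
      obtain ⟨_, hc, a', ha', rfl⟩ := Submodule.mem_sup.mp (hk2 ha)
      obtain ⟨c, rfl⟩ := Submodule.mem_span_singleton.mp hc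
      obtain ⟨_, hc', b', hb', rfl⟩ := Submodule.mem_sup.mp (hV1 hb)
      obtain ⟨c', rfl⟩ := Submodule.mem_span_singleton.mp hc'
      rw [add_mul, mul_add, mul_add, smul_mul_assoc, smul_mul_assoc, mul_smul_comm, mul_smul_comm,
        ← pow_succ]
      refine Submodule.add_mem _ (Submodule.add_mem _ ?_ ?_) (Submodule.mem_sup_right ?_)
      · exact Submodule.mem_sup_left (Submodule.smul_mem _ _ (Submodule.smul_mem _ _
          (Submodule.mem_span_singleton_self _)))
      · exact Submodule.mem_sup_right ((V (k + 1 + 1)).smul_mem _ (hVmul k 2 _ _ hk1 hb'))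
      · exact (V (k + 1 + 1)).add_mem ((V (k + 1 + 1)).smul_mem _ (hVmul (k + 1) 1 _ _ ha' hx))
          (by
            have := hVmul (k + 1) 2 _ _ ha' hb'
            rw [hV] at this ⊢
            exact ⟨Ideal.pow_le_pow_right (by omega) this.1, this.2⟩)
  have hxcomm : ∀ i k, 1 ≤ k → N ≤ k + i → ∀ w ∈ V k, x * w = w * x := by
    intro i
    induction i with
    | zero =>
      intro k _ hk w hw
      rw [hVN w ((hV N w).mpr ⟨Ideal.pow_le_pow_right hk ((hV k w).mp hw).1,
        ((hV k w).mp hw).2⟩), mul_zero, zero_mul]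
    | succ i ih =>
      intro k hk hki w hw
      obtain ⟨_, hc, w', hw', rfl⟩ := Submodule.mem_sup.mp ((hxpow k hk).2 hw)
      obtain ⟨c, rfl⟩ := Submodule.mem_span_singleton.mp hc
      rw [mul_add, add_mul, ih (k + 1) (by omega) (by omega) w' hw', mul_smul_comm, smul_mul_assoc,
        ← pow_succ', ← pow_succ]
  have hcomm : ∀ i k, 1 ≤ k → N ≤ k + i → ∀ w ∈ V k, ∀ z ∈ V 1, z * w = w * z := by
    intro i
    induction i with
    | zero =>
      intro k _ hk w hw z _
      rw [hVN w ((hV N w).mpr ⟨Ideal.pow_le_pow_right hk ((hV k w).mp hw).1,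
        ((hV k w).mp hw).2⟩), mul_zero, zero_mul]
    | succ i ih =>
      intro k hk hki w hw z hz
      obtain ⟨_, hc, w', hw', rfl⟩ := Submodule.mem_sup.mp ((hxpow k hk).2 hw)
      obtain ⟨c, rfl⟩ := Submodule.mem_span_singleton.mp hc
      rw [mul_add, add_mul, ih (k + 1) (by omega) (by omega) w' hw' z hz, mul_smul_comm,
        smul_mul_assoc, (Commute.pow_right (show Commute z x from
          (hxcomm N 1 le_rfl (by omega) z hz).symm) k).eq]
  obtain ⟨y, hy, hy1⟩ := hgen ⊥ bot_le fun a ha b hb => (Submodule.mem_bot κ).mpr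
    (sub_eq_zero.mpr (hcomm N 1 le_rfl (by omega) b hb a ha))
  rw [sup_bot_eq] at hy1
  have hyy : y * y = 0 := by
    have h2 : y * y ∈ V 1 := hV21 (hVmul 1 1 y y hy hy)
    obtain ⟨c, hc⟩ := Submodule.mem_span_singleton.mp (hy1 h2)
    rcases eq_or_ne c 0 with rfl | hc0
    · rw [← hc, zero_smul]
    · have hp : ∀ j, y ^ (j + 1) = c ^ j • y := by
        intro j
        induction j with
        | zero => simp
        | succ j ihj => rw [pow_succ, ihj, smul_mul_assoc, ← hc, smul_smul, pow_succ]
      have hy0 : y = 0 := by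
        have h1 : y ∈ J := by simpa [Submodule.pow_one] using ((hV 1 y).mp hy).1
        obtain ⟨j, hj⟩ := hnil y h1
        have h3 : y ^ (j + 1) = 0 := by rw [pow_succ, hj, zero_mul]
        rw [hp] at h3
        exact (smul_eq_zero.mp h3).resolve_left (pow_ne_zero _ hc0)
      rw [hy0, mul_zero]
  have hye : e * y = y ∧ y * e = y := by
    have h := ((hV 1 y).mp hy).2
    constructor
    · rw [← h, ← mul_assoc, ← mul_assoc, he.eq]
    · rw [← h, mul_assoc _ e e, he.eq]
  have hcor : ∀ j ∈ J, ∀ b c : B, ∃ a : κ, e * (b * j * c) * e = a • y := fun j hj b c => by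
    obtain ⟨a, ha⟩ := Submodule.mem_span_singleton.mp (hy1 ((hV 1 _).mpr ⟨by
      rw [Submodule.pow_one]
      exact J.mul_mem_right e (J.mul_mem_left e (J.mul_mem_right c (J.mul_mem_left b hj))),
      hefix _⟩))
    exact ⟨a, ha.symm⟩
  have hJy : ∀ j ∈ J, j * y = 0 := by
    intro j hj
    have : j * y = ∑ l, u l * (e * (v l * j * 1) * e) * y := by
      calc j * y = (∑ l, u l * e * v l) * j * (e * y) := by rw [huv, one_mul, hye.1]
        _ = _ := by
          simp only [Finset.sum_mul, mul_one]
          exact Finset.sum_congr rfl fun l _ => by simp only [mul_assoc]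
    rw [this]
    refine Finset.sum_eq_zero fun l _ => ?_
    obtain ⟨a, ha⟩ := hcor j hj (v l) 1
    rw [ha, mul_assoc, smul_mul_assoc, hyy, smul_zero, mul_zero]
  have hyJ : ∀ j ∈ J, y * j = 0 := by
    intro j hj
    have : y * j = ∑ l, y * (e * (1 * j * u l) * e) * v l := by
      calc y * j = (y * e) * j * (∑ l, u l * e * v l) := by rw [huv, mul_one, hye.2]
        _ = _ := by
          simp only [Finset.mul_sum, one_mul]
          exact Finset.sum_congr rfl fun l _ => by simp only [mul_assoc]
    rw [this]
    refine Finset.sum_eq_zero fun l _ => ?_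
    obtain ⟨a, ha⟩ := hcor j hj 1 (u l)
    rw [ha, mul_smul_comm, hyy, smul_zero, zero_mul]
  have hby : ∀ b, b * y = ∑ i, P b i o • (E i o * y) := by
    intro b
    have h1 : b * e - ∑ i, P b i o • E i o ∈ J := by
      rw [← hPk, map_sub, map_mul, hPe', map_sum, sub_eq_zero]
      simp only [map_smul, hE]
      ext a c
      rcases eq_or_ne c o with rfl | hc
      · simp [Matrix.sum_apply, Matrix.single_apply]
      · simp [Matrix.sum_apply, Matrix.mul_single_apply_of_ne _ _ _ _ _ hc,
          Ne.symm hc]
    have h2 := hJy _ h1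
    rw [sub_mul, mul_assoc, hye.1, sub_eq_zero, Finset.sum_mul] at h2
    simpa only [smul_mul_assoc] using h2
  have hyb : ∀ b, y * b = ∑ k, P b o k • (y * E o k) := by
    intro b
    have h1 : e * b - ∑ k, P b o k • E o k ∈ J := by
      rw [← hPk, map_sub, map_mul, hPe', map_sum, sub_eq_zero]
      simp only [map_smul, hE]
      ext a c
      rcases eq_or_ne a o with rfl | hc
      · simp [Matrix.sum_apply, Matrix.single_apply]
      · simp [Matrix.sum_apply, Matrix.single_mul_apply_of_ne _ _ _ _ _ hc,
          Ne.symm hc]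
    have h2 := hyJ _ h1
    rw [mul_sub, ← mul_assoc, hye.2, sub_eq_zero, Finset.mul_sum] at h2
    simpa only [mul_smul_comm] using h2
  have hJspan : ∀ j ∈ J, j ∈ Submodule.span κ
      (Set.range fun q : Fin m × Fin m => E q.1 o * y * E o q.2) := by
    intro j hj
    have : j = ∑ a, ∑ b, u a * (e * (v a * j * u b) * e) * v b := by
      calc j = (∑ l, u l * e * v l) * j * (∑ l, u l * e * v l) := by rw [huv, one_mul, mul_one]
        _ = _ := by
          simp only [Finset.sum_mul, Finset.mul_sum]
          rw [Finset.sum_comm]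
          exact Finset.sum_congr rfl fun l _ => Finset.sum_congr rfl fun l' _ => by
            simp only [mul_assoc]
    rw [this]
    refine Submodule.sum_mem _ fun a _ => Submodule.sum_mem _ fun b _ => ?_
    obtain ⟨c, hc⟩ := hcor j hj (v a) (u b)
    rw [hc, mul_smul_comm, smul_mul_assoc]
    refine Submodule.smul_mem _ _ ?_
    rw [hby, Finset.sum_mul]
    refine Submodule.sum_mem _ fun i _ => ?_
    rw [smul_mul_assoc, mul_assoc, hyb, Finset.mul_sum]
    refine Submodule.smul_mem _ _ (Submodule.sum_mem _ fun k _ => ?_)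
    rw [mul_smul_comm, ← mul_assoc]
    exact Submodule.smul_mem _ _ (Submodule.subset_span ⟨(i, k), rfl⟩)
  have h2 := LinearMap.finrank_range_add_finrank_ker P.toLinearMap
  rw [LinearMap.range_eq_top.mpr (show Function.Surjective P.toLinearMap from hPs), finrank_top]
    at h2
  have h3 : Module.finrank κ P.toLinearMap.ker ≤ m * m := by
    refine le_trans (Submodule.finrank_mono fun j hj => hJspan j ((hPk j).mp hj)) ?_
    refine le_trans (finrank_range_le_card (R := κ) _) ?_
    simp
  simp only [Module.finrank_matrix, Module.finrank_self, Fintype.card_fin, mul_one] at h2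
  omega

end CfsgLib.Blocks.SmallCenter
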