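import Cfsg.Agent.Lib.Blocks.ValReduction
import Cfsg.Agent.Lib.Blocks.SmallCenterAlgebra
import Cfsg.Agent.Lib.Blocks.Center
import Mathlib.Algebra.MonoidAlgebra.Basic
import Mathlib.Algebra.MonoidAlgebra.MapDomain

/-!
# Blocks with at most two irreducible characters

The reduction of the group ring of such a block is a symmetric algebra with centre of dimension at
most two; hence the sum of the squares of the degrees is at most twice the square of each degree.
-/

set_option autoImplicit false
set_option linter.unusedSectionVars false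
set_option linter.style.haveILetI false

namespace CfsgLib.Blocks.BlockTwo

open Cfsg
open MonoidAlgebra (single)
open scoped ComplexConjugate CfsgLib.Char

variable {G : Type*} [Group G] [Fintype G]

/-- The element of the group algebra with given coefficients. -/
noncomputable def elt {R : Type*} [Semiring R] (f : G → R) : MonoidAlgebra R G :=
  ∑ g, single g (f g)

theorem coeff_elt {R : Type*} [Semiring R] (f : G → R) (x : G) : (elt f).coeff x = f x := by
  classical
  simp [elt, MonoidAlgebra.coeff_sum, Finsupp.finsetSum_apply, Finsupp.single_apply]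

theorem elt_coeff {R : Type*} [Semiring R] (a : MonoidAlgebra R G) : elt (a.coeff ·) = a := by
  ext x
  exact coeff_elt _ x

theorem coeff_mul {R : Type*} [Semiring R] (a b : MonoidAlgebra R G) (x : G) :
    (a * b).coeff x = ∑ u, a.coeff u * b.coeff (u⁻¹ * x) := by
  classical
  conv_lhs => rw [← elt_coeff a, elt, Finset.sum_mul]
  simp [MonoidAlgebra.coeff_sum, Finsupp.finsetSum_apply]

theorem commute_of_class {R : Type*} [CommSemiring R] (a b : MonoidAlgebra R G)
    (ha : ∀ g h, a.coeff (h * g * h⁻¹) = a.coeff g) : a * b = b * a := by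
  ext x
  rw [coeff_mul, coeff_mul]
  refine Fintype.sum_equiv ((Equiv.inv G).trans (Equiv.mulRight x)) _ _ fun u => ?_
  simp only [Equiv.trans_apply, Equiv.inv_apply, Equiv.coe_mulRight, mul_inv_rev, inv_inv]
  rw [mul_comm]
  congr 1
  have : x⁻¹ * u * x = x⁻¹ * u * (x⁻¹)⁻¹ := by rw [inv_inv]
  rw [this, ha]

theorem class_of_commute {R : Type*} [Semiring R] (a : MonoidAlgebra R G)
    (ha : ∀ g, a * single g 1 = single g 1 * a) (g h : G) :
    a.coeff (h * g * h⁻¹) = a.coeff g := by
  have := congrArg (fun z => z.coeff (h * g)) (ha h)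
  rw [MonoidAlgebra.coeff_mul_single_apply, MonoidAlgebra.coeff_single_mul_apply] at this
  simpa [mul_assoc] using this

theorem coeff_mul_one_comm {R : Type*} [CommSemiring R] (a b : MonoidAlgebra R G) :
    (a * b).coeff 1 = (b * a).coeff 1 := by
  rw [coeff_mul, coeff_mul]
  refine Fintype.sum_equiv (Equiv.inv G) _ _ fun u => ?_
  simp [mul_comm]

/-- The central element of the complex group algebra with given central character values. -/
noncomputable def phi (G : Type*) [Group G] [Fintype G] :
    (IrrCharacter G → ℂ) →+* MonoidAlgebra ℂ G where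
  toFun v := elt (ofOmega v)
  map_zero' := by
    ext x
    rw [coeff_elt, ← zero_smul ℂ (0 : IrrCharacter G → ℂ), ofOmega_smul, zero_smul]
    rfl
  map_one' := by
    classical
    ext x
    rw [coeff_elt, ofOmega_one, deltaOne_apply, MonoidAlgebra.one_def, MonoidAlgebra.coeff_single,
      Finsupp.single_apply]
    exact if_congr eq_comm rfl rfl
  map_add' v w := by
    ext x
    rw [coeff_elt, ofOmega_add, MonoidAlgebra.coeff_add, Finsupp.add_apply, coeff_elt, coeff_elt]
    rfl
  map_mul' v w := by
    ext x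
    rw [coeff_elt, ofOmega_mul, coeff_mul]
    simp only [coeff_elt]
    rfl

theorem coeff_phi (v : IrrCharacter G → ℂ) (x : G) : (phi G v).coeff x = ofOmega v x :=
  coeff_elt _ x

/-- The rank of left multiplication by a complex idempotent. -/
theorem finrank_range_mulLeft {E : MonoidAlgebra ℂ G} (hE : E * E = E) :
    (Module.finrank ℂ (LinearMap.mulLeft ℂ E).range : ℂ) = Nat.card G * E.coeff 1 := by
  classical
  have hproj : LinearMap.IsProj (LinearMap.mulLeft ℂ E).range (LinearMap.mulLeft ℂ E) :=
    ⟨fun x => LinearMap.mem_range_self _ x, fun x ⟨y, hy⟩ => by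
      rw [← hy]; simp [← mul_assoc, hE]⟩
  rw [← hproj.trace, LinearMap.trace_eq_matrix_trace ℂ (MonoidAlgebra.basis G ℂ), Matrix.trace]
  have : ∀ g : G, LinearMap.toMatrix (MonoidAlgebra.basis G ℂ) (MonoidAlgebra.basis G ℂ)
      (LinearMap.mulLeft ℂ E) g g = E.coeff 1 := fun g => by
    rw [LinearMap.toMatrix_apply, LinearMap.mulLeft_apply]
    show (E * single g 1).coeff g = _
    rw [MonoidAlgebra.coeff_mul_single_apply]
    simp
  simp only [Matrix.diag, this, Finset.sum_const, Finset.card_univ, nsmul_eq_mul,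
    Nat.card_eq_fintype_card]

section Reduction

variable {V : ValuationSubring ℂ}

local notation "κ" => IsLocalRing.ResidueField V

/-- Into the complex group algebra. -/
noncomputable def toC : MonoidAlgebra V G →+* MonoidAlgebra ℂ G :=
  MonoidAlgebra.mapRingHom G (algebraMap V ℂ)

/-- Into the group algebra over the residue field. -/
noncomputable def toK : MonoidAlgebra V G →+* MonoidAlgebra κ G :=
  MonoidAlgebra.mapRingHom G (IsLocalRing.residue V)

theorem coeff_toC (a : MonoidAlgebra V G) (x : G) : (toC a).coeff x = (a.coeff x : ℂ) := by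
  simp [toC, MonoidAlgebra.coeff_mapRingHom]

theorem coeff_toK (a : MonoidAlgebra V G) (x : G) :
    (toK a).coeff x = IsLocalRing.residue V (a.coeff x) := by
  simp [toK, MonoidAlgebra.coeff_mapRingHom]

theorem toC_injective : Function.Injective (toC : MonoidAlgebra V G →+* MonoidAlgebra ℂ G) :=
  fun a b h => by
    ext x
    have := congrArg (fun z => z.coeff x) h
    simpa [coeff_toC] using this

theorem exists_toK (a : MonoidAlgebra κ G) : ∃ â, toK â = a := by
  choose f hf using fun x => IsLocalRing.residue_surjective (R := V) (a.coeff x)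
  exact ⟨elt f, by ext x; rw [coeff_toK, coeff_elt, hf]⟩

/-- The rank of left multiplication does not grow under reduction. -/
theorem finrank_range_le (E : MonoidAlgebra V G) :
    Module.finrank κ (LinearMap.mulLeft κ (toK E)).range ≤
      Module.finrank ℂ (LinearMap.mulLeft ℂ (toC E)).range := by
  classical
  let b := Module.finBasis κ (LinearMap.mulLeft κ (toK E)).range
  choose x hx using fun i => (b i).2
  choose x' hx' using fun i => exists_toK (x i)
  have hli : LinearIndependent κ
      fun i (g : G) => IsLocalRing.residue V ((E * x' i).coeff g) := by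
    have : LinearIndependent κ fun i => ((b i : _) : MonoidAlgebra κ G) :=
      b.linearIndependent.map' (Submodule.subtype _) (Submodule.ker_subtype _)
    rw [Fintype.linearIndependent_iff] at this ⊢
    refine fun c hc => this c ?_
    ext g
    have h := congrFun hc g
    simp only [Finset.sum_apply, Pi.smul_apply, smul_eq_mul, Pi.zero_apply] at h
    simp only [MonoidAlgebra.coeff_sum, Finsupp.finsetSum_apply, MonoidAlgebra.coeff_smul,
      Finsupp.smul_apply, smul_eq_mul, ← hx, LinearMap.mulLeft_apply, ← hx', ← map_mul,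
      coeff_toK]
    simpa using h
  have hC := ValRed.indep_lift (fun i g => (E * x' i).coeff g) hli
  have hC' : LinearIndependent ℂ fun i => (⟨toC E * toC (x' i), toC (x' i), rfl⟩ :
      (LinearMap.mulLeft ℂ (toC E)).range) := by
    rw [Fintype.linearIndependent_iff] at hC ⊢
    refine fun c hc => hC c (funext fun g => ?_)
    have h := congrArg (fun z => (Subtype.val z).coeff g) hc
    simp only [AddSubmonoidClass.coe_finsetSum, SetLike.val_smul, MonoidAlgebra.coeff_sum,
      Finsupp.finsetSum_apply, MonoidAlgebra.coeff_smul, Finsupp.smul_apply, smul_eq_mul,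
      ← map_mul, coeff_toC, ZeroMemClass.coe_zero] at h
    simpa [Finset.sum_apply] using h
  simpa using hC'.fintype_card_le_finrank

variable {M : Ideal AlgInt} [M.IsPrime]

theorem omega_mem (hV : ∀ z, MemLocalRing M z → z ∈ V) (χ : IrrCharacter G) {f : G → ℂ}
    (hf : IsClassFunction G f) (hfV : ∀ g, f g ∈ V) : omega (χ : G → ℂ) f ∈ V := by
  have : Fintype (ConjClasses G) := Fintype.ofFinite _
  rw [omega_eq_sum_classes χ hf]
  exact sum_mem fun c _ => mul_mem (hfV _) (hV _ (memLocalRing_centralChar χ _))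

theorem omega_sub_mem (hV : ∀ z, MemLocalRing M z → z ∈ V)
    (hI : ∀ (z : ℂ) (h : z ∈ V), MemLocalIdeal M z →
      (⟨z, h⟩ : V) ∈ IsLocalRing.maximalIdeal V)
    {χ ψ : IrrCharacter G} (hs : SameBlock M (χ : G → ℂ) (ψ : G → ℂ)) {f : G → ℂ}
    (hf : IsClassFunction G f) (hfV : ∀ g, f g ∈ V) :
    IsLocalRing.residue V ⟨omega (χ : G → ℂ) f, omega_mem hV χ hf hfV⟩ =
      IsLocalRing.residue V ⟨omega (ψ : G → ℂ) f, omega_mem hV ψ hf hfV⟩ := by
  have : Fintype (ConjClasses G) := Fintype.ofFinite _
  rw [← sub_eq_zero, ← map_sub, IsLocalRing.residue_eq_zero_iff]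
  have e : (⟨omega (χ : G → ℂ) f, omega_mem hV χ hf hfV⟩ : V) -
      ⟨omega (ψ : G → ℂ) f, omega_mem hV ψ hf hfV⟩ =
      ∑ c : ConjClasses G, (⟨f (Quotient.out c), hfV _⟩ : V) *
        ⟨centralChar (χ : G → ℂ) (Quotient.out c) - centralChar (ψ : G → ℂ) (Quotient.out c),
          hV _ (memLocalRing_of_memLocalIdeal (hs _))⟩ := by
    apply Subtype.ext
    simp [omega_eq_sum_classes _ hf, ← Finset.sum_sub_distrib, mul_sub]
  rw [e]
  exact Ideal.sum_mem _ fun c _ => Ideal.mul_mem_left _ _ (hI _ _ (hs _))

end Reduction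

open Classical in
theorem degree_sq_bound_aux {M : Ideal AlgInt} [M.IsPrime] {V : ValuationSubring ℂ}
    (hV : ∀ z : ℂ, MemLocalRing M z → z ∈ V)
    (hI : ∀ (z : ℂ) (h : z ∈ V), MemLocalIdeal M z → (⟨z, h⟩ : V) ∈ IsLocalRing.maximalIdeal V)
    {B : Set (IrrCharacter G)}
    (hB : IsPBlock M B) (h2 : Nat.card B ≤ 2) {χ : IrrCharacter G} (hχ : χ ∈ B) {d : ℕ}
    (hd : (χ : G → ℂ) 1 = d) :
    ∑ ψ : IrrCharacter G with ψ ∈ B, ‖(ψ : G → ℂ) 1‖ ^ 2 ≤ 2 * (d : ℝ) ^ 2 := by
  -- the idempotent
  let eV : MonoidAlgebra V G := elt fun g => ⟨blockCoeff B g, hV _ (IsPBlock.memLocalRing_blockCoeff hB g)⟩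
  have heC : toC eV = phi G (indVec B) := by
    ext x
    rw [coeff_toC, coeff_elt, coeff_phi, ofOmega_indVec]
  have hivv : indVec B * indVec B = indVec B := funext fun η => by
    by_cases h : η ∈ B
    · simp [indVec_of_mem h]
    · simp [indVec_of_notMem h]
  have heV : eV * eV = eV := toC_injective (by rw [map_mul, heC, ← map_mul, hivv])
  set ε : (MonoidAlgebra (IsLocalRing.ResidueField V) G) := toK eV with hε
  have hεε : ε * ε = ε := by rw [hε, ← map_mul, heV]
  have hεc : ∀ a : (MonoidAlgebra (IsLocalRing.ResidueField V) G), ε * a = a * ε := fun a => commute_of_class _ _ fun g h => by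
    simp only [hε, coeff_toK, eV, coeff_elt]
    congr 1
    exact Subtype.ext (isClassFunction_blockCoeff B g h)
  -- the quotient algebra
  let I : Ideal (MonoidAlgebra (IsLocalRing.ResidueField V) G) := Ideal.span {1 - ε}
  have hImem : ∀ x : (MonoidAlgebra (IsLocalRing.ResidueField V) G), x ∈ I ↔ ε * x = 0 := fun x => by
    rw [Ideal.mem_span_singleton']
    constructor
    · rintro ⟨a, rfl⟩
      rw [← mul_assoc, hεc a, mul_assoc, mul_sub, mul_one, hεε, sub_self, mul_zero]
    · intro h
      exact ⟨x, by rw [mul_sub, mul_one, ← hεc, h, sub_zero]⟩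
  haveI : I.IsTwoSided := ⟨fun b ha => by
    rw [hImem] at ha ⊢
    rw [← mul_assoc, ha, zero_mul]⟩
  let q : (MonoidAlgebra (IsLocalRing.ResidueField V) G) →ₐ[(IsLocalRing.ResidueField V)] (MonoidAlgebra (IsLocalRing.ResidueField V) G) ⧸ I := Ideal.Quotient.mkₐ (IsLocalRing.ResidueField V) I
  have hqs : Function.Surjective q := Ideal.Quotient.mkₐ_surjective (IsLocalRing.ResidueField V) I
  have hqeq : ∀ x y, q x = q y ↔ ε * x = ε * y := fun x y => by
    show Ideal.Quotient.mk I x = Ideal.Quotient.mk I y ↔ _
    rw [Ideal.Quotient.eq, hImem, mul_sub, sub_eq_zero]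
  have hqε : ∀ x, q (ε * x) = q x := fun x => (hqeq _ _).mpr (by rw [← mul_assoc, hεε])
  obtain ⟨s, hs⟩ := q.toLinearMap.exists_rightInverse_of_surjective (LinearMap.range_eq_top.mpr hqs)
  have hsq : ∀ z, q (s z) = z := fun z => LinearMap.congr_fun hs z
  haveI : FiniteDimensional (IsLocalRing.ResidueField V) ((MonoidAlgebra (IsLocalRing.ResidueField V) G) ⧸ I) := Module.Finite.of_surjective q.toLinearMap hqs
  -- an integral form of `χ`
  obtain ⟨n₀, ρ, hρ, hρχ⟩ := χ.2
  haveI := hρ
  obtain ⟨ι, hι, hι', b, hb⟩ := ValRed.exists_integral_basis V ρ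
  have hcard : Fintype.card ι = d := by
    have h1 := Module.finrank_eq_card_basis b
    rw [← hρχ, Representation.char_one] at hd
    rw [← h1]
    exact_mod_cast hd
  let e₀ : ι ≃ Fin d := Fintype.equivFinOfCardEq hcard
  let b' := b.reindex e₀
  have hb' : ∀ g i j, LinearMap.toMatrix b' b' (ρ g) i j ∈ V := fun g i j => by
    have := hb g (e₀.symm i) (e₀.symm j)
    simpa [b', LinearMap.toMatrix_apply, Module.Basis.repr_reindex_apply] using this
  let R : G →* Matrix (Fin d) (Fin d) V :=
    { toFun := fun g => Matrix.of fun i j => ⟨_, hb' g i j⟩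
      map_one' := by
        ext i j
        simp [Matrix.one_apply]
        split_ifs <;> simp
      map_mul' := fun g h => by
        ext i j
        simp [LinearMap.toMatrix_mul, Matrix.mul_apply] }
  let φA : (MonoidAlgebra (IsLocalRing.ResidueField V) G) →ₐ[(IsLocalRing.ResidueField V)] Matrix (Fin d) (Fin d) (IsLocalRing.ResidueField V) :=
    MonoidAlgebra.lift (IsLocalRing.ResidueField V) (Matrix (Fin d) (Fin d) (IsLocalRing.ResidueField V)) G
      (((IsLocalRing.residue V).mapMatrix).toMonoidHom.comp R)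
  have hφA : ∀ (f : G → ℂ) (hf : IsClassFunction G f) (hfV : ∀ g, f g ∈ V),
      φA (toK (elt fun g => (⟨f g, hfV g⟩ : V))) =
        IsLocalRing.residue V ⟨omega (χ : G → ℂ) f, omega_mem hV χ hf hfV⟩ •
          (1 : Matrix (Fin d) (Fin d) (IsLocalRing.ResidueField V)) := by
    intro f hf hfV
    have h1 : toK (elt fun g => (⟨f g, hfV g⟩ : V)) =
        ∑ g, single g (IsLocalRing.residue V ⟨f g, hfV g⟩) := by
      rw [elt, map_sum]
      refine Finset.sum_congr rfl fun g _ => ?_
      ext x
      rw [coeff_toK, MonoidAlgebra.coeff_single, MonoidAlgebra.coeff_single, Finsupp.single_apply,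
        Finsupp.single_apply]
      split_ifs <;> simp
    rw [h1, map_sum]
    simp only [φA, MonoidAlgebra.lift_single]
    have h2 := congrArg (LinearMap.toMatrix b' b') (actFun_eq_omega ρ hf)
    rw [hρχ, map_smul, show LinearMap.toMatrix b' b' (1 : Module.End ℂ (Fin n₀ → ℂ)) = 1 from
      LinearMap.toMatrix_id b'] at h2
    ext i j
    have h3 := congrArg (fun X => X i j) h2
    simp only [actFun, map_sum, map_smul, Matrix.sum_apply, Matrix.smul_apply, smul_eq_mul] at h3
    have h4 : ∑ g, (⟨f g, hfV g⟩ : V) * R g i j =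
        ⟨omega (χ : G → ℂ) f, omega_mem hV χ hf hfV⟩ * (if i = j then 1 else 0) := by
      apply Subtype.ext
      rcases eq_or_ne i j with rfl | hij
      · simpa [R] using h3
      · simpa [R, hij] using h3
    have h5 := congrArg (IsLocalRing.residue V) h4
    rw [map_sum] at h5
    simp only [Matrix.sum_apply, Matrix.smul_apply, smul_eq_mul, MonoidHom.comp_apply,
      RingHom.toMonoidHom_eq_coe, MonoidHom.coe_coe, RingHom.mapMatrix_apply, Matrix.map_apply,
      Matrix.one_apply]
    simp only [map_mul] at h5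
    rw [h5]
    split_ifs <;> simp
  have hφε : φA ε = 1 := by
    rw [hε, hφA _ (isClassFunction_blockCoeff B)]
    have : (⟨omega (χ : G → ℂ) (blockCoeff B), omega_mem hV χ (isClassFunction_blockCoeff B)
        fun g => hV _ (IsPBlock.memLocalRing_blockCoeff hB g)⟩ : V) = 1 :=
      Subtype.ext (by
        show omega (χ : G → ℂ) (blockCoeff B) = 1
        rw [omega_blockCoeff, indVec_of_mem hχ])
    rw [this, map_one, one_smul]
  let φ : ((MonoidAlgebra (IsLocalRing.ResidueField V) G) ⧸ I) →ₐ[(IsLocalRing.ResidueField V)] Matrix (Fin d) (Fin d) (IsLocalRing.ResidueField V) := Ideal.Quotient.liftₐ I φA fun a ha => by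
    have := congrArg φA ((hImem a).mp ha)
    rwa [map_mul, hφε, one_mul, map_zero] at this
  have hd0 : 0 < d := by
    obtain ⟨k, hk, hk'⟩ := Char.exists_nat_degree_irr χ.2
    rw [hd] at hk'
    have hkd : d = k := Nat.cast_injective hk'
    omega
  haveI : NeZero d := ⟨hd0.ne'⟩
  haveI : Nontrivial ((MonoidAlgebra (IsLocalRing.ResidueField V) G) ⧸ I) := φ.toRingHom.domain_nontrivial
  -- the trace form
  let τ : Module.Dual (IsLocalRing.ResidueField V) ((MonoidAlgebra (IsLocalRing.ResidueField V) G) ⧸ I) :=
    { toFun := fun z => (ε * s z).coeff 1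
      map_add' := fun a b => by simp [mul_add]
      map_smul' := fun c a => by simp }
  have hτq : ∀ x, τ (q x) = (ε * x).coeff 1 := fun x => by
    show (ε * s (q x)).coeff 1 = _
    rw [(hqeq _ x).mp (hsq _)]
  have hτtr : SmallCenter.IsTr τ := by
    intro z w
    obtain ⟨x, rfl⟩ := hqs z
    obtain ⟨y, rfl⟩ := hqs w
    rw [← map_mul, ← map_mul, hτq, hτq, ← mul_assoc, coeff_mul_one_comm, ← mul_assoc, ← hεc y, mul_assoc]
  have hnd : ∀ z, (∀ w, τ (z * w) = 0) → z = 0 := by
    intro z hz
    obtain ⟨x, rfl⟩ := hqs z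
    rw [← map_zero q, hqeq, mul_zero]
    ext g
    have h := hz (q (single g⁻¹ 1))
    rw [← map_mul, hτq, ← mul_assoc, MonoidAlgebra.coeff_mul_single_apply] at h
    simpa using h
  -- central elements lift to class functions
  have hcent : ∀ z : (MonoidAlgebra (IsLocalRing.ResidueField V) G) ⧸ I, (∀ w, z * w = w * z) → ∃ (f : G → ℂ) (hf : IsClassFunction G f)
      (hfV : ∀ g, f g ∈ V), ε * s z = toK (elt fun g => (⟨f g, hfV g⟩ : V)) ∧ q (ε * s z) = z := by
    intro z hz
    have hc : ∀ g h, (ε * s z).coeff (h * g * h⁻¹) = (ε * s z).coeff g :=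
      class_of_commute _ fun g => by
        have h := hz (q (single g 1))
        rw [← hsq z, ← map_mul, ← map_mul, hqeq, ← mul_assoc, ← mul_assoc, hεc (single g 1),
          mul_assoc (single g 1)] at h
        exact h
    choose r hr using fun c : ConjClasses G =>
      IsLocalRing.residue_surjective (R := V) ((ε * s z).coeff (Quotient.out c))
    refine ⟨fun g => (r (ConjClasses.mk g) : ℂ), fun g h => ?_, fun g => (r _).2, ?_,
      (hqε _).trans (hsq z)⟩
    · show (r _ : ℂ) = r _
      rw [ConjClasses.mk_eq_mk_iff_isConj.mpr (isConj_iff.mpr ⟨h, rfl⟩ : IsConj g (h * g * h⁻¹))]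
    · ext g
      rw [coeff_toK, coeff_elt]
      show _ = IsLocalRing.residue V (r (ConjClasses.mk g))
      rw [hr]
      obtain ⟨y, hy⟩ := isConj_iff.mp (ConjClasses.mk_eq_mk_iff_isConj.mp
        (Quotient.out_eq (ConjClasses.mk g) :
          ConjClasses.mk (Quotient.out (ConjClasses.mk g)) = ConjClasses.mk g))
      exact (congrArg _ hy.symm).trans (hc _ _)
  have hliftC : ∀ (f : G → ℂ) (hf : IsClassFunction G f) (hfV : ∀ g, f g ∈ V),
      toC (eV * elt fun g => (⟨f g, hfV g⟩ : V)) =
        phi G (indVec B * fun η : IrrCharacter G => omega (η : G → ℂ) f) := fun f hf hfV => by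
    rw [map_mul, map_mul, heC]
    congr 1
    ext x
    rw [coeff_toC, coeff_elt, coeff_phi, ofOmega_omega hf]
  -- the centre has dimension at most two
  have hZ : ∀ z : Fin 3 → (MonoidAlgebra (IsLocalRing.ResidueField V) G) ⧸ I, (∀ i w, z i * w = w * z i) → ¬ LinearIndependent (IsLocalRing.ResidueField V) z := by
    intro z hz hli
    choose f hf hfV hfz hqz using fun i => hcent (z i) (hz i)
    have hliA : LinearIndependent (IsLocalRing.ResidueField V) fun i => ε * s (z i) :=
      LinearIndependent.of_comp q.toLinearMap (by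
        rwa [show q.toLinearMap ∘ (fun i => ε * s (z i)) = z from funext hqz])
    let W : Fin 3 → MonoidAlgebra V G := fun i => eV * elt fun g => (⟨f i g, hfV i g⟩ : V)
    have hW : ∀ i, toK (W i) = ε * s (z i) := fun i => by
      rw [map_mul, ← hfz, ← hε, ← mul_assoc, hεε]
    have hliC : LinearIndependent ℂ fun i (g : G) => (((W i).coeff g : V) : ℂ) := by
      refine ValRed.indep_lift _ ?_
      rw [Fintype.linearIndependent_iff] at hliA ⊢
      refine fun c hc => hliA c ?_
      ext g
      have h := congrFun hc g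
      simp only [Finset.sum_apply, Pi.smul_apply, smul_eq_mul, Pi.zero_apply] at h
      simp only [MonoidAlgebra.coeff_sum, Finsupp.finsetSum_apply, MonoidAlgebra.coeff_smul,
        Finsupp.smul_apply, smul_eq_mul, ← hW, coeff_toK]
      simpa using h
    let Λ : (B → ℂ) →ₗ[ℂ] (G → ℂ) :=
      { toFun := fun c => ofOmega fun η => if h : η ∈ B then c ⟨η, h⟩ else 0
        map_add' := fun a b => by
          rw [← ofOmega_add]
          congr 1
          funext η
          by_cases h : η ∈ B <;> simp [h]
        map_smul' := fun t a => by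
          rw [RingHom.id_apply, ← ofOmega_smul]
          congr 1
          funext η
          by_cases h : η ∈ B <;> simp [h] }
    have hWΛ : ∀ i, (fun g : G => (((W i).coeff g : V) : ℂ)) =
        Λ fun η => omega ((η : IrrCharacter G) : G → ℂ) (f i) := fun i => by
      funext g
      rw [← coeff_toC, hliftC _ (hf i), coeff_phi]
      show ofOmega _ g = ofOmega _ g
      congr 1
      funext η
      by_cases h : η ∈ B
      · simp [h, indVec_of_mem h]
      · simp [h, indVec_of_notMem h]
    rw [funext hWΛ] at hliC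
    have h3 := (LinearIndependent.of_comp Λ hliC).fintype_card_le_finrank
    rw [Module.finrank_fintype_fun_eq_card, Fintype.card_fin, ← Nat.card_eq_fintype_card] at h3
    omega
  -- no central idempotents
  have hnil : ∀ (f : G → ℂ) (hf : IsClassFunction G f) (hfV : ∀ g, f g ∈ V),
      IsLocalRing.residue V ⟨omega (χ : G → ℂ) f, omega_mem hV χ hf hfV⟩ = 0 →
      ∃ N : ℕ, (ε * toK (elt fun g => (⟨f g, hfV g⟩ : V))) ^ N = 0 := by
    intro f hf hfV h0
    let v : IrrCharacter G → V := fun η =>
      if η ∈ B then ⟨omega (η : G → ℂ) f, omega_mem hV η hf hfV⟩ else 0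
    let P : Polynomial V := ∏ η, (Polynomial.X - Polynomial.C (v η))
    refine ⟨Fintype.card (IrrCharacter G), ?_⟩
    have hv : ∀ η, IsLocalRing.residue V (v η) = 0 := fun η => by
      by_cases h : η ∈ B
      · simp only [v, if_pos h]
        exact (omega_sub_mem hV hI (IsPBlock.sameBlock hB h hχ) hf hfV).trans h0
      · simp [v, h]
    have hPmap : P.map (IsLocalRing.residue V) = Polynomial.X ^ Fintype.card (IrrCharacter G) := by
      simp [P, Polynomial.map_prod, hv]
    set W := eV * elt fun g => (⟨f g, hfV g⟩ : V) with hW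
    have hvi : indVec B * (fun η : IrrCharacter G => omega (η : G → ℂ) f) = fun η => ((v η : V) : ℂ) := by
      funext η
      by_cases h : η ∈ B
      · simp [v, h, indVec_of_mem h]
      · simp [v, h, indVec_of_notMem h]
    have hPW : Polynomial.eval₂ (MonoidAlgebra.singleOneRingHom : V →+* MonoidAlgebra V G) W P = 0 := by
      refine toC_injective ?_
      rw [Polynomial.hom_eval₂, map_zero, hliftC _ hf, hvi]
      have hcomp : (toC : MonoidAlgebra V G →+* MonoidAlgebra ℂ G).comp
          MonoidAlgebra.singleOneRingHom =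
          (phi G).comp ((Pi.constRingHom (IrrCharacter G) ℂ).comp (algebraMap V ℂ)) := by
        refine RingHom.ext fun c => ?_
        ext x
        rw [RingHom.comp_apply, coeff_toC, RingHom.comp_apply, coeff_phi]
        show _ = ofOmega (fun _ => (c : ℂ)) x
        rw [show (fun _ : IrrCharacter G => (c : ℂ)) = (c : ℂ) • (1 : IrrCharacter G → ℂ) by
          funext; simp, ofOmega_smul, ofOmega_one, Pi.smul_apply, deltaOne_apply, smul_eq_mul]
        show (((single (1 : G) c : MonoidAlgebra V G).coeff x : V) : ℂ) = _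
        rw [MonoidAlgebra.coeff_single, Finsupp.single_apply]
        by_cases h : x = 1
        · simp [h]
        · simp [h, Ne.symm h]
      rw [hcomp, ← Polynomial.hom_eval₂]
      convert map_zero (phi G)
      funext η
      show Pi.evalRingHom (fun _ : IrrCharacter G => ℂ) η _ = 0
      rw [Polynomial.hom_eval₂, Polynomial.eval₂_finsetProd]
      refine Finset.prod_eq_zero (Finset.mem_univ η) ?_
      simp
    have h := congrArg toK hPW
    rw [Polynomial.hom_eval₂, map_zero] at h
    have hcomp' : (toK : MonoidAlgebra V G →+* (MonoidAlgebra (IsLocalRing.ResidueField V) G)).comp MonoidAlgebra.singleOneRingHom =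
        (MonoidAlgebra.singleOneRingHom : (IsLocalRing.ResidueField V) →+* (MonoidAlgebra (IsLocalRing.ResidueField V) G)).comp (IsLocalRing.residue V) := by
      refine RingHom.ext fun c => ?_
      ext x
      rw [RingHom.comp_apply, RingHom.comp_apply, coeff_toK]
      show IsLocalRing.residue V ((single (1 : G) c : MonoidAlgebra V G).coeff x) =
        (single (1 : G) (IsLocalRing.residue V c)).coeff x
      rw [MonoidAlgebra.coeff_single, MonoidAlgebra.coeff_single, Finsupp.single_apply,
        Finsupp.single_apply]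
      split_ifs <;> simp
    rw [hcomp', ← Polynomial.eval₂_map, hPmap, Polynomial.eval₂_X_pow, hW, map_mul, ← hε] at h
    exact h
  have hidem : ∀ c : (MonoidAlgebra (IsLocalRing.ResidueField V) G) ⧸ I, IsIdempotentElem c → (∀ w, c * w = w * c) → c = 0 ∨ c = 1 := by
    intro c hc hcc
    obtain ⟨f, hf, hfV, hfz, hqz⟩ := hcent c hcc
    set lam := IsLocalRing.residue V ⟨omega (χ : G → ℂ) f, omega_mem hV χ hf hfV⟩
    have hφc : φ c = lam • 1 := by
      rw [← hqz]
      show φA (ε * s c) = _
      rw [hfz, hφA f hf hfV]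
    have hl : lam * lam = lam := by
      have h : φ c * φ c = φ c := by rw [← map_mul, hc.eq]
      rw [hφc, smul_mul_smul_comm, one_mul] at h
      simpa using congrArg (fun X => X 0 0) h
    have hzero : ∀ c' : (MonoidAlgebra (IsLocalRing.ResidueField V) G) ⧸ I, IsIdempotentElem c' → ∀ (f' : G → ℂ) (hf' : IsClassFunction G f')
        (hfV' : ∀ g, f' g ∈ V), q (toK (elt fun g => (⟨f' g, hfV' g⟩ : V))) = c' →
        IsLocalRing.residue V ⟨omega (χ : G → ℂ) f', omega_mem hV χ hf' hfV'⟩ = 0 → c' = 0 := by
      intro c' hc' f' hf' hfV' hq' h0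
      obtain ⟨N, hN⟩ := hnil f' hf' hfV' h0
      have h := congrArg q hN
      rw [map_pow, hqε, hq', map_zero] at h
      rcases Nat.eq_zero_or_pos N with rfl | hN0
      · rw [pow_zero] at h
        exact absurd h one_ne_zero
      · rwa [← Nat.succ_pred_eq_of_pos hN0, hc'.pow_succ_eq] at h
    rcases eq_or_ne lam 0 with h0 | h0
    · exact Or.inl (hzero c hc f hf hfV (by rw [← hfz, hqz]) h0)
    · right
      have h1 : lam = 1 := mul_left_cancel₀ h0 (hl.trans (mul_one lam).symm)
      have hf1V : ∀ g, (blockCoeff B - f) g ∈ V := fun g =>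
        sub_mem (hV _ (IsPBlock.memLocalRing_blockCoeff hB g)) (hfV g)
      refine (sub_eq_zero.mp (hzero (1 - c) hc.one_sub (blockCoeff B - f)
        (fun g h => by simp [isClassFunction_blockCoeff B g h, hf g h]) hf1V ?_ ?_)).symm
      · have : toK (elt fun g => (⟨(blockCoeff B - f) g, hf1V g⟩ : V)) = ε - ε * s c := by
          ext g
          rw [hfz, hε, coeff_toK, coeff_elt, MonoidAlgebra.coeff_sub, Finsupp.sub_apply, coeff_toK,
            coeff_toK, coeff_elt, coeff_elt, ← map_sub]
          exact congrArg _ (Subtype.ext rfl)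
        rw [this, map_sub, hqz]
        congr 1
        rw [← mul_one ε, hqε, map_one]
      · have e : (⟨omega (χ : G → ℂ) (blockCoeff B - f), omega_mem hV χ
            (fun g h => by simp [isClassFunction_blockCoeff B g h, hf g h]) hf1V⟩ : V) =
            1 - ⟨omega (χ : G → ℂ) f, omega_mem hV χ hf hfV⟩ := by
          apply Subtype.ext
          have hω : omega (χ : G → ℂ) (blockCoeff B - f) =
              omega (χ : G → ℂ) (blockCoeff B) - omega (χ : G → ℂ) f := by
            simp [omega, sub_mul, Finset.sum_sub_distrib, sub_div]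
          show omega (χ : G → ℂ) (blockCoeff B - f) = _
          rw [hω, omega_blockCoeff, indVec_of_mem hχ]
          rfl
        rw [e, map_sub, map_one]
        exact sub_eq_zero.mpr h1.symm
  have hle := SmallCenter.dim_le τ hτtr hnd hZ hidem φ
  -- the dimension of the quotient
  have hdim : Module.finrank (IsLocalRing.ResidueField V) ((MonoidAlgebra (IsLocalRing.ResidueField V) G) ⧸ I) = Module.finrank (IsLocalRing.ResidueField V) (LinearMap.mulLeft (IsLocalRing.ResidueField V) ε).range := by
    have h1 := LinearMap.finrank_range_add_finrank_ker q.toLinearMap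
    have h2 := LinearMap.finrank_range_add_finrank_ker (LinearMap.mulLeft (IsLocalRing.ResidueField V) ε)
    have h3 : LinearMap.ker q.toLinearMap = LinearMap.ker (LinearMap.mulLeft (IsLocalRing.ResidueField V) ε) := by
      ext x
      rw [LinearMap.mem_ker, LinearMap.mem_ker, LinearMap.mulLeft_apply, AlgHom.toLinearMap_apply,
        ← map_zero q, hqeq, mul_zero]
    rw [LinearMap.range_eq_top.mpr (show Function.Surjective q.toLinearMap from hqs), finrank_top,
      h3] at h1
    omega
  have hcompl : Nat.card G ≤ Module.finrank (IsLocalRing.ResidueField V) (LinearMap.mulLeft (IsLocalRing.ResidueField V) ε).range +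
      Module.finrank (IsLocalRing.ResidueField V) (LinearMap.mulLeft (IsLocalRing.ResidueField V) (toK (1 - eV))).range := by
    have htop : (LinearMap.mulLeft (IsLocalRing.ResidueField V) ε).range ⊔ (LinearMap.mulLeft (IsLocalRing.ResidueField V) (toK (1 - eV))).range = ⊤ := by
      rw [eq_top_iff]
      intro x _
      rw [show x = ε * x + toK (1 - eV) * x by rw [map_sub, map_one, ← hε, sub_mul, one_mul]; abel]
      exact Submodule.add_mem_sup ⟨x, rfl⟩ ⟨x, rfl⟩
    have h := Submodule.finrank_add_le_finrank_add_finrank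
      (LinearMap.mulLeft (IsLocalRing.ResidueField V) ε).range (LinearMap.mulLeft (IsLocalRing.ResidueField V) (toK (1 - eV))).range
    rw [htop, finrank_top, Module.finrank_eq_card_basis (MonoidAlgebra.basis G (IsLocalRing.ResidueField V))] at h
    rw [Nat.card_eq_fintype_card]
    exact h
  have h1e := finrank_range_le (1 - eV)
  have hC := finrank_range_mulLeft (E := toC eV) (by rw [← map_mul, heV])
  have hC' := finrank_range_mulLeft (E := toC (1 - eV)) (by
    rw [← map_mul]
    congr 1
    simp [mul_sub, sub_mul, heV])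
  rw [show (toC (1 - eV)).coeff 1 = 1 - (toC eV).coeff 1 by
    simp [MonoidAlgebra.one_def, coeff_toC]] at hC'
  set rC := Module.finrank ℂ (LinearMap.mulLeft ℂ (toC eV)).range
  set rC' := Module.finrank ℂ (LinearMap.mulLeft ℂ (toC (1 - eV))).range
  have hsum : rC + rC' = Nat.card G := by
    have : ((rC + rC' : ℕ) : ℂ) = ((Nat.card G : ℕ) : ℂ) := by
      push_cast
      rw [hC, hC']
      ring
    exact_mod_cast this
  have hfin : rC ≤ 2 * d ^ 2 := by omega
  have hrC : (rC : ℂ) =
      ((∑ ψ : IrrCharacter G with ψ ∈ B, ‖(ψ : G → ℂ) 1‖ ^ 2 : ℝ) : ℂ) := by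
    rw [hC, heC, coeff_phi, ofOmega, ← mul_assoc, mul_inv_cancel₀
      (Nat.cast_ne_zero.mpr Nat.card_pos.ne'), one_mul]
    push_cast
    rw [Finset.sum_filter]
    refine Finset.sum_congr rfl fun ψ _ => ?_
    by_cases h : ψ ∈ B
    · rw [indVec_of_mem h, if_pos h, one_mul, Complex.mul_conj']
    · rw [indVec_of_notMem h, if_neg h, zero_mul, zero_mul]
  have hr : (rC : ℝ) = ∑ ψ : IrrCharacter G with ψ ∈ B, ‖(ψ : G → ℂ) 1‖ ^ 2 := by
    exact_mod_cast hrC
  rw [← hr]
  exact_mod_cast hfin

open Classical in
/-- The degree bound. -/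
theorem degree_sq_bound {M : Ideal AlgInt} [M.IsPrime] {B : Set (IrrCharacter G)}
    (hB : IsPBlock M B) (h2 : Nat.card B ≤ 2) {χ : IrrCharacter G} (hχ : χ ∈ B) {d : ℕ}
    (hd : (χ : G → ℂ) 1 = d) :
    ∑ ψ : IrrCharacter G with ψ ∈ B, ‖(ψ : G → ℂ) 1‖ ^ 2 ≤ 2 * (d : ℝ) ^ 2 := by
  obtain ⟨V, hV, hI⟩ := ValRed.exists_valuation M
  exact degree_sq_bound_aux hV hI hB h2 hχ hd

end CfsgLib.Blocks.BlockTwo
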