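import Cfsg.Agent.Lib.Blocks.Osima
import Cfsg.Agent.Lib.Blocks.OrbitSum
import Cfsg.Agent.Lib.Blocks.Inflate
import Cfsg.Agent.Lib.Blocks.Sylow

/-!
# Defect classes, defect groups, heights

Defect groups are conjugate, their order is `p ^ blockDefect`, and they contain every normal
`p`-subgroup.
-/

set_option autoImplicit false
set_option linter.unusedSectionVars false

namespace CfsgLib.Blocks

open Cfsg
open scoped ComplexConjugate CfsgLib.Char

variable {p : ℕ} {M : Ideal AlgInt} {G : Type*} [Group G] [Fintype G]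
variable (hM : IsPModular p M) {B : Set (IrrCharacter G)}

theorem IsPRegular.of_isConj {g h : G} (hgh : IsConj g h) (hg : IsPRegular p g) :
    IsPRegular p h := by
  obtain ⟨c, rfl⟩ := isConj_iff.mp hgh
  have : orderOf (c * g * c⁻¹) = orderOf g :=
    orderOf_injective (MulAut.conj c).toMonoidHom (MulAut.conj c).injective g
  rw [IsPRegular, this]
  exact hg

theorem IsPRegular.inv {g : G} (hg : IsPRegular p g) : IsPRegular p g⁻¹ := by
  rwa [IsPRegular, orderOf_inv]

theorem centralChar_eq_of_isConj (χ : IrrCharacter G) {g h : G} (hgh : IsConj g h) :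
    centralChar (χ : G → ℂ) g = centralChar (χ : G → ℂ) h := by
  rw [← omega_classInd, ← omega_classInd]
  congr 1
  funext x
  classical
  exact if_congr ⟨hgh.symm.trans, hgh.trans⟩ rfl rfl

include hM

/-- Every block has a defect class. -/
theorem exists_isDefectClass (hB : IsPBlock M B) : ∃ g : G, IsDefectClass M B g := by
  have := isPrime_of_isPModular hM
  have : Fintype (ConjClasses G) := Fintype.ofFinite _
  obtain ⟨χ, hχ⟩ := IsPBlock.nonempty hB
  have h1 : omega (χ : G → ℂ) (blockCoeff B) = 1 := by rw [omega_blockCoeff, indVec_of_mem hχ]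
  rw [omega_eq_sum_classes χ (isClassFunction_blockCoeff B)] at h1
  obtain ⟨c, hc⟩ : ∃ c : ConjClasses G, ¬ MemLocalIdeal M
      (blockCoeff B (Quotient.out c) * centralChar (χ : G → ℂ) (Quotient.out c)) := by
    by_contra h
    push Not at h
    exact not_memLocalIdeal_one (M := M) (h1 ▸ memLocalIdeal_sum _ _ fun c _ => h c)
  refine ⟨Quotient.out c, IsPBlock.memLocalRing_blockCoeff hB _, fun h => hc
    (memLocalIdeal_mul_right h (memLocalRing_centralChar χ _)), fun ψ hψ h => hc
    (memLocalIdeal_mul_left (IsPBlock.memLocalRing_blockCoeff hB _) ?_)⟩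
  exact (memLocalIdeal_iff_of_sub (IsPBlock.sameBlock hB hχ hψ _)).mpr h

theorem IsDefectClass.isPRegular (hB : IsPBlock M B) {g : G} (hg : IsDefectClass M B g) :
    IsPRegular p g := by
  have := isPrime_of_isPModular hM
  by_contra h
  exact hg.2.1 (blockCoeff_eq_zero_of_not_regular hM (IsPBlock.isBlockUnion hB) h ▸ memLocalIdeal_zero)

omit hM in
theorem IsDefectClass.of_isConj {g h : G} (hgh : IsConj g h) (hg : IsDefectClass M B g) :
    IsDefectClass M B h := by
  have e := IsClassFunction.eq_of_isConj (isClassFunction_blockCoeff B) hgh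
  exact ⟨e ▸ hg.1, e ▸ hg.2.1, fun χ hχ => centralChar_eq_of_isConj χ hgh ▸ hg.2.2 χ hχ⟩

omit hM in
theorem isDefectGroup_iff [Fact p.Prime] {D : Subgroup G} :
    IsDefectGroup p M B D ↔ ∃ g : G, IsDefectClass M B g ∧ IsSylowCent p g D := by
  simp only [IsDefectGroup, isSylowCent_iff]

theorem exists_isDefectGroup (hB : IsPBlock M B) : ∃ D : Subgroup G, IsDefectGroup p M B D := by
  have : Fact p.Prime := ⟨hM.1⟩
  obtain ⟨g, hg⟩ := exists_isDefectClass hM hB
  obtain ⟨D, hD⟩ := exists_isSylowCent (p := p) g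
  exact ⟨D, isDefectGroup_iff.mpr ⟨g, hg, hD⟩⟩

/-- If `ω_B` is nonzero at the class of `g` and `e_B` is nonzero at `h`, every `p`-subgroup
centralizing `h` centralizes a conjugate of `g`. -/
theorem exists_isConj_centralizing (hB : IsPBlock M B) {χ : IrrCharacter G} (hχ : χ ∈ B) {g h : G}
    (hg : ¬ MemLocalIdeal M (centralChar (χ : G → ℂ) g))
    (hh : ¬ MemLocalIdeal M (blockCoeff B h)) {Q : Subgroup G} (hQ : IsPGroup p Q)
    (hQh : Q ≤ Subgroup.centralizer ({h} : Set G)) :
    ∃ y, IsConj g y ∧ Q ≤ Subgroup.centralizer ({y} : Set G) := by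
  classical
  have := isPrime_of_isPModular hM
  obtain ⟨w, hw, hvw⟩ := exists_mul_eq_indVec hB (centralChar_mem_ZO g) hχ hg
  have hconv : blockCoeff B = conv (classInd g) (ofOmega w) := by
    rw [← ofOmega_indVec, ← hvw, ofOmega_mul]
    congr 1
    simp only [← omega_classInd]
    exact ofOmega_omega (isClassFunction_classInd g)
  letI : MulAction Q G :=
    MulAction.compHom G ((MulAut.conj : G →* MulAut G).comp Q.subtype)
  have hsmul : ∀ (q : Q) (y : G), q • y = (q : G) * y * (q : G)⁻¹ := fun q y => rfl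
  have hinv : ∀ (q : Q) (y : G),
      classInd g (q • y) * ofOmega w ((q • y)⁻¹ * h) = classInd g y * ofOmega w (y⁻¹ * h) := by
    intro q y
    rw [hsmul, isClassFunction_classInd g y q]
    congr 1
    have hc : (q : G)⁻¹ * h * (q : G) = h := by
      rw [mul_assoc, ← Subgroup.mem_centralizer_singleton_iff.mp (hQh q.2), inv_mul_cancel_left]
    rw [← isClassFunction_ofOmega w (y⁻¹ * h) q]
    congr 1
    calc ((q : G) * y * (q : G)⁻¹)⁻¹ * h
        = (q : G) * (y⁻¹ * ((q : G)⁻¹ * h * (q : G))) * (q : G)⁻¹ := by group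
      _ = _ := by rw [hc]
  by_contra hcon
  push Not at hcon
  apply hh
  rw [hconv]
  refine memLocalIdeal_sum_of_fixedPoint_zero hM hQ
    (fun y => memLocalRing_mul (memLocalRing_classInd g y) (hw _)) hinv fun y hy => ?_
  rw [classInd, if_neg, zero_mul]
  intro hgy
  refine hcon y hgy fun q hq => Subgroup.mem_centralizer_singleton_iff.mpr ?_
  have h2 : q * y * q⁻¹ = y := hy ⟨q, hq⟩
  exact mul_inv_eq_iff_eq_mul.mp h2

/-- The defect group lies above, up to conjugacy, every `p`-subgroup centralizing an element of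
the support of the idempotent. -/
theorem IsDefectGroup.exists_le_conj_of_support (hB : IsPBlock M B) {D : Subgroup G}
    (hD : IsDefectGroup p M B D) {h : G} (hh : ¬ MemLocalIdeal M (blockCoeff B h))
    {Q : Subgroup G} (hQ : IsPGroup p Q) (hQh : Q ≤ Subgroup.centralizer ({h} : Set G)) :
    ∃ x : G, Q ≤ D.map (MulAut.conj x).toMonoidHom := by
  have : Fact p.Prime := ⟨hM.1⟩
  have := isPrime_of_isPModular hM
  obtain ⟨g, hg, hsyl⟩ := isDefectGroup_iff.mp hD
  obtain ⟨χ, hχ⟩ := IsPBlock.nonempty hB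
  obtain ⟨y, hgy, hQy⟩ := exists_isConj_centralizing hM hB hχ (hg.2.2 χ hχ) hh hQ hQh
  exact IsSylowCent.exists_conj_le_of_isConj hsyl hgy hQ hQy

/-- A class with nonzero central character contains an element centralizing the defect group. -/
theorem IsDefectGroup.exists_isConj_centralizing (hB : IsPBlock M B) {D : Subgroup G}
    (hD : IsDefectGroup p M B D) {χ : IrrCharacter G} (hχ : χ ∈ B) {g : G}
    (hg : ¬ MemLocalIdeal M (centralChar (χ : G → ℂ) g)) :
    ∃ y, IsConj g y ∧ D ≤ Subgroup.centralizer ({y} : Set G) := by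
  have : Fact p.Prime := ⟨hM.1⟩
  obtain ⟨g₀, hg₀, hsyl⟩ := isDefectGroup_iff.mp hD
  exact Blocks.exists_isConj_centralizing hM hB hχ hg hg₀.2.1 hsyl.isPGroup hsyl.1

theorem IsDefectGroup.isPGroup {D : Subgroup G} (hD : IsDefectGroup p M B D) : IsPGroup p D := by
  have : Fact p.Prime := ⟨hM.1⟩
  obtain ⟨g, -, hsyl⟩ := isDefectGroup_iff.mp hD
  exact hsyl.isPGroup

/-- Defect groups of a block are conjugate. -/
theorem IsDefectGroup.exists_conj_eq (hB : IsPBlock M B) {D D' : Subgroup G}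
    (hD : IsDefectGroup p M B D) (hD' : IsDefectGroup p M B D') :
    ∃ x : G, D' = D.map (MulAut.conj x).toMonoidHom := by
  have : Fact p.Prime := ⟨hM.1⟩
  obtain ⟨g, hg, hsyl⟩ := isDefectGroup_iff.mp hD
  obtain ⟨g', hg', hsyl'⟩ := isDefectGroup_iff.mp hD'
  obtain ⟨x, hx⟩ := IsDefectGroup.exists_le_conj_of_support hM hB hD hg'.2.1 hsyl'.isPGroup hsyl'.1
  obtain ⟨x', hx'⟩ := IsDefectGroup.exists_le_conj_of_support hM hB hD' hg.2.1 hsyl.isPGroup hsyl.1
  refine ⟨x, Subgroup.eq_of_le_of_card_ge hx ?_⟩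
  rw [card_map_conj]
  exact (Subgroup.card_le_of_le hx').trans_eq (card_map_conj _ _)

/-- Conjugates of defect groups are defect groups. -/
theorem IsDefectGroup.conj {D : Subgroup G} (hD : IsDefectGroup p M B D) (x : G) :
    IsDefectGroup p M B (D.map (MulAut.conj x).toMonoidHom) := by
  have : Fact p.Prime := ⟨hM.1⟩
  obtain ⟨g, hg, hsyl⟩ := isDefectGroup_iff.mp hD
  exact isDefectGroup_iff.mpr ⟨_, IsDefectClass.of_isConj (isConj_iff.mpr ⟨x, rfl⟩) hg,
    IsSylowCent.conj hsyl x⟩

omit hM in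
theorem sum_mem_eq_filter (S : Set (IrrCharacter G)) [DecidablePred (· ∈ S)]
    (f : IrrCharacter G → ℂ) : ∑ᶠ χ ∈ S, f χ = ∑ χ with χ ∈ S, f χ :=
  finsum_mem_eq_sum_of_inter_support_eq _ (by simp)

/-- The idempotent at a regular element as a combination of the values of the characters of the
block, with the multiplicities of the trivial character on a Sylow subgroup as coefficients. -/
theorem exists_blockCoeff_eq_sum (hB : IsPBlock M B) : ∃ (u : ℂ) (m : IrrCharacter G → ℕ),
    MemLocalRing M u ∧ ¬ MemLocalIdeal M u ∧ ∀ y : G, IsPRegular p y →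
      blockCoeff B y = u * ∑ᶠ χ ∈ B, (m χ : ℂ) * conj ((χ : G → ℂ) y) := by
  classical
  have : Fact p.Prime := ⟨hM.1⟩
  have := isPrime_of_isPModular hM
  set P : Sylow p G := default
  set H : Subgroup G := (P : Subgroup G)
  have hm : ∀ χ : IrrCharacter G, ∃ n : ℕ,
      (Nat.card H : ℂ)⁻¹ * ∑ v : H, (χ : G → ℂ) v = n := fun χ => by
    obtain ⟨n, hn⟩ := Char.exists_nat_classInner
      (Char.isCharacter_restrict H (Char.isCharacter_of_isIrr χ.2)) Char.isCharacter_one
    exact ⟨n, by rw [← hn]; simp [classInner]⟩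
  choose m hm using hm
  have hidx : (Nat.card G : ℂ) = Nat.card H * H.index := by
    rw [← H.card_mul_index, Nat.cast_mul]
  have hH : (Nat.card H : ℂ) ≠ 0 := Nat.cast_ne_zero.mpr Nat.card_pos.ne'
  have hi : (H.index : ℂ) ≠ 0 := Nat.cast_ne_zero.mpr H.index_ne_zero_of_finite
  refine ⟨(H.index : ℂ)⁻¹, m, memLocalRing_natCast_inv hM P.not_dvd_index,
    not_memLocalIdeal_inv (memLocalRing_natCast _)
      (fun h => P.not_dvd_index ((memLocalIdeal_natCast_iff hM).mp h)), fun y hy => ?_⟩
  have hreg : ∑ v : H, ∑ χ with χ ∈ B, (χ : G → ℂ) v * conj ((χ : G → ℂ) y) =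
      ∑ χ with χ ∈ B, (χ : G → ℂ) 1 * conj ((χ : G → ℂ) y) := by
    rw [Finset.sum_eq_single_of_mem (1 : H) (Finset.mem_univ _)]
    · simp
    intro v _ hv
    have hvs : ¬ IsPRegular p (v : G) := by
      rw [IsPRegular, not_not, Subgroup.orderOf_coe]
      obtain ⟨k, hk⟩ := IsPGroup.iff_orderOf.mp P.2 v
      rw [hk]
      exact dvd_pow_self p fun h0 => hv (orderOf_eq_one_iff.mp (by rw [hk, h0, pow_zero]))
    have h := sum_block_mul_conj_eq_zero hM (S := {χ | χ ∈ B})
      (by simpa using IsPBlock.isBlockUnion hB) hy hvs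
    have h' := congrArg conj h
    rw [map_sum, map_zero] at h'
    simpa [mul_comm] using h'
  rw [sum_mem_eq_filter, blockCoeff, sum_mem_eq_filter, ← hreg, Finset.sum_comm, Finset.mul_sum,
    Finset.mul_sum, hidx, mul_inv]
  refine Finset.sum_congr rfl fun χ _ => ?_
  rw [← hm χ, ← Finset.sum_mul]
  ring

omit hM in
theorem conj_value_eq_centralChar (χ : IrrCharacter G) (g : G) :
    conj ((χ : G → ℂ) g) = centralChar (χ : G → ℂ) g⁻¹ *
      ((χ : G → ℂ) 1 / ((Subgroup.centralizer ({g⁻¹} : Set G)).index : ℂ)) := by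
  rw [← irr_value_inv χ.2, centralChar]
  have : ((Subgroup.centralizer ({g⁻¹} : Set G)).index : ℂ) ≠ 0 :=
    Nat.cast_ne_zero.mpr Subgroup.index_ne_zero_of_finite
  have := Char.irr_degree_ne_zero χ.2
  field_simp

omit hM in
theorem centralizer_singleton_inv (g : G) :
    Subgroup.centralizer ({g⁻¹} : Set G) = Subgroup.centralizer ({g} : Set G) := by
  ext z
  simp only [Subgroup.mem_centralizer_singleton_iff]
  exact ⟨fun h => (Commute.inv_right_iff.mp (h : Commute z g⁻¹)).eq,
    fun h => (Commute.inv_right (h : Commute z g)).eq⟩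

/-- The `p`-exponents of the degrees in a block and the defect group. -/
theorem IsDefectGroup.degree_exponents (hB : IsPBlock M B) {D : Subgroup G}
    (hD : IsDefectGroup p M B D) :
    ∃ d : ℕ, Nat.card D = p ^ d ∧ d ≤ (Nat.card G).factorization p ∧
      (∀ χ ∈ B, (Nat.card G).factorization p - d ≤
        (charDegree (χ : G → ℂ)).factorization p) ∧
      ∃ χ ∈ B, (charDegree (χ : G → ℂ)).factorization p = (Nat.card G).factorization p - d := by
  classical
  have : Fact p.Prime := ⟨hM.1⟩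
  have := isPrime_of_isPModular hM
  obtain ⟨g, hg, hsyl⟩ := isDefectGroup_iff.mp hD
  set C := Subgroup.centralizer ({g} : Set G)
  set d := (Nat.card C).factorization p
  have hfac : (Nat.card G).factorization p = d + (C.index).factorization p := by
    rw [← C.card_mul_index, Nat.factorization_mul Nat.card_pos.ne' C.index_ne_zero_of_finite]
    rfl
  set c := (C.index).factorization p
  set k := C.index / p ^ c
  have hk : C.index = p ^ c * k := (Nat.ordProj_mul_ordCompl_eq_self C.index p).symm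
  have hkp : ¬ p ∣ k := Nat.not_dvd_ordCompl hM.1 C.index_ne_zero_of_finite
  have hk0 : (k : ℂ) ≠ 0 := Nat.cast_ne_zero.mpr fun h => hkp (h ▸ dvd_zero p)
  have hp0 : (p : ℂ) ≠ 0 := Nat.cast_ne_zero.mpr hM.1.ne_zero
  have hsub : (Nat.card G).factorization p - d = c := by omega
  have hall : ∀ χ ∈ B, c ≤ (charDegree (χ : G → ℂ)).factorization p := fun χ hχ => by
    refine (hM.1.pow_dvd_iff_le_factorization (irr_degree_eq χ).2.ne').mp
      (pow_dvd_of_memLocalRing hM ?_)
    have hu := hg.2.2 χ hχ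
    have hloc : MemLocalRing M ((k : ℂ) * (χ : G → ℂ) g * (centralChar (χ : G → ℂ) g)⁻¹) :=
      memLocalRing_mul (memLocalRing_mul (memLocalRing_natCast k)
        (memLocalRing_of_isIntegral (irr_isIntegral χ.2 g)))
        (memLocalRing_inv (memLocalRing_centralChar χ g) hu)
    convert hloc using 1
    have hne := ne_zero_of_not_memLocalIdeal hu
    simp only [centralChar] at hne ⊢
    have hχg : (χ : G → ℂ) g ≠ 0 := fun h => hne (by simp [h])
    rw [show ((Subgroup.centralizer ({g} : Set G)).index : ℂ) = (p : ℂ) ^ c * k by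
      rw [show Subgroup.centralizer ({g} : Set G) = C from rfl, hk]; push_cast; rfl,
      (irr_degree_eq χ).1]
    have : (charDegree (χ : G → ℂ) : ℂ) ≠ 0 := Nat.cast_ne_zero.mpr (irr_degree_eq χ).2.ne'
    field_simp
  refine ⟨d, hsyl.2, by omega, fun χ hχ => hsub ▸ hall χ hχ, ?_⟩
  · by_contra hcon
    push Not at hcon
    rw [hsub] at hcon
    obtain ⟨u, m, hu, -, hsum⟩ := exists_blockCoeff_eq_sum hM hB
    apply hg.2.1
    rw [hsum g (IsDefectClass.isPRegular hM hB hg), sum_mem_eq_filter]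
    refine memLocalIdeal_mul_left hu (memLocalIdeal_sum _ _ fun χ hχ => ?_)
    have hχB : χ ∈ B := (Finset.mem_filter.mp hχ).2
    refine memLocalIdeal_mul_left (memLocalRing_natCast _) ?_
    rw [conj_value_eq_centralChar, centralizer_singleton_inv]
    refine memLocalIdeal_mul_left (memLocalRing_centralChar χ _) ?_
    have hle : c + 1 ≤ (charDegree (χ : G → ℂ)).factorization p :=
      Nat.lt_of_le_of_ne (hall χ hχB) fun h => hcon χ hχB h.symm
    obtain ⟨q, hq⟩ := (hM.1.pow_dvd_iff_le_factorization (irr_degree_eq χ).2.ne').mpr hle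
    have hmem : MemLocalIdeal M ((p : ℂ) * ((q : ℂ) * (k : ℂ)⁻¹)) :=
      memLocalIdeal_mul_right (memLocalIdeal_p hM)
        (memLocalRing_mul (memLocalRing_natCast q) (memLocalRing_natCast_inv hM hkp))
    convert hmem using 1
    rw [(irr_degree_eq χ).1, show Subgroup.centralizer ({g} : Set G) = C from rfl, hk, hq]
    push_cast
    field_simp
    ring

/-- The order of a defect group is `p ^ blockDefect`. -/
theorem IsDefectGroup.card_eq (hB : IsPBlock M B) {D : Subgroup G}
    (hD : IsDefectGroup p M B D) : Nat.card D = p ^ blockDefect p B := by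
  obtain ⟨d, hd, hda, hall, χ, hχ, heq⟩ := IsDefectGroup.degree_exponents hM hB hD
  have hInf : sInf ((fun χ : IrrCharacter G => (charDegree (χ : G → ℂ)).factorization p) '' B)
      = (Nat.card G).factorization p - d := by
    refine le_antisymm (heq ▸ Nat.sInf_le ⟨χ, hχ, rfl⟩) (le_csInf ⟨_, χ, hχ, rfl⟩ ?_)
    rintro _ ⟨ψ, hψ, rfl⟩
    exact hall ψ hψ
  rw [hd, blockDefect, hInf, Nat.sub_sub_self hda]

theorem blockDefect_le_and_degree (hB : IsPBlock M B) :
    blockDefect p B ≤ (Nat.card G).factorization p ∧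
      sInf ((fun χ : IrrCharacter G => (charDegree (χ : G → ℂ)).factorization p) '' B) =
        (Nat.card G).factorization p - blockDefect p B ∧
      (∀ χ ∈ B, (Nat.card G).factorization p - blockDefect p B ≤
        (charDegree (χ : G → ℂ)).factorization p) ∧
      ∃ χ ∈ B, (charDegree (χ : G → ℂ)).factorization p =
        (Nat.card G).factorization p - blockDefect p B := by
  obtain ⟨D, hD⟩ := exists_isDefectGroup hM hB
  obtain ⟨d, hd, hda, hall, χ, hχ, heq⟩ := IsDefectGroup.degree_exponents hM hB hD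
  have hdd : d = blockDefect p B :=
    Nat.pow_right_injective hM.1.two_le (hd.symm.trans (IsDefectGroup.card_eq hM hB hD))
  subst hdd
  refine ⟨hda, le_antisymm (heq ▸ Nat.sInf_le ⟨χ, hχ, rfl⟩) (le_csInf ⟨_, χ, hχ, rfl⟩ ?_),
    hall, χ, hχ, heq⟩
  rintro _ ⟨ψ, hψ, rfl⟩
  exact hall ψ hψ

theorem blockHeight_eq_zero_iff (hB : IsPBlock M B) {χ : IrrCharacter G} (hχ : χ ∈ B) :
    blockHeight p B (χ : G → ℂ) = 0 ↔
      (charDegree (χ : G → ℂ)).factorization p =
        (Nat.card G).factorization p - blockDefect p B := by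
  obtain ⟨-, hInf, hall, -⟩ := blockDefect_le_and_degree hM hB
  have := hall χ hχ
  rw [blockHeight, hInf]
  omega

theorem exists_blockHeight_eq_zero (hB : IsPBlock M B) :
    ∃ χ ∈ B, blockHeight p B (χ : G → ℂ) = 0 := by
  obtain ⟨-, -, -, χ, hχ, heq⟩ := blockDefect_le_and_degree hM hB
  exact ⟨χ, hχ, (blockHeight_eq_zero_iff hM hB hχ).mpr heq⟩

/-- A height zero character is a unit on a defect class. -/
theorem not_memLocalIdeal_value_of_height_zero (hB : IsPBlock M B) {χ : IrrCharacter G} (hχ : χ ∈ B)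
    (h0 : blockHeight p B (χ : G → ℂ) = 0) {g : G} (hg : IsDefectClass M B g) :
    ¬ MemLocalIdeal M ((χ : G → ℂ) g) := by
  have : Fact p.Prime := ⟨hM.1⟩
  have := isPrime_of_isPModular hM
  obtain ⟨D, hD⟩ := exists_isSylowCent (p := p) g
  have hDd := IsDefectGroup.card_eq hM hB (isDefectGroup_iff.mpr ⟨g, hg, hD⟩)
  set C := Subgroup.centralizer ({g} : Set G)
  have hd : (Nat.card C).factorization p = blockDefect p B :=
    Nat.pow_right_injective hM.1.two_le (hD.2.symm.trans hDd)
  have hc : (C.index).factorization p = (charDegree (χ : G → ℂ)).factorization p := by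
    rw [(blockHeight_eq_zero_iff hM hB hχ).mp h0, ← hd, ← C.card_mul_index,
      Nat.factorization_mul Nat.card_pos.ne' C.index_ne_zero_of_finite, Finsupp.add_apply,
      Nat.add_sub_cancel_left]
  intro hmem
  apply hg.2.2 χ hχ
  set k := C.index / p ^ (C.index).factorization p
  set e := charDegree (χ : G → ℂ) / p ^ (C.index).factorization p
  have hk : C.index = p ^ (C.index).factorization p * k :=
    (Nat.ordProj_mul_ordCompl_eq_self _ p).symm
  have he : charDegree (χ : G → ℂ) = p ^ (C.index).factorization p * e := by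
    simp only [e]
    rw [hc]
    exact (Nat.ordProj_mul_ordCompl_eq_self _ p).symm
  have hep : ¬ p ∣ e := by
    simp only [e]
    rw [hc]
    exact Nat.not_dvd_ordCompl hM.1 (irr_degree_eq χ).2.ne'
  convert memLocalIdeal_mul_left (memLocalRing_mul (memLocalRing_natCast k)
    (memLocalRing_natCast_inv hM hep)) hmem using 1
  rw [centralChar, show Subgroup.centralizer ({g} : Set G) = C from rfl, (irr_degree_eq χ).1, he, hk]
  have hp0 : (p : ℂ) ≠ 0 := Nat.cast_ne_zero.mpr hM.1.ne_zero
  have he0 : (e : ℂ) ≠ 0 := Nat.cast_ne_zero.mpr fun h => hep (h ▸ dvd_zero p)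
  push_cast
  field_simp
  rw [← hk]
  ring_nf

/-- Every block has a member trivial on a given normal `p`-subgroup. -/
theorem exists_mem_trivial_on_normal_pgroup (hB : IsPBlock M B) (Q : Subgroup G) [Q.Normal]
    (hQ : IsPGroup p Q) : ∃ χ ∈ B, ∀ u ∈ Q, (χ : G → ℂ) u = (χ : G → ℂ) 1 := by
  classical
  have := isPrime_of_isPModular hM
  have : Fact p.Prime := ⟨hM.1⟩
  set f : G → ℂ := fun x => if x ∈ Q then 1 else 0
  have hf : IsClassFunction G f := fun x b => if_congr
    ⟨fun h => by simpa [mul_assoc] using Subgroup.Normal.conj_mem ‹Q.Normal› _ h b⁻¹,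
      fun h => Subgroup.Normal.conj_mem ‹Q.Normal› x h b⟩ rfl rfl
  obtain ⟨ψ₀, hψ₀⟩ := IsPBlock.nonempty hB
  have hne : (Nat.card G : ℂ) * blockCoeff B 1 ≠ 0 := by
    rw [blockCoeff, mul_inv_cancel_left₀ (Nat.cast_ne_zero.mpr Nat.card_pos.ne'), sum_mem_eq_filter]
    have hpos : (0 : ℕ) < ∑ χ with χ ∈ B, charDegree (χ : G → ℂ) ^ 2 :=
      Finset.sum_pos (fun χ _ => pow_pos (irr_degree_eq χ).2 2) ⟨ψ₀, by simp [hψ₀]⟩
    rw [Finset.sum_congr rfl fun (χ : IrrCharacter G) _ =>
      show (χ : G → ℂ) 1 * conj ((χ : G → ℂ) 1) = ((charDegree (χ : G → ℂ) ^ 2 : ℕ) : ℂ) by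
        rw [(irr_degree_eq χ).1, map_natCast, Nat.cast_pow, sq], ← Nat.cast_sum]
    exact Nat.cast_ne_zero.mpr hpos.ne'
  have hsum : ∑ x : G, f x * blockCoeff B x = blockCoeff B 1 := by
    rw [Finset.sum_eq_single_of_mem (1 : G) (Finset.mem_univ _)]
    · simp [f]
    intro x _ hx
    by_cases hxQ : x ∈ Q
    · rw [blockCoeff_eq_zero_of_not_regular hM (IsPBlock.isBlockUnion hB), mul_zero]
      rw [IsPRegular, not_not]
      obtain ⟨k, hk⟩ := IsPGroup.iff_orderOf.mp hQ ⟨x, hxQ⟩
      rw [← Subgroup.orderOf_coe] at hk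
      rw [hk]
      exact dvd_pow_self p fun h0 => hx (orderOf_eq_one_iff.mp (by rw [hk, h0, pow_zero]))
    · simp [f, hxQ]
  obtain ⟨χ, hχ, hχne⟩ : ∃ χ ∈ B, ∑ x : G, f x * conj ((χ : G → ℂ) x) ≠ 0 := by
    by_contra hcon
    push Not at hcon
    apply hne
    rw [← hsum]
    simp only [blockCoeff, sum_mem_eq_filter, Finset.mul_sum]
    rw [Finset.sum_comm]
    refine Finset.sum_eq_zero fun χ hχ => ?_
    have := hcon χ (Finset.mem_filter.mp hχ).2
    calc ∑ x : G, (Nat.card G : ℂ) * (f x * ((Nat.card G : ℂ)⁻¹ * ((χ : G → ℂ) 1 *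
          conj ((χ : G → ℂ) x))))
        = (Nat.card G : ℂ) * (Nat.card G : ℂ)⁻¹ * (χ : G → ℂ) 1 *
            ∑ x : G, f x * conj ((χ : G → ℂ) x) := by
          rw [Finset.mul_sum]
          exact Finset.sum_congr rfl fun x _ => by ring
      _ = 0 := by rw [this, mul_zero]
  refine ⟨χ, hχ, fun u hu => ?_⟩
  obtain ⟨n, ρ, hρ, hρχ⟩ := χ.2
  have hω : omega ρ.character f ≠ 0 := by
    intro h
    apply hχne
    rw [omega, div_eq_zero_iff, hρχ, or_iff_left (Char.irr_degree_ne_zero χ.2)] at h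
    have h' := congrArg conj h
    rw [map_sum, map_zero] at h'
    rw [← h']
    refine Finset.sum_congr rfl fun x _ => ?_
    rw [map_mul, show conj (f x) = f x by simp only [f]; split <;> simp]
  have hinv : ρ u * actFun ρ f = actFun ρ f := by
    rw [actFun, Finset.mul_sum]
    refine Fintype.sum_equiv (Equiv.mulLeft u) _ _ fun x => ?_
    rw [Equiv.coe_mulLeft, mul_smul_comm, ← map_mul]
    congr 1
    exact if_congr (Q.mul_mem_cancel_left hu).symm rfl rfl
  rw [actFun_eq_omega ρ hf, mul_smul_comm, mul_one] at hinv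
  have hu1 : ρ u = 1 := smul_right_injective _ hω hinv
  rw [← hρχ]
  show LinearMap.trace ℂ _ (ρ u) = LinearMap.trace ℂ _ (ρ 1)
  rw [hu1, map_one ρ]

/-- Classes outside the centralizer of a normal `p`-subgroup have central character in the ideal. -/
theorem memLocalIdeal_centralChar_of_not_centralizing (Q : Subgroup G) [Q.Normal]
    (hQ : IsPGroup p Q) (χ : IrrCharacter G) {g : G} (hg : g ∉ Subgroup.centralizer (Q : Set G)) :
    MemLocalIdeal M (centralChar (χ : G → ℂ) g) := by
  classical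
  have := isPrime_of_isPModular hM
  have : Fact p.Prime := ⟨hM.1⟩
  obtain ⟨ψ, hψ, hψQ⟩ :=
    exists_mem_trivial_on_normal_pgroup hM (isPBlock_blockOf (M := M) χ) Q hQ
  refine (memLocalIdeal_iff_of_sub ((mem_blockOf_iff.mp hψ) g)).mpr ?_
  obtain ⟨η, rfl⟩ := exists_inflate_eq_of_ker Q ψ hψQ
  have : Fintype (G ⧸ Q) := Fintype.ofFinite _
  rw [show ((inflate (QuotientGroup.mk' Q) (QuotientGroup.mk'_surjective Q) η : IrrCharacter G) :
      G → ℂ) = (η : G ⧸ Q → ℂ) ∘ QuotientGroup.mk' Q from rfl,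
    centralChar_comp _ (QuotientGroup.mk'_surjective Q)]
  refine memLocalIdeal_mul_right ?_ (memLocalRing_centralChar η _)
  rw [memLocalIdeal_natCast_iff hM]
  letI : MulAction Q G := MulAction.compHom G ((MulAut.conj : G →* MulAut G).comp Q.subtype)
  set f : G → ℂ := fun h =>
    if IsConj g h ∧ QuotientGroup.mk' Q h = QuotientGroup.mk' Q g then 1 else 0
  have hker : ∀ q : Q, QuotientGroup.mk' Q (q : G) = 1 := fun q =>
    (QuotientGroup.eq_one_iff _).mpr q.2
  have hmem : MemLocalIdeal M (∑ h, f h) := by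
    refine memLocalIdeal_sum_of_fixedPoint_zero hM hQ (fun h => ?_) (fun q h => ?_) fun h hh => ?_
    · simp only [f]
      split
      exacts [memLocalRing_one, memLocalRing_zero]
    · refine if_congr ?_ rfl rfl
      show IsConj g ((q : G) * h * (q : G)⁻¹) ∧ QuotientGroup.mk' Q ((q : G) * h * (q : G)⁻¹) = _ ↔ _
      have hc : IsConj h ((q : G) * h * (q : G)⁻¹) := isConj_iff.mpr ⟨q, rfl⟩
      rw [map_mul, map_mul, map_inv, hker, one_mul, inv_one, mul_one]
      exact ⟨fun H => ⟨H.1.trans hc.symm, H.2⟩, fun H => ⟨H.1.trans hc, H.2⟩⟩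
    · refine if_neg fun H => hg ?_
      obtain ⟨c, hc⟩ := isConj_iff.mp H.1
      intro u hu
      have hu' : c * u * c⁻¹ ∈ Q := Subgroup.Normal.conj_mem ‹_› u hu c
      have h2 : c * u * c⁻¹ * h * (c * u * c⁻¹)⁻¹ = h := hh ⟨_, hu'⟩
      rw [← hc] at h2
      have h3 : u * g * u⁻¹ = g := by
        calc u * g * u⁻¹ = c⁻¹ * (c * u * c⁻¹ * (c * g * c⁻¹) * (c * u * c⁻¹)⁻¹) * c := by group
          _ = c⁻¹ * (c * g * c⁻¹) * c := by rw [h2]
          _ = g := by group
      exact mul_inv_eq_iff_eq_mul.mp h3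
  rw [← memLocalIdeal_natCast_iff hM, Nat.card_eq_fintype_card, Fintype.card_subtype]
  simpa [f, Finset.sum_boole] using hmem

/-- A defect group contains every normal `p`-subgroup. -/
theorem IsDefectGroup.normal_le (hB : IsPBlock M B) {D : Subgroup G}
    (hD : IsDefectGroup p M B D) (Q : Subgroup G) [Q.Normal] (hQ : IsPGroup p Q) : Q ≤ D := by
  have : Fact p.Prime := ⟨hM.1⟩
  have := isPrime_of_isPModular hM
  obtain ⟨g, hg, hsyl⟩ := isDefectGroup_iff.mp hD
  obtain ⟨χ, hχ⟩ := IsPBlock.nonempty hB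
  have hgQ : Q ≤ Subgroup.centralizer ({g} : Set G) := fun u hu => by
    have := fun h => hg.2.2 χ hχ (memLocalIdeal_centralChar_of_not_centralizing hM Q hQ χ h)
    exact Subgroup.mem_centralizer_singleton_iff.mpr ((not_not.mp this) u hu)
  obtain ⟨x, -, hx⟩ := IsSylowCent.exists_conj_le hsyl hQ hgQ
  intro u hu
  have h2 := hx (Subgroup.Normal.conj_mem ‹_› u hu x)
  rw [Subgroup.mem_map_equiv] at h2
  simpa [mul_assoc] using h2

end CfsgLib.Blocks
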