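import Cfsg.Agent.Lib.Blocks.Center
import Cfsg.Agent.Lib.Blocks.Defect

/-!
# The Brauer homomorphism and induced blocks

For a `p`-subgroup `P` and `C_G(P) ≤ H ≤ N_G(P)`, truncation to `C_G(P)` induces a ring
homomorphism from `ZK M G` to `ZK M H`; composing with the central characters of `H` gives
induced blocks.
-/

set_option autoImplicit false
set_option linter.unusedSectionVars false

namespace CfsgLib.Blocks

open Cfsg
open scoped ComplexConjugate CfsgLib.Char

variable {p : ℕ} {M : Ideal AlgInt} {G : Type*} [Group G]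

/-- Truncation of a function to the centralizer of `P`, read on the subgroup `H`. -/
noncomputable def brauerFun (P H : Subgroup G) (f : G → ℂ) : H → ℂ :=
  fun h => open Classical in if (h : G) ∈ Subgroup.centralizer (P : Set G) then f h else 0

theorem brauerFun_of_mem {P H : Subgroup G} {f : G → ℂ} {h : H}
    (hh : (h : G) ∈ Subgroup.centralizer (P : Set G)) : brauerFun P H f h = f h := if_pos hh

theorem brauerFun_of_notMem {P H : Subgroup G} {f : G → ℂ} {h : H}
    (hh : (h : G) ∉ Subgroup.centralizer (P : Set G)) : brauerFun P H f h = 0 := if_neg hh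

theorem conj_mem_centralizer_iff {P : Subgroup G} {x y : G}
    (hx : x ∈ Subgroup.normalizer (P : Set G)) :
    x * y * x⁻¹ ∈ Subgroup.centralizer (P : Set G) ↔ y ∈ Subgroup.centralizer (P : Set G) := by
  simp only [Subgroup.mem_centralizer_iff]
  constructor
  · intro h q hq
    have := h _ ((Subgroup.mem_normalizer_iff.mp hx q).mp hq)
    calc q * y = x⁻¹ * (x * q * x⁻¹ * (x * y * x⁻¹)) * x := by group
      _ = x⁻¹ * (x * y * x⁻¹ * (x * q * x⁻¹)) * x := by rw [this]
      _ = y * q := by group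
  · intro h q hq
    have hq' : x⁻¹ * q * x ∈ P := (Subgroup.mem_normalizer_iff.mp hx _).mpr (by simpa [mul_assoc] using hq)
    calc q * (x * y * x⁻¹) = x * ((x⁻¹ * q * x) * y) * x⁻¹ := by group
      _ = x * (y * (x⁻¹ * q * x)) * x⁻¹ := by rw [h _ hq']
      _ = x * y * x⁻¹ * q := by group

theorem isClassFunction_brauerFun {P H : Subgroup G} (hHN : H ≤ Subgroup.normalizer (P : Set G))
    {f : G → ℂ} (hf : IsClassFunction G f) : IsClassFunction H (brauerFun P H f) := fun h x => by
  have hiff := conj_mem_centralizer_iff (y := (h : G)) (hHN x.2)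
  by_cases hh : (h : G) ∈ Subgroup.centralizer (P : Set G)
  · rw [brauerFun_of_mem hh, brauerFun_of_mem (by simpa using hiff.mpr hh)]
    simpa using hf h x
  · rw [brauerFun_of_notMem hh, brauerFun_of_notMem (fun h' => hh (hiff.mp (by simpa using h')))]

theorem memLocalRing_brauerFun [M.IsPrime] {P H : Subgroup G} {f : G → ℂ}
    (hf : ∀ g, MemLocalRing M (f g)) (h : H) : MemLocalRing M (brauerFun P H f h) := by
  by_cases hh : (h : G) ∈ Subgroup.centralizer (P : Set G)
  · exact brauerFun_of_mem (f := f) hh ▸ hf _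
  · exact brauerFun_of_notMem (f := f) hh ▸ memLocalRing_zero

variable [Fintype G]

/-- The Brauer map is multiplicative modulo the local ideal. -/
theorem brauerFun_conv_congr (hM : IsPModular p M) {P H : Subgroup G} [Fintype H]
    (hP : IsPGroup p P) (hCH : Subgroup.centralizer (P : Set G) ≤ H) {f₁ f₂ : G → ℂ}
    (h₁ : IsClassFunction G f₁) (h₂ : IsClassFunction G f₂)
    (l₁ : ∀ g, MemLocalRing M (f₁ g)) (l₂ : ∀ g, MemLocalRing M (f₂ g)) (h : H) :
    MemLocalIdeal M (brauerFun P H (conv f₁ f₂) h -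
      conv (brauerFun P H f₁) (brauerFun P H f₂) h) := by
  classical
  have := isPrime_of_isPModular hM
  set C := Subgroup.centralizer (P : Set G)
  by_cases hh : (h : G) ∈ C
  · rw [brauerFun_of_mem hh]
    letI : MulAction P G := MulAction.compHom G ((MulAut.conj : G →* MulAut G).comp P.subtype)
    have hfix : ∀ y : G, y ∈ MulAction.fixedPoints P G ↔ y ∈ C := fun y => by
      rw [Subgroup.mem_centralizer_iff]
      exact ⟨fun H q hq => mul_inv_eq_iff_eq_mul.mp (H ⟨q, hq⟩),
        fun H q => mul_inv_eq_iff_eq_mul.mpr (H q q.2)⟩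
    have hkey := memLocalIdeal_sum_sub_fixed (α := G) hM hP
      (f := fun y => f₁ y * f₂ (y⁻¹ * h))
      (fun y => memLocalRing_mul (l₁ y) (l₂ _)) (fun q y => by
        show f₁ ((q : G) * y * (q : G)⁻¹) * f₂ (((q : G) * y * (q : G)⁻¹)⁻¹ * h) = _
        have hq : (q : G) * h = h * q := Subgroup.mem_centralizer_iff.mp hh q q.2
        rw [h₁ y q, ← h₂ (y⁻¹ * h) q]
        congr 2
        calc ((q : G) * y * (q : G)⁻¹)⁻¹ * h = (q : G) * (y⁻¹ * ((q : G)⁻¹ * ((q : G) * h) * (q : G)⁻¹)) * (1 : G) := by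
              rw [hq]; group
          _ = (q : G) * (y⁻¹ * h) * (q : G)⁻¹ := by group)
    have hconv : conv (brauerFun P H f₁) (brauerFun P H f₂) h =
        ∑ y : G with y ∈ MulAction.fixedPoints P G, f₁ y * f₂ (y⁻¹ * h) := by
      refine Finset.sum_bij_ne_zero (fun x _ _ => (x : G)) ?_ ?_ ?_ ?_
      · intro x _ hx
        rw [Finset.mem_filter, hfix]
        refine ⟨Finset.mem_univ _, ?_⟩
        by_contra hc
        exact hx (by rw [brauerFun_of_notMem hc, zero_mul])
      · exact fun _ _ _ _ _ _ h => Subtype.ext h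
      · intro y hy hy0
        rw [Finset.mem_filter, hfix] at hy
        refine ⟨⟨y, hCH hy.2⟩, Finset.mem_univ _, ?_, rfl⟩
        rw [brauerFun_of_mem hy.2, brauerFun_of_mem (C.mul_mem (C.inv_mem hy.2) hh)]
        exact hy0
      · intro x _ hx
        have hc : (x : G) ∈ C := by
          by_contra hc
          exact hx (by rw [brauerFun_of_notMem hc, zero_mul])
        rw [brauerFun_of_mem hc, brauerFun_of_mem (f := f₂) (h := x⁻¹ * h)
          (C.mul_mem (C.inv_mem hc) hh)]
        rfl
    rw [hconv]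
    exact hkey
  · rw [brauerFun_of_notMem hh, conv, Finset.sum_eq_zero, sub_zero]
    · exact memLocalIdeal_zero
    intro x _
    by_cases hx : (x : G) ∈ C
    · rw [brauerFun_of_notMem (h := x⁻¹ * h), mul_zero]
      intro hc
      exact hh (by simpa using C.mul_mem hx hc)
    · rw [brauerFun_of_notMem hx, zero_mul]

/-- The element of `ZO M H` underlying the Brauer map. -/
noncomputable def brauerVec [M.IsPrime] (P H : Subgroup G) [Fintype H]
    (hHN : H ≤ Subgroup.normalizer (P : Set G)) (v : ZO M G) : ZO M H :=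
  toZO (brauerFun P H (ofOmega (v : IrrCharacter G → ℂ)))
    (isClassFunction_brauerFun hHN (isClassFunction_ofOmega _)) (memLocalRing_brauerFun v.2)

theorem ofOmega_brauerVec [M.IsPrime] (P H : Subgroup G) [Fintype H]
    (hHN : H ≤ Subgroup.normalizer (P : Set G)) (v : ZO M G) :
    ofOmega (brauerVec P H hHN v : IrrCharacter H → ℂ) =
      brauerFun P H (ofOmega (v : IrrCharacter G → ℂ)) := ofOmega_toZO _ _

/-- The Brauer homomorphism, on the centre over the local ring. -/
noncomputable def brauerHomO [M.IsPrime] (hM : IsPModular p M) (P H : Subgroup G) [Fintype H]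
    (hP : IsPGroup p P) (hCH : Subgroup.centralizer (P : Set G) ≤ H)
    (hHN : H ≤ Subgroup.normalizer (P : Set G)) : ZO M G →+* ZK M H where
  toFun v := Ideal.Quotient.mk _ (brauerVec P H hHN v)
  map_one' := by
    rw [← map_one (Ideal.Quotient.mk (nullIdeal M H)), mk_eq_mk_iff]
    intro h
    rw [ofOmega_brauerVec, OneMemClass.coe_one, OneMemClass.coe_one, ofOmega_one, ofOmega_one]
    by_cases hh : h = 1
    · subst hh
      rw [brauerFun_of_mem (by simp [Subgroup.one_mem]), OneMemClass.coe_one]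
      show MemLocalIdeal M (classInd (1 : G) 1 - classInd (1 : H) 1)
      rw [classInd_self, classInd_self]
      exact memLocalIdeal_sub_self 1
    · classical
      rw [deltaOne_apply h, if_neg hh, sub_zero]
      by_cases hc : (h : G) ∈ Subgroup.centralizer (P : Set G)
      · rw [brauerFun_of_mem hc, deltaOne_apply,
          if_neg (fun h' : (h : G) = 1 => hh (Subtype.ext (by simpa using h')))]
        exact memLocalIdeal_zero
      · rw [brauerFun_of_notMem hc]
        exact memLocalIdeal_zero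
  map_zero' := by
    rw [← map_zero (Ideal.Quotient.mk (nullIdeal M H)), mk_eq_mk_iff]
    intro h
    rw [ofOmega_brauerVec, ZeroMemClass.coe_zero, ZeroMemClass.coe_zero]
    simp [brauerFun, ofOmega, memLocalIdeal_zero]
  map_add' v w := by
    rw [← map_add, mk_eq_mk_iff]
    intro h
    rw [AddMemClass.coe_add, ofOmega_add, Pi.add_apply, ofOmega_brauerVec, ofOmega_brauerVec,
      ofOmega_brauerVec, AddMemClass.coe_add, ofOmega_add]
    convert memLocalIdeal_zero (M := M)
    by_cases hc : (h : G) ∈ Subgroup.centralizer (P : Set G)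
    · simp [brauerFun_of_mem hc]
    · simp [brauerFun_of_notMem hc]
  map_mul' v w := by
    rw [← map_mul, mk_eq_mk_iff]
    intro h
    rw [MulMemClass.coe_mul, ofOmega_mul, ofOmega_brauerVec, ofOmega_brauerVec, ofOmega_brauerVec,
      MulMemClass.coe_mul, ofOmega_mul]
    exact brauerFun_conv_congr hM hP hCH (isClassFunction_ofOmega _) (isClassFunction_ofOmega _)
      v.2 w.2 h

theorem brauerHomO_eq_zero_of_mem [M.IsPrime] (hM : IsPModular p M) (P H : Subgroup G) [Fintype H]
    (hP : IsPGroup p P) (hCH : Subgroup.centralizer (P : Set G) ≤ H)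
    (hHN : H ≤ Subgroup.normalizer (P : Set G)) {v : ZO M G} (hv : v ∈ nullIdeal M G) :
    brauerHomO hM P H hP hCH hHN v = 0 := by
  refine Ideal.Quotient.eq_zero_iff_mem.mpr fun h => ?_
  rw [ofOmega_brauerVec]
  by_cases hc : (h : G) ∈ Subgroup.centralizer (P : Set G)
  · rw [brauerFun_of_mem hc]
    exact hv _
  · rw [brauerFun_of_notMem hc]
    exact memLocalIdeal_zero

/-- The Brauer homomorphism `Z(kG) → Z(kH)`. -/
noncomputable def brauerHom [M.IsPrime] (hM : IsPModular p M) (P H : Subgroup G) [Fintype H]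
    (hP : IsPGroup p P) (hCH : Subgroup.centralizer (P : Set G) ≤ H)
    (hHN : H ≤ Subgroup.normalizer (P : Set G)) : ZK M G →+* ZK M H :=
  Ideal.Quotient.lift (nullIdeal M G) (brauerHomO hM P H hP hCH hHN) fun _ =>
    brauerHomO_eq_zero_of_mem hM P H hP hCH hHN

theorem brauerHom_mk [M.IsPrime] (hM : IsPModular p M) (P H : Subgroup G) [Fintype H]
    (hP : IsPGroup p P) (hCH : Subgroup.centralizer (P : Set G) ≤ H)
    (hHN : H ≤ Subgroup.normalizer (P : Set G)) (v : ZO M G) :
    brauerHom hM P H hP hCH hHN (Ideal.Quotient.mk _ v) =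
      Ideal.Quotient.mk _ (brauerVec P H hHN v) := rfl

/-- The vector of a class sum. -/
noncomputable def classVec [M.IsPrime] (g : G) : ZO M G :=
  ⟨fun χ => centralChar (χ : G → ℂ) g, centralChar_mem_ZO g⟩

theorem ofOmega_classVec [M.IsPrime] (g : G) :
    ofOmega ((classVec g : ZO M G) : IrrCharacter G → ℂ) = classInd g := by
  show ofOmega (fun χ : IrrCharacter G => centralChar (χ : G → ℂ) g) = _
  simp only [← omega_classInd]
  exact ofOmega_omega (isClassFunction_classInd g)

theorem omega_brauerFun_classInd (P H : Subgroup G) [Fintype H] (ξ : H → ℂ) (g : G) :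
    omega ξ (brauerFun P H (classInd g)) = brauerCentralChar P H ξ g := by
  classical
  rw [brauerCentralChar, omega, Finset.sum_div,
    finsum_mem_eq_sum_of_inter_support_eq (t := ({h | IsConj g (h : G) ∧
      (h : G) ∈ Subgroup.centralizer (P : Set G)} : Finset H)) _ (by simp), Finset.sum_filter]
  refine Finset.sum_congr rfl fun h _ => ?_
  by_cases hc : (h : G) ∈ Subgroup.centralizer (P : Set G)
  · rw [brauerFun_of_mem hc, classInd]
    by_cases hg : IsConj g (h : G) <;> simp [hc, hg, -isConj_iff]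
  · simp [brauerFun_of_notMem hc, hc]

theorem resQuot_brauerHom_classVec [M.IsPrime] (hM : IsPModular p M) (P H : Subgroup G) [Fintype H]
    (hP : IsPGroup p P) (hCH : Subgroup.centralizer (P : Set G) ≤ H)
    (hHN : H ≤ Subgroup.normalizer (P : Set G)) (ξ : IrrCharacter H) (g : G) :
    resQuot ξ (brauerHom hM P H hP hCH hHN (Ideal.Quotient.mk _ (classVec g))) =
      res M (brauerCentralChar P H (ξ : H → ℂ) g) := by
  rw [brauerHom_mk, resQuot_mk, ← omega_brauerFun_classInd, ← ofOmega_classVec (M := M) g]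
  rfl

/-- The `Brauer central character` is a local integer. -/
theorem memLocalRing_brauerCentralChar [M.IsPrime] {P H : Subgroup G} [Fintype H]
    (hHN : H ≤ Subgroup.normalizer (P : Set G)) (ξ : IrrCharacter H) (g : G) :
    MemLocalRing M (brauerCentralChar P H (ξ : H → ℂ) g) :=
  omega_brauerFun_classInd P H (ξ : H → ℂ) g ▸ memLocalRing_omega ξ
    (isClassFunction_brauerFun hHN (isClassFunction_classInd g))
    (memLocalRing_brauerFun (memLocalRing_classInd g))

/-- The scalar elements go to scalars. -/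
theorem resQuot_brauerHom_scalar [M.IsPrime] (hM : IsPModular p M) (P H : Subgroup G) [Fintype H]
    (hP : IsPGroup p P) (hCH : Subgroup.centralizer (P : Set G) ≤ H)
    (hHN : H ≤ Subgroup.normalizer (P : Set G)) (ξ : IrrCharacter H) (c : ℂ)
    (hc : MemLocalRing M c) :
    resQuot ξ (brauerHom hM P H hP hCH hHN (Ideal.Quotient.mk _
      ⟨c • 1, smul_mem_ZO hc (one_mem _)⟩)) = res M c := by
  rw [brauerHom_mk, resQuot_mk]
  show res M (omega (ξ : H → ℂ) (brauerFun P H (ofOmega (c • (1 : IrrCharacter G → ℂ))))) = _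
  have : brauerFun P H (ofOmega (c • (1 : IrrCharacter G → ℂ))) = c • (deltaOne : H → ℂ) := by
    classical
    funext h
    rw [Pi.smul_apply, smul_eq_mul, deltaOne_apply, ofOmega_smul, ofOmega_one]
    by_cases hc' : (h : G) ∈ Subgroup.centralizer (P : Set G)
    · rw [brauerFun_of_mem hc', Pi.smul_apply, smul_eq_mul, deltaOne_apply]
      simp
    · rw [brauerFun_of_notMem hc', if_neg, mul_zero]
      rintro rfl
      exact hc' (by simp [Subgroup.one_mem])
  rw [this, omega_smul, omega_deltaOne, mul_one]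

/-- Composing the Brauer homomorphism with a central character of `H` gives exactly one block. -/
theorem existsUnique_brauer_block (hM : IsPModular p M) {P H : Subgroup G} [Fintype H]
    (hP : IsPGroup p P) (hCH : Subgroup.centralizer (P : Set G) ≤ H)
    (hHN : H ≤ Subgroup.normalizer (P : Set G)) (ξ : IrrCharacter H) :
    ∃! B : Set (IrrCharacter G), IsPBlock M B ∧ ∀ χ ∈ B, ∀ g : G,
      MemLocalIdeal M (brauerCentralChar P H (ξ : H → ℂ) g - centralChar (χ : G → ℂ) g) := by
  have := isPrime_of_isPModular hM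
  set φ : ZO M G →+* ResField M :=
    ((resQuot ξ).comp (brauerHom hM P H hP hCH hHN)).comp (Ideal.Quotient.mk (nullIdeal M G))
  obtain ⟨B, ⟨hB, hBφ⟩, -⟩ :=
    exists_block_of_hom φ fun c hc => resQuot_brauerHom_scalar hM P H hP hCH hHN ξ c hc
  have hcong : ∀ χ ∈ B, ∀ g : G,
      MemLocalIdeal M (brauerCentralChar P H (ξ : H → ℂ) g - centralChar (χ : G → ℂ) g) := by
    intro χ hχ g
    rw [← res_eq_iff (memLocalRing_brauerCentralChar hHN ξ g) (memLocalRing_centralChar χ g),
      ← resQuot_brauerHom_classVec hM P H hP hCH hHN]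
    exact RingHom.congr_fun (hBφ χ hχ) (classVec g)
  refine ⟨B, ⟨hB, hcong⟩, fun B' ⟨hB', h'⟩ => ?_⟩
  obtain ⟨χ, hχ⟩ := IsPBlock.nonempty hB
  obtain ⟨ψ, hψ⟩ := IsPBlock.nonempty hB'
  exact IsPBlock.eq_of_mem_of_mem hB' hB (IsPBlock.mem_of_sameBlock hB' hψ
    fun g => memLocalIdeal_sub_trans (memLocalIdeal_sub_comm (h' ψ hψ g)) (hcong χ hχ g)) hχ

/-- Classes of `H` outside `C_G(P)` do not contribute to induced central characters. -/
theorem memLocalIdeal_inducedCentralChar_sub (hM : IsPModular p M) {P H : Subgroup G} [Fintype H]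
    (hP : IsPGroup p P) (hPH : P ≤ H) (hHN : H ≤ Subgroup.normalizer (P : Set G))
    (ξ : IrrCharacter H) (g : G) :
    MemLocalIdeal M
      (inducedCentralChar H (ξ : H → ℂ) g - brauerCentralChar P H (ξ : H → ℂ) g) := by
  classical
  have := isPrime_of_isPModular hM
  have : Fintype (ConjClasses H) := Fintype.ofFinite _
  set f : H → ℂ := fun h =>
    if IsConj g (h : G) ∧ (h : G) ∉ Subgroup.centralizer (P : Set G) then 1 else 0
  have hf : IsClassFunction H f := fun h x => by
    refine if_congr ?_ rfl rfl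
    have hiff := conj_mem_centralizer_iff (y := (h : G)) (hHN x.2)
    simp only [Subgroup.coe_mul, Subgroup.coe_inv]
    have hconj : IsConj (h : G) ((x : G) * h * (x : G)⁻¹) := isConj_iff.mpr ⟨x, rfl⟩
    exact and_congr ⟨fun H => H.trans hconj.symm, fun H => H.trans hconj⟩ (not_congr hiff)
  have heq : inducedCentralChar H (ξ : H → ℂ) g - brauerCentralChar P H (ξ : H → ℂ) g =
      omega (ξ : H → ℂ) f := by
    rw [← omega_brauerFun_classInd, omega, omega, inducedCentralChar,
      finsum_mem_eq_sum_of_inter_support_eq (t := ({h | IsConj g (h : G)} : Finset H)) _ (by simp),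
      Finset.sum_filter, Finset.sum_div, Finset.sum_div, ← Finset.sum_sub_distrib]
    refine Finset.sum_congr rfl fun h _ => ?_
    by_cases hc : (h : G) ∈ Subgroup.centralizer (P : Set G)
    · rw [brauerFun_of_mem hc, classInd]
      by_cases hg : IsConj g (h : G) <;> simp [f, hc, hg, -isConj_iff]
    · rw [brauerFun_of_notMem hc]
      by_cases hg : IsConj g (h : G) <;> simp [f, hc, hg, -isConj_iff]
  rw [heq, omega_eq_sum_classes ξ hf]
  refine memLocalIdeal_sum _ _ fun c _ => ?_
  simp only [f]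
  split_ifs with hc
  · rw [one_mul]
    have : (P.subgroupOf H).Normal := ⟨fun a ha x => by
      simpa [Subgroup.mem_subgroupOf] using
        (Subgroup.mem_normalizer_iff.mp (hHN x.2) a).mp ha⟩
    refine memLocalIdeal_centralChar_of_not_centralizing hM (P.subgroupOf H)
      (hP.of_equiv (Subgroup.subgroupOfEquivOfLe hPH).symm) ξ fun h => hc.2 ?_
    intro q hq
    have := h (⟨q, hPH hq⟩ : H) (Subgroup.mem_subgroupOf.mpr hq)
    exact congrArg Subtype.val this
  · rw [zero_mul]
    exact memLocalIdeal_zero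

/-- Blocks of `H` induce blocks of `G` when `P C_G(P) ≤ H ≤ N_G(P)`; the induced block is the one
given by the Brauer homomorphism. -/
theorem isInducedBlock_iff_brauer (hM : IsPModular p M) {P H : Subgroup G} [Fintype H]
    (hP : IsPGroup p P) (hPH : P ≤ H) (hHN : H ≤ Subgroup.normalizer (P : Set G))
    {b : Set (IrrCharacter H)} (hb : IsPBlock M b) {B : Set (IrrCharacter G)} (hB : IsPBlock M B) :
    IsInducedBlock M H b B ↔ ∀ ξ ∈ b, ∀ χ ∈ B, ∀ g : G,
      MemLocalIdeal M (brauerCentralChar P H (ξ : H → ℂ) g - centralChar (χ : G → ℂ) g) := by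
  have := isPrime_of_isPModular hM
  have hd := fun ξ g => memLocalIdeal_inducedCentralChar_sub hM hP hPH hHN ξ g
  exact ⟨fun h ξ hξ χ hχ g =>
      memLocalIdeal_sub_trans (memLocalIdeal_sub_comm (hd ξ g)) (h.2.2 ξ hξ χ hχ g),
    fun h => ⟨hb, hB, fun ξ hξ χ hχ g => memLocalIdeal_sub_trans (hd ξ g) (h ξ hξ χ hχ g)⟩⟩

theorem resQuot_brauerHom_eq_of_mem (hM : IsPModular p M) {P H : Subgroup G} [Fintype H]
    (hP : IsPGroup p P) (hCH : Subgroup.centralizer (P : Set G) ≤ H)
    (hHN : H ≤ Subgroup.normalizer (P : Set G)) {ξ η : IrrCharacter H}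
    (h : SameBlock M (ξ : H → ℂ) (η : H → ℂ)) (g : G) :
    MemLocalIdeal M (brauerCentralChar P H (ξ : H → ℂ) g - brauerCentralChar P H (η : H → ℂ) g) := by
  have := isPrime_of_isPModular hM
  rw [← res_eq_iff (memLocalRing_brauerCentralChar hHN ξ g) (memLocalRing_brauerCentralChar hHN η g),
    ← resQuot_brauerHom_classVec hM P H hP hCH hHN, ← resQuot_brauerHom_classVec hM P H hP hCH hHN,
    resQuot_eq_of_sameBlock h]

theorem inducedBlockDefined_of_le_normalizer (hM : IsPModular p M) {P H : Subgroup G} [Fintype H]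
    (hP : IsPGroup p P) (hPH : P ≤ H) (hCH : Subgroup.centralizer (P : Set G) ≤ H)
    (hHN : H ≤ Subgroup.normalizer (P : Set G)) {b : Set (IrrCharacter H)} (hb : IsPBlock M b) :
    InducedBlockDefined M H b := by
  have := isPrime_of_isPModular hM
  obtain ⟨η, hη⟩ := IsPBlock.nonempty hb
  obtain ⟨B, ⟨hB, hc⟩, -⟩ := existsUnique_brauer_block hM hP hCH hHN η
  exact ⟨B, (isInducedBlock_iff_brauer hM hP hPH hHN hb hB).mpr fun ξ hξ χ hχ g =>
    memLocalIdeal_sub_trans
      (resQuot_brauerHom_eq_of_mem hM hP hCH hHN (IsPBlock.sameBlock hb hξ hη) g) (hc χ hχ g)⟩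

theorem IsInducedBlock.unique [M.IsPrime] {H : Subgroup G} {b : Set (IrrCharacter H)}
    {B B' : Set (IrrCharacter G)} (h : IsInducedBlock M H b B) (h' : IsInducedBlock M H b B') :
    B = B' := by
  obtain ⟨ξ, hξ⟩ := IsPBlock.nonempty h.1
  obtain ⟨χ, hχ⟩ := IsPBlock.nonempty h.2.1
  obtain ⟨ψ, hψ⟩ := IsPBlock.nonempty h'.2.1
  exact IsPBlock.eq_of_mem_of_mem h.2.1 h'.2.1 hχ (IsPBlock.mem_of_sameBlock h'.2.1 hψ fun g =>
    memLocalIdeal_sub_trans (memLocalIdeal_sub_comm (h'.2.2 ξ hξ ψ hψ g)) (h.2.2 ξ hξ χ hχ g))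

end CfsgLib.Blocks
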