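import Cfsg.Agent.Lib.Blocks.Sections
import Cfsg.Agent.Lib.Char.BrauerInd

/-!
# `p`-power multiples of regular parts are generalized characters
-/

set_option autoImplicit false
set_option linter.unusedSectionVars false

namespace CfsgLib.Blocks

open Cfsg
open scoped ComplexConjugate CfsgLib.Char

variable {p : ℕ} {M : Ideal AlgInt} {G : Type*} [Group G] [Fintype G]

theorem memLocalIdeal_intCast_iff (hM : IsPModular p M) {n : ℤ} :
    MemLocalIdeal M (n : ℂ) ↔ (p : ℤ) ∣ n := by
  have := isPrime_of_isPModular hM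
  rw [Int.natCast_dvd]
  rcases Int.natAbs_eq n with h | h
  · conv_lhs => rw [h, Int.cast_natCast]
    exact memLocalIdeal_natCast_iff hM
  · conv_lhs => rw [h, Int.cast_neg, Int.cast_natCast]
    exact ⟨fun h' => (memLocalIdeal_natCast_iff hM).mp (neg_neg (n.natAbs : ℂ) ▸ memLocalIdeal_neg h'),
      fun h' => memLocalIdeal_neg ((memLocalIdeal_natCast_iff hM).mpr h')⟩

/-- A local integer whose `p`-power multiple is an integer is an integer. -/
theorem exists_int_of_pow_mul (hM : IsPModular p M) {z : ℂ} (hz : MemLocalRing M z) :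
    ∀ (c : ℕ) (N : ℤ), (p : ℂ) ^ c * z = (N : ℂ) → ∃ n : ℤ, z = (n : ℂ) := by
  have := isPrime_of_isPModular hM
  intro c
  induction c with
  | zero => exact fun N h => ⟨N, by simpa using h⟩
  | succ c ih =>
      intro N h
      obtain ⟨N', rfl⟩ : (p : ℤ) ∣ N := (memLocalIdeal_intCast_iff hM).mp (by
        rw [← h, pow_succ', mul_assoc]
        have hpc : MemLocalRing M ((p : ℂ) ^ c) := by
          rw [← Nat.cast_pow]; exact memLocalRing_natCast _
        exact memLocalIdeal_mul_right (memLocalIdeal_p hM) (memLocalRing_mul hpc hz))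
      refine ih N' (mul_left_cancel₀ (show (p : ℂ) ≠ 0 from Nat.cast_ne_zero.mpr hM.1.ne_zero) ?_)
      rw [← mul_assoc, ← pow_succ', h]
      push_cast
      ring

/-- In a nilpotent group the `p'`-core has `p`-power index and contains the regular elements. -/
theorem pPrimeCore_nilpotent (hp : p.Prime) (E : Type*) [Group E] [Finite E] [Group.IsNilpotent E] :
    (∃ k, (pPrimeCore p E).index = p ^ k) ∧ ∀ u : E, u ∈ pPrimeCore p E ↔ ¬ p ∣ orderOf u := by
  have : Fact p.Prime := ⟨hp⟩
  have hO := not_dvd_card_pPrimeCore (H := E) hp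
  have : (pPrimeCore p E).Normal := SelfCent.pPrimeCore_normal' (G := E) p
  have hi : ∀ q : ℕ, q.Prime → q ≠ p → ¬ q ∣ (pPrimeCore p E).index := by
    intro q hq hqp hdvd
    have : Fact q.Prime := ⟨hq⟩
    have S : Sylow q E := default
    have hn : (S : Subgroup E).Normal := by
      have := (Group.isNilpotent_of_finite_tfae (G := E)).out 0 3
      exact this.mp inferInstance q ‹_› S
    have hle : (S : Subgroup E) ≤ pPrimeCore p E := SelfCent.le_pPrimeCore hn (by
      rw [S.card_eq_multiplicity]
      exact ((Nat.coprime_primes hq hp).mpr hqp).pow_left _)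
    exact S.not_dvd_index (hdvd.trans (Subgroup.index_dvd_of_le hle))
  obtain ⟨k, hk⟩ : ∃ k, (pPrimeCore p E).index = p ^ k :=
    ⟨_, Nat.eq_prime_pow_of_unique_prime_dvd Subgroup.index_ne_zero_of_finite
      fun {q} hq hqd => by_contra fun hne => hi q hq hne hqd⟩
  refine ⟨⟨k, hk⟩, fun u => ⟨fun hu h => hO (h.trans (Subgroup.orderOf_dvd_natCard _ hu)), fun hu => ?_⟩⟩
  rw [← QuotientGroup.eq_one_iff, ← orderOf_eq_one_iff]
  have h1 : orderOf (u : E ⧸ pPrimeCore p E) ∣ p ^ k := by
    rw [← hk, Subgroup.index_eq_card]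
    exact orderOf_dvd_natCard _
  have h2 : orderOf (u : E ⧸ pPrimeCore p E) ∣ orderOf u :=
    orderOf_map_dvd (QuotientGroup.mk' (pPrimeCore p E)) u
  exact Nat.eq_one_of_dvd_coprimes
    (Nat.Coprime.pow_left k ((hp.coprime_iff_not_dvd).mpr hu)) h1 h2

theorem degree_factorization_le (χ : IrrCharacter G) :
    (charDegree (χ : G → ℂ)).factorization p ≤ (Nat.card G).factorization p := by
  obtain ⟨n, hn, hn0, hdvd⟩ := Char.exists_degree_dvd_card χ.2
  have : charDegree (χ : G → ℂ) = n := Nat.cast_injective (R := ℂ) ((irr_degree_eq χ).1.symm.trans hn)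
  rw [this]
  exact (Nat.factorization_le_iff_dvd hn0.ne' Nat.card_pos.ne').mpr hdvd p

/-- The exact `p`-power multiple of the regular part of an irreducible character is a generalized
character. -/
theorem isGeneralized_smul_regPart (hM : IsPModular p M) (χ : IrrCharacter G) :
    IsGeneralizedCharacter G (((p : ℂ) ^ ((Nat.card G).factorization p -
      (charDegree (χ : G → ℂ)).factorization p)) • regPart p (χ : G → ℂ)) := by
  classical
  have := isPrime_of_isPModular hM
  have : Fact p.Prime := ⟨hM.1⟩
  set a := (Nat.card G).factorization p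
  set e := (charDegree (χ : G → ℂ)).factorization p
  have hea : e ≤ a := degree_factorization_le χ
  have hcl : IsClassFunction G (((p : ℂ) ^ (a - e)) • regPart p (χ : G → ℂ)) := fun g h => by
    simp only [Pi.smul_apply, (isClassFunction_regPart (p := p) (irr_classFunction χ)) g h]
  refine Char.brauer_characterisation hcl fun E q hq hE => ?_
  have := Char.isNilpotent_of_isElementary hq hE
  obtain ⟨⟨c, hc⟩, hreg⟩ := pPrimeCore_nilpotent (p := p) hM.1 E
  set O := pPrimeCore p E
  have hclE : IsClassFunction E (fun x : E => (((p : ℂ) ^ (a - e)) • regPart p (χ : G → ℂ)) (x : G)) :=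
    Char.isClassFunction_restrict E hcl
  rw [Char.isGeneralized_iff_classInner hclE]
  intro ψ
  have hkey : classInner (fun x : E => (((p : ℂ) ^ (a - e)) • regPart p (χ : G → ℂ)) (x : G))
      (ψ : E → ℂ) = (p : ℂ) ^ (a - e) / (p : ℂ) ^ c *
        ((Nat.card O : ℂ)⁻¹ * ∑ n : O, (χ : G → ℂ) ((n : E) : G) * conj ((ψ : E → ℂ) (n : E))) := by
    have hcard : (Nat.card E : ℂ) = (p : ℂ) ^ c * (Nat.card O : ℂ) := by
      rw [← O.card_mul_index, hc]; push_cast; ring
    rw [classInner, hcard, ← Finset.sum_subtype (Finset.univ.filter (· ∈ O))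
      (fun n => by simp) fun n : E => (χ : G → ℂ) (n : G) * conj ((ψ : E → ℂ) n),
      Finset.sum_filter, Finset.mul_sum, Finset.mul_sum, Finset.mul_sum]
    refine Finset.sum_congr rfl fun n _ => ?_
    have hiff : IsPRegular p (n : G) ↔ n ∈ O := by rw [hreg, IsPRegular, Subgroup.orderOf_coe]
    by_cases hn : n ∈ O
    · rw [Pi.smul_apply, regPart_of_regular (hiff.mpr hn), if_pos hn, smul_eq_mul]
      field_simp
    · rw [Pi.smul_apply, regPart_of_singular (fun h => hn (hiff.mp h)), if_neg hn]
      simp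
  obtain ⟨k, hk⟩ := Char.exists_nat_classInner
    (Char.isCharacter_restrict O (Char.isCharacter_restrict E (Char.isCharacter_of_isIrr χ.2)))
    (Char.isCharacter_restrict O (Char.isCharacter_of_isIrr ψ.2))
  have hterm : ∀ n : O, MemLocalRing M
      ((p : ℂ) ^ (a - e) / (p : ℂ) ^ c * (χ : G → ℂ) ((n : E) : G)) := by
    intro n
    set g : G := ((n : E) : G)
    set C := Subgroup.centralizer ({g} : Set G)
    have hcC : c ≤ (Nat.card C).factorization p := by
      set S : Sylow p E := default
      have hS : Nat.card (S : Subgroup E) = p ^ c := by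
        rw [S.card_eq_multiplicity, ← O.card_mul_index, hc,
          Nat.factorization_mul Nat.card_pos.ne' (pow_ne_zero c hM.1.ne_zero), Finsupp.add_apply,
          Nat.factorization_eq_zero_of_not_dvd (not_dvd_card_pPrimeCore (H := E) hM.1), zero_add,
          Nat.Prime.factorization_pow hM.1, Finsupp.single_eq_same]
      have hnorm : (S : Subgroup E).Normal := by
        have := (Group.isNilpotent_of_finite_tfae (G := E)).out 0 3
        exact this.mp inferInstance p ‹_› S
      have : O.Normal := SelfCent.pPrimeCore_normal' (G := E) p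
      have hle : (S : Subgroup E).map E.subtype ≤ C := by
        rintro _ ⟨s, hs, rfl⟩
        refine Subgroup.mem_centralizer_singleton_iff.mpr ?_
        have hdisj : Disjoint (S : Subgroup E) O := Subgroup.disjoint_of_coprime_natCard (by
          rw [hS]
          exact Nat.Coprime.pow_left c
            ((hM.1.coprime_iff_not_dvd).mpr (not_dvd_card_pPrimeCore (H := E) hM.1)))
        exact congrArg Subtype.val
          (Subgroup.commute_of_normal_of_disjoint _ _ hnorm ‹O.Normal› hdisj s (n : E) hs n.2).eq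
      rw [← hM.1.pow_dvd_iff_le_factorization Nat.card_pos.ne', ← hS,
        ← Subgroup.card_map_of_injective (K := (S : Subgroup E)) E.subtype_injective]
      exact Subgroup.card_dvd_of_le hle
    set i := C.index
    have hi : i.factorization p + c ≤ a := by
      have h := congrArg (fun m : ℕ => m.factorization p) (Subgroup.card_mul_index C)
      beta_reduce at h
      rw [Nat.factorization_mul Nat.card_pos.ne' C.index_ne_zero_of_finite, Finsupp.add_apply] at h
      show C.index.factorization p + c ≤ (Nat.card G).factorization p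
      omega
    set d := charDegree (χ : G → ℂ)
    have hval : (p : ℂ) ^ (a - e) / (p : ℂ) ^ c * (χ : G → ℂ) g =
        ((p : ℂ) ^ (a - c - i.factorization p) *
          (((d : ℂ) / ((p ^ e : ℕ) : ℂ)) * (((p ^ i.factorization p : ℕ) : ℂ) / (i : ℂ)))) *
          centralChar (χ : G → ℂ) g := by
      rw [centralChar, (irr_degree_eq χ).1]
      show _ = _ * ((i : ℂ) * (χ : G → ℂ) g / (d : ℂ))
      have hp0 : (p : ℂ) ≠ 0 := Nat.cast_ne_zero.mpr hM.1.ne_zero
      have hi0 : (i : ℂ) ≠ 0 := Nat.cast_ne_zero.mpr C.index_ne_zero_of_finite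
      have hd0 : (d : ℂ) ≠ 0 := Nat.cast_ne_zero.mpr (irr_degree_eq χ).2.ne'
      have he : (p : ℂ) ^ (a - e) * (p : ℂ) ^ e =
          (p : ℂ) ^ (a - c - i.factorization p) * (p : ℂ) ^ i.factorization p * (p : ℂ) ^ c := by
        rw [← pow_add, ← pow_add, ← pow_add]
        congr 1
        omega
      push_cast
      field_simp
      linear_combination (χ : G → ℂ) g * he
    rw [hval]
    have hpow : MemLocalRing M ((p : ℂ) ^ (a - c - i.factorization p)) := by
      rw [← Nat.cast_pow]; exact memLocalRing_natCast _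
    refine memLocalRing_mul (memLocalRing_mul hpow (memLocalRing_mul ?_ ?_))
      (memLocalRing_centralChar χ g)
    · exact (unit_natCast_div hM (irr_degree_eq χ).2.ne' (pow_ne_zero e hM.1.ne_zero)
        (by rw [Nat.Prime.factorization_pow hM.1, Finsupp.single_eq_same])).1
    · exact (unit_natCast_div hM (pow_ne_zero _ hM.1.ne_zero) C.index_ne_zero_of_finite
        (by rw [Nat.Prime.factorization_pow hM.1, Finsupp.single_eq_same])).1
  refine exists_int_of_pow_mul hM ?_ c ((p : ℤ) ^ (a - e) * k) ?_
  · rw [hkey, Finset.mul_sum, Finset.mul_sum]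
    refine memLocalRing_sum _ _ fun n _ => ?_
    rw [show (p : ℂ) ^ (a - e) / (p : ℂ) ^ c * ((Nat.card O : ℂ)⁻¹ *
        ((χ : G → ℂ) ((n : E) : G) * conj ((ψ : E → ℂ) (n : E)))) =
      (Nat.card O : ℂ)⁻¹ * (((p : ℂ) ^ (a - e) / (p : ℂ) ^ c * (χ : G → ℂ) ((n : E) : G)) *
        conj ((ψ : E → ℂ) (n : E))) by ring]
    exact memLocalRing_mul (memLocalRing_natCast_inv hM (not_dvd_card_pPrimeCore (H := E) hM.1))
      (memLocalRing_mul (hterm n) (memLocalRing_of_isIntegral (irr_conj_isIntegral ψ.2 _)))
  · rw [hkey]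
    have hp0 : (p : ℂ) ^ c ≠ 0 := pow_ne_zero _ (Nat.cast_ne_zero.mpr hM.1.ne_zero)
    rw [← mul_assoc, mul_div_cancel₀ _ hp0]
    push_cast
    congr 1

/-- Large enough `p`-power multiples of the regular inner products are integers. -/
theorem exists_int_classInner_regPart (hM : IsPModular p M) (χ ψ : IrrCharacter G) {k : ℕ}
    (hk : (Nat.card G).factorization p - (charDegree (χ : G → ℂ)).factorization p ≤ k) :
    ∃ n : ℤ, (p : ℂ) ^ k * classInner (regPart p (χ : G → ℂ)) (ψ : G → ℂ) = (n : ℂ) := by
  obtain ⟨n, hn⟩ := Char.exists_int_classInner (isGeneralized_smul_regPart hM χ)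
    (Char.isGeneralized_of_isIrr ψ.2)
  rw [Char.classInner_smul_left] at hn
  obtain ⟨j, rfl⟩ := Nat.exists_eq_add_of_le hk
  refine ⟨(p : ℤ) ^ j * n, ?_⟩
  push_cast
  rw [← hn, pow_add]
  ring

/-- A generalized character vanishing on the singular elements has degree divisible by the full
`p`-part of the order. -/
theorem exists_int_degree_of_vanishing (hp : p.Prime) {θ : G → ℂ} (hθ : IsGeneralizedCharacter G θ)
    (h0 : ∀ g, ¬ IsPRegular p g → θ g = 0) :
    ∃ n : ℤ, θ 1 = (p : ℂ) ^ (Nat.card G).factorization p * (n : ℂ) := by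
  classical
  have : Fact p.Prime := ⟨hp⟩
  set P : Sylow p G := default
  obtain ⟨n, hn⟩ := Char.exists_int_classInner (Char.isGeneralized_restrict (P : Subgroup G) hθ)
    Char.isGeneralized_one
  refine ⟨n, ?_⟩
  rw [classInner, Finset.sum_eq_single_of_mem (1 : (P : Subgroup G)) (Finset.mem_univ _)
    (fun v _ hv => ?_), map_one, mul_one, inv_mul_eq_iff_eq_mul₀
      (Nat.cast_ne_zero.mpr Nat.card_pos.ne'), P.card_eq_multiplicity, Nat.cast_pow] at hn
  · exact hn
  · rw [h0 (v : G) ?_, zero_mul]
    rw [IsPRegular, not_not, Subgroup.orderOf_coe]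
    obtain ⟨j, hj⟩ := IsPGroup.iff_orderOf.mp P.2 v
    rw [hj]
    exact dvd_pow_self p fun hj0 => hv (orderOf_eq_one_iff.mp (by rw [hj, hj0, pow_zero]))

end CfsgLib.Blocks
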