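import Cfsg.Agent.Lib.Blocks.PrincipalQuot
import Cfsg.Agent.Lib.Blocks.Rank
import Cfsg.Agent.Lib.Blocks.Integrality
import Cfsg.Agent.Lib.Blocks.Inflate
import Cfsg.Agent.Lib.Blocks.BrauerFeit

/-!
# The block dominated by a block over a central `p`-subgroup

For `f : C → C'` surjective with a central `p`-kernel, the characters of `C'` inflating into a block
`b` of `C` form a block of the same rank, of defect smaller by the exponent of the kernel, and on
the regular elements every member of `b` is an integral combination of them.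
-/

set_option autoImplicit false
set_option linter.unusedSectionVars false

namespace CfsgLib.Blocks.CentralQuot

open Cfsg
open scoped ComplexConjugate CfsgLib.Char

variable {p : ℕ} {M : Ideal AlgInt} {C : Type*} [Group C] [Fintype C] {C' : Type*} [Group C']
  [Fintype C']

/-- An exponent picking out the `p'`-parts. -/
theorem exists_exponent (hp : p.Prime) (C : Type*) [Group C] [Finite C] :
    ∃ m : ℕ, (∀ g : C, IsPRegular p g → g ^ m = g) ∧
      (∀ g : C, (∃ k, orderOf g = p ^ k) → g ^ m = 1) ∧ (∀ g : C, IsPRegular p (g ^ m)) ∧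
      ∀ n, n ∣ Nat.card C → ¬ p ∣ n → m ≡ 1 [MOD n] := by
  set n := Nat.card C
  set a := n.factorization p
  have hcop : Nat.Coprime (p ^ a) (n / p ^ a) :=
    Nat.Coprime.pow_left a ((hp.coprime_iff_not_dvd).mpr (Nat.not_dvd_ordCompl hp Nat.card_pos.ne'))
  obtain ⟨m, hm1, hm2⟩ := Nat.chineseRemainder hcop 0 1
  have hm1' : p ^ a ∣ m := Nat.modEq_zero_iff_dvd.mp hm1
  have hdvd : p ^ a * (n / p ^ a) = n := Nat.ordProj_mul_ordCompl_eq_self n p
  have hkey : ∀ d, d ∣ Nat.card C → ¬ p ∣ d → m ≡ 1 [MOD d] := fun d hd hpd => by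
    refine hm2.of_dvd ((Nat.Coprime.pow_right a ((hp.coprime_iff_not_dvd.mpr hpd).symm)).dvd_of_dvd_mul_left ?_)
    rw [hdvd]; exact hd
  refine ⟨m, fun g hg => ?_, fun g ⟨k, hk⟩ => ?_, fun g h => ?_, hkey⟩
  · calc g ^ m = g ^ 1 := pow_eq_pow_iff_modEq.mpr (hkey _ (orderOf_dvd_natCard g) hg)
      _ = g := pow_one g
  · rw [← orderOf_dvd_iff_pow_eq_one, hk]
    refine (pow_dvd_pow p ?_).trans hm1'
    exact (hp.pow_dvd_iff_le_factorization Nat.card_pos.ne').mp (hk ▸ orderOf_dvd_natCard g)
  · have h1 : (g ^ m) ^ (n / p ^ a) = 1 := by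
      obtain ⟨q, rfl⟩ := hm1'
      rw [← pow_mul, mul_right_comm, hdvd, pow_mul, pow_card_eq_one', one_pow]
    exact Nat.not_dvd_ordCompl hp Nat.card_pos.ne' (h.trans (orderOf_dvd_of_pow_eq_one h1))

/-- A character evaluated at `p'`-parts is a generalized character. -/
theorem isGeneralized_pPrime (hp : p.Prime) {m : ℕ} (hm1 : ∀ g : C, IsPRegular p g → g ^ m = g)
    (hm2 : ∀ g : C, (∃ k, orderOf g = p ^ k) → g ^ m = 1) (hm3 : ∀ g : C, IsPRegular p (g ^ m))
    {χ : C → ℂ} (hχ : IsCharacter C χ) : IsGeneralizedCharacter C (fun g => χ (g ^ m)) := by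
  have : Fact p.Prime := ⟨hp⟩
  refine Char.brauer_characterisation (fun g h => ?_) fun E q hq hE => ?_
  · show χ ((h * g * h⁻¹) ^ m) = χ (g ^ m)
    rw [conj_pow]
    exact Char.isClassFunction_of_isCharacter hχ _ _
  have := Char.isNilpotent_of_isElementary hq hE
  obtain ⟨⟨k, hk⟩, hreg⟩ := pPrimeCore_nilpotent (p := p) hp E
  set O := pPrimeCore p E
  have hOn : O.Normal := SelfCent.pPrimeCore_normal' (G := E) p
  set S : Sylow p E := default
  have hSn : (S : Subgroup E).Normal := by
    have := (Group.isNilpotent_of_finite_tfae (G := E)).out 0 3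
    exact this.mp inferInstance p ‹_› S
  have hdisj : Disjoint (S : Subgroup E) O := Subgroup.disjoint_of_coprime_natCard (by
    rw [S.card_eq_multiplicity]
    exact Nat.Coprime.pow_left _
      ((hp.coprime_iff_not_dvd).mpr (not_dvd_card_pPrimeCore (H := E) hp)))
  have ho : ∀ x : E, x ^ m ∈ O := fun x => by
    rw [hreg, ← Subgroup.orderOf_coe, Subgroup.coe_pow]
    exact hm3 _
  have hfix : ∀ x ∈ O, x ^ m = x := fun x hx => Subtype.ext (by
    rw [Subgroup.coe_pow]
    exact hm1 _ (by rw [IsPRegular, Subgroup.orderOf_coe]; exact (hreg x).mp hx))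
  set n := Nat.card E
  set a := n.factorization p
  have hdvd : p ^ a * (n / p ^ a) = n := Nat.ordProj_mul_ordCompl_eq_self n p
  have hs : ∀ x : E, (x ^ m)⁻¹ * x ∈ (S : Subgroup E) ∧ ((x ^ m)⁻¹ * x) ^ m = 1 := fun x => by
    set y := (x ^ m)⁻¹ * x with hydef
    have hy : y ^ m = 1 := by
      rw [hydef, ((Commute.self_pow x m).symm.inv_left).mul_pow, inv_pow, hfix _ (ho x),
        inv_mul_cancel]
    refine ⟨?_, hy⟩
    have hz : y ^ p ^ a = 1 := by
      have hzO : y ^ p ^ a ∈ O := by
        rw [hreg]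
        intro h
        have h1 : (y ^ p ^ a) ^ (n / p ^ a) = 1 := by rw [← pow_mul, hdvd, pow_card_eq_one']
        exact Nat.not_dvd_ordCompl hp Nat.card_pos.ne' (h.trans (orderOf_dvd_of_pow_eq_one h1))
      rw [← hfix _ hzO, ← pow_mul, mul_comm, pow_mul, hy, one_pow]
    obtain ⟨j, -, hj⟩ := (Nat.dvd_prime_pow hp).mp (orderOf_dvd_of_pow_eq_one hz)
    obtain ⟨T, hT⟩ := (IsPGroup.of_card (n := j) (by rw [Nat.card_zpowers, hj]) :
      IsPGroup p (Subgroup.zpowers y)).exists_le_sylow
    have := Sylow.unique_of_normal S hSn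
    rw [Subsingleton.elim S T]
    exact hT (Subgroup.mem_zpowers y)
  have hcomm : ∀ o ∈ O, ∀ s ∈ (S : Subgroup E), Commute o s := fun o ho s hs =>
    (Subgroup.commute_of_normal_of_disjoint _ _ hSn hOn hdisj s o hs ho).symm
  let φ : E →* E :=
    { toFun := fun x => x ^ m
      map_one' := one_pow m
      map_mul' := fun x y => by
        obtain ⟨sx, hsx⟩ : ∃ s, x = x ^ m * s := ⟨_, (mul_inv_cancel_left _ x).symm⟩
        obtain ⟨sy, hsy⟩ : ∃ s, y = y ^ m * s := ⟨_, (mul_inv_cancel_left _ y).symm⟩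
        have hx' : sx = (x ^ m)⁻¹ * x := eq_inv_mul_iff_mul_eq.mpr hsx.symm
        have hy' : sy = (y ^ m)⁻¹ * y := eq_inv_mul_iff_mul_eq.mpr hsy.symm
        have h1 : sx * sy ∈ (S : Subgroup E) := mul_mem (hx' ▸ (hs x).1) (hy' ▸ (hs y).1)
        have hsm : ∀ s ∈ (S : Subgroup E), s ^ m = 1 := fun s hs' => Subtype.ext (by
          rw [Subgroup.coe_pow, Subgroup.coe_one]
          obtain ⟨j, hj⟩ := IsPGroup.iff_orderOf.mp S.isPGroup' ⟨s, hs'⟩
          exact hm2 _ ⟨j, by rw [Subgroup.orderOf_coe, ← hj, ← Subgroup.orderOf_coe (⟨s, hs'⟩ : (S : Subgroup E))]⟩)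
        calc (x * y) ^ m = (x ^ m * y ^ m * (sx * sy)) ^ m := by
              congr 1
              conv_lhs => rw [hsx, hsy]
              rw [mul_assoc, ← mul_assoc sx, ← (hcomm _ (ho y) sx (hx' ▸ (hs x).1)).eq]
              group
          _ = (x ^ m * y ^ m) ^ m * (sx * sy) ^ m :=
            (hcomm _ (mul_mem (ho x) (ho y)) _ h1).mul_pow m
          _ = x ^ m * y ^ m := by rw [hsm _ h1, mul_one, hfix _ (mul_mem (ho x) (ho y))] }
  exact Char.isGeneralized_comp φ (Char.isGeneralized_of_isCharacter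
    (Char.isCharacter_restrict E hχ))

variable (f : C →* C') (hf : Function.Surjective f)

section
variable (hp : p.Prime) (hker : IsPGroup p f.ker) (hc : ∀ k ∈ f.ker, ∀ g : C, Commute k g)
include hp hker hc

theorem pow_eq_of_map_eq {m : ℕ} (hm2 : ∀ g : C, (∃ k, orderOf g = p ^ k) → g ^ m = 1)
    {x y : C} (h : f x = f y) : x ^ m = y ^ m := by
  have : Fact p.Prime := ⟨hp⟩
  have hk : x⁻¹ * y ∈ f.ker := by simp [MonoidHom.mem_ker, h]
  have h1 : (x⁻¹ * y) ^ m = 1 := by
    obtain ⟨j, hj⟩ := IsPGroup.iff_orderOf.mp hker ⟨_, hk⟩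
    exact hm2 _ ⟨j, (Subgroup.orderOf_coe _).trans hj⟩
  conv_rhs => rw [← mul_inv_cancel_left x y, ((hc _ hk x).symm).mul_pow, h1, mul_one]

include hf

/-- Sums over the regular elements pass to the quotient. -/
theorem sum_regular (F : C' → ℂ) [DecidablePred fun c : C => IsPRegular p c]
    [DecidablePred fun c : C' => IsPRegular p c] :
    ∑ c : C with IsPRegular p c, F (f c) = ∑ c : C' with IsPRegular p c, F c := by
  obtain ⟨m, hm1, hm2, hm3, hm4⟩ := exists_exponent hp C
  refine Finset.sum_bij (fun c _ => f c) (fun c hc' => ?_) (fun c hcc c' hc' e => ?_)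
    (fun g hg => ?_) (fun _ _ => rfl)
  · exact Finset.mem_filter.mpr ⟨Finset.mem_univ _, fun h =>
      (Finset.mem_filter.mp hc').2 (h.trans (orderOf_map_dvd f c))⟩
  · rw [← hm1 c (Finset.mem_filter.mp hcc).2, ← hm1 c' (Finset.mem_filter.mp hc').2]
    exact pow_eq_of_map_eq f hp hker hc hm2 e
  · obtain ⟨a, rfl⟩ := hf g
    refine ⟨a ^ m, Finset.mem_filter.mpr ⟨Finset.mem_univ _, hm3 a⟩, ?_⟩
    rw [map_pow]
    calc f a ^ m = f a ^ 1 := pow_eq_pow_iff_modEq.mpr (hm4 _
          ((orderOf_dvd_natCard _).trans (Subgroup.card_dvd_of_surjective f hf))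
          (Finset.mem_filter.mp hg).2)
      _ = f a := pow_one _

end


/-- The members of `C'` inflating into `b`. -/
def pre (b : Set (IrrCharacter C)) : Set (IrrCharacter C') := {η | inflate f hf η ∈ b}

variable (hM : IsPModular p M) (hker : IsPGroup p f.ker) (hc : ∀ k ∈ f.ker, ∀ g : C, Commute k g)
  {b : Set (IrrCharacter C)} (hb : IsPBlock M b)
include hM hker hc hb

/-- The characters inflating into `b` form a block. -/
theorem isPBlock_pre : IsPBlock M (pre f hf b) := by
  classical
  have := isPrime_of_isPModular hM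
  have : Fact p.Prime := ⟨hM.1⟩
  obtain ⟨θ, hθ, hθk⟩ := exists_mem_trivial_on_normal_pgroup hM hb f.ker hker
  obtain ⟨n, ρ, hρ, hχ⟩ := θ.2
  obtain ⟨η₀, hη₀⟩ : ∃ η : IrrCharacter C', θ = inflate f hf η := by
    let e : C ⧸ f.ker ≃* C' := QuotientGroup.quotientKerEquivOfSurjective f hf
    obtain ⟨η, hη⟩ := exists_inflate_eq_of_ker f.ker θ fun u hu => hθk u hu
    refine ⟨inflate e.symm.toMonoidHom e.symm.surjective η, Subtype.ext ?_⟩
    rw [hη]
    funext c
    show (η : C ⧸ f.ker → ℂ) (QuotientGroup.mk c) = (η : C ⧸ f.ker → ℂ) (e.symm (f c))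
    rw [show f c = e (QuotientGroup.mk c) from rfl, MulEquiv.symm_apply_apply]
  have hη₀b : inflate f hf η₀ ∈ b := hη₀ ▸ hθ
  refine ⟨η₀, Set.ext fun η => ⟨fun hη => ?_, fun hη => ?_⟩⟩
  swap
  · exact IsPBlock.mem_of_sameBlock hb hη₀b (sameBlock_inflate f hf hη)
  by_contra hcon
  set B := blockOf M (η₀ : C' → ℂ)
  have hB : IsBlockUnion M B := IsPBlock.isBlockUnion (isPBlock_blockOf η₀)
  set F : C → ℂ := fun c => if IsPRegular p c then blockCoeff B (f c) else 0
  have hF : IsClassFunction C F := fun c x => by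
    refine if_congr ?_ ?_ rfl
    · simp only [IsPRegular, Transfer.orderOf_conj]
    · simp only [map_mul, map_inv, isClassFunction_blockCoeff B (f c) (f x)]
  have hloc : ∀ c, MemLocalRing M (F c) := fun c => by
    simp only [F]
    split
    exacts [memLocalRing_blockCoeff hB _, memLocalRing_zero]
  have hω : ∀ ψ : IrrCharacter C',
      omega (inflate f hf ψ : C → ℂ) F = omega (ψ : C' → ℂ) (blockCoeff B) := by
    intro ψ
    rw [omega, omega, show (inflate f hf ψ : C → ℂ) 1 = (ψ : C' → ℂ) 1 from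
      congrArg (ψ : C' → ℂ) (map_one f)]
    congr 1
    rw [← Finset.sum_filter_add_sum_filter_not Finset.univ (fun c : C => IsPRegular p c),
      ← Finset.sum_filter_add_sum_filter_not Finset.univ (fun c : C' => IsPRegular p c),
      Finset.sum_eq_zero (s := Finset.univ.filter fun c : C => ¬ IsPRegular p c) fun c hc => by
        simp only [F, (Finset.mem_filter.mp hc).2, if_false, zero_mul],
      Finset.sum_eq_zero (s := Finset.univ.filter fun c : C' => ¬ IsPRegular p c) fun c hc => by
        rw [blockCoeff_eq_zero_of_not_regular hM hB (Finset.mem_filter.mp hc).2, zero_mul],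
      add_zero, add_zero, ← sum_regular f hf hM.1 hker hc]
    refine Finset.sum_congr rfl fun c hc => ?_
    simp only [F, (Finset.mem_filter.mp hc).2, if_true]
    rfl
  have hd := sub_mem_localIdeal_of_sameBlock (χ := inflate f hf η₀) (ψ := inflate f hf η)
    (IsPBlock.sameBlock hb hη₀b hη) hF hloc
  rw [hω, hω, omega_blockCoeff, omega_blockCoeff, indVec_of_mem (mem_blockOf_self η₀),
    indVec_of_notMem hcon, sub_zero, show (1 : ℂ) = ((1 : ℕ) : ℂ) from Nat.cast_one.symm,
    memLocalIdeal_natCast_iff hM] at hd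
  exact hM.1.not_dvd_one hd

/-- On the regular elements the members of `b` are integral combinations of the dominated ones. -/
theorem exists_expansion {ξ : IrrCharacter C} (hξ : ξ ∈ b) :
    ∃ z : IrrCharacter C' → ℤ, (∀ η, η ∉ pre f hf b → z η = 0) ∧ ∀ c : C, IsPRegular p c →
      (ξ : C → ℂ) c = ∑ η : IrrCharacter C', (z η : ℂ) * (η : C' → ℂ) (f c) := by
  classical
  have := isPrime_of_isPModular hM
  have hU := IsPBlock.isBlockUnion hb
  obtain ⟨m, hm1, hm2, hm3, -⟩ := exists_exponent hM.1 C
  have hgen := isGeneralized_pPrime hM.1 hm1 hm2 hm3 (Char.isCharacter_of_isIrr ξ.2)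
  obtain ⟨a, ha⟩ := hf.hasRightInverse
  set θ : C' → ℂ := fun g => (ξ : C → ℂ) (a g ^ m) with hθdef
  have hθf : ∀ c : C, θ (f c) = (ξ : C → ℂ) (c ^ m) := fun c => by
    simp only [hθdef, pow_eq_of_map_eq f hM.1 hker hc hm2 (ha (f c))]
  have hθc : IsClassFunction C' θ := fun g h => by
    obtain ⟨x, rfl⟩ := hf g
    obtain ⟨y, rfl⟩ := hf h
    rw [← map_inv, ← map_mul, ← map_mul, hθf, hθf, conj_pow]
    exact irr_classFunction ξ _ _
  have hcard : Nat.card C = Nat.card f.ker * Nat.card C' := by
    rw [← f.ker.card_mul_index, Subgroup.index_ker, MonoidHom.range_eq_top.mpr hf,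
      Nat.card_congr Subgroup.topEquiv.toEquiv]
  have hint : ∀ η : IrrCharacter C', ∃ n : ℤ, classInner θ (η : C' → ℂ) = n := fun η => by
    obtain ⟨n, hn⟩ := Char.exists_int_classInner hgen
      (Char.isGeneralized_of_isIrr (inflate f hf η).2)
    refine ⟨n, hn ▸ ?_⟩
    rw [classInner, classInner, ← Finset.sum_fiberwise Finset.univ f]
    have hfib : ∀ g : C', ∑ c : C with f c = g, (ξ : C → ℂ) (c ^ m) * conj ((η : C' → ℂ) (f c)) =
        (Nat.card f.ker : ℂ) * (θ g * conj ((η : C' → ℂ) g)) := fun g => by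
      obtain ⟨x, rfl⟩ := hf g
      rw [Finset.sum_congr rfl (g := fun _ => θ (f x) * conj ((η : C' → ℂ) (f x))) fun c hc' => by
        have e := (Finset.mem_filter.mp hc').2
        rw [← hθf c, e], Finset.sum_const, nsmul_eq_mul, ← Fintype.card_subtype,
        ← Nat.card_eq_fintype_card]
      congr 2
      exact Nat.card_congr
        { toFun := fun c => ⟨x⁻¹ * c.1, by simp [MonoidHom.mem_ker, c.2]⟩
          invFun := fun k => ⟨x * k.1, by simp [MonoidHom.mem_ker.mp k.2]⟩
          left_inv := fun c => by simp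
          right_inv := fun k => by simp }
    rw [show (∑ g : C', ∑ c : C with f c = g,
        (fun g => (ξ : C → ℂ) (g ^ m)) c * conj ((inflate f hf η : C → ℂ) c)) =
      ∑ g : C', (Nat.card f.ker : ℂ) * (θ g * conj ((η : C' → ℂ) g)) from
        Finset.sum_congr rfl fun g _ => hfib g, ← Finset.mul_sum, hcard, Nat.cast_mul]
    have : (Nat.card f.ker : ℂ) ≠ 0 := Nat.cast_ne_zero.mpr Nat.card_pos.ne'
    field_simp
  choose z hz using hint
  refine ⟨fun η => if η ∈ pre f hf b then z η else 0, fun η h => if_neg h, fun c hc' => ?_⟩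
  set I : Finset (IrrCharacter C') := {η | η ∈ pre f hf b}
  set h : C → ℂ := regPart p (ξ : C → ℂ) -
    ∑ η ∈ I, (z η : ℂ) • regPart p (inflate f hf η : C → ℂ) with hdef
  have hh : h = ∑ η ∈ Iᶜ, (z η : ℂ) • regPart p (inflate f hf η : C → ℂ) := by
    rw [hdef, sub_eq_iff_eq_add, add_comm, Finset.sum_add_sum_compl]
    funext x
    simp only [Finset.sum_apply, Pi.smul_apply, smul_eq_mul]
    by_cases hx : IsPRegular p x
    · simp only [regPart_of_regular hx]
      have e := congrFun (Char.classFunction_expansion hθc) (f x)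
      rw [hθf, hm1 x hx] at e
      rw [e, Finset.sum_apply]
      exact Finset.sum_congr rfl fun η _ => by rw [Pi.smul_apply, smul_eq_mul, hz]; rfl
    · simp only [regPart_of_singular hx, mul_zero, Finset.sum_const_zero]
  have hcl : IsClassFunction C h := by
    rw [hh]
    intro x y
    simp only [Finset.sum_apply, Pi.smul_apply]
    exact Finset.sum_congr rfl fun η _ => by
      rw [isClassFunction_regPart (irr_classFunction (inflate f hf η)) x y]
  have h0 : h = 0 := by
    rw [Char.classFunction_expansion hcl]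
    refine Finset.sum_eq_zero fun ψ _ => ?_
    by_cases hψ : ψ ∈ b
    · rw [hh, Char.classInner_sum_left, Finset.sum_eq_zero, zero_smul]
      intro η hη
      rw [Char.classInner_smul_left]
      have hnot : inflate f hf η ∉ b := fun hm' => (Finset.mem_compl.mp hη)
        (Finset.mem_filter.mpr ⟨Finset.mem_univ _, hm'⟩)
      rw [classInner_regPart_comm, classInner_regPart_eq_zero hM hU hψ hnot, mul_zero]
    · rw [hdef, Char.classInner_sub_left, classInner_regPart_eq_zero hM hU hξ hψ,
        Char.classInner_sum_left, Finset.sum_eq_zero, sub_zero, zero_smul]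
      intro η hη
      rw [Char.classInner_smul_left, classInner_regPart_eq_zero hM hU
        (Finset.mem_filter.mp hη).2 hψ, mul_zero]
  have e := congrFun h0 c
  simp only [hdef, Pi.sub_apply, Finset.sum_apply, Pi.smul_apply, smul_eq_mul, Pi.zero_apply,
    regPart_of_regular hc', sub_eq_zero] at e
  rw [e, Finset.sum_filter]
  refine Finset.sum_congr rfl fun η _ => ?_
  by_cases hη : η ∈ pre f hf b
  · simp only [if_pos hη]
    rfl
  · simp only [if_neg hη, Int.cast_zero, zero_mul]

/-- The ranks agree. -/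
theorem blockRank_pre : blockRank p b = blockRank p (pre f hf b) := by
  classical
  have := isPrime_of_isPModular hM
  let Φ : (C' → ℂ) →ₗ[ℂ] (C → ℂ) :=
    { toFun := fun h => regPart p (h ∘ f)
      map_add' := fun g h => funext fun x => by
        by_cases hx : IsPRegular p x <;> simp [regPart_of_regular, regPart_of_singular, hx]
      map_smul' := fun t h => funext fun x => by
        by_cases hx : IsPRegular p x <;> simp [regPart_of_regular, regPart_of_singular, hx] }
  set W := Submodule.span ℂ ((fun η : IrrCharacter C' => pRegularPart p (η : C' → ℂ)) '' pre f hf b)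
  have hΦ : ∀ η : IrrCharacter C', Φ (pRegularPart p (η : C' → ℂ)) =
      pRegularPart p (inflate f hf η : C → ℂ) := fun η => funext fun x => by
    show regPart p (pRegularPart p (η : C' → ℂ) ∘ f) x = _
    simp only [pRegularPart_eq_regPart]
    by_cases hx : IsPRegular p x
    · rw [regPart_of_regular hx, regPart_of_regular hx, Function.comp_apply, regPart_of_regular]
      · rfl
      · exact fun h => hx (h.trans (orderOf_map_dvd f x))
    · rw [regPart_of_singular hx, regPart_of_singular hx]
  have hmap : W.map Φ =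
      Submodule.span ℂ ((fun ξ : IrrCharacter C => pRegularPart p (ξ : C → ℂ)) '' b) := by
    rw [Submodule.map_span, ← Set.image_comp]
    refine le_antisymm (Submodule.span_mono ?_) (Submodule.span_le.mpr ?_)
    · rintro _ ⟨η, hη, rfl⟩
      exact ⟨inflate f hf η, hη, (hΦ η).symm⟩
    · rintro _ ⟨ξ, hξ, rfl⟩
      obtain ⟨z, hz0, hz⟩ := exists_expansion f hf hM hker hc hb hξ
      show pRegularPart p (ξ : C → ℂ) ∈ _
      have e : pRegularPart p (ξ : C → ℂ) =
          ∑ η : IrrCharacter C', (z η : ℂ) • pRegularPart p (inflate f hf η : C → ℂ) := by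
        funext x
        simp only [pRegularPart_eq_regPart, Finset.sum_apply, Pi.smul_apply, smul_eq_mul]
        by_cases hx : IsPRegular p x
        · simp only [regPart_of_regular hx]
          exact hz x hx
        · simp only [regPart_of_singular hx, mul_zero, Finset.sum_const_zero]
      rw [e]
      refine Submodule.sum_mem _ fun η _ => ?_
      by_cases hη : η ∈ pre f hf b
      · exact Submodule.smul_mem _ _ (Submodule.subset_span ⟨η, hη, hΦ η⟩)
      · rw [hz0 η hη, Int.cast_zero, zero_smul]; exact Submodule.zero_mem _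
  rw [blockRank, blockRank, ← hmap]
  -- `Φ` is injective on the functions supported on the regular elements
  have hsupp : ∀ h ∈ W, ∀ g, ¬ IsPRegular p g → h g = 0 := fun h hh => by
    induction hh using Submodule.span_induction with
    | mem w hw =>
      obtain ⟨η, -, rfl⟩ := hw
      exact fun g hg => if_neg hg
    | zero => exact fun _ _ => rfl
    | add u v _ _ hu hv => exact fun g hg => by rw [Pi.add_apply, hu g hg, hv g hg, add_zero]
    | smul t u _ hu => exact fun g hg => by rw [Pi.smul_apply, hu g hg, smul_zero]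
  refine LinearEquiv.finrank_eq (LinearEquiv.ofBijective (Φ.submoduleMap W) ⟨?_, ?_⟩).symm
  · rintro ⟨u, hu⟩ ⟨v, hv⟩ e
    have e' : Φ u = Φ v := congrArg Subtype.val e
    refine Subtype.ext (funext fun g => ?_)
    show u g = v g
    by_cases hg : IsPRegular p g
    · obtain ⟨m, hm1, hm2, hm3, hm4⟩ := exists_exponent hM.1 C
      obtain ⟨x, rfl⟩ := hf g
      have hx : f (x ^ m) = f x := by
        rw [map_pow]
        calc f x ^ m = f x ^ 1 := pow_eq_pow_iff_modEq.mpr (hm4 _
              ((orderOf_dvd_natCard _).trans (Subgroup.card_dvd_of_surjective f hf)) hg)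
          _ = f x := pow_one _
      have := congrFun e' (x ^ m)
      change regPart p (u ∘ f) (x ^ m) = regPart p (v ∘ f) (x ^ m) at this
      rwa [regPart_of_regular (hm3 x), regPart_of_regular (hm3 x), Function.comp_apply,
        Function.comp_apply, hx] at this
    · rw [hsupp u hu g hg, hsupp v hv g hg]
  · exact Φ.submoduleMap_surjective W

/-- The defect drops by the exponent of the kernel. -/
theorem blockDefect_pre :
    blockDefect p b = blockDefect p (pre f hf b) + (Nat.card f.ker).factorization p := by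
  classical
  have := isPrime_of_isPModular hM
  have hdeg : ∀ η : IrrCharacter C',
      charDegree (inflate f hf η : C → ℂ) = charDegree (η : C' → ℂ) := fun η => by
    show ⌊((η : C' → ℂ) (f 1)).re⌋₊ = _
    rw [map_one]; rfl
  have hpre := isPBlock_pre f hf hM hker hc hb
  obtain ⟨η₀, hη₀, h0⟩ := exists_blockHeight_eq_zero hM hpre
  set a' := (Nat.card C').factorization p
  set e := (charDegree (η₀ : C' → ℂ)).factorization p
  have hmin : ∀ η ∈ pre f hf b, e ≤ (charDegree (η : C' → ℂ)).factorization p := fun η hη => by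
    have h1 := degree_exponent_eq hM hpre hη
    have h2 := degree_exponent_eq hM hpre hη₀
    rw [h0, add_zero] at h2
    simp only [e, h1, h2]
    omega
  have hge : ∀ ξ ∈ b, e ≤ (charDegree (ξ : C → ℂ)).factorization p := by
    intro ξ hξ
    obtain ⟨z, hz0, hz⟩ := exists_expansion f hf hM hker hc hb hξ
    have h := hz 1 (by rw [IsPRegular, orderOf_one]; exact hM.1.not_dvd_one)
    simp only [map_one] at h
    rw [(irr_degree_eq ξ).1, Finset.sum_congr rfl fun η _ => by rw [(irr_degree_eq η).1]] at h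
    have h' : (charDegree (ξ : C → ℂ) : ℤ) =
        ∑ η : IrrCharacter C', z η * (charDegree (η : C' → ℂ) : ℤ) := by exact_mod_cast h
    refine (hM.1.pow_dvd_iff_le_factorization (irr_degree_eq ξ).2.ne').mp ?_
    rw [← Int.natCast_dvd_natCast, h']
    refine Finset.dvd_sum fun η _ => ?_
    by_cases hη : η ∈ pre f hf b
    · exact dvd_mul_of_dvd_right (Int.natCast_dvd_natCast.mpr
        ((hM.1.pow_dvd_iff_le_factorization (irr_degree_eq η).2.ne').mpr (hmin η hη))) _
    · rw [hz0 η hη, zero_mul]; exact dvd_zero _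
  have h1 : sInf ((fun ξ : IrrCharacter C => (charDegree (ξ : C → ℂ)).factorization p) '' b) = e := by
    refine le_antisymm (Nat.sInf_le ⟨inflate f hf η₀, hη₀, by simp [hdeg, e]⟩)
      (le_csInf ⟨_, inflate f hf η₀, hη₀, rfl⟩ ?_)
    rintro _ ⟨ξ, hξ, rfl⟩
    exact hge ξ hξ
  have h2 : sInf ((fun η : IrrCharacter C' => (charDegree (η : C' → ℂ)).factorization p) ''
      pre f hf b) = e := by
    refine le_antisymm (Nat.sInf_le ⟨η₀, hη₀, rfl⟩) (le_csInf ⟨_, η₀, hη₀, rfl⟩ ?_)
    rintro _ ⟨η, hη, rfl⟩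
    exact hmin η hη
  have hcard : (Nat.card C).factorization p = a' + (Nat.card f.ker).factorization p := by
    rw [← f.ker.card_mul_index, Subgroup.index_ker, MonoidHom.range_eq_top.mpr hf,
      Nat.card_congr Subgroup.topEquiv.toEquiv, Nat.factorization_mul Nat.card_pos.ne'
        Nat.card_pos.ne', Finsupp.add_apply, add_comm]
  have hle : e ≤ a' := degree_factorization_le η₀
  rw [blockDefect, blockDefect, h1, h2, hcard]
  omega

end CfsgLib.Blocks.CentralQuot
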