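import Cfsg.Agent.Lib.Blocks.MainFirst

/-!
# The Brauer image of a block idempotent as the sum of the inducing blocks
-/

set_option autoImplicit false
set_option linter.unusedSectionVars false

namespace CfsgLib.Blocks

open Cfsg
open scoped ComplexConjugate CfsgLib.Char

variable {p : ℕ} {M : Ideal AlgInt} {G : Type*} [Group G] [Fintype G]

/-- The blocks of `H` inducing a given block form a union of blocks. -/
theorem isBlockUnion_inducing [M.IsPrime] (H : Subgroup G) (B : Set (IrrCharacter G)) :
    IsBlockUnion M {ξ : IrrCharacter H | IsInducedBlock M H (blockOf M (ξ : H → ℂ)) B} := by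
  intro χ hχ ψ hs
  show IsInducedBlock M H (blockOf M (ψ : H → ℂ)) B
  rw [← blockOf_eq_of_sameBlock hs]
  exact hχ

/-- The truncation of a block idempotent is congruent to the idempotent of the inducing blocks. -/
theorem memLocalIdeal_brauerFun_sub_inducing [Fact p.Prime] (hM : IsPModular p M) {P H : Subgroup G}
    [Fintype H] (hP : IsPGroup p P) (hPH : P ≤ H) (hCH : Subgroup.centralizer (P : Set G) ≤ H)
    (hHN : H ≤ Subgroup.normalizer (P : Set G)) {B : Set (IrrCharacter G)} (hB : IsPBlock M B)
    (h : H) :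
    MemLocalIdeal M (brauerFun P H (blockCoeff B) h -
      blockCoeff {ξ : IrrCharacter H | IsInducedBlock M H (blockOf M (ξ : H → ℂ)) B} h) := by
  classical
  have := isPrime_of_isPModular hM
  set U := {ξ : IrrCharacter H | IsInducedBlock M H (blockOf M (ξ : H → ℂ)) B}
  have hU : IsBlockUnion M U := isBlockUnion_inducing H B
  have hidem : IsIdempotentElem
      (Ideal.Quotient.mk (nullIdeal M H) ⟨indVec U, indVec_mem_ZO hU⟩) := by
    rw [IsIdempotentElem, ← map_mul]
    congr 1
    refine Subtype.ext (funext fun χ => ?_)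
    show indVec U χ * indVec U χ = indVec U χ
    by_cases hχ : χ ∈ U
    · simp [indVec_of_mem hχ]
    · simp [indVec_of_notMem hχ]
  have heq : brauerHom hM P H hP hCH hHN (blockIdem hB) =
      Ideal.Quotient.mk (nullIdeal M H) ⟨indVec U, indVec_mem_ZO hU⟩ := by
    refine idempotent_ext ((isIdempotentElem_blockIdem hB).map _) hidem fun ξ => ?_
    rw [resQuot_mk]
    show resQuot ξ _ = res M (indVec U ξ)
    by_cases hξ : ξ ∈ U
    · rw [indVec_of_mem hξ, res_one]
      exact (resQuot_brauerHom_blockIdem_eq_one_iff hM hP hPH hCH hHN hB ξ).mpr hξ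
    · rw [indVec_of_notMem hξ, res_zero]
      rcases resQuot_brauerHom_blockIdem hM hP hCH hHN hB ξ with ⟨h1, -⟩ | ⟨h0, -⟩
      · exact absurd ((resQuot_brauerHom_blockIdem_eq_one_iff hM hP hPH hCH hHN hB ξ).mp h1) hξ
      · exact h0
  rw [blockIdem, brauerHom_mk, mk_eq_mk_iff] at heq
  have e := heq h
  rw [ofOmega_brauerVec] at e
  rw [show ofOmega ((⟨indVec U, indVec_mem_ZO hU⟩ : ZO M H) : IrrCharacter H → ℂ) = blockCoeff U
    from ofOmega_indVec U] at e
  rwa [show ofOmega ((⟨indVec B, indVec_mem_ZO (IsPBlock.isBlockUnion hB)⟩ : ZO M G) :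
    IrrCharacter G → ℂ) = blockCoeff B from ofOmega_indVec B] at e

/-- The coefficient of a union of blocks is the sum over its blocks. -/
theorem blockCoeff_eq_sum_blocks [M.IsPrime] {U : Set (IrrCharacter G)} (hU : IsBlockUnion M U)
    [DecidablePred fun b : Set (IrrCharacter G) => b ⊆ U] (g : G) :
    blockCoeff U g = ∑ b ∈ (blocks M G).filter (fun b => b ⊆ U), blockCoeff b g := by
  classical
  simp only [← ofOmega_indVec, ofOmega, ← Finset.mul_sum]
  rw [Finset.sum_comm]
  congr 1
  refine Finset.sum_congr rfl fun χ _ => ?_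
  simp only [mul_assoc, ← Finset.sum_mul]
  congr 1
  by_cases hχ : χ ∈ U
  · rw [indVec_of_mem hχ, Finset.sum_eq_single (blockOf M (χ : G → ℂ))]
    · rw [indVec_of_mem (mem_blockOf_self χ)]
    · intro b hb hne
      refine indVec_of_notMem fun h => hne ?_
      exact IsPBlock.eq_blockOf (mem_blocks.mp (Finset.mem_filter.mp hb).1) h
    · intro h
      exact absurd (Finset.mem_filter.mpr ⟨mem_blocks.mpr (isPBlock_blockOf χ),
        fun ψ hψ => hU χ hχ ψ hψ⟩) h
  · rw [indVec_of_notMem hχ, Finset.sum_eq_zero]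
    exact fun b hb => indVec_of_notMem fun h => hχ ((Finset.mem_filter.mp hb).2 h)

/-- A unit coefficient of a block at an element centralizing `P` appears in an inducing block. -/
theorem exists_inducing_block_support [Fact p.Prime] (hM : IsPModular p M) {P H : Subgroup G}
    [Fintype H] (hP : IsPGroup p P) (hPH : P ≤ H) (hCH : Subgroup.centralizer (P : Set G) ≤ H)
    (hHN : H ≤ Subgroup.normalizer (P : Set G)) {B : Set (IrrCharacter G)} (hB : IsPBlock M B)
    {c : H} (hc : (c : G) ∈ Subgroup.centralizer (P : Set G))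
    (hu : ¬ MemLocalIdeal M (blockCoeff B (c : G))) :
    ∃ b : Set (IrrCharacter H), IsInducedBlock M H b B ∧ ¬ MemLocalIdeal M (blockCoeff b c) := by
  classical
  have := isPrime_of_isPModular hM
  have h1 := memLocalIdeal_brauerFun_sub_inducing hM hP hPH hCH hHN hB c
  rw [brauerFun_of_mem (f := blockCoeff B) hc,
    blockCoeff_eq_sum_blocks (isBlockUnion_inducing (M := M) H B)] at h1
  by_contra hcon
  push Not at hcon
  refine hu ((memLocalIdeal_iff_of_sub h1).mpr (memLocalIdeal_sum _ _ fun b hb => ?_))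
  obtain ⟨hb1, hb2⟩ := Finset.mem_filter.mp hb
  obtain ⟨ξ, hξ⟩ := IsPBlock.nonempty (mem_blocks.mp hb1)
  have := hb2 hξ
  rw [Set.mem_setOf_eq, ← IsPBlock.eq_blockOf (mem_blocks.mp hb1) hξ] at this
  exact hcon b this

end CfsgLib.Blocks
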