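import Cfsg.Agent.Lib.Blocks.SubsectionRows

/-!
# Row and trace relations of the contributions of a subsection
-/

set_option autoImplicit false
set_option linter.unusedSectionVars false

namespace CfsgLib.Blocks

open Cfsg
open scoped ComplexConjugate CfsgLib.Char

/-- Expanding a sum of squared absolute values of linear combinations. -/
theorem sum_normSq_expand {ι κ : Type*} (S : Finset ι) (T : Finset κ) (A : ι → κ → ℂ) (c : κ → ℂ) :
    ∑ i ∈ S, (∑ u ∈ T, A i u * c u) * conj (∑ u ∈ T, A i u * c u) =
      ∑ s ∈ T, ∑ u ∈ T, c s * conj (c u) * ∑ i ∈ S, A i s * conj (A i u) := by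
  conv_lhs => arg 2; ext i; rw [map_sum, Finset.sum_mul_sum]
  rw [Finset.sum_comm]
  refine Finset.sum_congr rfl fun s _ => ?_
  rw [Finset.sum_comm]
  refine Finset.sum_congr rfl fun u _ => ?_
  rw [Finset.mul_sum]
  exact Finset.sum_congr rfl fun i _ => by rw [map_mul]; ring

variable {p : ℕ} {M : Ideal AlgInt} {G : Type*} [Group G] [Fintype G] {x : G}
variable [Fintype (Subgroup.centralizer ({x} : Set G))]
variable (hM : IsPModular p M) (hx : ∃ k : ℕ, orderOf x = p ^ k) {B : Set (IrrCharacter G)}
  (hB : IsPBlock M B) {b : Set (IrrCharacter (Subgroup.centralizer ({x} : Set G)))}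
  (hb : IsInducedBlock M (Subgroup.centralizer ({x} : Set G)) b B)
include hM hx hB hb

/-- The diagonal contributions sum to the rank of the local block. -/
theorem sum_diag_columns [DecidablePred (· ∈ B)]
    [DecidablePred fun s : Subgroup.centralizer ({x} : Set G) => IsPRegular p s] :
    ∑ χ : IrrCharacter G with χ ∈ B, ∑ s : Subgroup.centralizer ({x} : Set G) with IsPRegular p s,
      blockPart b (fun c : Subgroup.centralizer ({x} : Set G) => (χ : G → ℂ) (x * (c : G))) s *
        conj (blockPart b (fun c : Subgroup.centralizer ({x} : Set G) => (χ : G → ℂ) (x * (c : G))) s) =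
      (Nat.card (Subgroup.centralizer ({x} : Set G)) : ℂ) * (blockRank p b : ℂ) := by
  classical
  have := isPrime_of_isPModular hM
  rw [Finset.sum_comm, Finset.sum_congr rfl fun s hs => by
    rw [sum_blockPart_mul_conj_blockPart hM hx hB hb hb.1 (Finset.mem_filter.mp hs).2
      (Finset.mem_filter.mp hs).2], card_mul_blockRank hM (IsPBlock.isBlockUnion hb.1),
    Finset.sum_filter]
  refine Finset.sum_congr rfl fun s _ => ?_
  rw [sum_mem_eq_filter]
  split
  next h => simp only [and_self, regPart_of_regular h]
  next h => simp only [regPart_of_singular h, zero_mul, Finset.sum_const_zero]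

/-- The squares in one row of contributions sum to the diagonal one. -/
theorem sum_sq_row [DecidablePred (· ∈ B)]
    [DecidablePred fun s : Subgroup.centralizer ({x} : Set G) => IsPRegular p s]
    (ψ : IrrCharacter G) :
    ∑ χ : IrrCharacter G with χ ∈ B,
      (∑ s : Subgroup.centralizer ({x} : Set G) with IsPRegular p s,
        blockPart b (fun c : Subgroup.centralizer ({x} : Set G) => (χ : G → ℂ) (x * (c : G))) s *
          conj (blockPart b (fun c : Subgroup.centralizer ({x} : Set G) => (ψ : G → ℂ) (x * (c : G))) s)) *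
      conj (∑ s : Subgroup.centralizer ({x} : Set G) with IsPRegular p s,
        blockPart b (fun c : Subgroup.centralizer ({x} : Set G) => (χ : G → ℂ) (x * (c : G))) s *
          conj (blockPart b (fun c : Subgroup.centralizer ({x} : Set G) => (ψ : G → ℂ) (x * (c : G))) s)) =
      (Nat.card (Subgroup.centralizer ({x} : Set G)) : ℂ) *
        ∑ s : Subgroup.centralizer ({x} : Set G) with IsPRegular p s,
          blockPart b (fun c : Subgroup.centralizer ({x} : Set G) => (ψ : G → ℂ) (x * (c : G))) s *
            conj (blockPart b (fun c : Subgroup.centralizer ({x} : Set G) => (ψ : G → ℂ) (x * (c : G))) s) := by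
  classical
  have := isPrime_of_isPModular hM
  have hU := IsPBlock.isBlockUnion hb.1
  set P : IrrCharacter G → Subgroup.centralizer ({x} : Set G) → ℂ := fun χ =>
    blockPart b (fun c : Subgroup.centralizer ({x} : Set G) => (χ : G → ℂ) (x * (c : G))) with hP
  set s' : Finset (Subgroup.centralizer ({x} : Set G)) := {s | IsPRegular p s} with hs'
  set a : IrrCharacter (Subgroup.centralizer ({x} : Set G)) → ℂ := fun ξ =>
    classInner (fun c : Subgroup.centralizer ({x} : Set G) => (ψ : G → ℂ) (x * (c : G)))
      (ξ : Subgroup.centralizer ({x} : Set G) → ℂ)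
  set t : Finset (IrrCharacter (Subgroup.centralizer ({x} : Set G))) := {ξ | ξ ∈ b}
  have hψ : P ψ = ∑ ξ ∈ t, a ξ • (ξ : Subgroup.centralizer ({x} : Set G) → ℂ) := by
    funext s
    simp only [hP, blockPart_eq_filter, t, a, Finset.sum_apply, Pi.smul_apply, smul_eq_mul]
  have hreg : ∀ f : Subgroup.centralizer ({x} : Set G) → ℂ, ∀ g : Subgroup.centralizer ({x} : Set G) → ℂ,
      ∑ s ∈ s', f s * conj (g s) =
        (Nat.card (Subgroup.centralizer ({x} : Set G)) : ℂ) * classInner (regPart p f) g := by
    intro f g
    rw [classInner, mul_inv_cancel_left₀ (Nat.cast_ne_zero.mpr Nat.card_pos.ne'), hs', Finset.sum_filter]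
    refine Finset.sum_congr rfl fun s _ => ?_
    split
    next h => rw [regPart_of_regular h]
    next h => rw [regPart_of_singular h, zero_mul]
  set w : IrrCharacter (Subgroup.centralizer ({x} : Set G)) → ℂ := fun ξ =>
    classInner (regPart p (P ψ)) (ξ : Subgroup.centralizer ({x} : Set G) → ℂ)
  have hspan : regPart p (P ψ) = ∑ ξ ∈ t, w ξ • (ξ : Subgroup.centralizer ({x} : Set G) → ℂ) := by
    have hlin : regPart p (P ψ) = ∑ η ∈ t, a η • regPart p (η : Subgroup.centralizer ({x} : Set G) → ℂ) := by
      rw [hψ]
      funext s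
      by_cases h : IsPRegular p s
      · simp [regPart_of_regular h, Finset.sum_apply]
      · simp [regPart_of_singular h, Finset.sum_apply]
    conv_lhs => rw [hlin, Finset.sum_congr rfl fun η hη =>
      congrArg (a η • ·) (regPart_eq_sum hM hU (Finset.mem_filter.mp hη).2)]
    simp only [Finset.smul_sum, smul_smul, w]
    rw [Finset.sum_comm]
    refine Finset.sum_congr rfl fun ξ _ => ?_
    rw [← Finset.sum_smul, hlin, Char.classInner_sum_left]
    simp only [Char.classInner_smul_left]
    exact congrArg (· • _) (Finset.sum_congr (by simp [t]) fun _ _ => rfl)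
  calc ∑ χ : IrrCharacter G with χ ∈ B, (∑ s ∈ s', P χ s * conj (P ψ s)) * conj (∑ s ∈ s', P χ s * conj (P ψ s))
      = ∑ s ∈ s', ∑ u ∈ s', conj (P ψ s) * P ψ u *
          ∑ χ : IrrCharacter G with χ ∈ B, P χ s * conj (P χ u) := by
        rw [sum_normSq_expand]
        simp only [Complex.conj_conj]
    _ = ∑ s ∈ s', ∑ u ∈ s', conj (P ψ s) * P ψ u *
          ∑ ξ ∈ t, (ξ : Subgroup.centralizer ({x} : Set G) → ℂ) s *
            conj ((ξ : Subgroup.centralizer ({x} : Set G) → ℂ) u) := by
        refine Finset.sum_congr rfl fun s hs => Finset.sum_congr rfl fun u hu => ?_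
        simp only [hP, t]
        rw [sum_blockPart_mul_conj_blockPart hM hx hB hb hb.1 (Finset.mem_filter.mp hs).2
          (Finset.mem_filter.mp hu).2]
        simp only [and_self]
    _ = ∑ ξ ∈ t, (∑ u ∈ s', P ψ u * conj ((ξ : Subgroup.centralizer ({x} : Set G) → ℂ) u)) *
          conj (∑ s ∈ s', P ψ s * conj ((ξ : Subgroup.centralizer ({x} : Set G) → ℂ) s)) := by
        simp only [mul_comm (P ψ _) (conj _)]
        rw [sum_normSq_expand, Finset.sum_comm]
        refine Finset.sum_congr rfl fun u _ => Finset.sum_congr rfl fun v _ => ?_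
        simp only [Complex.conj_conj, Finset.mul_sum]
        exact Finset.sum_congr rfl fun ξ _ => by ring
    _ = (Nat.card (Subgroup.centralizer ({x} : Set G)) : ℂ) ^ 2 *
          classInner (regPart p (P ψ)) (regPart p (P ψ)) := by
        simp only [hreg, map_mul, map_natCast]
        conv_rhs => arg 2; rw [hspan]
        rw [Char.classInner_sum_right, Finset.mul_sum]
        refine Finset.sum_congr rfl fun ξ _ => ?_
        rw [Char.classInner_smul_right, ← hspan]
        simp only [w]
        ring
    _ = _ := by
        rw [classInner_regPart_regPart, hreg]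
        ring

end CfsgLib.Blocks
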