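import Cfsg.Agent.Lib.Blocks.LatticeForm
import Cfsg.Agent.Lib.Blocks.CentralQuotientBlock
import Cfsg.Agent.Lib.Blocks.InducingBlocks
import Cfsg.Agent.Lib.Blocks.SubsectionBound

/-!
# The number of characters in a block: `k ≤ p ^ d` for `d ≤ 2`, `k ≤ p ^ (2d - 2)` for `d ≥ 3`

A major subsection at a central element of order `p` of a defect group reduces the count to the
block of defect `d - 1` dominated by the local block.  For `d = 2` the contributions of a character
form the scaled projection of a block of defect one, whose value is at least its rank on average.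
-/

set_option autoImplicit false
set_option linter.unusedSectionVars false

namespace CfsgLib.Blocks

open Cfsg
open scoped ComplexConjugate CfsgLib.Char

variable {p : ℕ} {M : Ideal AlgInt}

/-- A major subsection at an element of order `p`. -/
theorem exists_major_subsection {G : Type*} [Group G] [Fintype G] (hM : IsPModular p M)
    {B : Set (IrrCharacter G)} (hB : IsPBlock M B) (hd : 0 < blockDefect p B) :
    ∃ (u : G) (b : Set (IrrCharacter (Subgroup.centralizer ({u} : Set G)))), orderOf u = p ∧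
      IsInducedBlock M (Subgroup.centralizer ({u} : Set G)) b B ∧
      blockDefect p b = blockDefect p B := by
  classical
  have : Fact p.Prime := ⟨hM.1⟩
  obtain ⟨D, hD⟩ := exists_isDefectGroup hM hB
  have hcard := IsDefectGroup.card_eq hM hB hD
  obtain ⟨g, hg, hsyl⟩ := isDefectGroup_iff.mp hD
  have hDp : IsPGroup p D := IsDefectGroup.isPGroup hM hD
  have : Nontrivial D := by
    rw [← Finite.one_lt_card_iff_nontrivial, hcard]
    exact Nat.one_lt_pow hd.ne' hM.1.one_lt
  have : Nontrivial (Subgroup.center D) := hDp.center_nontrivial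
  obtain ⟨k, hk0, hk⟩ := (hDp.to_subgroup (Subgroup.center D)).nontrivial_iff_card.mp inferInstance
  obtain ⟨w, hw⟩ := exists_prime_orderOf_dvd_card' p (hk ▸ dvd_pow_self p hk0.ne' :
    p ∣ Nat.card (Subgroup.center D))
  set u : G := ((w : D) : G) with hu
  have huD : u ∈ D := (w : D).2
  have huord : orderOf u = p := by rw [hu, Subgroup.orderOf_coe, Subgroup.orderOf_coe, hw]
  have hucomm : ∀ x ∈ D, x * u = u * x := fun x hx =>
    congrArg Subtype.val (Subgroup.mem_center_iff.mp w.2 ⟨x, hx⟩)
  set H := Subgroup.centralizer ({u} : Set G)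
  haveI : Fintype H := Fintype.ofFinite _
  have hPp : IsPGroup p (Subgroup.zpowers u) :=
    IsPGroup.of_card (n := 1) (by rw [Nat.card_zpowers, huord, pow_one])
  have hCH : Subgroup.centralizer ((Subgroup.zpowers u : Subgroup G) : Set G) ≤ H :=
    Subgroup.centralizer_le (Set.singleton_subset_iff.mpr (Subgroup.mem_zpowers u))
  have hHC : H ≤ Subgroup.centralizer ((Subgroup.zpowers u : Subgroup G) : Set G) := fun x hx =>
    Subgroup.mem_centralizer_iff.mpr fun q hq => by
      obtain ⟨i, rfl⟩ := Subgroup.mem_zpowers_iff.mp hq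
      exact (Commute.zpow_right (show Commute x u from Subgroup.mem_centralizer_singleton_iff.mp hx) i).eq.symm
  have hgH : g ∈ H := Subgroup.mem_centralizer_singleton_iff.mpr
    (Subgroup.mem_centralizer_singleton_iff.mp (hsyl.1 huD)).symm
  obtain ⟨b, hb, hbu⟩ := exists_inducing_block_support hM hPp
    (Subgroup.zpowers_le.mpr (Subgroup.mem_centralizer_singleton_iff.mpr rfl)) hCH
    (hHC.trans (Subgroup.centralizer_le_normalizer _)) hB (c := ⟨g, hgH⟩) (hHC hgH) hg.2.1
  refine ⟨u, b, huord, hb, le_antisymm ?_ ?_⟩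
  · obtain ⟨E, hE⟩ := exists_isDefectGroup hM hb.1
    obtain ⟨E', hE', hle⟩ := IsInducedBlock.exists_defectGroup_le hM hb hE
    have h := Subgroup.card_dvd_of_le hle
    rw [Subgroup.card_map_of_injective H.subtype_injective, IsDefectGroup.card_eq hM hb.1 hE,
      IsDefectGroup.card_eq hM hB hE'] at h
    exact (Nat.pow_dvd_pow_iff_le_right hM.1.one_lt).mp h
  · obtain ⟨E, hE⟩ := exists_isDefectGroup hM hb.1
    have hDH : D ≤ H := fun x hx => Subgroup.mem_centralizer_singleton_iff.mpr (hucomm x hx)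
    obtain ⟨x, hx⟩ := IsDefectGroup.exists_le_conj_of_support hM hb.1 hE hbu
      (Q := D.subgroupOf H) hDp.comap_subtype (fun q hq => Subgroup.mem_centralizer_singleton_iff.mpr
        (Subtype.ext (Subgroup.mem_centralizer_singleton_iff.mp (hsyl.1 hq))))
    have h := Subgroup.card_dvd_of_le hx
    rw [Nat.card_congr (Subgroup.subgroupOfEquivOfLe hDH).toEquiv, hcard,
      ← Nat.card_congr (Subgroup.equivMapOfInjective _ _ (MulEquiv.injective _)).toEquiv,
      IsDefectGroup.card_eq hM hb.1 hE] at h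
    exact (Nat.pow_dvd_pow_iff_le_right hM.1.one_lt).mp h

/-- `k² ≤ p^(2d) l` at a major subsection when all heights are zero. -/
theorem card_sq_le_of_major {G : Type*} [Group G] [Fintype G] (hM : IsPModular p M)
    {B : Set (IrrCharacter G)} (hB : IsPBlock M B)
    (hh : ∀ χ ∈ B, blockHeight p B (χ : G → ℂ) = 0) (y : G) (hy : ∃ k : ℕ, orderOf y = p ^ k)
    [Fintype (Subgroup.centralizer ({y} : Set G))]
    {b : Set (IrrCharacter (Subgroup.centralizer ({y} : Set G)))}
    (hind : IsInducedBlock M (Subgroup.centralizer ({y} : Set G)) b B)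
    {d : ℕ} (hd : blockDefect p B = d) (hbd : blockDefect p b = d) :
    Nat.card B ^ 2 ≤ p ^ (2 * d) * blockRank p b := by
  classical
  haveI : Fintype (Subgroup.zpowers y) := Fintype.ofFinite _
  set s : Finset (IrrCharacter G) := {χ | χ ∈ B} with hs
  set y₀ : Subgroup.zpowers y := ⟨y, Subgroup.mem_zpowers y⟩
  choose F hF hFy hFne using fun χ ψ => exists_contribution hM hy hB hind χ ψ
  set T : Subgroup.zpowers y → ℂ := ∑ χ ∈ s, ∑ ψ ∈ s, F χ ψ * fun v => (starRingEnd ℂ) (F χ ψ v) with hT
  have hTg : IsGeneralizedCharacter (Subgroup.zpowers y) T :=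
    Char.isGeneralized_sum _ _ fun χ _ => Char.isGeneralized_sum _ _ fun ψ _ =>
      Char.isGeneralized_mul (hF χ ψ) (Char.isGeneralized_conj (hF χ ψ))
  have hTy : T y₀ = ((p ^ (2 * d) * blockRank p b : ℕ) : ℂ) := by
    have h := sum_sq_columns hM hy hB hind
    have hc : (Nat.card (Subgroup.centralizer ({y} : Set G)) : ℂ) ≠ 0 :=
      Nat.cast_ne_zero.mpr Nat.card_pos.ne'
    refine mul_left_cancel₀ (pow_ne_zero 2 hc) ?_
    rw [Nat.cast_mul, Nat.cast_pow, mul_left_comm, ← h, hT]
    simp only [Finset.sum_apply, Pi.mul_apply, Finset.mul_sum]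
    refine Finset.sum_congr rfl fun χ _ => Finset.sum_congr rfl fun ψ _ => ?_
    have e := hFy χ ψ
    rw [hbd] at e
    have e' := congrArg (starRingEnd ℂ) e
    simp only [map_mul, map_pow, map_natCast] at e'
    rw [show 2 * d = d + d by ring, pow_add]
    calc (Nat.card (Subgroup.centralizer ({y} : Set G)) : ℂ) ^ 2 *
          (F χ ψ y₀ * (starRingEnd ℂ) (F χ ψ y₀))
        = ((Nat.card (Subgroup.centralizer ({y} : Set G)) : ℂ) * F χ ψ y₀) *
          ((Nat.card (Subgroup.centralizer ({y} : Set G)) : ℂ) * (starRingEnd ℂ) (F χ ψ y₀)) := by ring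
      _ = _ := by
        rw [e, e']
        simp only [map_sum, map_mul, Finset.mul_sum, Finset.sum_mul]
        exact Finset.sum_congr rfl fun _ _ => Finset.sum_congr rfl fun _ _ => by ring
  set S : Finset (Subgroup.zpowers y) := {v | Subgroup.zpowers v = Subgroup.zpowers y₀}
  have hSc : ∀ a b, Subgroup.zpowers a = Subgroup.zpowers b → a ∈ S → b ∈ S := fun a b h ha => by
    simp only [S, Finset.mem_filter, Finset.mem_univ, true_and] at ha ⊢
    rw [← h, ha]
  have hlow : (S.card : ℝ) * (s.card : ℝ) ^ 2 ≤ ∑ v ∈ S, (T v).re := by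
    have h : ∀ χ ∈ s, ∀ ψ ∈ s, (S.card : ℝ) ≤ ∑ v ∈ S, Complex.normSq (F χ ψ v) := fun χ hχ ψ hψ => by
      simp only [s, Finset.mem_filter, Finset.mem_univ, true_and] at hχ hψ
      exact Char.card_le_sum_normSq_generalized (hF χ ψ) S hSc fun v _ =>
        hFne χ ψ hχ hψ (hh χ hχ) (hh ψ hψ) v
    refine le_of_le_of_eq (b := ∑ χ ∈ s, ∑ ψ ∈ s, ∑ v ∈ S, Complex.normSq (F χ ψ v)) ?_ ?_
    · refine le_trans (le_of_eq ?_) (Finset.sum_le_sum fun χ hχ => Finset.sum_le_sum (h χ hχ))
      simp only [Finset.sum_const, nsmul_eq_mul]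
      ring
    · rw [Finset.sum_congr rfl fun χ _ => Finset.sum_comm, Finset.sum_comm]
      refine Finset.sum_congr rfl fun v _ => ?_
      simp only [hT, Finset.sum_apply, Pi.mul_apply, Complex.mul_conj, Complex.re_sum, Complex.ofReal_re]
  have hTv : ∀ v ∈ S, (T v).re = ((p ^ (2 * d) * blockRank p b : ℕ) : ℝ) := fun v hv => by
    rw [Char.eq_of_zpowers_eq_of_rat hTg (Finset.mem_filter.mp hv).2.symm
      (q := ((p ^ (2 * d) * blockRank p b : ℕ) : ℚ)) (by rw [hTy, Rat.cast_natCast]),
      Rat.cast_natCast, Complex.natCast_re]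
  rw [Finset.sum_congr rfl hTv, Finset.sum_const, nsmul_eq_mul] at hlow
  have hS0 : (0 : ℝ) < S.card := Nat.cast_pos.mpr (Finset.card_pos.mpr ⟨y₀, by simp [S]⟩)
  have hle := le_of_mul_le_mul_left hlow hS0
  rw [show Nat.card B = s.card by rw [Nat.card_eq_fintype_card, Fintype.card_subtype]]
  exact_mod_cast hle


section Local

variable {G : Type*} [Group G] [Fintype G] (u : G)

/-- The subgroup generated by `u`, inside the centralizer of `u`. -/
abbrev uSub : Subgroup (Subgroup.centralizer ({u} : Set G)) :=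
  (Subgroup.zpowers u).subgroupOf (Subgroup.centralizer ({u} : Set G))

theorem uSub_central (k : Subgroup.centralizer ({u} : Set G)) (hk : k ∈ uSub u)
    (g : Subgroup.centralizer ({u} : Set G)) : Commute k g := by
  obtain ⟨i, hi⟩ := Subgroup.mem_zpowers_iff.mp hk
  refine Subtype.ext ?_
  show (k : G) * (g : G) = g * k
  rw [show (k : G) = u ^ i from hi.symm]
  exact (Commute.zpow_right (show Commute (g : G) u from Subgroup.mem_centralizer_singleton_iff.mp g.2) i).eq.symm

instance uSub_normal : (uSub u).Normal :=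
  ⟨fun k hk g => by rwa [← (uSub_central u k hk g).eq, mul_inv_cancel_right]⟩

theorem card_uSub : Nat.card (uSub u) = orderOf u := by
  rw [Nat.card_congr (Subgroup.subgroupOfEquivOfLe (Subgroup.zpowers_le.mpr
    (Subgroup.mem_centralizer_singleton_iff.mpr rfl))).toEquiv, Nat.card_zpowers]

/-- The two-step bound for defect two with all heights zero. -/
theorem card_le_sq_of_major [Fintype (Subgroup.centralizer ({u} : Set G))] (hM : IsPModular p M)
    (huord : orderOf u = p) {B : Set (IrrCharacter G)} (hB : IsPBlock M B)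
    {b : Set (IrrCharacter (Subgroup.centralizer ({u} : Set G)))}
    (hb : IsInducedBlock M (Subgroup.centralizer ({u} : Set G)) b B) (hbd : blockDefect p b = 2)
    (hh : ∀ χ ∈ B, blockHeight p B (χ : G → ℂ) = 0) : Nat.card B ≤ p ^ 2 := by
  classical
  have := isPrime_of_isPModular hM
  have : Fact p.Prime := ⟨hM.1⟩
  haveI : Fintype ((Subgroup.centralizer ({u} : Set G)) ⧸ uSub u) := Fintype.ofFinite _
  set f : (Subgroup.centralizer ({u} : Set G)) →* (Subgroup.centralizer ({u} : Set G)) ⧸ uSub u := QuotientGroup.mk' (uSub u)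
  have hf : Function.Surjective f := QuotientGroup.mk'_surjective _
  have hker : IsPGroup p f.ker := by
    rw [QuotientGroup.ker_mk']
    exact IsPGroup.of_card (n := 1) (by rw [card_uSub, huord, pow_one])
  have hc : ∀ k ∈ f.ker, ∀ g : (Subgroup.centralizer ({u} : Set G)), Commute k g := fun k hk g =>
    uSub_central u k (by rwa [QuotientGroup.ker_mk'] at hk) g
  set b' := CentralQuot.pre f hf b
  have hb' : IsPBlock M b' := CentralQuot.isPBlock_pre f hf hM hker hc hb.1
  have hd' : blockDefect p b' = 1 := by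
    have h := CentralQuot.blockDefect_pre f hf hM hker hc hb.1
    rw [QuotientGroup.ker_mk', card_uSub, huord, hM.1.factorization_self, hbd] at h
    show blockDefect p (CentralQuot.pre f hf b) = 1
    omega
  have hcardC : Nat.card (Subgroup.centralizer ({u} : Set G)) = p * Nat.card ((Subgroup.centralizer ({u} : Set G)) ⧸ uSub u) := by
    rw [← (uSub u).card_mul_index, card_uSub, huord, Subgroup.index_eq_card]
  have hh' : ∀ η ∈ b', blockHeight p b' (η : (Subgroup.centralizer ({u} : Set G)) ⧸ uSub u → ℂ) = 0 := fun η hη => by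
    by_contra hpos
    have := (height_lt_and_sum_height_zero_le hM hb' hη hpos).1
    omega
  -- the scaled projection of the dominated block
  let ι := {η : IrrCharacter ((Subgroup.centralizer ({u} : Set G)) ⧸ uSub u) // η ∈ b'}
  have hnu : ∀ i j : ι, ∃ n : ℤ, (p : ℂ) * classInner (regPart p (i.1 : (Subgroup.centralizer ({u} : Set G)) ⧸ uSub u → ℂ))
      (j.1 : (Subgroup.centralizer ({u} : Set G)) ⧸ uSub u → ℂ) = (n : ℂ) := fun i j => by
    obtain ⟨n, hn, -⟩ := exists_row hM hb' i.2
    exact ⟨n j.1, by simpa [hd'] using hn j.1⟩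
  choose ν hν using hnu
  set N : Matrix ι ι ℤ := Matrix.of ν with hN
  have hp0 : (p : ℂ) ≠ 0 := Nat.cast_ne_zero.mpr hM.1.ne_zero
  have hsymm : N.transpose = N := by
    ext i j
    have e : (ν j i : ℂ) = ν i j := by rw [← hν, ← hν, classInner_regPart_comm]
    simp only [hN, Matrix.transpose_apply, Matrix.of_apply]
    exact_mod_cast e
  have hU := IsPBlock.isBlockUnion hb'
  have hNN : N * N = (p : ℤ) • N := by
    ext i j
    apply Int.cast_injective (α := ℂ)
    simp only [hN, Matrix.mul_apply, Matrix.smul_apply, Matrix.of_apply, smul_eq_mul, Int.cast_sum,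
      Int.cast_mul, Int.cast_natCast]
    have hexp : classInner (regPart p (i.1 : (Subgroup.centralizer ({u} : Set G)) ⧸ uSub u → ℂ)) (j.1 : (Subgroup.centralizer ({u} : Set G)) ⧸ uSub u → ℂ) =
        ∑ l : ι, classInner (regPart p (i.1 : (Subgroup.centralizer ({u} : Set G)) ⧸ uSub u → ℂ)) (l.1 : (Subgroup.centralizer ({u} : Set G)) ⧸ uSub u → ℂ) *
          conj (classInner (regPart p (j.1 : (Subgroup.centralizer ({u} : Set G)) ⧸ uSub u → ℂ)) (l.1 : (Subgroup.centralizer ({u} : Set G)) ⧸ uSub u → ℂ)) := by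
      rw [← classInner_regPart_regPart]
      conv_lhs => arg 2; rw [show regPart p (j.1 : (Subgroup.centralizer ({u} : Set G)) ⧸ uSub u → ℂ) = _ from regPart_eq_sum hM hU j.2]
      rw [Char.classInner_sum_right, Finset.sum_subtype (p := fun η => η ∈ b') (F := inferInstance)
        ({η : IrrCharacter ((Subgroup.centralizer ({u} : Set G)) ⧸ uSub u) | η ∈ b'} : Finset _) (fun η => by simp)]
      exact Finset.sum_congr rfl fun l _ => by rw [Char.classInner_smul_right, mul_comm]
    rw [← hν i j, hexp, Finset.mul_sum, Finset.mul_sum]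
    refine Finset.sum_congr rfl fun l _ => ?_
    have e : conj (classInner (regPart p (j.1 : (Subgroup.centralizer ({u} : Set G)) ⧸ uSub u → ℂ)) (l.1 : (Subgroup.centralizer ({u} : Set G)) ⧸ uSub u → ℂ)) =
        classInner (regPart p (l.1 : (Subgroup.centralizer ({u} : Set G)) ⧸ uSub u → ℂ)) (j.1 : (Subgroup.centralizer ({u} : Set G)) ⧸ uSub u → ℂ) := by
      have h := congrArg conj (hν j l)
      rw [map_mul, map_natCast, map_intCast, ← hν j l] at h
      rw [mul_left_cancel₀ hp0 h, classInner_regPart_comm]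
    rw [e, ← hν i l, ← hν l j]
    ring
  have hdiag : ∀ i : ι, N i i ≠ (p : ℤ) := fun i h => by
    obtain ⟨h1, h2⟩ := row_height_zero hM hb' i.2 (hh' _ i.2) i.2 (n := ν i i)
      (by rw [hd', pow_one]; exact hν i i)
    have h' : ν i i = (p : ℤ) := h
    rw [h', Int.natAbs_natCast, hM.1.factorization_self, hh' _ i.2] at h2
    exact one_ne_zero h2
  have hrk : ∀ i j k l, (p : ℤ) ∣ N i j * N k l - N i l * N k j := by
    set K := Nat.card ((Subgroup.centralizer ({u} : Set G)) ⧸ uSub u) / p ^ blockDefect p b'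
    obtain ⟨hK0, hK⟩ := cofactor_factorization hM hb'
    set w : ι → ℂ := fun j => (charDegree (j.1 : (Subgroup.centralizer ({u} : Set G)) ⧸ uSub u → ℂ) : ℂ) / (K : ℂ)
    have hw : ∀ j, MemLocalRing M (w j) := fun j => (unit_natCast_div hM (irr_degree_eq j.1).2.ne' hK0
      (by rw [hK, degree_exponent_eq hM hb' j.2, hh' _ j.2, add_zero])).1
    set r : ι → ι → ℂ := fun i j => omega (j.1 : (Subgroup.centralizer ({u} : Set G)) ⧸ uSub u → ℂ) (dualReg p (i.1 : (Subgroup.centralizer ({u} : Set G)) ⧸ uSub u → ℂ))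
    have hr : ∀ i j, MemLocalRing M (r i j) := fun i j =>
      memLocalRing_omega j.1 (isClassFunction_dualReg (irr_classFunction i.1)) (memLocalRing_dualReg i.1)
    have hn : ∀ i j, (ν i j : ℂ) = r i j * w j := fun i j => by
      simp only [r, w]
      rw [omega_dualReg_eq_row hM hb' i.1 j.1 (n := ν i j) (by rw [hd', pow_one]; exact hν i j)]
      have : (charDegree (j.1 : (Subgroup.centralizer ({u} : Set G)) ⧸ uSub u → ℂ) : ℂ) ≠ 0 := Nat.cast_ne_zero.mpr (irr_degree_eq j.1).2.ne'
      have : (K : ℂ) ≠ 0 := Nat.cast_ne_zero.mpr hK0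
      rw [Int.cast_mul, Int.cast_natCast]
      field_simp
      rfl
    have hres : ∀ i j l, res M (r i j) = res M (r i l) := fun i j l =>
      (res_eq_iff (hr i j) (hr i l)).mpr (sub_mem_localIdeal_of_sameBlock
        (IsPBlock.sameBlock hb' j.2 l.2) (isClassFunction_dualReg (irr_classFunction i.1))
        (memLocalRing_dualReg i.1))
    intro i j k l
    refine (memLocalIdeal_intCast_iff hM).mp ?_
    simp only [hN, Matrix.of_apply, Int.cast_sub, Int.cast_mul, hn]
    refine (res_eq_iff (memLocalRing_mul (memLocalRing_mul (hr i j) (hw j)) (memLocalRing_mul (hr k l) (hw l)))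
      (memLocalRing_mul (memLocalRing_mul (hr i l) (hw l)) (memLocalRing_mul (hr k j) (hw j)))).mp ?_
    rw [res_mul (memLocalRing_mul (hr i j) (hw j)) (memLocalRing_mul (hr k l) (hw l)),
      res_mul (memLocalRing_mul (hr i l) (hw l)) (memLocalRing_mul (hr k j) (hw j)),
      res_mul (hr i j) (hw j), res_mul (hr k l) (hw l), res_mul (hr i l) (hw l),
      res_mul (hr k j) (hw j), hres i l j, hres k l j]
    ring
  have htr : ((N.trace : ℤ) : ℂ) = (p : ℂ) * (blockRank p b : ℂ) := by
    rw [CentralQuot.blockRank_pre f hf hM hker hc hb.1, blockRank_eq_sum_classInner hM hU,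
      Finset.mul_sum, Finset.sum_subtype (p := fun η => η ∈ b') (F := inferInstance)
        ({η : IrrCharacter ((Subgroup.centralizer ({u} : Set G)) ⧸ uSub u) | η ∈ b'} : Finset _) (fun η => by simp), Matrix.trace]
    push_cast
    exact Finset.sum_congr rfl fun i _ => (hν i i).symm
  -- the vectors of the characters of `B`
  choose mult hmult using fun χ : IrrCharacter G =>
    Char.exists_multiplicities (Char.isCharacter_restrict (Subgroup.centralizer ({u} : Set G)) (Char.isCharacter_of_isIrr χ.2))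
  have hz' : ∀ ξ : IrrCharacter (Subgroup.centralizer ({u} : Set G)), ∃ z : IrrCharacter ((Subgroup.centralizer ({u} : Set G)) ⧸ uSub u) → ℤ, ξ ∈ b →
      (∀ η, η ∉ b' → z η = 0) ∧ ∀ c : (Subgroup.centralizer ({u} : Set G)), IsPRegular p c →
      (ξ : (Subgroup.centralizer ({u} : Set G)) → ℂ) c = ∑ η, (z η : ℂ) * (η : (Subgroup.centralizer ({u} : Set G)) ⧸ uSub u → ℂ) (f c) := fun ξ => by
    by_cases hξ : ξ ∈ b
    · obtain ⟨z, hz⟩ := CentralQuot.exists_expansion f hf hM hker hc hb.1 hξ
      exact ⟨z, fun _ => hz⟩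
    · exact ⟨0, fun h => absurd h hξ⟩
  choose z hz using hz'
  set u₀ : Subgroup.zpowers u := ⟨u, Subgroup.mem_zpowers u⟩
  set lam : IrrCharacter (Subgroup.centralizer ({u} : Set G)) → Subgroup.zpowers u → ℂ := fun ξ v => (centralScalar u ξ v : ℂ)
  set y : IrrCharacter G → ι → Subgroup.zpowers u → ℂ := fun χ η =>
    ∑ ξ : IrrCharacter (Subgroup.centralizer ({u} : Set G)) with ξ ∈ b, (((mult χ ξ : ℤ) * z ξ η.1 : ℤ) : ℂ) • lam ξ
  have hy : ∀ χ η, IsGeneralizedCharacter (Subgroup.zpowers u) (y χ η) := fun χ η =>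
    Char.isGeneralized_sum _ _ fun ξ _ => Char.isGeneralized_intCast_smul
      (Char.isGeneralized_of_isCharacter (isCharacter_units_hom _)) _
  set P : IrrCharacter G → (Subgroup.centralizer ({u} : Set G)) → ℂ := fun χ s =>
    blockPart b (fun c : (Subgroup.centralizer ({u} : Set G)) => (χ : G → ℂ) (u * (c : G))) s
  have hP : ∀ χ (s : (Subgroup.centralizer ({u} : Set G))), IsPRegular p s →
      P χ s = ∑ η : ι, y χ η u₀ * (η.1 : (Subgroup.centralizer ({u} : Set G)) ⧸ uSub u → ℂ) (f s) := by
    intro χ s hs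
    have hθ : (fun c : (Subgroup.centralizer ({u} : Set G)) => (χ : G → ℂ) (u * (c : G))) =
        ∑ ξ : IrrCharacter (Subgroup.centralizer ({u} : Set G)), ((mult χ ξ : ℂ) * lam ξ u₀) • (ξ : (Subgroup.centralizer ({u} : Set G)) → ℂ) := by
      funext c
      have e : u * (c : G) = ((c * zpowersToCentralizer u u₀ : (Subgroup.centralizer ({u} : Set G))) : G) :=
        (Subgroup.mem_centralizer_singleton_iff.mp c.2).symm
      rw [e, show (χ : G → ℂ) ((c * zpowersToCentralizer u u₀ : (Subgroup.centralizer ({u} : Set G))) : G) =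
        (fun h : (Subgroup.centralizer ({u} : Set G)) => (χ : G → ℂ) h) (c * zpowersToCentralizer u u₀) from rfl, hmult χ]
      simp only [Finset.sum_apply, Pi.smul_apply, smul_eq_mul]
      exact Finset.sum_congr rfl fun ξ _ => by rw [centralScalar_mul]; ring
    show blockPart b _ s = _
    rw [blockPart_eq_filter, hθ]
    simp only [y, Finset.sum_apply, Pi.smul_apply, smul_eq_mul, Finset.sum_mul]
    rw [Finset.sum_comm]
    refine Finset.sum_congr rfl fun ξ hξ => ?_
    obtain ⟨hz0, hz1⟩ := hz ξ (Finset.mem_filter.mp hξ).2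
    rw [Char.classInner_sum_smul_irr, hz1 s hs, Finset.mul_sum,
      ← Finset.sum_subset (Finset.subset_univ ({η : IrrCharacter ((Subgroup.centralizer ({u} : Set G)) ⧸ uSub u) | η ∈ b'} : Finset _))
        (fun η _ hη => by
          rw [hz0 η (fun h => hη (Finset.mem_filter.mpr ⟨Finset.mem_univ _, h⟩)), Int.cast_zero,
            zero_mul, mul_zero]),
      Finset.sum_subtype (p := fun η => η ∈ b') (F := inferInstance)
        ({η : IrrCharacter ((Subgroup.centralizer ({u} : Set G)) ⧸ uSub u) | η ∈ b'} : Finset _) (fun η => by simp)]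
    refine Finset.sum_congr rfl fun η _ => ?_
    push_cast
    ring
  set E : IrrCharacter G → ℂ := fun χ => ∑ s : (Subgroup.centralizer ({u} : Set G)) with IsPRegular p s, P χ s * conj (P χ s)
  set q : IrrCharacter G → Subgroup.zpowers u → ℂ := fun χ v =>
    ∑ i, ∑ j, conj (y χ i v) * (N i j : ℂ) * y χ j v
  have hq : ∀ χ, (Nat.card (Subgroup.centralizer ({u} : Set G)) : ℂ) * q χ u₀ = (p : ℂ) ^ 2 * E χ := by
    intro χ
    have hE : E χ = ∑ s : (Subgroup.centralizer ({u} : Set G)) with IsPRegular p s,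
        (fun g : (Subgroup.centralizer ({u} : Set G)) ⧸ uSub u => (∑ η : ι, y χ η u₀ * (η.1 : (Subgroup.centralizer ({u} : Set G)) ⧸ uSub u → ℂ) g) *
          conj (∑ η : ι, y χ η u₀ * (η.1 : (Subgroup.centralizer ({u} : Set G)) ⧸ uSub u → ℂ) g)) (f s) :=
      Finset.sum_congr rfl fun s hs => by rw [hP χ s (Finset.mem_filter.mp hs).2]
    rw [hE, CentralQuot.sum_regular f hf hM.1 hker hc (fun g : (Subgroup.centralizer ({u} : Set G)) ⧸ uSub u =>
      (∑ η : ι, y χ η u₀ * (η.1 : (Subgroup.centralizer ({u} : Set G)) ⧸ uSub u → ℂ) g) *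
        conj (∑ η : ι, y χ η u₀ * (η.1 : (Subgroup.centralizer ({u} : Set G)) ⧸ uSub u → ℂ) g))]
    have hin : ∀ η η' : ι, (p : ℂ) ^ 2 *
        (∑ g : (Subgroup.centralizer ({u} : Set G)) ⧸ uSub u with IsPRegular p g,
          (η.1 : _ → ℂ) g * conj ((η'.1 : _ → ℂ) g)) =
        (Nat.card (Subgroup.centralizer ({u} : Set G)) : ℂ) * (N η' η : ℂ) := fun η η' => by
      rw [show N η' η = N.transpose η η' from rfl, hsymm]
      show _ = _ * (ν η η' : ℂ)
      rw [← hν η η', classInner, hcardC, Nat.cast_mul, Finset.sum_filter]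
      have hne : (Nat.card ((Subgroup.centralizer ({u} : Set G)) ⧸ uSub u) : ℂ) ≠ 0 :=
        Nat.cast_ne_zero.mpr Nat.card_pos.ne'
      field_simp
      congr 1
      funext g
      by_cases hg : IsPRegular p g
      · rw [if_pos hg, regPart_of_regular hg]
      · rw [if_neg hg, regPart_of_singular hg, zero_mul]
    calc (Nat.card (Subgroup.centralizer ({u} : Set G)) : ℂ) * q χ u₀
        = ∑ η : ι, ∑ η' : ι, y χ η u₀ * conj (y χ η' u₀) *
            ((Nat.card (Subgroup.centralizer ({u} : Set G)) : ℂ) * (N η' η : ℂ)) := by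
          simp only [q, Finset.mul_sum]
          rw [Finset.sum_comm]
          exact Finset.sum_congr rfl fun i _ => Finset.sum_congr rfl fun j _ => by ring
      _ = ∑ η : ι, ∑ η' : ι, y χ η u₀ * conj (y χ η' u₀) * ((p : ℂ) ^ 2 *
            ∑ g : (Subgroup.centralizer ({u} : Set G)) ⧸ uSub u with IsPRegular p g,
              (η.1 : _ → ℂ) g * conj ((η'.1 : _ → ℂ) g)) := by simp only [hin]
      _ = _ := by
          simp only [map_sum, Finset.sum_mul_sum]
          simp only [map_mul, Finset.mul_sum]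
          conv_rhs => rw [Finset.sum_comm]
          refine Finset.sum_congr rfl fun η _ => ?_
          conv_rhs => rw [Finset.sum_comm]
          refine Finset.sum_congr rfl fun η' _ => Finset.sum_congr rfl fun g _ => ?_
          ring
  have hC0 : (Nat.card (Subgroup.centralizer ({u} : Set G)) : ℂ) ≠ 0 := Nat.cast_ne_zero.mpr Nat.card_pos.ne'
  have hx : ∃ k : ℕ, orderOf u = p ^ k := ⟨1, by rw [huord, pow_one]⟩
  -- no character is orthogonal to the local block
  have hne : ∀ χ ∈ B, q χ u₀ ≠ 0 := fun χ hχ h => by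
    obtain ⟨F, -, hF, hF0⟩ := exists_contribution hM hx hB hb χ χ
    refine hF0 hχ hχ (hh χ hχ) (hh χ hχ) u₀ ?_
    have e : (Nat.card (Subgroup.centralizer ({u} : Set G)) : ℂ) * F u₀ = (p : ℂ) ^ 2 * E χ := by rw [hF, hbd]
    rw [← hq, h, mul_zero] at e
    exact (mul_eq_zero.mp e).resolve_left hC0
  set s : Finset (IrrCharacter G) := {χ | χ ∈ B} with hs
  set T : Subgroup.zpowers u → ℂ := ∑ χ ∈ s, q χ
  have hTg : IsGeneralizedCharacter (Subgroup.zpowers u) T := by
    refine Char.isGeneralized_sum _ _ fun χ _ => ?_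
    have e : q χ = ∑ i, ∑ j, (N i j : ℂ) • ((fun v => conj (y χ i v)) * y χ j) := by
      funext v
      simp only [q, Finset.sum_apply, Pi.smul_apply, Pi.mul_apply, smul_eq_mul]
      exact Finset.sum_congr rfl fun i _ => Finset.sum_congr rfl fun j _ => by ring
    rw [e]
    exact Char.isGeneralized_sum _ _ fun i _ => Char.isGeneralized_sum _ _ fun j _ =>
      Char.isGeneralized_intCast_smul (Char.isGeneralized_mul
        (Char.isGeneralized_conj (hy χ i)) (hy χ j)) _
  have hT0 : T u₀ = ((p ^ 2 * blockRank p b : ℕ) : ℂ) := by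
    refine mul_left_cancel₀ hC0 ?_
    show (Nat.card (Subgroup.centralizer ({u} : Set G)) : ℂ) * (∑ χ ∈ s, q χ) u₀ = _
    rw [Finset.sum_apply, Finset.mul_sum, Finset.sum_congr rfl fun χ _ => hq χ, ← Finset.mul_sum,
      show ∑ χ ∈ s, E χ = _ from sum_diag_columns hM hx hB hb]
    push_cast
    ring
  set S : Finset (Subgroup.zpowers u) := {v | Subgroup.zpowers v = Subgroup.zpowers u₀}
  have hTv : ∀ v ∈ S, (T v).re = ((p ^ 2 * blockRank p b : ℕ) : ℝ) := fun v hv => by
    rw [Char.eq_of_zpowers_eq_of_rat hTg (Finset.mem_filter.mp hv).2.symm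
      (q := ((p ^ 2 * blockRank p b : ℕ) : ℚ)) (by rw [hT0, Rat.cast_natCast]),
      Rat.cast_natCast, Complex.natCast_re]
  have htr' : ((N.trace : ℤ) : ℝ) = (p : ℝ) * (blockRank p b : ℝ) := by
    have h : N.trace = (p : ℤ) * (blockRank p b : ℤ) := by exact_mod_cast htr
    rw [h]; push_cast; rfl
  have hkey : ∀ χ ∈ s, (S.card : ℝ) * (blockRank p b : ℝ) ≤ ∑ v ∈ S, (q χ v).re := fun χ hχ => by
    have h := LatticeForm.trace_le_sum hM.1 N hsymm hNN hrk hdiag (y χ) (hy χ) u₀ S
      (fun v => by simp [S]) (hne χ (Finset.mem_filter.mp hχ).2)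
    rw [htr', mul_left_comm] at h
    exact le_of_mul_le_mul_left h (Nat.cast_pos.mpr hM.1.pos)
  have hsum := Finset.sum_le_sum hkey
  rw [Finset.sum_const, nsmul_eq_mul, Finset.sum_comm,
    Finset.sum_congr rfl (g := fun _ => ((p ^ 2 * blockRank p b : ℕ) : ℝ)) fun v hv => by
      rw [← hTv v hv]; simp [T, Finset.sum_apply],
    Finset.sum_const, nsmul_eq_mul, Nat.cast_mul, Nat.cast_pow] at hsum
  have hl : (0 : ℝ) < blockRank p b := Nat.cast_pos.mpr
    (blockRank_pos (IsPBlock.nonempty hb.1) hM.1.ne_one)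
  have hS : (0 : ℝ) < S.card := Nat.cast_pos.mpr (Finset.card_pos.mpr ⟨u₀, by simp [S]⟩)
  have hk : (s.card : ℝ) ≤ (p : ℝ) ^ 2 := by
    refine le_of_mul_le_mul_right ?_ (mul_pos hS hl)
    linarith
  rw [show Nat.card B = s.card by rw [Nat.card_eq_fintype_card, Fintype.card_subtype]]
  exact_mod_cast hk

end Local

universe w

/-- The bounds on the number of characters of a block. -/
theorem card_block_le (hM : IsPModular p M) (d : ℕ) : ∀ (G : Type w) [Group G] [Fintype G]
    (B : Set (IrrCharacter G)), IsPBlock M B → blockDefect p B = d →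
      (d ≤ 2 → Nat.card B ≤ p ^ d) ∧ (3 ≤ d → Nat.card B ≤ p ^ (2 * d - 2)) := by
  induction d using Nat.strong_induction_on with
  | _ d ih =>
  intro G _ _ B hB hd
  classical
  have : Fact p.Prime := ⟨hM.1⟩
  subst hd
  by_cases hpos : ∃ χ ∈ B, blockHeight p B (χ : G → ℂ) ≠ 0
  · obtain ⟨χ, hχ, h⟩ := hpos
    have h2 := two_mul_card_le_of_height_pos hM hB hχ h
    have h3 := (height_lt_and_sum_height_zero_le hM hB hχ h).1
    refine ⟨fun hd => ?_, fun _ => by omega⟩
    have e : blockDefect p B = 2 := by omega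
    rw [e] at h2 ⊢
    omega
  push Not at hpos
  rcases Nat.eq_zero_or_pos (blockDefect p B) with h0 | h0
  · refine ⟨fun _ => ?_, fun h => by omega⟩
    have h := sum_pow_heights_le hM hB
    rw [h0, mul_zero, pow_zero] at h
    rw [h0, pow_zero, Nat.card_eq_fintype_card, Fintype.card_subtype]
    have hle : ({ψ | ψ ∈ B} : Finset (IrrCharacter G)).card ≤
        ∑ ψ : IrrCharacter G with ψ ∈ B, p ^ (2 * blockHeight p B (ψ : G → ℂ)) := by
      rw [Finset.card_eq_sum_ones]
      exact Finset.sum_le_sum fun ψ _ => Nat.one_le_pow _ _ hM.1.pos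
    omega
  obtain ⟨u, b, huord, hb, hbd⟩ := exists_major_subsection hM hB h0
  haveI : Fintype (Subgroup.centralizer ({u} : Set G)) := Fintype.ofFinite _
  by_cases hd2 : blockDefect p B = 2
  · refine ⟨fun _ => hd2.symm ▸ ?_, fun h => by omega⟩
    exact card_le_sq_of_major u hM huord hB hb (hbd.trans hd2) hpos
  haveI : Fintype ((Subgroup.centralizer ({u} : Set G)) ⧸ uSub u) := Fintype.ofFinite _
  set f : (Subgroup.centralizer ({u} : Set G)) →* (Subgroup.centralizer ({u} : Set G)) ⧸ uSub u := QuotientGroup.mk' (uSub u)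
  have hf : Function.Surjective f := QuotientGroup.mk'_surjective _
  have hker : IsPGroup p f.ker := by
    rw [QuotientGroup.ker_mk']
    exact IsPGroup.of_card (n := 1) (by rw [card_uSub, huord, pow_one])
  have hc : ∀ k ∈ f.ker, ∀ g : (Subgroup.centralizer ({u} : Set G)), Commute k g := fun k hk g =>
    uSub_central u k (by rwa [QuotientGroup.ker_mk'] at hk) g
  have hd' : blockDefect p (CentralQuot.pre f hf b) = blockDefect p B - 1 := by
    have h := CentralQuot.blockDefect_pre f hf hM hker hc hb.1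
    rw [QuotientGroup.ker_mk', card_uSub, huord, hM.1.factorization_self, hbd] at h
    omega
  have hrec := ih (blockDefect p B - 1) (by omega) ((Subgroup.centralizer ({u} : Set G)) ⧸ uSub u) _
    (CentralQuot.isPBlock_pre f hf hM hker hc hb.1) hd'
  have hl : blockRank p b ≤ Nat.card (CentralQuot.pre f hf b) :=
    (CentralQuot.blockRank_pre f hf hM hker hc hb.1).le.trans (blockRank_le_card _)
  have hsq := card_sq_le_of_major hM hB hpos u ⟨1, by rw [huord, pow_one]⟩ hb rfl hbd
  refine ⟨fun h => ?_, fun h => ?_⟩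
  · have e : blockDefect p B = 1 := by omega
    have h1 := hrec.1 (by omega)
    rw [e] at hsq h1 ⊢
    simp only [Nat.sub_self, pow_zero] at h1
    refine (Nat.pow_le_pow_iff_left two_ne_zero).mp (hsq.trans ?_)
    calc p ^ (2 * 1) * blockRank p b ≤ p ^ (2 * 1) * 1 :=
          Nat.mul_le_mul_left _ (hl.trans h1)
      _ = (p ^ 1) ^ 2 := by ring
  · have h1 : Nat.card (CentralQuot.pre f hf b) ≤ p ^ (2 * blockDefect p B - 4) := by
      by_cases h3 : blockDefect p B = 3
      · have := hrec.1 (by omega)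
        rw [h3] at this ⊢
        exact this
      · have := hrec.2 (by omega)
        rwa [show 2 * (blockDefect p B - 1) - 2 = 2 * blockDefect p B - 4 by omega] at this
    refine (Nat.pow_le_pow_iff_left two_ne_zero).mp (hsq.trans ?_)
    refine (Nat.mul_le_mul_left _ (hl.trans h1)).trans (le_of_eq ?_)
    rw [← pow_add, ← pow_mul]
    congr 1
    omega

end CfsgLib.Blocks
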