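import Cfsg.Agent.Lib.Blocks.ExtendedFirst
import Cfsg.Agent.Lib.Blocks.Sections
import Cfsg.Agent.Lib.Blocks.Inflate
import Cfsg.Agent.Lib.Blocks.MainThird
import Cfsg.Agent.Lib.Char.DefectZero
import Cfsg.Agent.Lib.Char.Central

/-!
# The centre of a defect group of an induced block
-/

set_option autoImplicit false
set_option linter.unusedSectionVars false

namespace CfsgLib.Blocks

open Cfsg
open scoped ComplexConjugate CfsgLib.Char

variable {p : ℕ} {M : Ideal AlgInt} {G : Type*} [Group G] [Fintype G]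

/-- A member of a block with normal defect group trivial on it vanishes at the elements with
singular image in the quotient. -/
theorem value_eq_zero_of_singular_image (hM : IsPModular p M) {B : Set (IrrCharacter G)}
    (hB : IsPBlock M B) {P : Subgroup G} [P.Normal] (hP : IsDefectGroup p M B P)
    {θ : IrrCharacter G} (hθ : θ ∈ B) (hθP : ∀ u ∈ P, (θ : G → ℂ) u = (θ : G → ℂ) 1) {g : G}
    (hg : ¬ IsPRegular p (QuotientGroup.mk' P g)) : (θ : G → ℂ) g = 0 := by
  classical
  have : Fact p.Prime := ⟨hM.1⟩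
  have : Fintype (G ⧸ P) := Fintype.ofFinite _
  obtain ⟨η, rfl⟩ := exists_inflate_eq_of_ker P θ hθP
  obtain ⟨m, hm, hm0, -⟩ := Char.exists_degree_dvd_card η.2
  obtain ⟨d, hd, hdle, hall, -⟩ := IsDefectGroup.degree_exponents hM hB hP
  have hfac : (Nat.card G).factorization p = d + P.index.factorization p := by
    rw [← P.card_mul_index, Nat.factorization_mul Nat.card_pos.ne' P.index_ne_zero_of_finite, hd,
      Finsupp.add_apply, Nat.Prime.factorization_pow hM.1, Finsupp.single_eq_same]
  have hge := hall _ hθ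
  have hdeg : charDegree (inflate (QuotientGroup.mk' P) (QuotientGroup.mk'_surjective P) η : G → ℂ)
      = m := by
    have h := (irr_degree_eq (inflate (QuotientGroup.mk' P) (QuotientGroup.mk'_surjective P) η)).1
    have h' : ((inflate (QuotientGroup.mk' P) (QuotientGroup.mk'_surjective P) η : IrrCharacter G) :
        G → ℂ) 1 = (η : G ⧸ P → ℂ) (QuotientGroup.mk' P 1) := rfl
    rw [h', map_one, hm] at h
    exact_mod_cast h.symm
  rw [hdeg] at hge
  show (η : G ⧸ P → ℂ) (QuotientGroup.mk' P g) = 0
  refine Char.defect_zero_vanish η.2 (n := P.index.factorization p) hm ?_ ?_ ?_ (not_not.mp hg)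
  · rw [Subgroup.index_eq_card]; exact Nat.ordProj_dvd _ _
  · rw [Subgroup.index_eq_card]; exact Nat.pow_succ_factorization_not_dvd Nat.card_pos.ne' hM.1
  · exact (hM.1.pow_dvd_iff_le_factorization hm0.ne').mpr (by omega)

/-- The centre of a defect group of an induced block is conjugate into the centre of a defect
group of the block. -/
theorem exists_conj_mem_center_of_induced (hM : IsPModular p M) {H : Subgroup G} [Fintype H]
    {b : Set (IrrCharacter H)} {B : Set (IrrCharacter G)} (hind : IsInducedBlock M H b B)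
    {D : Subgroup H} (hD : IsDefectGroup p M b D) {P : Subgroup G} (hP : IsDefectGroup p M B P)
    {x : G} (hx : x ∈ P) (hxc : ∀ w ∈ P, x * w = w * x) :
    ∃ g : G, g * x * g⁻¹ ∈ D.map H.subtype ∧
      ∀ w ∈ D.map H.subtype, g * x * g⁻¹ * w = w * (g * x * g⁻¹) := by
  classical
  have := isPrime_of_isPModular hM
  have : Fact p.Prime := ⟨hM.1⟩
  obtain ⟨hb, hB, -⟩ := id hind
  obtain ⟨d, hd, hdle, -, -⟩ := IsDefectGroup.degree_exponents hM hB hP
  obtain ⟨c, hdef, hsyl⟩ := isDefectGroup_iff.mp hP
  obtain ⟨χ, hχ, hχ0⟩ := exists_blockHeight_eq_zero hM hB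
  have hcreg : IsPRegular p c := IsDefectClass.isPRegular hM hB hdef
  obtain ⟨j, hj⟩ := IsPGroup.iff_orderOf.mp hsyl.isPGroup ⟨x, hx⟩
  rw [← Subgroup.orderOf_coe] at hj
  have hxcomm : Commute x c := Subgroup.mem_centralizer_singleton_iff.mp (hsyl.1 hx)
  set y := x * c
  have hy : IsPPart p y x := isPPart_mul hxcomm ⟨j, hj⟩ hcreg
  -- the central character at `y` is a unit
  have hu : ¬ MemLocalIdeal M (centralChar (χ : G → ℂ) y) := by
    have hval : ¬ MemLocalIdeal M ((χ : G → ℂ) y) := fun h =>
      not_memLocalIdeal_value_of_height_zero hM hB hχ hχ0 hdef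
        ((memLocalIdeal_value_mul_pElement_iff hM χ.2 hxcomm ⟨j, hj⟩).mp h)
    have hle : Subgroup.centralizer ({y} : Set G) ≤ Subgroup.centralizer ({c} : Set G) := by
      intro z hz
      have hz' := Subgroup.mem_centralizer_singleton_iff.mp hz
      have h1 := IsPPart.conj hy z
      rw [mul_inv_eq_iff_eq_mul.mpr hz'] at h1
      have hzx : z * x = x * z := mul_inv_eq_iff_eq_mul.mp (IsPPart.unique hM.1 h1 hy)
      refine Subgroup.mem_centralizer_singleton_iff.mpr (mul_left_cancel (a := x) ?_)
      rw [← mul_assoc, ← hzx, mul_assoc, hz', mul_assoc]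
    have hPle : P ≤ Subgroup.centralizer ({y} : Set G) := fun w hw =>
      Subgroup.mem_centralizer_singleton_iff.mpr
        ((Commute.mul_right (hxc w hw).symm
          (Subgroup.mem_centralizer_singleton_iff.mp (hsyl.1 hw))).eq)
    have hcard : (Nat.card (Subgroup.centralizer ({y} : Set G))).factorization p = d := by
      obtain ⟨S, hS⟩ := isSylowCent_iff.mp hsyl
      have hSc : Nat.card P = p ^ (Nat.card (Subgroup.centralizer ({c} : Set G))).factorization p := by
        rw [hS, Subgroup.card_map_of_injective (Subgroup.subtype_injective _), S.card_eq_multiplicity]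
      have hdd := Nat.pow_right_injective hM.1.two_le (hd.symm.trans hSc)
      refine le_antisymm ?_ ?_
      · rw [hdd]
        exact (Nat.factorization_le_iff_dvd Nat.card_pos.ne' Nat.card_pos.ne').mpr
          (Subgroup.card_dvd_of_le hle) p
      · rw [← hM.1.pow_dvd_iff_le_factorization Nat.card_pos.ne', ← hd]
        exact Subgroup.card_dvd_of_le hPle
    have hidx : (Subgroup.centralizer ({y} : Set G)).index.factorization p =
        (charDegree (χ : G → ℂ)).factorization p := by
      have h := congrArg (fun m : ℕ => m.factorization p)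
        (Subgroup.centralizer ({y} : Set G)).card_mul_index
      simp only [Nat.factorization_mul Nat.card_pos.ne' Subgroup.index_ne_zero_of_finite,
        Finsupp.add_apply, hcard] at h
      have hdB : d = blockDefect p B :=
        Nat.pow_right_injective hM.1.two_le (hd.symm.trans (IsDefectGroup.card_eq hM hB hP))
      rw [(blockHeight_eq_zero_iff hM hB hχ).mp hχ0, ← hdB]
      omega
    have hunit := unit_natCast_div hM Subgroup.index_ne_zero_of_finite (irr_degree_eq χ).2.ne' hidx
    intro h
    rw [centralChar, (irr_degree_eq χ).1, mul_div_right_comm] at h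
    exact (memLocalIdeal_or_of_mul hunit.1 (memLocalRing_of_isIntegral (irr_isIntegral χ.2 _)) h).elim
      hunit.2 hval
  -- down to the centralizer of the defect group inside `H`
  set K : Subgroup H := D ⊔ Subgroup.centralizer (D : Set H)
  have hKN : K ≤ Subgroup.normalizer (D : Set H) :=
    sup_le Subgroup.le_normalizer (Subgroup.centralizer_le_normalizer _)
  have : Fintype K := Fintype.ofFinite _
  obtain ⟨b₁, hb₁⟩ := (exists_isInducedBlock_iff hM (IsDefectGroup.isPGroup hM hD) le_sup_left
    le_sup_right hKN hb hD).mpr ⟨1, (map_conj_one D).le⟩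
  have hD₁ : IsDefectGroup p M b₁ (D.subgroupOf K) :=
    isDefectGroup_subgroupOf_of_induced hM le_sup_left hKN hD hb₁
  haveI : (D.subgroupOf K).Normal := Subgroup.normal_subgroupOf_of_le_normalizer hKN
  obtain ⟨θ, hθ, hθD⟩ := exists_mem_trivial_on_normal_pgroup hM hb₁.1 (D.subgroupOf K)
    (IsDefectGroup.isPGroup hM hD₁)
  obtain ⟨ξ, hξ⟩ := IsPBlock.nonempty hb
  set fH : H → ℂ := fun h => classInd y (h : G)
  have hfH : IsClassFunction H fH := fun a z => isClassFunction_classInd y (a : G) (z : G)
  have h1 := IsInducedBlock.omega_congr hind hξ hχ (isClassFunction_classInd y) (memLocalRing_classInd y)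
  have h2 := IsInducedBlock.omega_congr hb₁ hθ hξ hfH fun h => memLocalRing_classInd y _
  rw [omega_classInd] at h1
  have h3 : ¬ MemLocalIdeal M (omega (θ : K → ℂ) fun k : K => fH (k : H)) := fun h =>
    hu ((memLocalIdeal_iff_of_sub h1).mp ((memLocalIdeal_iff_of_sub h2).mp h))
  have : Fintype (ConjClasses K) := Fintype.ofFinite _
  rw [omega_eq_sum_classes θ fun a z => hfH (a : H) (z : H)] at h3
  obtain ⟨q, hq⟩ : ∃ q : ConjClasses K, ¬ MemLocalIdeal M
      (fH ((Quotient.out q : K) : H) * centralChar (θ : K → ℂ) (Quotient.out q)) := by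
    by_contra hno
    push Not at hno
    exact h3 (memLocalIdeal_sum _ _ fun q _ => hno q)
  set k : K := Quotient.out q
  have hconj : IsConj y ((k : H) : G) := by
    by_contra h
    apply hq
    rw [show fH (k : H) = 0 from if_neg h, zero_mul]
    exact memLocalIdeal_zero
  have hcc : ¬ MemLocalIdeal M (centralChar (θ : K → ℂ) k) := fun h =>
    hq (memLocalIdeal_mul_left (memLocalRing_classInd y _) h)
  have hkD : k ∈ Subgroup.centralizer ((D.subgroupOf K : Subgroup K) : Set K) := by
    by_contra h
    exact hcc (memLocalIdeal_centralChar_of_not_centralizing hM _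
      (IsDefectGroup.isPGroup hM hD₁) θ h)
  have hreg : IsPRegular p (QuotientGroup.mk' (D.subgroupOf K) k) := by
    by_contra h
    apply hcc
    rw [centralChar, value_eq_zero_of_singular_image hM hb₁.1 hD₁ hθ hθD h, mul_zero, zero_div]
    exact memLocalIdeal_zero
  obtain ⟨u, ⟨v, huv, hcomm, ⟨i, hi⟩, hv⟩, hu'⟩ := exists_isPPart hM.1 k
  have huD : u ∈ D.subgroupOf K := by
    obtain ⟨l, -, hl⟩ := (Nat.dvd_prime_pow hM.1).mp
      (hi ▸ orderOf_map_dvd (QuotientGroup.mk' (D.subgroupOf K)) u)
    have h1 : IsPPart p (QuotientGroup.mk' (D.subgroupOf K) k) (QuotientGroup.mk' (D.subgroupOf K) u) := by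
      rw [← huv, map_mul]
      exact isPPart_mul (hcomm.map _) ⟨l, hl⟩ fun h => hv (h.trans (orderOf_map_dvd _ v))
    exact (QuotientGroup.eq_one_iff u).mp (IsPPart.unique hM.1 h1
      ⟨_, one_mul _, Commute.one_left _, ⟨0, by simp⟩, hreg⟩)
  have hkG : IsPPart p ((k : H) : G) ((u : H) : G) :=
    ⟨((v : H) : G), by rw [← huv]; rfl, hcomm.map ((H.subtype).comp K.subtype),
      ⟨i, by rwa [Subgroup.orderOf_coe, Subgroup.orderOf_coe]⟩,
      by rwa [Subgroup.orderOf_coe, Subgroup.orderOf_coe]⟩
  obtain ⟨g, hg⟩ := isConj_iff.mp hconj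
  have hgx : g * x * g⁻¹ = ((u : H) : G) :=
    IsPPart.unique hM.1 (hg ▸ IsPPart.conj hy g) hkG
  refine ⟨g, hgx ▸ ⟨(u : H), huD, rfl⟩, ?_⟩
  rintro w ⟨w₀, hw₀, rfl⟩
  obtain ⟨n, hn⟩ := Subgroup.mem_zpowers_iff.mp hu'
  have hw : Commute u (⟨w₀, le_sup_left (a := D) (b := Subgroup.centralizer (D : Set H)) hw₀⟩ : K) :=
    hn ▸ Commute.zpow_left (hkD _ hw₀).symm n
  rw [hgx]
  exact (hw.map ((H.subtype).comp K.subtype)).eq

end CfsgLib.Blocks
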