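import Cfsg.Agent.Lib.Char.Orth
import Cfsg.Prelude.Def_Blocks

/-!
# The centre of the group algebra through class functions and central characters

`conv` is convolution, `omega χ` the central character on class functions, `ofOmega` its inverse.
-/

set_option autoImplicit false
set_option linter.unusedSectionVars false

namespace CfsgLib.Blocks

open Cfsg Module
open scoped ComplexConjugate CfsgLib.Char

variable {G : Type*} [Group G]

section ClassSize

/-- The centralizer index is the size of the conjugacy class. -/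
theorem index_centralizer_eq_card (g : G) :
    (Subgroup.centralizer ({g} : Set G)).index = Nat.card {h : G // IsConj g h} := by
  set f : G →* ConjAct G := ConjAct.toConjAct.toMonoidHom
  have h : (MulAction.stabilizer (ConjAct G) g).comap f = Subgroup.centralizer ({g} : Set G) := by
    ext x
    simp only [f, Subgroup.mem_comap, MulAction.mem_stabilizer_iff, MulEquiv.coe_toMonoidHom,
      ConjAct.toConjAct_smul, Subgroup.mem_centralizer_singleton_iff, mul_inv_eq_iff_eq_mul]
  rw [← h, Subgroup.index_comap_of_surjective (f := f) _ ConjAct.toConjAct.surjective,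
    MulAction.index_stabilizer, ← Nat.card_coe_set_eq]
  exact Nat.card_congr (Equiv.subtypeEquivRight fun x => by
    rw [ConjAct.mem_orbit_conjAct]; exact isConj_comm)

theorem card_centralizer_mul_index (g : G) :
    Nat.card (Subgroup.centralizer ({g} : Set G)) * (Subgroup.centralizer ({g} : Set G)).index
      = Nat.card G := Subgroup.card_mul_index _

theorem IsClassFunction.eq_of_isConj {f : G → ℂ} (hf : IsClassFunction G f) {a b : G}
    (h : IsConj a b) : f a = f b := by
  obtain ⟨c, rfl⟩ := isConj_iff.mp h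
  exact (hf a c).symm

theorem irr_classFunction (χ : IrrCharacter G) : IsClassFunction G (χ : G → ℂ) :=
  Char.isClassFunction_of_isCharacter (Char.isCharacter_of_isIrr χ.2)

theorem irr_value_inv [Finite G] {χ : G → ℂ} (hχ : IsIrrCharacter G χ) (g : G) :
    χ g⁻¹ = conj (χ g) := by
  obtain ⟨n, ρ, -, rfl⟩ := hχ
  exact Char.char_value_inv ρ g

theorem irr_isIntegral [Finite G] {χ : G → ℂ} (hχ : IsIrrCharacter G χ) (g : G) :
    IsIntegral ℤ (χ g) := by
  obtain ⟨n, ρ, -, rfl⟩ := hχ
  exact Char.isIntegral_character ρ g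

theorem irr_conj_isIntegral [Finite G] {χ : G → ℂ} (hχ : IsIrrCharacter G χ) (g : G) :
    IsIntegral ℤ (conj (χ g)) := irr_value_inv hχ g ▸ irr_isIntegral hχ g⁻¹

theorem irr_degree_eq (χ : IrrCharacter G) :
    ((χ : G → ℂ) 1) = (charDegree (χ : G → ℂ) : ℂ) ∧ 0 < charDegree (χ : G → ℂ) := by
  obtain ⟨n, hn, h⟩ := Char.exists_nat_degree_irr χ.2
  rw [charDegree, h, Complex.natCast_re, Nat.floor_natCast]
  exact ⟨rfl, hn⟩

end ClassSize

variable [Fintype G]

/-- Convolution of functions on `G`. -/
noncomputable def conv (f₁ f₂ : G → ℂ) : G → ℂ := fun z => ∑ x, f₁ x * f₂ (x⁻¹ * z)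

/-- The central character of `χ` applied to a class function. -/
noncomputable def omega (χ f : G → ℂ) : ℂ := (∑ g, f g * χ g) / χ 1

/-- The class function with prescribed central character values. -/
noncomputable def ofOmega (v : IrrCharacter G → ℂ) : G → ℂ :=
  fun g => (Nat.card G : ℂ)⁻¹ * ∑ χ : IrrCharacter G, v χ * (χ : G → ℂ) 1 * conj ((χ : G → ℂ) g)

/-- The indicator function of the class of `g`. -/
noncomputable def classInd (g : G) : G → ℂ := fun h =>
  open Classical in if IsConj g h then 1 else 0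

theorem isClassFunction_classInd (g : G) : IsClassFunction G (classInd g) := fun a b => by
  classical
  exact if_congr ⟨fun h => h.trans (isConj_iff.mpr ⟨b⁻¹, by group⟩),
    fun h => h.trans (isConj_iff.mpr ⟨b, rfl⟩)⟩ rfl rfl

theorem classInd_self (g : G) : classInd g g = 1 := by
  classical
  exact if_pos (IsConj.refl g)

/-- The indicator function of the identity. -/
noncomputable def deltaOne : G → ℂ := classInd (1 : G)

theorem deltaOne_apply [DecidableEq G] (g : G) : deltaOne g = if g = 1 then 1 else 0 := by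
  rcases eq_or_ne g 1 with rfl | h
  · rw [if_pos rfl]
    exact classInd_self 1
  · rw [if_neg h]
    exact if_neg fun h' => h (isConj_one_right.mp h')

theorem isClassFunction_conv {f₁ f₂ : G → ℂ} (h₁ : IsClassFunction G f₁)
    (h₂ : IsClassFunction G f₂) : IsClassFunction G (conv f₁ f₂) := fun z b => by
  refine Fintype.sum_equiv (MulAut.conj b⁻¹).toEquiv _ _ fun x => ?_
  simp only [MulEquiv.toEquiv_eq_coe, EquivLike.coe_coe, MulAut.conj_apply, inv_inv]
  have e₁ : f₁ (b⁻¹ * x * b) = f₁ x := by simpa using h₁ x b⁻¹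
  have e₂ : f₂ ((b⁻¹ * x * b)⁻¹ * z) = f₂ (x⁻¹ * (b * z * b⁻¹)) := by
    rw [← h₂ _ b]
    congr 1
    group
  rw [e₁, e₂]

theorem conv_comm {f₁ f₂ : G → ℂ} (h₁ : IsClassFunction G f₁) : conv f₁ f₂ = conv f₂ f₁ := by
  funext z
  refine Fintype.sum_equiv ((Equiv.inv G).trans (Equiv.mulRight z)) _ _ fun x => ?_
  simp only [Equiv.trans_apply, Equiv.inv_apply, Equiv.coe_mulRight]
  have : f₁ ((x⁻¹ * z)⁻¹ * z) = f₁ x := by
    rw [← h₁ x z⁻¹]
    congr 1
    group
  rw [this, mul_comm]

theorem omega_add (χ f₁ f₂ : G → ℂ) : omega χ (f₁ + f₂) = omega χ f₁ + omega χ f₂ := by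
  simp [omega, add_mul, Finset.sum_add_distrib, add_div]

theorem omega_smul (c : ℂ) (χ f : G → ℂ) : omega χ (c • f) = c * omega χ f := by
  simp only [omega, Pi.smul_apply, smul_eq_mul, mul_assoc, ← Finset.mul_sum, mul_div_assoc]

theorem omega_sum {ι : Type*} (s : Finset ι) (f : ι → G → ℂ) (χ : G → ℂ) :
    omega χ (∑ i ∈ s, f i) = ∑ i ∈ s, omega χ (f i) := by
  simp only [omega, Finset.sum_apply, Finset.sum_mul, ← Finset.sum_div]
  rw [Finset.sum_comm]

theorem omega_classInd (χ : IrrCharacter G) (g : G) :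
    omega (χ : G → ℂ) (classInd g) = centralChar (χ : G → ℂ) g := by
  classical
  rw [omega, centralChar, index_centralizer_eq_card]
  congr 1
  simp only [classInd, ite_mul, one_mul, zero_mul]
  rw [← Finset.sum_filter, Finset.sum_congr rfl (g := fun _ => (χ : G → ℂ) g) fun h hh =>
    (IsClassFunction.eq_of_isConj (irr_classFunction χ) (Finset.mem_filter.mp hh).2).symm,
    Finset.sum_const, nsmul_eq_mul, ← Fintype.card_subtype, Nat.card_eq_fintype_card]

theorem omega_deltaOne (χ : IrrCharacter G) : omega (χ : G → ℂ) deltaOne = 1 := by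
  classical
  simp [omega, deltaOne_apply, Char.irr_degree_ne_zero χ.2]

section Schur

/-- The action of a function on a representation. -/
noncomputable def actFun {V : Type*} [AddCommGroup V] [Module ℂ V]
    (ρ : Representation ℂ G V) (f : G → ℂ) : Module.End ℂ V :=
  ∑ g, f g • ρ g

theorem actFun_conv {V : Type*} [AddCommGroup V] [Module ℂ V]
    (ρ : Representation ℂ G V) (f₁ f₂ : G → ℂ) :
    actFun ρ (conv f₁ f₂) = actFun ρ f₁ * actFun ρ f₂ := by
  simp only [actFun, conv, Finset.sum_smul]
  rw [Finset.sum_comm, Finset.sum_mul]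
  refine Finset.sum_congr rfl fun x _ => ?_
  rw [Finset.mul_sum]
  refine Fintype.sum_equiv (Equiv.mulLeft x⁻¹) _ _ fun z => ?_
  rw [Equiv.coe_mulLeft, smul_mul_assoc, mul_smul_comm, smul_smul, ← map_mul, mul_inv_cancel_left]

theorem actFun_eq_omega {V : Type*} [AddCommGroup V] [Module ℂ V] [FiniteDimensional ℂ V]
    (ρ : Representation ℂ G V) [ρ.IsIrreducible] {f : G → ℂ} (hf : IsClassFunction G f) :
    actFun ρ f = omega ρ.character f • (1 : Module.End ℂ V) := by
  have hcomm : ∀ h : G, actFun ρ f ∘ₗ ρ h = ρ h ∘ₗ actFun ρ f := fun h => by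
    show actFun ρ f * ρ h = ρ h * actFun ρ f
    rw [actFun, Finset.sum_mul, Finset.mul_sum]
    refine Fintype.sum_equiv (MulAut.conj h⁻¹).toEquiv _ _ fun g => ?_
    simp only [MulEquiv.toEquiv_eq_coe, EquivLike.coe_coe, MulAut.conj_apply, inv_inv]
    have e : f (h⁻¹ * g * h) = f g := by simpa using hf g h⁻¹
    rw [e, smul_mul_assoc, mul_smul_comm, ← map_mul, ← map_mul, mul_assoc, mul_inv_cancel_left]
  let T : Representation.IntertwiningMap ρ ρ := ⟨actFun ρ f, hcomm⟩
  obtain ⟨c, hc⟩ :=
    (Representation.IsIrreducible.algebraMap_intertwiningMap_bijective_of_isAlgClosed (ρ := ρ)).2 T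
  have hT : actFun ρ f = c • (1 : Module.End ℂ V) := by
    rw [show actFun ρ f = T.toLinearMap from rfl, ← hc, Algebra.algebraMap_eq_smul_one]
    rfl
  have htr : LinearMap.trace ℂ V (actFun ρ f) = ∑ g, f g * ρ.character g := by
    rw [actFun, map_sum]
    exact Finset.sum_congr rfl fun g _ => by rw [map_smul, smul_eq_mul]; rfl
  rw [hT, map_smul, LinearMap.trace_one, smul_eq_mul] at htr
  have hd : ρ.character 1 = (finrank ℂ V : ℂ) := ρ.char_one
  rw [hT, omega, ← htr, hd, mul_div_cancel_right₀ _
    (Nat.cast_ne_zero.mpr (Char.finrank_pos_of_irreducible ρ).ne')]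

theorem omega_conv (χ : IrrCharacter G) {f₁ f₂ : G → ℂ} (h₁ : IsClassFunction G f₁)
    (h₂ : IsClassFunction G f₂) :
    omega (χ : G → ℂ) (conv f₁ f₂) = omega (χ : G → ℂ) f₁ * omega (χ : G → ℂ) f₂ := by
  obtain ⟨n, ρ, hρ, hχ⟩ := χ.2
  rw [← hχ]
  have := actFun_conv ρ f₁ f₂
  rw [actFun_eq_omega ρ (isClassFunction_conv h₁ h₂), actFun_eq_omega ρ h₁, actFun_eq_omega ρ h₂,
    smul_mul_assoc, one_mul, smul_smul] at this
  have htr := congrArg (LinearMap.trace ℂ (Fin n → ℂ)) this
  rw [map_smul, map_smul, LinearMap.trace_one, smul_eq_mul, smul_eq_mul] at htr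
  exact mul_right_cancel₀ (Nat.cast_ne_zero.mpr (Char.finrank_pos_of_irreducible ρ).ne') htr

end Schur

theorem isClassFunction_ofOmega (v : IrrCharacter G → ℂ) : IsClassFunction G (ofOmega v) :=
  fun g h => by simp only [ofOmega, fun χ : IrrCharacter G => irr_classFunction χ g h]

theorem omega_ofOmega (v : IrrCharacter G → ℂ) (χ : IrrCharacter G) :
    omega (χ : G → ℂ) (ofOmega v) = v χ := by
  classical
  have h : ∑ g, ofOmega v g * (χ : G → ℂ) g = v χ * (χ : G → ℂ) 1 := by
    calc ∑ g, ofOmega v g * (χ : G → ℂ) g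
        = ∑ ψ : IrrCharacter G, v ψ * (ψ : G → ℂ) 1 * classInner (χ : G → ℂ) (ψ : G → ℂ) := by
          simp only [ofOmega, classInner, Finset.mul_sum, Finset.sum_mul]
          rw [Finset.sum_comm]
          refine Finset.sum_congr rfl fun ψ _ => Finset.sum_congr rfl fun g _ => ?_
          ring
      _ = v χ * (χ : G → ℂ) 1 := by simp [Char.classInner_coe]
  rw [omega, h, mul_div_cancel_right₀ _ (Char.irr_degree_ne_zero χ.2)]

/-- A class function is determined by its central character values. -/
theorem eq_of_omega_eq {f₁ f₂ : G → ℂ} (h₁ : IsClassFunction G f₁) (h₂ : IsClassFunction G f₂)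
    (h : ∀ χ : IrrCharacter G, omega (χ : G → ℂ) f₁ = omega (χ : G → ℂ) f₂) : f₁ = f₂ := by
  have hd : (fun g => conj (f₁ g - f₂ g)) = 0 := by
    refine Char.eq_zero_of_orthogonal (fun g k => by simp [h₁ g k, h₂ g k]) fun χ => ?_
    have he := h χ
    rw [omega, omega, div_left_inj' (Char.irr_degree_ne_zero χ.2), ← sub_eq_zero,
      ← Finset.sum_sub_distrib] at he
    simp only [classInner, ← map_mul, ← map_sum]
    simp only [sub_mul, he, map_zero, mul_zero]
  funext g
  have := congrFun hd g
  rwa [Pi.zero_apply, map_eq_zero, sub_eq_zero] at this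

theorem ofOmega_omega {f : G → ℂ} (hf : IsClassFunction G f) :
    ofOmega (fun χ : IrrCharacter G => omega (χ : G → ℂ) f) = f :=
  eq_of_omega_eq (isClassFunction_ofOmega _) hf fun χ => omega_ofOmega _ χ

theorem ofOmega_one : ofOmega (1 : IrrCharacter G → ℂ) = deltaOne :=
  eq_of_omega_eq (isClassFunction_ofOmega _) (isClassFunction_classInd 1) fun χ => by
    rw [omega_ofOmega, omega_deltaOne, Pi.one_apply]

theorem ofOmega_mul (v w : IrrCharacter G → ℂ) :
    ofOmega (v * w) = conv (ofOmega v) (ofOmega w) :=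
  eq_of_omega_eq (isClassFunction_ofOmega _)
    (isClassFunction_conv (isClassFunction_ofOmega _) (isClassFunction_ofOmega _)) fun χ => by
      rw [omega_conv χ (isClassFunction_ofOmega _) (isClassFunction_ofOmega _), omega_ofOmega,
        omega_ofOmega, omega_ofOmega, Pi.mul_apply]

theorem ofOmega_add (v w : IrrCharacter G → ℂ) : ofOmega (v + w) = ofOmega v + ofOmega w := by
  funext g
  simp [ofOmega, add_mul, Finset.sum_add_distrib, mul_add]

theorem ofOmega_smul (c : ℂ) (v : IrrCharacter G → ℂ) : ofOmega (c • v) = c • ofOmega v := by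
  funext g
  simp only [ofOmega, Pi.smul_apply, smul_eq_mul, Finset.mul_sum]
  exact Finset.sum_congr rfl fun χ _ => by ring

/-- Evaluation of the central character as a sum over the classes. -/
theorem omega_eq_sum_classes [Fintype (ConjClasses G)] (χ : IrrCharacter G) {f : G → ℂ}
    (hf : IsClassFunction G f) :
    omega (χ : G → ℂ) f =
      ∑ c : ConjClasses G, f (Quotient.out c) * centralChar (χ : G → ℂ) (Quotient.out c) := by
  classical
  simp only [← omega_classInd, ← omega_smul, ← omega_sum]
  congr 1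
  funext g
  have hq : ∀ c : ConjClasses G, IsConj (Quotient.out c) g ↔ c = ConjClasses.mk g := fun c => by
    rw [← ConjClasses.mk_eq_mk_iff_isConj,
      show ConjClasses.mk (Quotient.out c) = c from Quotient.out_eq c]
  simp only [Finset.sum_apply, Pi.smul_apply, smul_eq_mul, classInd, hq, mul_ite, mul_one, mul_zero,
    Finset.sum_ite_eq', Finset.mem_univ, if_true]
  exact (IsClassFunction.eq_of_isConj hf ((hq _).mpr rfl)).symm

section Integral

theorem omega_intCast_isIntegral (χ : IrrCharacter G) {f : G → ℤ}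
    (hf : IsClassFunction G (fun g => (f g : ℂ))) :
    IsIntegral ℤ (omega (χ : G → ℂ) (fun g => (f g : ℂ))) := by
  classical
  let L : (G → ℤ) →ₗ[ℤ] (IrrCharacter G → ℂ) :=
    { toFun := fun a ψ => omega (ψ : G → ℂ) (fun g => (a g : ℂ))
      map_add' := fun a b => funext fun ψ => by
        simp only [Pi.add_apply, Int.cast_add]
        exact omega_add _ _ _
      map_smul' := fun c a => funext fun ψ => by
        simp only [Pi.smul_apply, smul_eq_mul, Int.cast_mul, RingHom.id_apply, zsmul_eq_mul]
        exact omega_smul (c : ℂ) _ _ }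
  let S : Subalgebra ℤ (IrrCharacter G → ℂ) :=
    { carrier := {v | ∀ g, ∃ n : ℤ, ofOmega v g = n}
      add_mem' := fun {v w} hv hw g => by
        obtain ⟨a, ha⟩ := hv g
        obtain ⟨b, hb⟩ := hw g
        exact ⟨a + b, by rw [ofOmega_add, Pi.add_apply, ha, hb, Int.cast_add]⟩
      mul_mem' := fun {v w} hv hw g => by
        choose a ha using hv
        choose b hb using hw
        exact ⟨∑ x, a x * b (x⁻¹ * g), by simp [ofOmega_mul, conv, ha, hb]⟩
      algebraMap_mem' := fun c g => by
        refine ⟨if g = 1 then c else 0, ?_⟩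
        rw [show algebraMap ℤ (IrrCharacter G → ℂ) c = (c : ℂ) • (1 : IrrCharacter G → ℂ) by
          funext ψ; simp, ofOmega_smul, ofOmega_one, Pi.smul_apply, deltaOne_apply]
        split <;> simp }
  have hS : S.toSubmodule ≤ LinearMap.range L := fun v hv => by
    choose a ha using hv
    refine ⟨a, funext fun ψ => ?_⟩
    show omega (ψ : G → ℂ) (fun g => (a g : ℂ)) = v ψ
    rw [← funext ha, omega_ofOmega]
  have hfg : S.toSubmodule.FG := by
    have : Module.Finite ℤ (LinearMap.range L) := Module.Finite.range L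
    exact IsNoetherian.noetherian (S.toSubmodule.comap (LinearMap.range L).subtype) |>.map
      (LinearMap.range L).subtype |> fun h => by rwa [Submodule.map_comap_subtype, inf_eq_right.mpr hS] at h
  have hmem : (fun ψ : IrrCharacter G => omega (ψ : G → ℂ) (fun g => (f g : ℂ))) ∈ S :=
    fun g => ⟨f g, by rw [ofOmega_omega hf]⟩
  exact (IsIntegral.of_mem_of_fg S hfg _ hmem).map
    (Pi.evalAlgHom ℤ (fun _ : IrrCharacter G => ℂ) χ)

theorem isIntegral_omega_classInd (χ : IrrCharacter G) (g : G) :
    IsIntegral ℤ (omega (χ : G → ℂ) (classInd g)) := by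
  classical
  have h : classInd g = fun x => (((if IsConj g x then 1 else 0 : ℤ)) : ℂ) := by
    funext x
    simp [classInd]
  rw [h]
  exact omega_intCast_isIntegral χ (h ▸ isClassFunction_classInd g)

/-- Central character values on class sums are algebraic integers. -/
theorem isIntegral_centralChar (χ : IrrCharacter G) (g : G) :
    IsIntegral ℤ (centralChar (χ : G → ℂ) g) :=
  omega_classInd χ g ▸ isIntegral_omega_classInd χ g

end Integral

end CfsgLib.Blocks
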