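import Cfsg.Agent.Lib.Blocks.Osima
import Cfsg.Agent.Lib.Char.Table

/-!
# Restriction to `p`-regular elements commutes with the block projections

Consequently blocks do not depend on the choice of the maximal ideal over `p`.
-/

set_option autoImplicit false
set_option linter.unusedSectionVars false

namespace CfsgLib.Blocks

open Cfsg
open scoped ComplexConjugate CfsgLib.Char

variable {p : ℕ} {M : Ideal AlgInt} {G : Type*} [Group G]

/-- The function cut down to the `p`-regular elements. -/
noncomputable def regPart (p : ℕ) (f : G → ℂ) : G → ℂ :=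
  fun g => open Classical in if IsPRegular p g then f g else 0

theorem regPart_of_regular {f : G → ℂ} {g : G} (hg : IsPRegular p g) : regPart p f g = f g :=
  if_pos hg

theorem regPart_of_singular {f : G → ℂ} {g : G} (hg : ¬ IsPRegular p g) : regPart p f g = 0 :=
  if_neg hg

theorem isClassFunction_regPart {f : G → ℂ} (hf : IsClassFunction G f) :
    IsClassFunction G (regPart p f) := fun g h => by
  have : orderOf (h * g * h⁻¹) = orderOf g :=
    orderOf_injective (MulAut.conj h).toMonoidHom (MulAut.conj h).injective g
  by_cases hg : IsPRegular p g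
  · rw [regPart_of_regular hg, regPart_of_regular (by rwa [IsPRegular, this]), hf g h]
  · rw [regPart_of_singular hg, regPart_of_singular (by rwa [IsPRegular, this])]

variable [Fintype G]

theorem classInner_regPart_left (f₁ f₂ : G → ℂ) :
    classInner (regPart p f₁) f₂ = classInner f₁ (regPart p f₂) := by
  simp only [classInner]
  congr 1
  refine Finset.sum_congr rfl fun g _ => ?_
  by_cases hg : IsPRegular p g
  · rw [regPart_of_regular hg, regPart_of_regular hg]
  · rw [regPart_of_singular hg, regPart_of_singular hg, map_zero, zero_mul, mul_zero]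

theorem classInner_regPart_regPart (f₁ f₂ : G → ℂ) :
    classInner (regPart p f₁) (regPart p f₂) = classInner (regPart p f₁) f₂ := by
  rw [classInner_regPart_left (p := p) f₁ (regPart p f₂), classInner_regPart_left (p := p) f₁ f₂]
  congr 1
  funext g
  by_cases hg : IsPRegular p g
  · rw [regPart_of_regular hg]
  · rw [regPart_of_singular hg, regPart_of_singular hg]

/-- The regular part of a character of a block is a combination of the characters of the block. -/
theorem classInner_regPart_eq_zero (hM : IsPModular p M) {S : Set (IrrCharacter G)}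
    (hS : IsBlockUnion M S) {χ ψ : IrrCharacter G} (hχ : χ ∈ S) (hψ : ψ ∉ S) :
    classInner (regPart p (χ : G → ℂ)) (ψ : G → ℂ) = 0 := by
  classical
  set T : Finset (IrrCharacter G) := {η | η ∈ S}
  have hT : IsBlockUnion M (T : Set (IrrCharacter G)) := by simpa [T] using hS
  set f := regPart p (χ : G → ℂ)
  have key : f = ∑ η ∈ T, classInner f (η : G → ℂ) • (η : G → ℂ) := by
    funext z
    have hexp : ∀ φ : G → ℂ, (∑ η ∈ T, classInner φ (η : G → ℂ) • (η : G → ℂ)) z =
        (Nat.card G : ℂ)⁻¹ * ∑ x, φ x * ∑ η ∈ T, (η : G → ℂ) z * conj ((η : G → ℂ) x) := fun φ => by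
      simp only [Finset.sum_apply, Pi.smul_apply, smul_eq_mul, classInner, Finset.mul_sum,
        Finset.sum_mul]
      rw [Finset.sum_comm]
      exact Finset.sum_congr rfl fun x _ => Finset.sum_congr rfl fun η _ => by ring
    by_cases hz : IsPRegular p z
    · have hχexp : (∑ η ∈ T, classInner (χ : G → ℂ) (η : G → ℂ) • (η : G → ℂ)) z = (χ : G → ℂ) z := by
        rw [Finset.sum_apply, Finset.sum_eq_single_of_mem χ (by simp [T, hχ]) fun η _ hη => ?_]
        · simp [Char.classInner_coe]
        · simp [Char.classInner_coe, Ne.symm hη]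
      rw [show f z = (χ : G → ℂ) z from regPart_of_regular hz, ← hχexp, hexp, hexp]
      congr 1
      refine Finset.sum_congr rfl fun x _ => ?_
      by_cases hx : IsPRegular p x
      · rw [show f x = (χ : G → ℂ) x from regPart_of_regular hx]
      · rw [sum_block_mul_conj_eq_zero hM hT hz hx, mul_zero, mul_zero]
    · rw [show f z = 0 from regPart_of_singular hz, hexp]
      rw [Finset.sum_eq_zero fun x _ => ?_, mul_zero]
      by_cases hx : IsPRegular p x
      · have h := congrArg conj (sum_block_mul_conj_eq_zero hM hT hx hz)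
        rw [map_sum, map_zero] at h
        rw [show ∑ η ∈ T, (η : G → ℂ) z * conj ((η : G → ℂ) x) = 0 by
          simpa [mul_comm] using h, mul_zero]
      · rw [show f x = 0 from regPart_of_singular hx, zero_mul]
  rw [key, Char.classInner_sum_left]
  refine Finset.sum_eq_zero fun η hη => ?_
  rw [Char.classInner_smul_left, Char.classInner_coe, if_neg, mul_zero]
  rintro rfl
  exact hψ (Finset.mem_filter.mp hη).2

/-- A set of irreducible characters closed under non-orthogonality on the regular elements is a
union of blocks. -/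
theorem isBlockUnion_of_regPart_orthogonal (hM : IsPModular p M) {S : Set (IrrCharacter G)}
    (hS : ∀ χ ∈ S, ∀ ψ ∉ S, classInner (regPart p (χ : G → ℂ)) (ψ : G → ℂ) = 0) :
    IsBlockUnion M S := by
  classical
  have := isPrime_of_isPModular hM
  have : Fact p.Prime := ⟨hM.1⟩
  set P : Sylow p G := default
  set H : Subgroup G := (P : Subgroup G)
  have hm : ∀ χ : IrrCharacter G, ∃ n : ℕ,
      (Nat.card H : ℂ)⁻¹ * ∑ v : H, (χ : G → ℂ) v = n := fun χ => by
    obtain ⟨n, hn⟩ := Char.exists_nat_classInner
      (Char.isCharacter_restrict H (Char.isCharacter_of_isIrr χ.2)) Char.isCharacter_one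
    exact ⟨n, by rw [← hn]; simp [classInner]⟩
  choose m hm using hm
  -- the combination restricting to a multiple of the indicator of the identity
  set w : G → ℂ := fun g =>
    (H.index : ℂ)⁻¹ * ∑ η : IrrCharacter G, (m η : ℂ) * conj ((η : G → ℂ) g)
  have hw : ∀ g, IsPRegular p g → w g = deltaOne g := fun g hg => by
    have hz : ∀ v : H, IsConj (v : G) g → v = 1 := fun v hv => by
      by_contra hne
      have hvs : p ∣ orderOf (v : G) := by
        rw [Subgroup.orderOf_coe]
        obtain ⟨k, hk⟩ := IsPGroup.iff_orderOf.mp P.2 v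
        rw [hk]
        exact dvd_pow_self p fun h0 => hne (orderOf_eq_one_iff.mp (by rw [hk, h0, pow_zero]))
      obtain ⟨c, rfl⟩ := isConj_iff.mp hv
      exact hg (by
        rw [show orderOf (c * (v : G) * c⁻¹) = orderOf (v : G) from
          orderOf_injective (MulAut.conj c).toMonoidHom (MulAut.conj c).injective _]
        exact hvs)
    have hsum : ∑ η : IrrCharacter G, (m η : ℂ) * conj ((η : G → ℂ) g) =
        (Nat.card H : ℂ)⁻¹ * ∑ v : H, ∑ η : IrrCharacter G, (η : G → ℂ) v * conj ((η : G → ℂ) g) := by
      rw [Finset.sum_comm, Finset.mul_sum]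
      refine Finset.sum_congr rfl fun η _ => ?_
      rw [← hm η, ← Finset.sum_mul]
      ring
    simp only [w, hsum, Char.column_orthogonality]
    rw [deltaOne_apply]
    rcases eq_or_ne g 1 with rfl | hg1
    · have hiff : ∀ v : H, IsConj (v : G) 1 ↔ v = 1 :=
        fun v => ⟨hz v, fun hv => by rw [hv]; exact IsConj.refl _⟩
      simp only [if_pos, hiff, Finset.sum_ite_eq', Finset.mem_univ]
      rw [Subgroup.centralizer_eq_top_iff_subset.mpr (by simp), Subgroup.card_top,
        ← H.card_mul_index, Nat.cast_mul]
      have : (H.index : ℂ) ≠ 0 := Nat.cast_ne_zero.mpr H.index_ne_zero_of_finite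
      have : (Nat.card H : ℂ) ≠ 0 := Nat.cast_ne_zero.mpr Nat.card_pos.ne'
      field_simp
    · have hiff : ∀ v : H, ¬ IsConj (v : G) g := fun v hc => hg1 (by
        have := hz v hc
        subst this
        exact (show (1 : G) = g by simpa using hc).symm)
      rw [if_neg hg1, Finset.sum_eq_zero, mul_zero, mul_zero]
      intro v _
      exact if_neg (hiff v)
  have hδ : deltaOne = regPart p w := by
    funext g
    by_cases hg : IsPRegular p g
    · rw [regPart_of_regular hg, hw g hg]
    · rw [regPart_of_singular hg, deltaOne_apply, if_neg]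
      rintro rfl
      exact hg (by rw [IsPRegular, orderOf_one]; exact hM.1.not_dvd_one)
  -- compare with the idempotent through the central characters
  set F : G → ℂ := fun g =>
    (H.index : ℂ)⁻¹ * ∑ η : IrrCharacter G with η ∈ S, (m η : ℂ) * conj ((η : G → ℂ) g)
  have hFcls : IsClassFunction G (regPart p F) := isClassFunction_regPart fun g h => by
    simp only [F, fun η : IrrCharacter G => irr_classFunction η g h]
  have hom : ∀ ψ : IrrCharacter G, omega (ψ : G → ℂ) (regPart p F) = indVec S ψ := by
    intro ψ
    have hterm : ∀ T : Finset (IrrCharacter G), omega (ψ : G → ℂ) (regPart p (fun g =>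
        (H.index : ℂ)⁻¹ * ∑ η ∈ T, (m η : ℂ) * conj ((η : G → ℂ) g))) =
        (H.index : ℂ)⁻¹ / (ψ : G → ℂ) 1 * ∑ η ∈ T, (m η : ℂ) * ((Nat.card G : ℂ) *
          conj (classInner (regPart p (η : G → ℂ)) (ψ : G → ℂ))) := fun T => by
      simp only [omega, classInner, map_mul, map_inv₀, map_natCast, map_sum, Complex.conj_conj]
      rw [Finset.mul_sum, Finset.sum_div]
      have hN : (Nat.card G : ℂ) ≠ 0 := Nat.cast_ne_zero.mpr Nat.card_pos.ne'
      simp only [mul_inv_cancel_left₀ hN]
      simp only [Finset.mul_sum]
      rw [Finset.sum_comm]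
      refine Finset.sum_congr rfl fun g _ => ?_
      by_cases hg : IsPRegular p g
      · simp only [regPart_of_regular hg, Finset.mul_sum, Finset.sum_mul, Finset.sum_div]
        exact Finset.sum_congr rfl fun η _ => by ring
      · simp [regPart_of_singular hg]
    have h1 : omega (ψ : G → ℂ) (regPart p w) = 1 := by rw [← hδ, omega_deltaOne]
    rw [hterm] at h1
    rw [hterm]
    by_cases hψ : ψ ∈ S
    · rw [indVec_of_mem hψ, ← h1]
      congr 1
      refine Finset.sum_subset (Finset.subset_univ _) fun η _ hη => ?_
      have hη' : η ∉ S := fun h => hη (by simp [h])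
      rw [classInner_regPart_left, Char.classInner_conj_symm, hS ψ hψ η hη', mul_zero, mul_zero]
    · rw [indVec_of_notMem hψ, Finset.sum_eq_zero fun η hη => ?_, mul_zero]
      rw [hS η (Finset.mem_filter.mp hη).2 ψ hψ, map_zero, mul_zero, mul_zero]
  have hmem : indVec S ∈ ZO M G := by
    have hloc : ∀ g, MemLocalRing M (regPart p F g) := fun g => by
      by_cases hg : IsPRegular p g
      · rw [regPart_of_regular hg]
        exact memLocalRing_mul (memLocalRing_natCast_inv hM P.not_dvd_index)
          (memLocalRing_sum _ _ fun η _ => memLocalRing_mul (memLocalRing_natCast _)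
            (memLocalRing_of_isIntegral (irr_conj_isIntegral η.2 g)))
      · rw [regPart_of_singular hg]
        exact memLocalRing_zero
    rw [show indVec S = fun ψ : IrrCharacter G => omega (ψ : G → ℂ) (regPart p F) from
      funext fun ψ => (hom ψ).symm]
    exact omega_mem_ZO hFcls hloc
  intro χ hχ ψ h
  by_contra hψ
  have h' := ZO_congr h hmem
  rw [indVec_of_mem hχ, indVec_of_notMem hψ, sub_zero] at h'
  exact not_memLocalIdeal_one h'

theorem isBlockUnion_iff_orthogonal (hM : IsPModular p M) {S : Set (IrrCharacter G)} :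
    IsBlockUnion M S ↔
      ∀ χ ∈ S, ∀ ψ ∉ S, classInner (regPart p (χ : G → ℂ)) (ψ : G → ℂ) = 0 :=
  ⟨fun h _ hχ _ hψ => classInner_regPart_eq_zero hM h hχ hψ, isBlockUnion_of_regPart_orthogonal hM⟩

/-- Blocks do not depend on the maximal ideal over `p`. -/
theorem sameBlock_of_sameBlock {M' : Ideal AlgInt} (hM : IsPModular p M) (hM' : IsPModular p M')
    {χ ψ : IrrCharacter G} (h : SameBlock M (χ : G → ℂ) (ψ : G → ℂ)) :
    SameBlock M' (χ : G → ℂ) (ψ : G → ℂ) := by
  have := isPrime_of_isPModular hM
  have := isPrime_of_isPModular hM'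
  have hu : IsBlockUnion M (blockOf M' (χ : G → ℂ)) :=
    (isBlockUnion_iff_orthogonal hM).mpr
      ((isBlockUnion_iff_orthogonal hM').mp (IsPBlock.isBlockUnion (isPBlock_blockOf χ)))
  exact hu χ (mem_blockOf_self χ) ψ h

theorem sameBlock_of_classInner_regPart_ne_zero (hM : IsPModular p M) {χ ψ : IrrCharacter G}
    (h : classInner (regPart p (χ : G → ℂ)) (ψ : G → ℂ) ≠ 0) :
    SameBlock M (χ : G → ℂ) (ψ : G → ℂ) := by
  have := isPrime_of_isPModular hM
  by_contra hne
  exact h (classInner_regPart_eq_zero hM (IsPBlock.isBlockUnion (isPBlock_blockOf χ))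
    (mem_blockOf_self χ) hne)

end CfsgLib.Blocks
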