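import Cfsg.Agent.Lib.Blocks.Defect
import Cfsg.Agent.Lib.Blocks.RegPart

/-!
# The class function `dualReg p χ` detects the block of a height zero character

For `χ` of height zero the central character of `ψ` on `g ↦ χ g⁻¹` (restricted to the `p`-regular
elements) is a unit when `ψ` is in the block of `χ` and zero otherwise.
-/

set_option autoImplicit false
set_option linter.unusedSectionVars false

namespace CfsgLib.Blocks

open Cfsg
open scoped ComplexConjugate CfsgLib.Char

variable {p : ℕ} {M : Ideal AlgInt} {G : Type*} [Group G]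

/-- The function `g ↦ χ g⁻¹` on `p`-regular elements, zero elsewhere. -/
noncomputable def dualReg (p : ℕ) (χ : G → ℂ) : G → ℂ := regPart p fun g => χ g⁻¹

theorem isClassFunction_dualReg {χ : G → ℂ} (hχ : IsClassFunction G χ) :
    IsClassFunction G (dualReg p χ) :=
  isClassFunction_regPart fun g h => by
    rw [show (h * g * h⁻¹)⁻¹ = h * g⁻¹ * h⁻¹ by group, hχ]

theorem memLocalRing_dualReg [M.IsPrime] [Finite G] (χ : IrrCharacter G) (g : G) :
    MemLocalRing M (dualReg p (χ : G → ℂ) g) := by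
  by_cases hg : IsPRegular p g
  · rw [dualReg, regPart_of_regular hg]
    exact memLocalRing_of_isIntegral (irr_isIntegral χ.2 _)
  · rw [dualReg, regPart_of_singular hg]
    exact memLocalRing_zero

theorem dualReg_comp_subtype (H : Subgroup G) (χ : G → ℂ) :
    (fun h : H => dualReg p χ (h : G)) = dualReg p (fun h : H => χ (h : G)) := by
  funext h
  have hiff : IsPRegular p (h : G) ↔ IsPRegular p h := by
    rw [IsPRegular, IsPRegular, Subgroup.orderOf_coe]
  by_cases hh : IsPRegular p h
  · simp only [dualReg, regPart_of_regular hh, regPart_of_regular (hiff.mpr hh), Subgroup.coe_inv]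
  · simp only [dualReg, regPart_of_singular hh, regPart_of_singular fun h' => hh (hiff.mp h')]

variable [Fintype G]

theorem classInner_regPart_comm (χ ψ : IrrCharacter G) :
    classInner (regPart p (χ : G → ℂ)) (ψ : G → ℂ) =
      classInner (regPart p (ψ : G → ℂ)) (χ : G → ℂ) := by
  simp only [classInner, ← irr_value_inv χ.2, ← irr_value_inv ψ.2]
  congr 1
  refine Fintype.sum_equiv (Equiv.inv G) _ _ fun g => ?_
  rw [Equiv.inv_apply, inv_inv]
  by_cases hg : IsPRegular p g
  · rw [regPart_of_regular hg, regPart_of_regular (IsPRegular.inv hg), mul_comm]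
  · have hg' : ¬ IsPRegular p g⁻¹ := fun h => hg (inv_inv g ▸ IsPRegular.inv h)
    rw [regPart_of_singular hg, regPart_of_singular hg', zero_mul, zero_mul]

theorem omega_dualReg (χ ψ : IrrCharacter G) :
    omega (ψ : G → ℂ) (dualReg p (χ : G → ℂ)) =
      (Nat.card G : ℂ) * classInner (regPart p (ψ : G → ℂ)) (χ : G → ℂ) / (ψ : G → ℂ) 1 := by
  rw [omega, classInner, mul_inv_cancel_left₀ (Nat.cast_ne_zero.mpr Nat.card_pos.ne')]
  congr 1
  refine Finset.sum_congr rfl fun g _ => ?_
  by_cases hg : IsPRegular p g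
  · rw [dualReg, regPart_of_regular hg, regPart_of_regular hg, irr_value_inv χ.2, mul_comm]
  · rw [dualReg, regPart_of_singular hg, regPart_of_singular hg, zero_mul, zero_mul]

theorem omega_dualReg_eq_zero (hM : IsPModular p M) {χ ψ : IrrCharacter G}
    (h : ¬ SameBlock M (χ : G → ℂ) (ψ : G → ℂ)) :
    omega (ψ : G → ℂ) (dualReg p (χ : G → ℂ)) = 0 := by
  have := isPrime_of_isPModular hM
  have h0 : classInner (regPart p (χ : G → ℂ)) (ψ : G → ℂ) = 0 := by
    by_contra hne
    exact h (sameBlock_of_classInner_regPart_ne_zero hM hne)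
  rw [omega_dualReg, classInner_regPart_comm, h0, mul_zero, zero_div]

variable (hM : IsPModular p M) {B : Set (IrrCharacter G)}
include hM

/-- The degree quotient by a height zero character of the block is a local integer. -/
theorem memLocalRing_degree_div (hB : IsPBlock M B) {χ ψ : IrrCharacter G} (hχ : χ ∈ B)
    (h0 : blockHeight p B (χ : G → ℂ) = 0) (hψ : ψ ∈ B) :
    MemLocalRing M ((ψ : G → ℂ) 1 / (χ : G → ℂ) 1) := by
  have := isPrime_of_isPModular hM
  obtain ⟨-, -, hall, -⟩ := blockDefect_le_and_degree hM hB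
  set c := (charDegree (χ : G → ℂ)).factorization p
  have hdvd : p ^ c ∣ charDegree (ψ : G → ℂ) :=
    (hM.1.pow_dvd_iff_le_factorization (irr_degree_eq ψ).2.ne').mpr
      (((blockHeight_eq_zero_iff hM hB hχ).mp h0).le.trans (hall ψ hψ))
  obtain ⟨q, hq⟩ := hdvd
  set e := charDegree (χ : G → ℂ) / p ^ c
  have he : charDegree (χ : G → ℂ) = p ^ c * e := (Nat.ordProj_mul_ordCompl_eq_self _ p).symm
  have hep : ¬ p ∣ e := Nat.not_dvd_ordCompl hM.1 (irr_degree_eq χ).2.ne'
  convert memLocalRing_mul (memLocalRing_natCast q) (memLocalRing_natCast_inv hM hep) using 1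
  rw [(irr_degree_eq χ).1, (irr_degree_eq ψ).1, he, hq]
  push_cast
  have hp0 : (p : ℂ) ^ c ≠ 0 := pow_ne_zero _ (Nat.cast_ne_zero.mpr hM.1.ne_zero)
  field_simp

/-- For `χ` of height zero, the central character of every member of its block is a unit on
`dualReg p χ`. -/
theorem not_memLocalIdeal_omega_dualReg (hB : IsPBlock M B) {χ ψ : IrrCharacter G} (hχ : χ ∈ B)
    (h0 : blockHeight p B (χ : G → ℂ) = 0) (hψ : ψ ∈ B) :
    ¬ MemLocalIdeal M (omega (ψ : G → ℂ) (dualReg p (χ : G → ℂ))) := by
  classical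
  have := isPrime_of_isPModular hM
  have hcls : ∀ η : IrrCharacter G, IsClassFunction G (dualReg p (η : G → ℂ)) := fun η =>
    isClassFunction_dualReg (irr_classFunction η)
  have hcongr : ∀ η ∈ B, MemLocalIdeal M (omega (η : G → ℂ) (dualReg p (χ : G → ℂ)) -
      omega (χ : G → ℂ) (dualReg p (χ : G → ℂ))) := fun η hη =>
    sub_mem_localIdeal_of_sameBlock (IsPBlock.sameBlock hB hη hχ) (hcls χ) (memLocalRing_dualReg χ)
  suffices h : ¬ MemLocalIdeal M (omega (χ : G → ℂ) (dualReg p (χ : G → ℂ))) from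
    fun h' => h ((memLocalIdeal_iff_of_sub (hcongr ψ hψ)).mp h')
  intro hmem
  apply not_memLocalIdeal_one (M := M)
  obtain ⟨u, m, hu, -, hsum⟩ := exists_blockCoeff_eq_sum hM hB
  have hexp : blockCoeff B =
      ∑ η ∈ Finset.univ.filter (· ∈ B), (u * (m η : ℂ)) • dualReg p (η : G → ℂ) := by
    funext y
    simp only [Finset.sum_apply, Pi.smul_apply, smul_eq_mul]
    by_cases hy : IsPRegular p y
    · rw [hsum y hy, sum_mem_eq_filter, Finset.mul_sum]
      refine Finset.sum_congr rfl fun η _ => ?_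
      rw [dualReg, regPart_of_regular hy, irr_value_inv η.2, mul_assoc]
    · rw [blockCoeff_eq_zero_of_not_regular hM (IsPBlock.isBlockUnion hB) hy]
      refine (Finset.sum_eq_zero fun η _ => ?_).symm
      rw [dualReg, regPart_of_singular hy, mul_zero]
  have h1 : omega (χ : G → ℂ) (blockCoeff B) = 1 := by rw [omega_blockCoeff, indVec_of_mem hχ]
  rw [← h1, hexp, omega_sum]
  refine memLocalIdeal_sum _ _ fun η hη => ?_
  have hηB : η ∈ B := (Finset.mem_filter.mp hη).2
  rw [omega_smul]
  refine memLocalIdeal_mul_left (memLocalRing_mul hu (memLocalRing_natCast _)) ?_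
  have hswap : omega (χ : G → ℂ) (dualReg p (η : G → ℂ)) =
      omega (η : G → ℂ) (dualReg p (χ : G → ℂ)) * ((η : G → ℂ) 1 / (χ : G → ℂ) 1) := by
    rw [omega_dualReg, omega_dualReg, classInner_regPart_comm]
    have := Char.irr_degree_ne_zero η.2
    field_simp
  rw [hswap]
  exact memLocalIdeal_mul_right ((memLocalIdeal_iff_of_sub (hcongr η hηB)).mpr hmem)
    (memLocalRing_degree_div hM hB hχ h0 hηB)

/-- A positive height makes the degree quotient vanish modulo the ideal. -/
theorem memLocalIdeal_degree_div_of_height_pos (hB : IsPBlock M B) {χ ψ : IrrCharacter G}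
    (hχ : χ ∈ B) (h0 : blockHeight p B (χ : G → ℂ) = 0) (hψ : ψ ∈ B)
    (hne : blockHeight p B (ψ : G → ℂ) ≠ 0) :
    MemLocalIdeal M ((ψ : G → ℂ) 1 / (χ : G → ℂ) 1) := by
  have := isPrime_of_isPModular hM
  obtain ⟨-, -, hall, -⟩ := blockDefect_le_and_degree hM hB
  set c := (charDegree (χ : G → ℂ)).factorization p with hc
  have hlt : c + 1 ≤ (charDegree (ψ : G → ℂ)).factorization p := by
    have h1 := (blockHeight_eq_zero_iff hM hB hχ).mp h0
    have h2 := mt (blockHeight_eq_zero_iff hM hB hψ).mpr hne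
    have h3 := hall ψ hψ
    omega
  obtain ⟨q, hq⟩ := (hM.1.pow_dvd_iff_le_factorization (irr_degree_eq ψ).2.ne').mpr hlt
  set e := charDegree (χ : G → ℂ) / p ^ c
  have he : charDegree (χ : G → ℂ) = p ^ c * e := (Nat.ordProj_mul_ordCompl_eq_self _ p).symm
  have hep : ¬ p ∣ e := Nat.not_dvd_ordCompl hM.1 (irr_degree_eq χ).2.ne'
  convert memLocalIdeal_mul_right (memLocalIdeal_p hM)
    (memLocalRing_mul (memLocalRing_natCast q) (memLocalRing_natCast_inv hM hep)) using 1
  rw [(irr_degree_eq χ).1, (irr_degree_eq ψ).1, he, hq]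
  push_cast
  have hp0 : (p : ℂ) ^ c ≠ 0 := pow_ne_zero _ (Nat.cast_ne_zero.mpr hM.1.ne_zero)
  field_simp
  ring

/-- The criterion for membership in the block of a height zero character. -/
theorem mem_block_iff_omega_dualReg (hB : IsPBlock M B) {χ ψ : IrrCharacter G} (hχ : χ ∈ B)
    (h0 : blockHeight p B (χ : G → ℂ) = 0) :
    ψ ∈ B ↔ ¬ MemLocalIdeal M (omega (ψ : G → ℂ) (dualReg p (χ : G → ℂ))) := by
  have := isPrime_of_isPModular hM
  refine ⟨not_memLocalIdeal_omega_dualReg hM hB hχ h0, fun h => ?_⟩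
  by_contra hψ
  apply h
  rw [omega_dualReg_eq_zero hM fun hs => hψ (IsPBlock.mem_of_sameBlock hB hχ hs)]
  exact memLocalIdeal_zero

end CfsgLib.Blocks
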