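import Cfsg.Prelude.Def_Blocks
import Cfsg.Agent.Lib.Blocks.SectionOrth
import Cfsg.Agent.Lib.Blocks.Inflate
import Cfsg.Agent.Lib.Blocks.HeightZero
import Cfsg.Agent.Lib.Blocks.Defect
import Cfsg.Agent.Lib.Char.DefectZero
import Cfsg.Agent.Lib.Char.Central

/-!
# Blocks with a defect group `P` with `G = P C(P)`
-/

set_option autoImplicit false
set_option linter.unusedSectionVars false

namespace CfsgLib.Blocks

open Cfsg
open scoped ComplexConjugate CfsgLib.Char
open CfsgLib

section

variable {G : Type*} [Group G] [Fintype G] {p : ℕ} [hp : Fact p.Prime] {P : Subgroup G}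

theorem exists_decomp (hG : P ⊔ Subgroup.centralizer (P : Set G) = ⊤) (g : G) :
    ∃ a ∈ P, ∃ c ∈ Subgroup.centralizer (P : Set G), a * c = g := by
  have h := MonoidHom.noncommCoprod_range P.subtype (Subgroup.centralizer (P : Set G)).subtype
    (fun m n => n.2 (m : G) m.2)
  rw [Subgroup.range_subtype, Subgroup.range_subtype, hG] at h
  obtain ⟨⟨a, c⟩, hac⟩ : g ∈ (MonoidHom.noncommCoprod P.subtype
      (Subgroup.centralizer (P : Set G)).subtype (fun m n => n.2 (m : G) m.2)).range := by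
    rw [h]; exact Subgroup.mem_top g
  exact ⟨a, a.2, c, c.2, hac⟩

theorem normal_of_sup (hG : P ⊔ Subgroup.centralizer (P : Set G) = ⊤) : P.Normal := by
  refine ⟨fun u hu g => ?_⟩
  obtain ⟨a, ha, c, hc, rfl⟩ := exists_decomp hG g
  have h : a * c * u * (a * c)⁻¹ = a * u * a⁻¹ := by
    rw [mul_assoc a c u, ← hc u hu]; group
  rw [h]
  exact P.mul_mem (P.mul_mem ha hu) (P.inv_mem ha)

theorem regular_centralizes (hP : IsPGroup p P) (hG : P ⊔ Subgroup.centralizer (P : Set G) = ⊤)
    {s : G} (hs : IsPRegular p s) : s ∈ Subgroup.centralizer (P : Set G) := by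
  obtain ⟨a, ha, c, hc, rfl⟩ := exists_decomp hG s
  obtain ⟨k, hk⟩ := hP ⟨a, ha⟩
  have hk' : a ^ p ^ k = 1 := congrArg Subtype.val hk
  have hac : Commute a c := hc a ha
  have hpow : (a * c) ^ p ^ k ∈ Subgroup.centralizer (P : Set G) := by
    rw [hac.mul_pow, hk', one_mul]
    exact Subgroup.pow_mem _ hc _
  have hcop : (orderOf (a * c)).Coprime (p ^ k) :=
    Nat.Coprime.pow_right _ ((hp.out.coprime_iff_not_dvd.mpr hs).symm)
  obtain ⟨m, hm⟩ := exists_pow_eq_self_of_coprime hcop.symm
  rw [← hm]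
  exact Subgroup.pow_mem _ hpow _

theorem isPPart_of_mem (hP : IsPGroup p P) (hG : P ⊔ Subgroup.centralizer (P : Set G) = ⊤)
    {v s : G} (hv : v ∈ P) (hs : IsPRegular p s) : IsPPart p (v * s) v := by
  refine isPPart_mul (regular_centralizes hP hG hs v hv) ?_ hs
  obtain ⟨k, hk⟩ := IsPGroup.iff_orderOf.mp hP ⟨v, hv⟩
  exact ⟨k, by rwa [← Subgroup.orderOf_coe] at hk⟩

theorem lift_unique (hP : IsPGroup p P) (hG : P ⊔ Subgroup.centralizer (P : Set G) = ⊤)
    {s t : G} (hs : IsPRegular p s) (ht : IsPRegular p t) (h : s⁻¹ * t ∈ P) : s = t := by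
  have hcomm : Commute (s⁻¹ * t) s := regular_centralizes hP hG hs _ h
  have h1 := isPPart_of_mem hP hG h hs
  rw [hcomm.eq, mul_inv_cancel_left] at h1
  have h2 : IsPPart p t 1 :=
    ⟨t, one_mul t, Commute.one_left t, ⟨0, by simp⟩, ht⟩
  exact inv_mul_eq_one.mp (IsPPart.unique hp.out h1 h2)

theorem pPart_mem_of_regular_image [P.Normal] {g x : G} (hx : IsPPart p g x)
    (hg : IsPRegular p (QuotientGroup.mk' P g)) : x ∈ P := by
  obtain ⟨y, rfl, hcom, ⟨k, hk⟩, hy⟩ := hx
  set π := QuotientGroup.mk' P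
  obtain ⟨j, -, hj⟩ := (Nat.dvd_prime_pow hp.out).mp (hk ▸ orderOf_map_dvd π x)
  have h1 : IsPPart p (π (x * y)) (π x) := by
    rw [map_mul]
    exact isPPart_mul (hcom.map π) ⟨j, hj⟩ fun h => hy (h.trans (orderOf_map_dvd π y))
  have h2 : IsPPart p (π (x * y)) 1 :=
    ⟨π (x * y), one_mul _, Commute.one_left _, ⟨0, by simp⟩, hg⟩
  exact (QuotientGroup.eq_one_iff x).mp (IsPPart.unique hp.out h1 h2)

theorem pPart_mul_eq {g x : G} (hx : IsPPart p g x) : IsPRegular p (x⁻¹ * g) := by
  obtain ⟨y, rfl, hcom, -, hy⟩ := hx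
  rwa [inv_mul_cancel_left]

end

/-- Two different blocks are orthogonal on a union of sections. -/
theorem sum_section_conj_eq_zero {G : Type*} [Group G] [Fintype G] {p : ℕ} {M : Ideal AlgInt}
    (hM : IsPModular p M) {B : Set (IrrCharacter G)} (hB : IsPBlock M B) (Q : G → Prop)
    [DecidablePred Q]
    (hQ : ∀ g h a b, IsPPart p g a → IsPPart p h b → IsConj a b → Q g → Q h)
    {χ ψ : IrrCharacter G} (hχ : χ ∈ B) (hψ : ψ ∉ B) :
    ∑ g with Q g, (χ : G → ℂ) g * conj ((ψ : G → ℂ) g) = 0 := by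
  classical
  set K : G → G → ℂ := fun g h =>
    ∑ φ : IrrCharacter G with φ ∈ B, (φ : G → ℂ) g * conj ((φ : G → ℂ) h)
  have hK : ∀ g h, ¬ (Q g ↔ Q h) → K g h = 0 := by
    intro g h hne
    obtain ⟨a, ha, -⟩ := exists_isPPart hM.1 g
    obtain ⟨b, hb, -⟩ := exists_isPPart hM.1 h
    exact sum_block_eq_zero_of_not_isConj hM ha hb
      (fun hab => hne ⟨hQ g h a b ha hb hab, hQ h g b a hb ha hab.symm⟩) hB
  have hexp : ∀ g, ∑ h, (χ : G → ℂ) h * K g h = (Nat.card G : ℂ) * (χ : G → ℂ) g := by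
    intro g
    simp only [K, Finset.mul_sum]
    rw [Finset.sum_comm, Finset.sum_eq_single_of_mem χ (by simp [hχ]) fun φ _ hφ => ?_]
    · have h1 := Char.classInner_coe χ χ
      rw [if_pos rfl, classInner, inv_mul_eq_one₀ (Nat.cast_ne_zero.mpr Nat.card_pos.ne')] at h1
      rw [h1, Finset.sum_mul]
      exact Finset.sum_congr rfl fun x _ => by ring
    · have h1 := Char.classInner_coe χ φ
      rw [if_neg (Ne.symm hφ), classInner, mul_eq_zero, or_iff_right (inv_ne_zero
        (Nat.cast_ne_zero.mpr Nat.card_pos.ne'))] at h1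
      rw [Finset.sum_congr rfl (g := fun x => (χ : G → ℂ) x * conj ((φ : G → ℂ) x) * (φ : G → ℂ) g)
        fun x _ => by ring, ← Finset.sum_mul, h1, zero_mul]
  refine (mul_right_inj' (Nat.cast_ne_zero.mpr (Nat.card_pos (α := G)).ne' : (Nat.card G : ℂ) ≠ 0)).mp ?_
  rw [mul_zero, Finset.mul_sum]
  calc ∑ g with Q g, (Nat.card G : ℂ) * ((χ : G → ℂ) g * conj ((ψ : G → ℂ) g))
      = ∑ g with Q g, ∑ h with Q h, (χ : G → ℂ) h * K g h * conj ((ψ : G → ℂ) g) := by
        refine Finset.sum_congr rfl fun g hg => ?_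
        rw [← mul_assoc, ← hexp g, Finset.sum_mul]
        refine (Finset.sum_subset (Finset.subset_univ _) fun h _ hh => ?_).symm
        simp only [Finset.mem_filter, Finset.mem_univ, true_and] at hg hh
        rw [hK g h fun e => hh (e.mp hg), mul_zero, zero_mul]
    _ = ∑ h with Q h, (χ : G → ℂ) h * ∑ g, K g h * conj ((ψ : G → ℂ) g) := by
        rw [Finset.sum_comm]
        refine Finset.sum_congr rfl fun h hh => ?_
        rw [Finset.mul_sum, ← Finset.sum_subset (Finset.subset_univ _) fun g _ hg => ?_]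
        · exact Finset.sum_congr rfl fun g _ => mul_assoc _ _ _
        · simp only [Finset.mem_filter, Finset.mem_univ, true_and] at hg hh
          rw [hK g h fun e => hg (e.mpr hh), zero_mul, mul_zero]
    _ = 0 := by
        refine Finset.sum_eq_zero fun h _ => ?_
        simp only [K, Finset.sum_mul]
        rw [Finset.sum_comm, Finset.sum_eq_zero, mul_zero]
        intro φ hφ
        have hne : φ ≠ ψ := fun e => hψ (e ▸ (Finset.mem_filter.mp hφ).2)
        have h1 := Char.classInner_coe φ ψ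
        rw [if_neg hne, classInner, mul_eq_zero, or_iff_right (inv_ne_zero
          (Nat.cast_ne_zero.mpr Nat.card_pos.ne'))] at h1
        rw [Finset.sum_congr rfl (g := fun x => conj ((φ : G → ℂ) h) * ((φ : G → ℂ) x * conj ((ψ : G → ℂ) x)))
          fun x _ => by ring, ← Finset.mul_sum, h1, mul_zero]



/-- The structure of a block whose defect group `P` satisfies `G = P C(P)`: the canonical
character, the values on the sections, the vanishing and the count. -/
theorem central_defect_structure {G : Type*} [Group G] [Finite G] (p : ℕ) [Fact p.Prime]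
    (M : Ideal AlgInt) (hM : IsPModular p M) (P : Subgroup G) (hP : IsPGroup p P)
    (hG : P ⊔ Subgroup.centralizer (P : Set G) = ⊤) (B : Set (IrrCharacter G)) (hB : IsPBlock M B)
    (hD : IsDefectGroup p M B P) :
    ∃ θ : IrrCharacter G, θ ∈ B ∧ (∀ x ∈ P, (θ : G → ℂ) x = (θ : G → ℂ) 1) ∧
      (∀ θ' ∈ B, (∀ x ∈ P, (θ' : G → ℂ) x = (θ' : G → ℂ) 1) → θ' = θ) ∧
      (charDegree (θ : G → ℂ)).factorization p = P.index.factorization p ∧
      (∀ χ ∈ B, ∀ v ∈ P, ∀ s : G, IsPRegular p s →
        (χ : G → ℂ) (v * s) = (χ : G → ℂ) v / (θ : G → ℂ) 1 * (θ : G → ℂ) s) ∧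
      (∀ χ ∈ B, ∀ g x : G, IsPPart p g x → x ∉ P → (χ : G → ℂ) g = 0) ∧
      Nat.card B = Nat.card (ConjClasses P) := by
  classical
  have : Fintype G := Fintype.ofFinite G
  have := normal_of_sup hG
  have : Fintype (G ⧸ P) := Fintype.ofFinite _
  have := isPrime_of_isPModular hM
  set π := QuotientGroup.mk' P with hπ
  have hπs : Function.Surjective π := QuotientGroup.mk'_surjective P
  have hπP : ∀ v ∈ P, π v = 1 := fun v hv => (QuotientGroup.eq_one_iff v).mpr hv
  have hidx : P.index = Nat.card (G ⧸ P) := Subgroup.index_eq_card P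
  obtain ⟨d, hd, hdle, hall, -⟩ := IsDefectGroup.degree_exponents hM hB hD
  have hfac : (Nat.card G).factorization p = d + P.index.factorization p := by
    rw [← P.card_mul_index, Nat.factorization_mul Nat.card_pos.ne' P.index_ne_zero_of_finite, hd,
      Finsupp.add_apply, Nat.Prime.factorization_pow (Fact.out : p.Prime), Finsupp.single_eq_same]
  set n := P.index.factorization p with hn
  -- members trivial on `P` come from defect zero characters of the quotient
  have hfacts : ∀ θ ∈ B, (∀ x ∈ P, (θ : G → ℂ) x = (θ : G → ℂ) 1) →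
      ∃ η : IrrCharacter (G ⧸ P), (∀ g, (θ : G → ℂ) g = (η : G ⧸ P → ℂ) (π g)) ∧
        (charDegree (θ : G → ℂ)).factorization p = n ∧
        ∀ q : G ⧸ P, ¬ IsPRegular p q → (η : G ⧸ P → ℂ) q = 0 := by
    intro θ hθ hθP
    obtain ⟨η, rfl⟩ := exists_inflate_eq_of_ker P θ hθP
    obtain ⟨m, hm, hm0, hmdvd⟩ := Char.exists_degree_dvd_card η.2
    set θ' : IrrCharacter G := inflate (QuotientGroup.mk' P) (QuotientGroup.mk'_surjective P) η
    have hval : ∀ g, (θ' : G → ℂ) g = (η : G ⧸ P → ℂ) (π g) := fun g => rfl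
    have hdeg : charDegree (θ' : G → ℂ) = m := by
      have h := (irr_degree_eq θ').1
      rw [hval, map_one, hm] at h
      exact_mod_cast h.symm
    have hge : n ≤ m.factorization p := by
      have := hall θ' hθ
      rw [hdeg] at this
      omega
    have hle : m.factorization p ≤ n := by
      rw [hn, hidx]
      exact (Nat.factorization_le_iff_dvd hm0.ne' Nat.card_pos.ne').mpr hmdvd p
    refine ⟨η, hval, by rw [hdeg]; omega, fun q hq => ?_⟩
    refine Char.defect_zero_vanish η.2 (n := n) hm ?_ ?_ ?_ (not_not.mp hq)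
    · rw [hn, hidx]; exact Nat.ordProj_dvd _ _
    · rw [hn, hidx]; exact Nat.pow_succ_factorization_not_dvd Nat.card_pos.ne' Fact.out
    · exact ((Fact.out : p.Prime).pow_dvd_iff_le_factorization hm0.ne').mpr hge
  have hfib : ∀ F : G ⧸ P → ℂ, ∑ g : G, F (π g) = (Nat.card P : ℂ) * ∑ q, F q := by
    intro F
    rw [← Finset.sum_fiberwise Finset.univ π, Finset.mul_sum]
    refine Finset.sum_congr rfl fun q _ => ?_
    obtain ⟨a, rfl⟩ := hπs q
    have hcard : ({x | π x = π a} : Finset G).card = Nat.card P := by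
      rw [← Fintype.card_subtype, ← Nat.card_eq_fintype_card]
      exact Nat.card_congr
        { toFun := fun x => ⟨a⁻¹ * x.1, QuotientGroup.eq.mp x.2.symm⟩
          invFun := fun x => ⟨a * x.1, by rw [map_mul, hπP _ x.2, mul_one]⟩
          left_inv := fun x => by simp
          right_inv := fun x => by simp }
    rw [Finset.sum_congr rfl (g := fun _ => F (π a)) fun x hx => by rw [(Finset.mem_filter.mp hx).2],
      Finset.sum_const, nsmul_eq_mul, hcard]
  have hregsum : ∀ F : G ⧸ P → ℂ, (∀ q, ¬ IsPRegular p q → F q = 0) →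
      ∑ s : G with IsPRegular p s, F (π s) = ∑ q, F q := by
    intro F hF
    rw [← Finset.sum_subset (s₁ := {q : G ⧸ P | IsPRegular p q}) (Finset.subset_univ _)
      fun q _ hq => hF q fun h => hq (Finset.mem_filter.mpr ⟨Finset.mem_univ _, h⟩)]
    refine Finset.sum_bij (fun s _ => π s) (fun s hs => ?_) (fun s hs t ht h => ?_) (fun q hq => ?_)
      fun s _ => rfl
    · simp only [Finset.mem_filter, Finset.mem_univ, true_and] at hs ⊢
      exact fun h => hs (h.trans (orderOf_map_dvd π s))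
    · exact lift_unique hP hG (Finset.mem_filter.mp hs).2 (Finset.mem_filter.mp ht).2
        (QuotientGroup.eq.mp h)
    · obtain ⟨g, rfl⟩ := hπs q
      obtain ⟨x, hx, -⟩ := exists_isPPart (Fact.out : p.Prime) g
      have hxP := pPart_mem_of_regular_image hx (Finset.mem_filter.mp hq).2
      refine ⟨x⁻¹ * g, Finset.mem_filter.mpr ⟨Finset.mem_univ _, pPart_mul_eq hx⟩, ?_⟩
      rw [map_mul, hπP _ (P.inv_mem hxP), one_mul]
  obtain ⟨θ, hθ, hθP⟩ := exists_mem_trivial_on_normal_pgroup hM hB P hP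
  obtain ⟨η, hθη, hθdeg, hηsing⟩ := hfacts θ hθ hθP
  have huniq : ∀ θ' ∈ B, (∀ x ∈ P, (θ' : G → ℂ) x = (θ' : G → ℂ) 1) → θ' = θ := by
    intro θ' hθ' hθ'P
    obtain ⟨η', hθη', hθdeg', hηsing'⟩ := hfacts θ' hθ' hθ'P
    by_contra hne
    have hval : ∀ ψ : IrrCharacter G, ∀ ζ : IrrCharacter (G ⧸ P),
        (∀ g, (ψ : G → ℂ) g = (ζ : G ⧸ P → ℂ) (π g)) →
        (Nat.card P : ℂ) * ((Nat.card G : ℂ) * classInner (regPart p (ψ : G → ℂ)) (θ : G → ℂ)) =
          (Nat.card G : ℂ) * classInner (ψ : G → ℂ) (θ : G → ℂ) := by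
      intro ψ ζ hψ
      have hn0 : (Nat.card G : ℂ) ≠ 0 := Nat.cast_ne_zero.mpr Nat.card_pos.ne'
      simp only [classInner, mul_inv_cancel_left₀ hn0]
      set F : G ⧸ P → ℂ := fun q => (ζ : G ⧸ P → ℂ) q * conj ((η : G ⧸ P → ℂ) q) with hFdef
      have hF : ∀ g, (ψ : G → ℂ) g * conj ((θ : G → ℂ) g) = F (π g) := fun g => by
        rw [hψ, hθη]
      rw [Finset.sum_congr rfl fun g _ => hF g, hfib,
        ← hregsum F fun q hq => by rw [hFdef]; simp only [hηsing q hq, map_zero, mul_zero]]
      congr 1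
      rw [Finset.sum_filter]
      refine Finset.sum_congr rfl fun g _ => ?_
      by_cases hg : IsPRegular p g
      · rw [if_pos hg, regPart_of_regular hg, hF]
      · rw [if_neg hg, regPart_of_singular hg, zero_mul]
    have hP0 : (Nat.card P : ℂ) ≠ 0 := Nat.cast_ne_zero.mpr Nat.card_pos.ne'
    have hcong := sub_mem_localIdeal_of_sameBlock (IsPBlock.sameBlock hB hθ hθ')
      (isClassFunction_dualReg (p := p) (irr_classFunction θ)) (memLocalRing_dualReg θ)
    have h1 : omega (θ : G → ℂ) (dualReg p (θ : G → ℂ)) =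
        (P.index : ℂ) / (charDegree (θ : G → ℂ) : ℂ) := by
      rw [omega_dualReg, (irr_degree_eq θ).1]
      congr 1
      refine mul_left_cancel₀ hP0 ((hval θ η hθη).trans ?_)
      rw [Char.classInner_coe, if_pos rfl, mul_one, ← Nat.cast_mul, P.card_mul_index]
    have h2 : omega (θ' : G → ℂ) (dualReg p (θ : G → ℂ)) = 0 := by
      rw [omega_dualReg]
      refine div_eq_zero_iff.mpr (Or.inl (mul_left_cancel₀ hP0 ((hval θ' η' hθη').trans ?_)))
      rw [Char.classInner_coe, if_neg hne, mul_zero, mul_zero]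
    rw [h1, h2, sub_zero] at hcong
    exact (unit_natCast_div hM P.index_ne_zero_of_finite (irr_degree_eq θ).2.ne'
      (by rw [hθdeg])).2 hcong
  -- the sections
  set Q : ConjClasses P → G → Prop := fun c g =>
    ∃ v : P, ConjClasses.mk v = c ∧ IsPPart p g (v : G) with hQdef
  have hQconj : ∀ c g h a b, IsPPart p g a → IsPPart p h b → IsConj a b → Q c g → Q c h := by
    rintro c g h a b ha hb hab ⟨v, hv, hgv⟩
    obtain rfl := IsPPart.unique (Fact.out : p.Prime) ha hgv
    obtain ⟨k, hk⟩ := isConj_iff.mp hab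
    obtain ⟨a', ha', c', hc', rfl⟩ := exists_decomp hG k
    have e : a' * c' * (v : G) * (a' * c')⁻¹ = a' * v * a'⁻¹ := by
      rw [mul_assoc a' c' (v : G), ← hc' v v.2]; group
    rw [e] at hk
    refine ⟨⟨a', ha'⟩ * v * ⟨a', ha'⟩⁻¹, ?_, ?_⟩
    · rw [← hv]
      exact (ConjClasses.mk_eq_mk_iff_isConj.mpr
        (isConj_iff.mpr ⟨(⟨a', ha'⟩ : P), rfl⟩)).symm
    · simpa [hk] using hb
  have hQmul : ∀ (v : P) (s : G), IsPRegular p s → ∀ c, Q c ((v : G) * s) ↔ ConjClasses.mk v = c := by
    intro v s hs c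
    have h0 := isPPart_of_mem hP hG v.2 hs
    refine ⟨fun ⟨w, hw, h⟩ => ?_, fun h => ⟨v, h, h0⟩⟩
    rw [Subtype.ext (IsPPart.unique (Fact.out : p.Prime) h0 h), hw]
  have hθmul : ∀ v ∈ P, ∀ s, (θ : G → ℂ) (v * s) = (θ : G → ℂ) s := by
    intro v hv s
    rw [hθη, hθη, map_mul, hπP v hv, one_mul]
  have hrep : ∀ (χ : IrrCharacter G) (v u : P), ConjClasses.mk v = ConjClasses.mk u →
      ∀ s, IsPRegular p s → (χ : G → ℂ) ((v : G) * s) = (χ : G → ℂ) ((u : G) * s) := by
    intro χ v u hvu s hs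
    obtain ⟨a, ha⟩ := isConj_iff.mp (ConjClasses.mk_eq_mk_iff_isConj.mp hvu)
    have hc : (a : G) * s = s * a := regular_centralizes hP hG hs a a.2
    have e : (u : G) * s = a * ((v : G) * s) * (a : G)⁻¹ := by
      rw [← ha]
      simp only [Subgroup.coe_mul, Subgroup.coe_inv]
      calc (a : G) * v * (a : G)⁻¹ * s = a * v * ((a : G)⁻¹ * (s * a)) * (a : G)⁻¹ := by group
        _ = a * ((v : G) * s) * (a : G)⁻¹ := by rw [← hc]; group
    rw [e, irr_classFunction χ]
  have hconst : ∀ χ ∈ B, ∀ c : ConjClasses P, ∃ a : ℂ, ∀ g, Q c g →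
      (χ : G → ℂ) g = a * (θ : G → ℂ) g := by
    intro χ hχ c
    obtain ⟨u, rfl⟩ := ConjClasses.exists_rep c
    set F : G ⧸ P → ℂ := fun q =>
      ∑ s : G with IsPRegular p s ∧ π s = q, (χ : G → ℂ) ((u : G) * s) with hF
    have hFval : ∀ s, IsPRegular p s → F (π s) = (χ : G → ℂ) ((u : G) * s) := fun s hs => by
      rw [hF]
      refine Finset.sum_eq_single_of_mem s (by simp [hs]) fun t ht hts => absurd ?_ hts
      simp only [Finset.mem_filter, Finset.mem_univ, true_and] at ht
      exact lift_unique hP hG ht.1 hs (QuotientGroup.eq.mp ht.2)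
    have hcls : IsClassFunction (G ⧸ P) F := by
      intro q r
      obtain ⟨k, rfl⟩ := hπs r
      obtain ⟨a', ha', c', hc', rfl⟩ := exists_decomp hG k
      rw [map_mul, hπP a' ha', one_mul]
      have ho : ∀ s : G, IsPRegular p (c' * s * c'⁻¹) ↔ IsPRegular p s := fun s => by
        rw [IsPRegular, IsPRegular, show orderOf (c' * s * c'⁻¹) = orderOf s from
          orderOf_injective (MulAut.conj c').toMonoidHom (MulAut.conj c').injective s]
      refine (Finset.sum_equiv (MulAut.conj c').toEquiv (fun s => ?_) fun s hs => ?_).symm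
      · simp only [Finset.mem_filter, Finset.mem_univ, true_and, MulEquiv.toEquiv_eq_coe,
          EquivLike.coe_coe, MulAut.conj_apply, ho, map_mul, map_inv, mul_left_inj, mul_right_inj]
      · simp only [MulEquiv.toEquiv_eq_coe, EquivLike.coe_coe, MulAut.conj_apply]
        rw [show (u : G) * (c' * s * c'⁻¹) = c' * ((u : G) * s) * c'⁻¹ by
          rw [← mul_assoc, ← mul_assoc, hc' u u.2]; group, irr_classFunction χ]
    refine ⟨classInner F (η : G ⧸ P → ℂ), ?_⟩
    have hexp : F = classInner F (η : G ⧸ P → ℂ) • (η : G ⧸ P → ℂ) := by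
      conv_lhs => rw [Char.classFunction_expansion hcls]
      refine Finset.sum_eq_single_of_mem η (Finset.mem_univ _) fun ζ _ hζ => ?_
      set ψ : IrrCharacter G := inflate π hπs ζ
      have hψB : ψ ∉ B := by
        intro h
        have he := huniq ψ h fun x hx => by
          show (ζ : G ⧸ P → ℂ) (π x) = (ζ : G ⧸ P → ℂ) (π 1)
          rw [hπP x hx, map_one]
        refine hζ (inflate_injective π hπs (he.trans (Subtype.ext (funext fun g => ?_))))
        exact hθη g
      have hz := sum_section_conj_eq_zero hM hB (Q (ConjClasses.mk u)) (hQconj _) hχ hψB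
      have hsplit : ∑ g with Q (ConjClasses.mk u) g, (χ : G → ℂ) g * conj ((ψ : G → ℂ) g) =
          ∑ x ∈ ({v : P | ConjClasses.mk v = ConjClasses.mk u} : Finset P) ×ˢ
            ({s : G | IsPRegular p s} : Finset G),
            (χ : G → ℂ) ((u : G) * x.2) * conj ((ζ : G ⧸ P → ℂ) (π x.2)) := by
        refine (Finset.sum_bij (fun x _ => (x.1 : G) * x.2) (fun x hx => ?_)
          (fun x hx y hy h => ?_) (fun g hg => ?_) fun x hx => ?_).symm
        · simp only [Finset.mem_product, Finset.mem_filter, Finset.mem_univ, true_and] at hx ⊢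
          exact (hQmul x.1 x.2 hx.2 _).mpr hx.1
        · simp only [Finset.mem_product, Finset.mem_filter, Finset.mem_univ, true_and] at hx hy
          have h1 := isPPart_of_mem hP hG x.1.2 hx.2
          rw [h] at h1
          have h2 : x.1 = y.1 := Subtype.ext (IsPPart.unique (Fact.out : p.Prime) h1
            (isPPart_of_mem hP hG y.1.2 hy.2))
          rw [h2] at h
          exact Prod.ext h2 (mul_left_cancel h)
        · simp only [Finset.mem_filter, Finset.mem_univ, true_and] at hg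
          obtain ⟨v, hv, hgv⟩ := hg
          exact ⟨(v, (v : G)⁻¹ * g), by simp [hv, pPart_mul_eq hgv], mul_inv_cancel_left _ _⟩
        · simp only [Finset.mem_product, Finset.mem_filter, Finset.mem_univ, true_and] at hx
          rw [hrep χ _ _ hx.1 _ hx.2]
          show _ = (χ : G → ℂ) _ * conj ((ζ : G ⧸ P → ℂ) (π _))
          rw [map_mul, hπP _ x.1.2, one_mul]
      rw [hsplit, Finset.sum_product] at hz
      simp only [] at hz
      rw [Finset.sum_const, nsmul_eq_mul, mul_eq_zero,
        or_iff_right (Nat.cast_ne_zero.mpr (Finset.card_pos.mpr ⟨u, by simp⟩).ne')] at hz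
      suffices h : classInner F (ζ : G ⧸ P → ℂ) = 0 by rw [h, zero_smul]
      rw [classInner]
      refine mul_eq_zero_of_right _ (Eq.trans ?_ hz)
      rw [← Finset.sum_fiberwise (Finset.univ.filter fun s : G => IsPRegular p s) π]
      refine Finset.sum_congr rfl fun q _ => ?_
      rw [hF, Finset.sum_mul, Finset.filter_filter]
      exact Finset.sum_congr rfl fun s hs => by rw [(Finset.mem_filter.mp hs).2.2]
    rintro g ⟨v, hv, hgv⟩
    have hs := pPart_mul_eq hgv
    set s := (v : G)⁻¹ * g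
    rw [show g = (v : G) * s from (mul_inv_cancel_left _ _).symm, hrep χ v u hv s hs, hθmul _ v.2,
      ← hFval s hs, hθη s]
    exact congrFun hexp (π s)
  have hvanish : ∀ χ ∈ B, ∀ g x : G, IsPPart p g x → x ∉ P → (χ : G → ℂ) g = 0 := by
    intro χ hχ g x hx hxP
    refine value_eq_zero_of_not_mem_defectGroup hM hx fun D hD' hxD => hxP ?_
    have hBeq : blockOf M (χ : G → ℂ) = B := by
      ext ψ
      exact ⟨IsPBlock.mem_of_sameBlock hB hχ, IsPBlock.sameBlock hB hχ⟩
    rw [hBeq] at hD'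
    obtain ⟨k, rfl⟩ := IsDefectGroup.exists_conj_eq hM hB hD hD'
    obtain ⟨y, hy, rfl⟩ := hxD
    exact Subgroup.Normal.conj_mem ‹P.Normal› y hy k
  have hvalue : ∀ χ ∈ B, ∀ v ∈ P, ∀ s : G, IsPRegular p s →
      (χ : G → ℂ) (v * s) = (χ : G → ℂ) v / (θ : G → ℂ) 1 * (θ : G → ℂ) s := by
    intro χ hχ v hv s hs
    obtain ⟨a, ha⟩ := hconst χ hχ (ConjClasses.mk ⟨v, hv⟩)
    have h1 : IsPRegular p (1 : G) := by
      rw [IsPRegular, orderOf_one, Nat.dvd_one]; exact (Fact.out : p.Prime).ne_one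
    have hu := ha (v * 1) ((hQmul ⟨v, hv⟩ 1 h1 _).mpr rfl)
    rw [mul_one, ← mul_one v, hθmul v hv, mul_one] at hu
    rw [ha _ ((hQmul ⟨v, hv⟩ s hs _).mpr rfl), hθmul v hv, hu,
      mul_div_cancel_right₀ _ (Char.irr_degree_ne_zero θ.2)]
  refine ⟨θ, hθ, hθP, huniq, hθdeg, hvalue, hvanish, ?_⟩
  set e : ConjClasses P → G → ℂ := fun c g => if Q c g then (θ : G → ℂ) g else 0 with he
  have hrepQ : ∀ v : P, ∀ c, Q c (v : G) ↔ ConjClasses.mk v = c := by
    intro v c
    have h := hQmul v 1 (by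
      rw [IsPRegular, orderOf_one, Nat.dvd_one]; exact (Fact.out : p.Prime).ne_one) c
    rwa [mul_one] at h
  have : Fintype (ConjClasses P) := Fintype.ofFinite _
  have : Fintype B := Fintype.ofFinite B
  set b : B → G → ℂ := fun χ => ((χ : IrrCharacter G) : G → ℂ)
  have hbli : LinearIndependent ℂ b :=
    Char.linearIndependent_irr.comp (fun χ : B => (χ : IrrCharacter G)) Subtype.val_injective
  have heli : LinearIndependent ℂ e := by
    rw [Fintype.linearIndependent_iff]
    intro a ha c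
    obtain ⟨v, rfl⟩ := ConjClasses.exists_rep c
    have h := congrFun ha (v : G)
    rw [Finset.sum_apply, Finset.sum_eq_single_of_mem (ConjClasses.mk v) (Finset.mem_univ _)
      fun d _ hd => by
        rw [Pi.smul_apply, he]
        show _ • (if Q d (v : G) then _ else _) = _
        rw [if_neg fun h => hd ((hrepQ v d).mp h).symm, smul_zero], Pi.smul_apply, he] at h
    simp only [(hrepQ v _).mpr rfl, if_true, smul_eq_mul, Pi.zero_apply] at h
    rw [hθP _ v.2] at h
    exact (mul_eq_zero.mp h).resolve_right (Char.irr_degree_ne_zero θ.2)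
  have hspan : Submodule.span ℂ (Set.range b) = Submodule.span ℂ (Set.range e) := by
    apply le_antisymm <;> rw [Submodule.span_le]
    · rintro _ ⟨⟨χ, hχ⟩, rfl⟩
      choose a ha using hconst χ hχ
      have : b ⟨χ, hχ⟩ = ∑ c, a c • e c := by
        funext g
        obtain ⟨x, hx, -⟩ := exists_isPPart (Fact.out : p.Prime) g
        simp only [Finset.sum_apply, Pi.smul_apply, smul_eq_mul, he, mul_ite, mul_zero, b]
        by_cases hxP : x ∈ P
        · have hq : Q (ConjClasses.mk ⟨x, hxP⟩) g := ⟨⟨x, hxP⟩, rfl, hx⟩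
          rw [Finset.sum_eq_single_of_mem (ConjClasses.mk ⟨x, hxP⟩) (Finset.mem_univ _) fun d _ hd => ?_,
            if_pos hq]
          · exact ha _ g hq
          · refine if_neg fun ⟨w, hw, hgw⟩ => hd ?_
            rw [← hw]
            exact congrArg ConjClasses.mk (Subtype.ext (IsPPart.unique (Fact.out : p.Prime) hgw hx))
        · rw [Finset.sum_eq_zero fun d _ => ?_]
          · refine value_eq_zero_of_not_mem_defectGroup hM hx fun D hD' hxD => hxP ?_
            have hBeq : blockOf M (χ : G → ℂ) = B := by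
              ext ψ
              exact ⟨IsPBlock.mem_of_sameBlock hB hχ, IsPBlock.sameBlock hB hχ⟩
            rw [hBeq] at hD'
            obtain ⟨k, rfl⟩ := IsDefectGroup.exists_conj_eq hM hB hD hD'
            obtain ⟨y, hy, rfl⟩ := hxD
            exact Subgroup.Normal.conj_mem ‹P.Normal› y hy k
          · refine if_neg fun ⟨w, _, hgw⟩ => hxP ?_
            rw [← IsPPart.unique (Fact.out : p.Prime) hgw hx]
            exact w.2
      rw [this]
      exact Submodule.sum_mem _ fun c _ => Submodule.smul_mem _ _ (Submodule.subset_span ⟨c, rfl⟩)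
    · rintro _ ⟨c, rfl⟩
      have hcl : IsClassFunction G (e c) := by
        intro g h
        obtain ⟨x, hx, -⟩ := exists_isPPart (Fact.out : p.Prime) g
        have hx' := IsPPart.conj hx h
        have hxc : IsConj x (h * x * h⁻¹) := isConj_iff.mpr ⟨h, rfl⟩
        exact if_congr ⟨hQconj c _ _ _ _ hx' hx hxc.symm, hQconj c _ _ _ _ hx hx' hxc⟩
          (irr_classFunction θ g h) rfl
      rw [Char.classFunction_expansion hcl]
      refine Submodule.sum_mem _ fun ψ _ => ?_
      by_cases hψ : ψ ∈ B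
      · exact Submodule.smul_mem _ _ (Submodule.subset_span ⟨⟨ψ, hψ⟩, rfl⟩)
      · have h := sum_section_conj_eq_zero hM hB (Q c) (hQconj c) hθ hψ
        suffices h0 : classInner (e c) (ψ : G → ℂ) = 0 by rw [h0, zero_smul]; exact Submodule.zero_mem _
        rw [classInner]
        refine mul_eq_zero_of_right _ (Eq.trans ?_ h)
        rw [Finset.sum_filter]
        exact Finset.sum_congr rfl fun g _ => by rw [he]; simp only [ite_mul, zero_mul]
  rw [Nat.card_eq_fintype_card, Nat.card_eq_fintype_card, ← finrank_span_eq_card hbli,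
    ← finrank_span_eq_card heli, hspan]

end CfsgLib.Blocks
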