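import Mathlib

/-!
# Alternating sums over chains of `p`-subgroups fixed by a `p`-element

Two pairings: one cancels every chain that is not normal in its largest member, the other every
chain of `p`-subgroups normalized by a fixed `p`-element.
-/

set_option autoImplicit false
set_option linter.unusedSectionVars false

namespace CfsgLib.Blocks.ChainSum

open scoped Classical

variable {G : Type*} [Group G] [Finite G] {p : ℕ}

/-- A chain of nontrivial `p`-subgroups. -/
def IsPChain (p : ℕ) (s : Finset (Subgroup G)) : Prop :=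
  (∀ Q ∈ s, ∀ R ∈ s, Q ≤ R ∨ R ≤ Q) ∧ ∀ Q ∈ s, Q ≠ ⊥ ∧ IsPGroup p Q

/-- A member not normalizing a smaller one. -/
def IsBad (s : Finset (Subgroup G)) (Q : Subgroup G) : Prop :=
  ∃ Q' ∈ s, Q' < Q ∧ ¬ Q ≤ Subgroup.normalizer (Q' : Set G)

/-- The common normalizer of the members. -/
abbrev stab (s : Finset (Subgroup G)) : Subgroup G := ⨅ Q ∈ s, Subgroup.normalizer (Q : Set G)

theorem mem_stab {s : Finset (Subgroup G)} {g : G} :
    g ∈ stab s ↔ ∀ Q ∈ s, g ∈ Subgroup.normalizer (Q : Set G) := by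
  simp [stab, Subgroup.mem_iInf]

theorem sup_mem {s : Finset (Subgroup G)} (hs : ∀ Q ∈ s, ∀ R ∈ s, Q ≤ R ∨ R ≤ Q)
    (hne : s.Nonempty) : s.sup id ∈ s := by
  obtain ⟨Q, hQ, hmax⟩ := s.exists_maximal hne
  have : s.sup id = Q := le_antisymm (Finset.sup_le fun R hR => (hs R hR Q hQ).elim id fun h => hmax hR h)
    (Finset.le_sup (f := id) hQ)
  rwa [this]

theorem inf_mem {s : Finset (Subgroup G)} (hs : ∀ Q ∈ s, ∀ R ∈ s, Q ≤ R ∨ R ≤ Q)
    (hne : s.Nonempty) : s.inf id ∈ s := by
  obtain ⟨Q, hQ, hmin⟩ := s.exists_minimal hne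
  have : s.inf id = Q := le_antisymm (Finset.inf_le (f := id) hQ)
    (Finset.le_inf fun R hR => (hs Q hQ R hR).elim id fun h => hmin hR h)
  rwa [this]

/-- Insert an absent subgroup, delete a present one. -/
noncomputable def toggle (R : Subgroup G) (s : Finset (Subgroup G)) : Finset (Subgroup G) :=
  if R ∈ s then s.erase R else insert R s

theorem mem_toggle {R : Subgroup G} {s : Finset (Subgroup G)} {Q : Subgroup G} :
    Q ∈ toggle R s ↔ if Q = R then R ∉ s else Q ∈ s := by
  unfold toggle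
  by_cases h : R ∈ s <;> by_cases h' : Q = R <;> simp [h, h']

theorem toggle_toggle (R : Subgroup G) (s : Finset (Subgroup G)) : toggle R (toggle R s) = s := by
  ext Q
  simp only [mem_toggle]
  by_cases h : Q = R
  · subst h; simp
  · simp [h]

theorem toggle_ne (R : Subgroup G) (s : Finset (Subgroup G)) : toggle R s ≠ s := fun h => by
  have := @mem_toggle _ _ _ R s R
  rw [h, if_pos rfl] at this
  exact iff_not_self this

theorem pow_card_toggle (R : Subgroup G) (s : Finset (Subgroup G)) :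
    (-1 : ℤ) ^ (toggle R s).card = -((-1 : ℤ) ^ s.card) := by
  unfold toggle
  by_cases h : R ∈ s
  · rw [if_pos h, ← Finset.card_erase_add_one h, pow_succ]
    ring
  · rw [if_neg h, Finset.card_insert_of_notMem h, pow_succ]
    ring

theorem exists_mem_of_mem_toggle {R : Subgroup G} {s : Finset (Subgroup G)} {Q : Subgroup G}
    (h : Q ∈ toggle R s) : Q = R ∨ Q ∈ s := by
  rw [mem_toggle] at h
  by_cases h' : Q = R
  · exact Or.inl h'
  · rw [if_neg h'] at h; exact Or.inr h

theorem mem_toggle_of_ne {R : Subgroup G} {s : Finset (Subgroup G)} {Q : Subgroup G} (h : Q ≠ R) :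
    Q ∈ toggle R s ↔ Q ∈ s := by rw [mem_toggle, if_neg h]

/-- A subgroup normalized by the elements of `C` normalizing the other members does not change the
part of the common normalizer in `C`. -/
theorem stab_toggle {R : Subgroup G} {s : Finset (Subgroup G)} {C : Subgroup G}
    (h : ∀ g ∈ C, (∀ Q ∈ s, Q ≠ R → g ∈ Subgroup.normalizer (Q : Set G)) →
      g ∈ Subgroup.normalizer (R : Set G)) :
    C ⊓ stab (toggle R s) = C ⊓ stab s := by
  ext g
  simp only [Subgroup.mem_inf, mem_stab]
  refine and_congr_right fun hgC => ⟨fun hg Q hQ => ?_, fun hg Q hQ => ?_⟩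
  · by_cases hQR : Q = R
    · subst hQR
      exact h g hgC fun Q' hQ' hne => hg Q' ((mem_toggle_of_ne hne).mpr hQ')
    · exact hg Q ((mem_toggle_of_ne hQR).mpr hQ)
  · by_cases hQR : Q = R
    · subst hQR
      exact h g hgC fun Q' hQ' _ => hg Q' hQ'
    · exact hg Q ((mem_toggle_of_ne hQR).mp hQ)

/-- Proper subgroups of `p`-groups grow in normalizers. -/
theorem le_of_inf_normalizer_le [Fact p.Prime] {U R : Subgroup G} (hU : IsPGroup p U) (hRU : R ≤ U)
    (h : U ⊓ Subgroup.normalizer (R : Set G) ≤ R) : U ≤ R := by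
  by_contra hne
  have : Group.IsNilpotent U := hU.isNilpotent
  have hlt : R.subgroupOf U < ⊤ := by
    rw [lt_top_iff_ne_top, Ne, Subgroup.subgroupOf_eq_top]
    exact hne
  have h2 := Group.normalizerCondition_of_isNilpotent (R.subgroupOf U) hlt
  rw [← Subgroup.subgroupOf_normalizer_eq hRU] at h2
  refine h2.not_ge fun x hx => ?_
  exact h ⟨x.2, hx⟩

/-- The least bad member. -/
noncomputable def leastBad (s : Finset (Subgroup G)) : Subgroup G :=
  (s.filter (IsBad s)).inf id

/-- The inserted or deleted member for a chain with bad members. -/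
noncomputable def pivot (s : Finset (Subgroup G)) : Subgroup G :=
  leastBad s ⊓ stab (s.filter (· < leastBad s))

section Normal

variable [Fact p.Prime] {s : Finset (Subgroup G)}

theorem mem_pivot {g : G} : g ∈ pivot s ↔
    g ∈ leastBad s ∧ ∀ Q ∈ s, Q < leastBad s → g ∈ Subgroup.normalizer (Q : Set G) := by
  simp [pivot, mem_stab]

theorem leastBad_mem (hs : IsPChain p s) (hb : ∃ Q ∈ s, IsBad s Q) :
    leastBad s ∈ s ∧ IsBad s (leastBad s) := by
  have h := inf_mem (s := s.filter (IsBad s))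
    (fun Q hQ R hR => hs.1 Q (Finset.mem_filter.mp hQ).1 R (Finset.mem_filter.mp hR).1)
    (by obtain ⟨Q, hQ, hQb⟩ := hb; exact ⟨Q, Finset.mem_filter.mpr ⟨hQ, hQb⟩⟩)
  exact Finset.mem_filter.mp h

theorem le_normalizer_of_lt_leastBad {Q Q' : Subgroup G} (hQ : Q ∈ s) (hQ' : Q' ∈ s)
    (hQU : Q < leastBad s) (hle : Q' ≤ Q) : Q ≤ Subgroup.normalizer (Q' : Set G) := by
  rcases eq_or_lt_of_le hle with rfl | hlt
  · exact Subgroup.le_normalizer
  · by_contra hn
    have : leastBad s ≤ Q :=
      Finset.inf_le (f := id) (Finset.mem_filter.mpr ⟨hQ, Q', hQ', hlt, hn⟩)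
    exact this.not_gt hQU

theorem lower_le_pivot (hs : IsPChain p s) {Q : Subgroup G} (hQ : Q ∈ s) (hQU : Q < leastBad s) :
    Q ≤ pivot s := by
  intro g hg
  rw [mem_pivot]
  refine ⟨hQU.le hg, fun Q' hQ' hQ'U => ?_⟩
  rcases hs.1 Q hQ Q' hQ' with h | h
  · exact Subgroup.le_normalizer (h hg)
  · exact le_normalizer_of_lt_leastBad hQ hQ' hQU h hg

theorem pivot_lt (hs : IsPChain p s) (hb : ∃ Q ∈ s, IsBad s Q) : pivot s < leastBad s := by
  refine lt_of_le_of_ne inf_le_left fun heq => ?_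
  obtain ⟨-, Q', hQ', hlt, hn⟩ := leastBad_mem hs hb
  refine hn fun g hg => ?_
  rw [← heq] at hg
  exact (mem_pivot.mp hg).2 Q' hQ' hlt

theorem pivot_ne_bot (hs : IsPChain p s) (hb : ∃ Q ∈ s, IsBad s Q) : pivot s ≠ ⊥ := by
  obtain ⟨-, Q', hQ', hlt, -⟩ := leastBad_mem hs hb
  exact fun h => (hs.2 Q' hQ').1 (le_bot_iff.mp (h ▸ lower_le_pivot hs hQ' hlt))

theorem pivot_comparable (hs : IsPChain p s) (hb : ∃ Q ∈ s, IsBad s Q) {Q : Subgroup G} (hQ : Q ∈ s) :
    pivot s ≤ Q ∨ Q ≤ pivot s := by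
  obtain ⟨hU, -⟩ := leastBad_mem hs hb
  rcases hs.1 (leastBad s) hU Q hQ with h | h
  · exact Or.inl ((pivot_lt hs hb).le.trans h)
  · rcases eq_or_lt_of_le h with rfl | h'
    · exact Or.inl (pivot_lt hs hb).le
    · exact Or.inr (lower_le_pivot hs hQ h')

theorem isPChain_toggle (hs : IsPChain p s) (hb : ∃ Q ∈ s, IsBad s Q) :
    IsPChain p (toggle (pivot s) s) := by
  refine ⟨fun Q hQ R hR => ?_, fun Q hQ => ?_⟩
  · rcases exists_mem_of_mem_toggle hQ with rfl | hQs <;>
      rcases exists_mem_of_mem_toggle hR with rfl | hRs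
    · exact Or.inl le_rfl
    · exact pivot_comparable hs hb hRs
    · exact (pivot_comparable hs hb hQs).symm
    · exact hs.1 Q hQs R hRs
  · rcases exists_mem_of_mem_toggle hQ with rfl | hQs
    · exact ⟨pivot_ne_bot hs hb, (hs.2 _ (leastBad_mem hs hb).1).2.to_le (pivot_lt hs hb).le⟩
    · exact hs.2 Q hQs

theorem leastBad_mem_toggle (hs : IsPChain p s) (hb : ∃ Q ∈ s, IsBad s Q) :
    leastBad s ∈ toggle (pivot s) s ∧ IsBad (toggle (pivot s) s) (leastBad s) := by
  obtain ⟨hU, Q', hQ', hlt, hn⟩ := leastBad_mem hs hb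
  refine ⟨(mem_toggle_of_ne (pivot_lt hs hb).ne').mpr hU, ?_⟩
  by_contra hgood
  have hno : ∀ Q ∈ s, Q < leastBad s → Q ≠ pivot s →
      leastBad s ≤ Subgroup.normalizer (Q : Set G) := by
    intro Q hQ hQU hne
    by_contra hn'
    exact hgood ⟨Q, (mem_toggle_of_ne hne).mpr hQ, hQU, hn'⟩
  have hcl : leastBad s ⊓ Subgroup.normalizer (pivot s : Set G) ≤ pivot s := by
    intro g hg
    rw [mem_pivot]
    refine ⟨hg.1, fun Q hQ hQU => ?_⟩
    by_cases hne : Q = pivot s
    · rw [hne]; exact hg.2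
    · exact hno Q hQ hQU hne hg.1
  exact (pivot_lt hs hb).not_ge
    (le_of_inf_normalizer_le (hs.2 _ hU).2 (pivot_lt hs hb).le hcl)

theorem leastBad_toggle (hs : IsPChain p s) (hb : ∃ Q ∈ s, IsBad s Q) :
    leastBad (toggle (pivot s) s) = leastBad s := by
  obtain ⟨hU, hUb⟩ := leastBad_mem_toggle hs hb
  refine le_antisymm (Finset.inf_le (f := id) (Finset.mem_filter.mpr ⟨hU, hUb⟩))
    (Finset.le_inf fun Q hQ => ?_)
  obtain ⟨hQt, Q', hQ't, hlt, hn⟩ := Finset.mem_filter.mp hQ
  have hs' := isPChain_toggle hs hb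
  rcases hs'.1 _ hU Q hQt with h | h
  · exact h
  rcases eq_or_lt_of_le h with rfl | hQU
  · exact le_rfl
  exfalso
  apply hn
  intro g hg
  have hQ'U : Q' < leastBad s := hlt.trans hQU
  rcases exists_mem_of_mem_toggle hQ't with rfl | hQ's
  · rcases exists_mem_of_mem_toggle hQt with rfl | hQs
    · exact absurd hlt (lt_irrefl _)
    · exact absurd (lower_le_pivot hs hQs hQU) hlt.not_ge
  · rcases exists_mem_of_mem_toggle hQt with rfl | hQs
    · exact (mem_pivot.mp hg).2 Q' hQ's hQ'U
    · exact le_normalizer_of_lt_leastBad hQs hQ's hQU hlt.le hg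

theorem pivot_toggle (hs : IsPChain p s) (hb : ∃ Q ∈ s, IsBad s Q) :
    pivot (toggle (pivot s) s) = pivot s := by
  have hl := leastBad_toggle hs hb
  apply le_antisymm
  · have hR : pivot s ≤ pivot (toggle (pivot s) s) := by
      intro g hg
      rw [mem_pivot, hl]
      refine ⟨(mem_pivot.mp hg).1, fun Q hQ hQU => ?_⟩
      rcases exists_mem_of_mem_toggle hQ with rfl | hQs
      · exact Subgroup.le_normalizer hg
      · exact (mem_pivot.mp hg).2 Q hQs hQU
    refine le_of_inf_normalizer_le ((hs.2 _ (leastBad_mem hs hb).1).2.to_le (by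
      intro g hg; rw [mem_pivot, hl] at hg; exact hg.1)) hR fun g hg => ?_
    obtain ⟨h1, h2⟩ := mem_pivot.mp hg.1
    rw [hl] at h1 h2
    rw [mem_pivot]
    refine ⟨h1, fun Q hQ hQU => ?_⟩
    by_cases hne : Q = pivot s
    · rw [hne]; exact hg.2
    · exact h2 Q ((mem_toggle_of_ne hne).mpr hQ) hQU
  · intro g hg
    rw [mem_pivot, hl]
    refine ⟨(mem_pivot.mp hg).1, fun Q hQ hQU => ?_⟩
    rcases exists_mem_of_mem_toggle hQ with rfl | hQs
    · exact Subgroup.le_normalizer hg
    · exact (mem_pivot.mp hg).2 Q hQs hQU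

/-- Elements normalizing all other members normalize the pivot. -/
theorem normalizes_pivot (hs : IsPChain p s) (hb : ∃ Q ∈ s, IsBad s Q) {g : G}
    (hg : ∀ Q ∈ s, Q ≠ pivot s → g ∈ Subgroup.normalizer (Q : Set G)) :
    g ∈ Subgroup.normalizer (pivot s : Set G) := by
  have key : ∀ Q ∈ toggle (pivot s) s, Q ≠ pivot s → g ∈ Subgroup.normalizer (Q : Set G) :=
    fun Q hQ hne => hg Q ((mem_toggle_of_ne hne).mp hQ) hne
  -- the pivot is described by the members of either chain avoiding it
  have hU : g ∈ Subgroup.normalizer (leastBad s : Set G) :=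
    hg _ (leastBad_mem hs hb).1 (pivot_lt hs hb).ne'
  have hmap : ∀ {Q : Subgroup G}, g ∈ Subgroup.normalizer (Q : Set G) →
      ∀ y : G, y ∈ Subgroup.normalizer (Q : Set G) ↔ g * y * g⁻¹ ∈ Subgroup.normalizer (Q : Set G) :=
    fun hQ y => ⟨fun hy => Subgroup.mul_mem _ (Subgroup.mul_mem _ hQ hy) (Subgroup.inv_mem _ hQ),
      fun hy => by
        have := Subgroup.mul_mem _ (Subgroup.mul_mem _ (Subgroup.inv_mem _ hQ) hy) hQ
        simpa [mul_assoc] using this⟩
  by_cases hR : pivot s ∈ s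
  · -- use the chain without the pivot
    have he : pivot s = leastBad s ⊓ stab ((toggle (pivot s) s).filter (· < leastBad s)) := by
      conv_lhs => rw [← pivot_toggle hs hb]
      rw [pivot, leastBad_toggle hs hb]
    rw [Subgroup.mem_normalizer_iff]
    intro y
    rw [he]
    simp only [Subgroup.mem_inf, mem_stab, Finset.mem_filter, and_imp]
    refine and_congr (Subgroup.mem_normalizer_iff.mp hU y)
      (forall_congr' fun Q => forall_congr' fun hQ => forall_congr' fun _ => hmap (key Q hQ ?_) y)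
    intro hQR
    rw [mem_toggle, if_pos hQR] at hQ
    exact hQ hR
  · rw [Subgroup.mem_normalizer_iff]
    intro y
    simp only [mem_pivot]
    exact and_congr (Subgroup.mem_normalizer_iff.mp hU y)
      (forall_congr' fun Q => forall_congr' fun hQ => forall_congr' fun _ =>
        hmap (hg Q hQ fun h => hR (h ▸ hQ)) y)

end Normal

section Fixed

variable [Fact p.Prime] {x : G} (hxp : ∃ k : ℕ, orderOf x = p ^ k) {s : Finset (Subgroup G)}

/-- The toggled member for a chain fixed by `x`. -/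
noncomputable def step (x : G) (s : Finset (Subgroup G)) : Subgroup G :=
  (s.filter (fun Q => x ∉ Q)).sup id ⊔ Subgroup.zpowers x

theorem mem_step : x ∈ step x s := Subgroup.mem_sup_right (Subgroup.mem_zpowers x)

theorem lower_cases (hs : IsPChain p s) :
    (s.filter (fun Q => x ∉ Q)).sup id = ⊥ ∨
      ((s.filter (fun Q => x ∉ Q)).sup id ∈ s ∧ x ∉ (s.filter (fun Q => x ∉ Q)).sup id) := by
  rcases (s.filter (fun Q => x ∉ Q)).eq_empty_or_nonempty with h | h
  · exact Or.inl (by rw [h, Finset.sup_empty])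
  · refine Or.inr (Finset.mem_filter.mp (sup_mem (fun Q hQ R hR => hs.1 Q (Finset.mem_filter.mp hQ).1 R
      (Finset.mem_filter.mp hR).1) h))

theorem step_comparable (hs : IsPChain p s) {Q : Subgroup G} (hQ : Q ∈ s) :
    step x s ≤ Q ∨ Q ≤ step x s := by
  by_cases hx : x ∈ Q
  · refine Or.inl (sup_le (Finset.sup_le fun R hR => ?_) (Subgroup.zpowers_le.mpr hx))
    obtain ⟨hR, hxR⟩ := Finset.mem_filter.mp hR
    exact (hs.1 R hR Q hQ).resolve_right fun h => hxR (h hx)
  · exact Or.inr ((Finset.le_sup (f := id) (Finset.mem_filter.mpr ⟨hQ, hx⟩)).trans le_sup_left)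

theorem normalizes_step (hs : IsPChain p s) {g : G}
    (hg : ∀ Q ∈ s, Q ≠ step x s → g ∈ Subgroup.normalizer (Q : Set G))
    (hgx : g * x = x * g) : g ∈ Subgroup.normalizer (step x s : Set G) := by
  have hL : g ∈ Subgroup.normalizer ((s.filter (fun Q => x ∉ Q)).sup id : Subgroup G) := by
    rcases lower_cases (x := x) hs with h | ⟨h, hxn⟩
    · rw [h, Subgroup.normalizer_eq_top]
      exact Subgroup.mem_top g
    · exact hg _ h fun he => hxn (he ▸ mem_step)
  refine Subgroup.normalizer_inf_normalizer_le_normalizer_sup _ _ ⟨hL, ?_⟩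
  refine Subgroup.centralizer_le_normalizer _ ?_
  rw [Subgroup.mem_centralizer_iff]
  intro h hh
  obtain ⟨j, rfl⟩ := Subgroup.mem_zpowers_iff.mp hh
  exact ((show Commute g x from hgx).zpow_right j).symm.eq

include hxp in
theorem isPChain_step (hs : IsPChain p s) (hfix : x ∈ stab s) (hx1 : x ≠ 1) :
    IsPChain p (toggle (step x s) s) := by
  obtain ⟨k, hk⟩ := hxp
  have hZ : IsPGroup p (Subgroup.zpowers x) :=
    IsPGroup.of_card (n := k) (by rw [Nat.card_zpowers]; exact hk)
  have hX : IsPGroup p (step x s) := by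
    rcases lower_cases (x := x) hs with h | ⟨h, -⟩
    · rw [step, h, bot_sup_eq]; exact hZ
    · exact (hs.2 _ h).2.to_sup_of_normal_left' hZ
        (Subgroup.zpowers_le.mpr (mem_stab.mp hfix _ h))
  refine ⟨fun Q hQ R hR => ?_, fun Q hQ => ?_⟩
  · rcases exists_mem_of_mem_toggle hQ with rfl | hQs <;>
      rcases exists_mem_of_mem_toggle hR with rfl | hRs
    · exact Or.inl le_rfl
    · exact step_comparable hs hRs
    · exact (step_comparable hs hQs).symm
    · exact hs.1 Q hQs R hRs
  · rcases exists_mem_of_mem_toggle hQ with rfl | hQs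
    · exact ⟨fun h => hx1 (Subgroup.mem_bot.mp (h ▸ mem_step (x := x) (s := s))), hX⟩
    · exact hs.2 Q hQs

theorem step_toggle : step x (toggle (step x s) s) = step x s := by
  have : (toggle (step x s) s).filter (fun Q => x ∉ Q) = s.filter (fun Q => x ∉ Q) := by
    ext Q
    simp only [Finset.mem_filter]
    refine and_congr_left fun hxQ => mem_toggle_of_ne ?_
    rintro rfl
    exact hxQ mem_step
  rw [step, this]
  rfl

end Fixed

/-- Alternating sums over the normal chains fixed by a nontrivial `p`-element. -/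
theorem normal_chain_sum [Fact p.Prime] {x : G} (hxp : ∃ k : ℕ, orderOf x = p ^ k) (hx1 : x ≠ 1)
    (f : Subgroup G → ℤ) (S : Finset (Finset (Subgroup G)))
    (hS : ∀ s, s ∈ S ↔ s.Nonempty ∧ IsPChain p s ∧ (∀ Q ∈ s, ¬ IsBad s Q) ∧ x ∈ stab s) :
    ∑ s ∈ S, (-1 : ℤ) ^ (s.card - 1) * f (Subgroup.centralizer {x} ⊓ stab s) =
      f (Subgroup.centralizer {x}) := by
  have : Fintype (Subgroup G) := Fintype.ofFinite _
  set T : Finset (Finset (Subgroup G)) :=
    Finset.univ.filter fun s => IsPChain p s ∧ x ∈ stab s with hT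
  set F : Finset (Subgroup G) → ℤ := fun s =>
    (-1 : ℤ) ^ s.card * f (Subgroup.centralizer {x} ⊓ stab s) with hF
  have hmemT : ∀ s, s ∈ T ↔ IsPChain p s ∧ x ∈ stab s := fun s => by simp [hT]
  have hall : ∑ s ∈ T, F s = 0 := by
    refine Finset.sum_involution (fun s _ => toggle (step x s) s) (fun s hs => ?_)
      (fun s _ _ => toggle_ne _ _) (fun s hs => ?_) fun s hs => ?_
    · obtain ⟨hc, hfix⟩ := (hmemT s).mp hs
      simp only [hF, pow_card_toggle]
      rw [stab_toggle fun g hgC hg =>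
        normalizes_step hc hg (Subgroup.mem_centralizer_singleton_iff.mp hgC)]
      ring
    · obtain ⟨hc, hfix⟩ := (hmemT s).mp hs
      refine (hmemT _).mpr ⟨isPChain_step hxp hc hfix hx1, mem_stab.mpr fun Q hQ => ?_⟩
      rcases exists_mem_of_mem_toggle hQ with rfl | hQs
      · exact normalizes_step hc (fun Q' hQ' _ => mem_stab.mp hfix Q' hQ') rfl
      · exact mem_stab.mp hfix Q hQs
    · show toggle (step x (toggle (step x s) s)) (toggle (step x s) s) = s
      rw [step_toggle, toggle_toggle]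
  have hbad : ∑ s ∈ T.filter (fun s => ∃ Q ∈ s, IsBad s Q), F s = 0 := by
    refine Finset.sum_involution (fun s _ => toggle (pivot s) s) (fun s hs => ?_)
      (fun s _ _ => toggle_ne _ _) (fun s hs => ?_) fun s hs => ?_
    · obtain ⟨hsT, hb⟩ := Finset.mem_filter.mp hs
      obtain ⟨hc, hfix⟩ := (hmemT s).mp hsT
      simp only [hF, pow_card_toggle]
      rw [stab_toggle fun g _ hg => normalizes_pivot hc hb hg]
      ring
    · obtain ⟨hsT, hb⟩ := Finset.mem_filter.mp hs
      obtain ⟨hc, hfix⟩ := (hmemT s).mp hsT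
      refine Finset.mem_filter.mpr ⟨(hmemT _).mpr ⟨isPChain_toggle hc hb, mem_stab.mpr fun Q hQ => ?_⟩,
        _, leastBad_mem_toggle hc hb⟩
      rcases exists_mem_of_mem_toggle hQ with rfl | hQs
      · exact normalizes_pivot hc hb fun Q' hQ' _ => mem_stab.mp hfix Q' hQ'
      · exact mem_stab.mp hfix Q hQs
    · obtain ⟨hsT, hb⟩ := Finset.mem_filter.mp hs
      show toggle (pivot (toggle (pivot s) s)) (toggle (pivot s) s) = s
      rw [pivot_toggle ((hmemT s).mp hsT).1 hb, toggle_toggle]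
  rw [← Finset.sum_filter_add_sum_filter_not T (fun s => ∃ Q ∈ s, IsBad s Q), hbad, zero_add] at hall
  have hins : T.filter (fun s => ¬ ∃ Q ∈ s, IsBad s Q) = insert ∅ S := by
    ext s
    simp only [Finset.mem_filter, hmemT, Finset.mem_insert, hS, not_exists, not_and]
    rcases s.eq_empty_or_nonempty with rfl | hne
    · simp [IsPChain, mem_stab]
    · simp [hne.ne_empty, hne]
      tauto
  have hnot : ∅ ∉ S := fun h => by simpa using ((hS ∅).mp h).1
  rw [hins, Finset.sum_insert hnot] at hall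
  have h0 : F ∅ = f (Subgroup.centralizer {x}) := by simp [hF, stab]
  rw [h0] at hall
  have hneg : ∑ s ∈ S, (-1 : ℤ) ^ (s.card - 1) * f (Subgroup.centralizer {x} ⊓ stab s) =
      -∑ s ∈ S, F s := by
    rw [← Finset.sum_neg_distrib]
    refine Finset.sum_congr rfl fun s hs => ?_
    have hne := ((hS s).mp hs).1
    simp only [hF]
    conv_rhs => rw [← Nat.sub_add_cancel hne.card_pos, pow_succ]
    ring
  rw [hneg]
  linarith

end CfsgLib.Blocks.ChainSum
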