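import Cfsg.Agent.Lib.Blocks.SylowCount
import Cfsg.Agent.Lib.Blocks.BrauerFeit

/-!
# Pairs of conjugates with a `p`-element as quotient

If no irreducible character has `p`-defect zero, every class whose centralizer is a `p'`-group
contains two elements whose quotient is a nontrivial `p`-element.
-/

set_option autoImplicit false
set_option linter.unusedSectionVars false

namespace CfsgLib.Blocks

open Cfsg
open scoped ComplexConjugate CfsgLib.Char

variable {p : ℕ} {G : Type*} [Group G] [Fintype G]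

theorem exists_defectZero_or_pair (hp : p.Prime) {z : G}
    (hz : ¬ p ∣ Nat.card (Subgroup.centralizer ({z} : Set G))) :
    (∃ χ : IrrCharacter G,
      (charDegree (χ : G → ℂ)).factorization p = (Nat.card G).factorization p) ∨
    ∃ g h : G, IsConj z g ∧ IsConj z h ∧ g * h⁻¹ ≠ 1 ∧ ∃ k : ℕ, orderOf (g * h⁻¹) = p ^ k := by
  classical
  have : Fact p.Prime := ⟨hp⟩
  obtain ⟨M, hM⟩ := exists_isPModular hp
  have := isPrime_of_isPModular hM
  refine or_iff_not_imp_right.mpr fun hno => ?_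
  push Not at hno
  let S : Sylow p G := default
  have := Fintype.ofFinite (S : Subgroup G)
  have hpair : ∀ yz : G × G,
      (IsConj z yz.1 ∧ IsConj z yz.2 ∧ yz.2 * yz.1⁻¹ ∈ (S : Subgroup G)) ↔
        (IsConj z yz.1 ∧ yz.2 = yz.1) := by
    refine fun yz => ⟨fun ⟨h1, h2, h3⟩ => ⟨h1, ?_⟩,
      fun ⟨h1, h2⟩ => ⟨h1, h2 ▸ h1, by rw [h2, mul_inv_cancel]; exact one_mem _⟩⟩
    obtain ⟨k, hk⟩ := IsPGroup.iff_orderOf.mp S.2 ⟨_, h3⟩
    rw [← Subgroup.orderOf_coe] at hk
    by_contra hne
    exact hno yz.2 yz.1 h2 h1 (fun h => hne (mul_inv_eq_one.mp h)) k hk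
  have h := card_pairs_coset S z z
  rw [Nat.card_congr (Equiv.subtypeEquivRight hpair),
    show Nat.card {yz : G × G // IsConj z yz.1 ∧ yz.2 = yz.1} = Nat.card {y : G // IsConj z y} from
      Nat.card_congr
        { toFun := fun yz => ⟨yz.1.1, yz.2.1⟩
          invFun := fun y => ⟨(y.1, y.1), y.2, rfl⟩
          left_inv := fun yz => Subtype.ext (Prod.ext rfl yz.2.2.symm)
          right_inv := fun y => rfl },
    ← index_centralizer_eq_card] at h
  have hi : ((Subgroup.centralizer ({z} : Set G)).index : ℂ) ≠ 0 :=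
    Nat.cast_ne_zero.mpr Subgroup.index_ne_zero_of_finite
  have hS : ((S : Subgroup G).index : ℂ) ≠ 0 :=
    Nat.cast_ne_zero.mpr Subgroup.index_ne_zero_of_finite
  have hsum : ∑ χ : IrrCharacter G, centralChar (χ : G → ℂ) z *
      (classInner (fun v : (S : Subgroup G) => (χ : G → ℂ) v) 1 * conj ((χ : G → ℂ) z)) =
      ((S : Subgroup G).index : ℂ) := by
    rw [div_mul_eq_mul_div, eq_div_iff hS] at h
    exact (mul_left_cancel₀ hi h).symm
  obtain ⟨χ, hχ⟩ : ∃ χ : IrrCharacter G, ¬ MemLocalIdeal M (centralChar (χ : G → ℂ) z) := by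
    by_contra hall
    push Not at hall
    refine S.not_dvd_index ((memLocalIdeal_natCast_iff hM).mp (hsum ▸ memLocalIdeal_sum _ _ fun χ _ => ?_))
    refine memLocalIdeal_mul_right (hall χ) (memLocalRing_mul ?_
      (memLocalRing_of_isIntegral (irr_conj_isIntegral χ.2 _)))
    obtain ⟨k, hk⟩ := Char.exists_nat_classInner
      (Char.isCharacter_restrict (S : Subgroup G) (Char.isCharacter_of_isIrr χ.2))
      Char.isCharacter_one
    exact (show classInner (fun v : (S : Subgroup G) => (χ : G → ℂ) v) 1 = (k : ℂ) from hk) ▸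
      memLocalRing_natCast k
  have hB := isPBlock_blockOf (M := M) χ
  have hle := le_factorization_centralizer_of_centralChar hM hB (mem_blockOf_self χ) hχ
  rw [Nat.factorization_eq_zero_of_not_dvd hz] at hle
  obtain ⟨-, -, hall, -⟩ := blockDefect_le_and_degree hM hB
  have h1 := hall χ (mem_blockOf_self χ)
  have h2 := degree_factorization_le (p := p) χ
  exact ⟨χ, by omega⟩

/-- For odd `p` and odd centralizers of `p`-elements: a character of defect zero, or an involution
inverting a nontrivial `p`-element. -/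
theorem exists_defectZero_or_inverting (hp : p.Prime) (hp2 : p ≠ 2) (h2 : 2 ∣ Nat.card G)
    (hC : ∀ g : G, g ≠ 1 → (∃ k : ℕ, orderOf g = p ^ k) →
      Odd (Nat.card (Subgroup.centralizer ({g} : Set G)))) :
    (∃ χ : IrrCharacter G,
      (charDegree (χ : G → ℂ)).factorization p = (Nat.card G).factorization p) ∨
    ∃ t u : G, orderOf t = 2 ∧ u ≠ 1 ∧ (∃ k : ℕ, orderOf u = p ^ k) ∧ t * u * t⁻¹ = u⁻¹ := by
  classical
  have : Fact p.Prime := ⟨hp⟩
  have : Fact (Nat.Prime 2) := ⟨Nat.prime_two⟩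
  obtain ⟨z, hz⟩ := exists_prime_orderOf_dvd_card' 2 h2
  have hzp : ¬ p ∣ Nat.card (Subgroup.centralizer ({z} : Set G)) := fun hd => by
    obtain ⟨u, hu⟩ := exists_prime_orderOf_dvd_card' p hd
    rw [← Subgroup.orderOf_coe] at hu
    have hu1 : (u : G) ≠ 1 := fun h => by rw [h, orderOf_one] at hu; exact hp.ne_one hu.symm
    refine (Nat.not_even_iff_odd.mpr (hC _ hu1 ⟨1, by rw [hu, pow_one]⟩)) ?_
    rw [even_iff_two_dvd, ← hz, ← Subgroup.orderOf_mk z (Subgroup.mem_centralizer_singleton_iff.mpr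
      (Subgroup.mem_centralizer_singleton_iff.mp u.2).symm)]
    exact orderOf_dvd_natCard _
  refine (exists_defectZero_or_pair hp hzp).imp_right fun ⟨g, h, hg, hh, hne, k, hk⟩ => ?_
  have hinv : ∀ y : G, IsConj z y → orderOf y = 2 ∧ y⁻¹ = y := fun y hy => by
    obtain ⟨c, rfl⟩ := isConj_iff.mp hy
    have ho : orderOf (c * z * c⁻¹) = 2 :=
      (orderOf_injective (MulAut.conj c).toMonoidHom (MulAut.conj c).injective z).trans hz
    exact ⟨ho, inv_eq_of_mul_eq_one_right (by rw [← sq, ← ho, pow_orderOf_eq_one])⟩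
  refine ⟨g, g * h⁻¹, (hinv g hg).1, hne, ⟨k, hk⟩, ?_⟩
  rw [mul_inv_rev, inv_inv, (hinv g hg).2, (hinv h hh).2]
  rw [show g * (g * h) * g = (g * g) * (h * g) by group,
    show g * g = 1 from inv_eq_iff_mul_eq_one.mp (hinv g hg).2, one_mul]

end CfsgLib.Blocks
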