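import Cfsg.Agent.Lib.Blocks.CentralChar
import Cfsg.Agent.Lib.Blocks.LocalRing
import Cfsg.Agent.Lib.Blocks.Idempotent
import Cfsg.Agent.Lib.Char.Central

/-!
# Class sums when the commutant of a normal subgroup is the commutant of a larger one

If an irreducible character has the same norm on a normal `p'`-subgroup `K` as on `L ≥ K`, and `Q`
is a `p`-subgroup of `L`, then its central character is in the local ideal at every class missing
the centralizer of `Q`.
-/

set_option autoImplicit false
set_option linter.unusedSectionVars false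

namespace CfsgLib.Blocks

open Cfsg Module Representation
open scoped ComplexConjugate CfsgLib.Char

/-- A sum of an invariant function over a set all of whose orbits have order divisible by `p`. -/
theorem exists_sum_eq_nsmul {Q X A : Type*} [Group Q] [MulAction Q X] [Fintype X]
    [Fintype (MulAction.orbitRel.Quotient Q X)] [AddCommMonoid A] (f : X → A)
    (hf : ∀ (q : Q) (x : X), f (q • x) = f x) {p : ℕ}
    (hp : ∀ x : X, p ∣ Nat.card (MulAction.orbit Q x)) :
    ∃ m : MulAction.orbitRel.Quotient Q X → ℕ, ∑ x, f x = p • ∑ ω, m ω • f ω.out := by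
  classical
  choose m hm using fun ω : MulAction.orbitRel.Quotient Q X => hp ω.out
  refine ⟨m, ?_⟩
  rw [← Equiv.sum_comp (MulAction.selfEquivSigmaOrbits Q X).symm, Fintype.sum_sigma,
    Finset.smul_sum]
  refine Finset.sum_congr rfl fun ω _ => ?_
  have hval : ∀ y : MulAction.orbit Q ω.out,
      f ((MulAction.selfEquivSigmaOrbits Q X).symm ⟨ω, y⟩) = f ω.out := fun y => by
    obtain ⟨q, hq⟩ := MulAction.mem_orbit_iff.mp y.2
    rw [show (MulAction.selfEquivSigmaOrbits Q X).symm ⟨ω, y⟩ = (y : X) from rfl, ← hq, hf]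
  rw [Finset.sum_congr rfl fun y _ => hval y, Finset.sum_const, Finset.card_univ,
    ← Nat.card_eq_fintype_card, hm, mul_nsmul']

variable {G : Type*} [Group G] [Fintype G]

/-- Maps commuting with `ρ` on `K` commute with it on `L` when the norms agree. -/
theorem commutes_of_classInner_eq {V : Type*} [AddCommGroup V] [Module ℂ V] [FiniteDimensional ℂ V]
    (ρ : Representation ℂ G V) {K L : Subgroup G} [Fintype K] [Fintype L] (hKL : K ≤ L)
    (h : classInner (fun l : L => ρ.character l) (fun l : L => ρ.character l) =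
      classInner (fun k : K => ρ.character k) (fun k : K => ρ.character k))
    (T : V →ₗ[ℂ] V) (hT : ∀ k : K, T ∘ₗ ρ (k : G) = ρ (k : G) ∘ₗ T) (l : L) :
    T ∘ₗ ρ (l : G) = ρ (l : G) ∘ₗ T := by
  classical
  set ρK : Representation ℂ K V := ρ.comp K.subtype with hρK
  set ρL : Representation ℂ L V := ρ.comp L.subtype with hρL
  have h1 : classInner ρL.character ρL.character = classInner ρK.character ρK.character := h
  rw [CfsgLib.Char.classInner_character_eq_finrank, CfsgLib.Char.classInner_character_eq_finrank,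
    Nat.cast_inj] at h1
  let F : IntertwiningMap ρL ρL →ₗ[ℂ] IntertwiningMap ρK ρK :=
    { toFun := fun S => ⟨S.toLinearMap, fun k => S.isIntertwining' ⟨k, hKL k.2⟩⟩
      map_add' := fun a b => rfl
      map_smul' := fun a b => rfl }
  have hinj : Function.Injective F := fun a b hab =>
    IntertwiningMap.ext (congrArg IntertwiningMap.toLinearMap hab :)
  obtain ⟨S, hS⟩ := (LinearMap.injective_iff_surjective_of_finrank_eq_finrank h1).mp hinj
    ⟨T, hT⟩
  have hST : S.toLinearMap = T := congrArg IntertwiningMap.toLinearMap hS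
  exact hST ▸ S.isIntertwining' l

/-- An irreducible character with the same norm on `K` as on `L` has central character in the
ideal at every class without elements centralizing a `p`-subgroup `Q` of `L`. -/
theorem memLocalIdeal_centralChar_of_commutant {p : ℕ} [hp : Fact p.Prime] {M : Ideal AlgInt}
    (hM : IsPModular p M) {K L : Subgroup G} [Fintype K] [Fintype L] [hKn : K.Normal] (hKL : K ≤ L)
    (hK : ¬ p ∣ Nat.card K) {Q : Subgroup G} (hQ : IsPGroup p Q) (hQL : Q ≤ L)
    (χ : IrrCharacter G)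
    (hn : classInner (fun l : L => (χ : G → ℂ) l) (fun l : L => (χ : G → ℂ) l) =
      classInner (fun k : K => (χ : G → ℂ) k) (fun k : K => (χ : G → ℂ) k))
    {g : G} (hg : ∀ x : G, IsConj x g → x ∉ Subgroup.centralizer (Q : Set G)) :
    MemLocalIdeal M (centralChar (χ : G → ℂ) g) := by
  classical
  have := isPrime_of_isPModular hM
  obtain ⟨χ, n, ρ, hρ, rfl⟩ := χ
  have hpc : (p : ℂ) ≠ 0 := Nat.cast_ne_zero.mpr hp.out.ne_zero
  have hKc : (Nat.card K : ℂ) ≠ 0 := Nat.cast_ne_zero.mpr Nat.card_pos.ne'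
  let X := {x : G // IsConj x g}
  have hcl : ∀ (a x : G), IsConj x g → IsConj (a * x * a⁻¹) g := fun a x hx =>
    (isConj_iff.mpr ⟨a⁻¹, by group⟩ : IsConj (a * x * a⁻¹) x).trans hx
  letI : MulAction Q X :=
    { smul := fun q x => ⟨(q : G) * x * (q : G)⁻¹, hcl q x x.2⟩
      one_smul := fun x => Subtype.ext (by show ((1 : Q) : G) * x * _ = _; simp)
      mul_smul := fun q r x => Subtype.ext (by
        show ((q * r : Q) : G) * x * _ = (q : G) * ((r : G) * x * (r : G)⁻¹) * (q : G)⁻¹
        rw [Subgroup.coe_mul, mul_inv_rev]; group) }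
  have hsm : ∀ (q : Q) (x : X), ((q • x : X) : G) = (q : G) * x * (q : G)⁻¹ := fun q x => rfl
  let τ : X → MonoidAlgebra ℤ G := fun x =>
    ∑ k : K, MonoidAlgebra.single ((k : G) * x * (k : G)⁻¹) 1
  let Φ := MonoidAlgebra.lift ℤ (Module.End ℂ (Fin n → ℂ)) G ρ
  have hΦ : ∀ x : X, Φ (τ x) = ∑ k : K, ρ ((k : G) * x * (k : G)⁻¹) := fun x => by
    simp [Φ, τ, MonoidAlgebra.lift_single]
  have hinv : ∀ (q : Q) (x : X), Φ (τ (q • x)) = Φ (τ x) := by
    intro q x
    have hcomm := commutes_of_classInner_eq ρ hKL hn (Φ (τ x)) (fun k₀ => by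
      rw [hΦ, ← Module.End.mul_eq_comp, ← Module.End.mul_eq_comp, Finset.sum_mul, Finset.mul_sum]
      refine Fintype.sum_equiv (Equiv.mulLeft k₀⁻¹) _ _ fun k => ?_
      rw [← map_mul, ← map_mul, Equiv.coe_mulLeft, Subgroup.coe_mul, Subgroup.coe_inv]
      congr 1
      group) ⟨(q : G), hQL q.2⟩
    rw [← Module.End.mul_eq_comp, ← Module.End.mul_eq_comp] at hcomm
    have e1 : Φ (τ (q • x)) = ρ (q : G) * Φ (τ x) * ρ (q : G)⁻¹ := by
      rw [hΦ, hΦ, Finset.mul_sum, Finset.sum_mul]
      refine Fintype.sum_equiv ((MulAut.conjNormal ((q : G)⁻¹) : MulAut K).toEquiv) _ _ fun k => ?_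
      rw [← map_mul, ← map_mul, hsm]
      simp only [MulEquiv.toEquiv_eq_coe, EquivLike.coe_coe, MulAut.conjNormal_apply, inv_inv]
      congr 1
      group
    rw [e1, ← hcomm, mul_assoc, ← map_mul, mul_inv_cancel, map_one, mul_one]
  have hdiv : ∀ x : X, p ∣ Nat.card (MulAction.orbit Q x) := by
    intro x
    obtain ⟨j, hj⟩ := hQ.card_orbit x
    rcases Nat.eq_zero_or_pos j with rfl | hj0
    · exfalso
      refine hg x x.2 (Subgroup.mem_centralizer_iff.mpr fun q hq => ?_)
      have hsub : Subsingleton (MulAction.orbit Q x) :=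
        (Nat.card_eq_one_iff_unique.mp (hj.trans (pow_zero p))).1
      have hfix := congrArg Subtype.val (congrArg Subtype.val (hsub.elim
        ⟨(⟨q, hq⟩ : Q) • x, MulAction.mem_orbit _ _⟩ ⟨x, MulAction.mem_orbit_self _⟩) :)
      rw [hsm] at hfix
      exact mul_inv_eq_iff_eq_mul.mp hfix
    · exact hj ▸ dvd_pow_self p hj0.ne'
  obtain ⟨m, hm⟩ := exists_sum_eq_nsmul (fun x : X => Φ (τ x)) hinv hdiv
  have hsum : ∑ x : X, Φ (τ x) = (Nat.card K : ℕ) • CfsgLib.Char.classSum ρ g := by
    simp only [hΦ]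
    rw [Finset.sum_comm, Finset.sum_congr rfl fun k _ => ?_, Finset.sum_const, Finset.card_univ,
      ← Nat.card_eq_fintype_card]
    rw [CfsgLib.Char.classSum, Finset.sum_subtype (Finset.univ.filter fun x => IsConj x g)
      (p := fun x => IsConj x g) (fun x => by simp)]
    refine Fintype.sum_equiv
      ((MulAut.conj (k : G)).toEquiv.subtypeEquiv fun x => ⟨hcl k x, fun h => ?_⟩) _ _ fun x => rfl
    exact (isConj_iff.mpr ⟨(k : G), rfl⟩ : IsConj x _).trans h
  have ha := (IsIntegral.of_finite ℤ (∑ ω, m ω • τ ω.out)).map Φ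
  simp only [map_sum, map_nsmul] at ha
  set s : ℂ := centralChar ρ.character g with hs
  have hω : CfsgLib.Char.classSum ρ g = s • LinearMap.id := CfsgLib.Char.classSum_eq_omega ρ g
  have key : ∑ ω, m ω • Φ (τ ω.out) =
      algebraMap ℂ (Module.End ℂ (Fin n → ℂ)) (s * Nat.card K / p) := by
    have h1 := hm.symm.trans hsum
    rw [hω] at h1
    rw [Algebra.algebraMap_eq_smul_one, show (1 : Module.End ℂ (Fin n → ℂ)) = LinearMap.id from rfl,
      div_eq_inv_mul, mul_smul, mul_comm, mul_smul, Nat.cast_smul_eq_nsmul, ← h1,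
      ← Nat.cast_smul_eq_nsmul ℂ p, smul_smul, inv_mul_cancel₀ hpc, one_smul]
  rw [key] at ha
  have : Nontrivial (Fin n → ℂ) :=
    Module.nontrivial_of_finrank_pos (Char.finrank_pos_of_irreducible ρ)
  have hint := (isIntegral_algebraMap_iff
    (algebraMap ℂ (Module.End ℂ (Fin n → ℂ))).injective).mp ha
  have e : s = (p : ℂ) * ((s * Nat.card K / p) * (Nat.card K : ℂ)⁻¹) := by
    field_simp
  show MemLocalIdeal M s
  rw [e]
  exact memLocalIdeal_mul_right (memLocalIdeal_p hM)
    (memLocalRing_mul (memLocalRing_of_isIntegral hint) (memLocalRing_natCast_inv hM hK))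

end CfsgLib.Blocks
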