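import Mathlib
import Cfsg.Prelude.Def_Blocks

/-!
# The `p`-part of an element of finite order
-/

set_option autoImplicit false

namespace CfsgLib.Blocks

open Cfsg

variable {G : Type*} [Group G] [Finite G] {p : ℕ}

/-- An exponent picking out the `p`-part. -/
theorem exists_pPart_exponent (hp : p.Prime) (g : G) : ∃ A : ℤ, ∀ x y : G, x * y = g →
    Commute x y → (∃ k : ℕ, orderOf x = p ^ k) → ¬ p ∣ orderOf y → x = g ^ A := by
  have hn : orderOf g ≠ 0 := (orderOf_pos g).ne'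
  have hcop : IsCoprime ((p ^ (orderOf g).factorization p : ℕ) : ℤ)
      ((orderOf g / p ^ (orderOf g).factorization p : ℕ) : ℤ) :=
    Nat.isCoprime_iff_coprime.mpr ((Nat.coprime_ordCompl hp hn).pow_left _)
  obtain ⟨u, v, huv⟩ := hcop
  refine ⟨v * (orderOf g / p ^ (orderOf g).factorization p : ℕ), fun x y hxy hc ⟨k, hx⟩ hy => ?_⟩
  have hy' : Nat.Coprime p (orderOf y) := hp.coprime_iff_not_dvd.mpr hy
  have hord : orderOf g = p ^ k * orderOf y := by
    rw [← hxy, hc.orderOf_mul_eq_mul_orderOf_of_coprime (hx ▸ hy'.pow_left k), hx]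
  have hfac : (orderOf g).factorization p = k := by
    rw [hord, Nat.factorization_mul (pow_ne_zero _ hp.ne_zero) (orderOf_pos y).ne', Finsupp.add_apply,
      hp.factorization_pow, Finsupp.single_eq_same, Nat.factorization_eq_zero_of_not_dvd hy, add_zero]
  have hdiv : orderOf g / p ^ (orderOf g).factorization p = orderOf y := by
    rw [hfac, hord, Nat.mul_div_cancel_left _ (pow_pos hp.pos k)]
  rw [hdiv] at huv ⊢
  rw [hfac] at huv
  rw [← hxy, hc.mul_zpow, mul_comm v, zpow_mul y, zpow_natCast, pow_orderOf_eq_one, one_zpow,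
    mul_one, show (orderOf y : ℤ) * v = 1 + -u * ((p ^ k : ℕ) : ℤ) by linarith, zpow_add, zpow_one,
    zpow_mul', zpow_natCast, ← hx, pow_orderOf_eq_one, one_zpow, mul_one]

/-- The `p`-part is unique. -/
theorem IsPPart.unique (hp : p.Prime) {g x x' : G} (h : IsPPart p g x) (h' : IsPPart p g x') :
    x = x' := by
  obtain ⟨y, h1, h2, h3, h4⟩ := h
  obtain ⟨y', h1', h2', h3', h4'⟩ := h'
  obtain ⟨A, hA⟩ := exists_pPart_exponent hp g
  rw [hA x y h1 h2 h3 h4, hA x' y' h1' h2' h3' h4']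

/-- Every element has a `p`-part, a power of it. -/
theorem exists_isPPart (hp : p.Prime) (g : G) : ∃ x : G, IsPPart p g x ∧ x ∈ Subgroup.zpowers g := by
  have hn : orderOf g ≠ 0 := (orderOf_pos g).ne'
  set q := p ^ (orderOf g).factorization p
  set m := orderOf g / q
  have hqm : q * m = orderOf g := Nat.ordProj_mul_ordCompl_eq_self _ p
  have hm : ¬ p ∣ m := Nat.not_dvd_ordCompl hp hn
  have hcop : IsCoprime (q : ℤ) (m : ℤ) :=
    Nat.isCoprime_iff_coprime.mpr ((Nat.coprime_ordCompl hp hn).pow_left _)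
  obtain ⟨u, v, huv⟩ := hcop
  refine ⟨g ^ (v * (m : ℤ)), ⟨g ^ (u * (q : ℤ)), ?_, Commute.zpow_zpow_self g _ _, ?_, ?_⟩,
    Subgroup.zpow_mem_zpowers g _⟩
  · rw [← zpow_add, show v * (m : ℤ) + u * (q : ℤ) = 1 by linarith, zpow_one]
  · have h : orderOf (g ^ (v * (m : ℤ))) ∣ q := by
      refine orderOf_dvd_of_pow_eq_one ?_
      rw [← zpow_natCast, ← zpow_mul, mul_assoc, show (m : ℤ) * (q : ℤ) = ((q * m : ℕ) : ℤ) by
        push_cast; ring, hqm, zpow_mul', zpow_natCast, pow_orderOf_eq_one, one_zpow]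
    obtain ⟨k, -, hk⟩ := (Nat.dvd_prime_pow hp).mp h
    exact ⟨k, hk⟩
  · intro h
    refine hm (h.trans (orderOf_dvd_of_pow_eq_one ?_))
    rw [← zpow_natCast, ← zpow_mul, mul_assoc, show (q : ℤ) * (m : ℤ) = ((q * m : ℕ) : ℤ) by
      push_cast; ring, hqm, zpow_mul', zpow_natCast, pow_orderOf_eq_one, one_zpow]

/-- The `p`-part of a conjugate. -/
theorem IsPPart.conj {g x : G} (h : IsPPart p g x) (a : G) :
    IsPPart p (a * g * a⁻¹) (a * x * a⁻¹) := by
  obtain ⟨y, h1, h2, ⟨k, h3⟩, h4⟩ := h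
  have ho : ∀ z : G, orderOf (a * z * a⁻¹) = orderOf z := fun z =>
    orderOf_injective (MulAut.conj a).toMonoidHom (MulAut.conj a).injective z
  refine ⟨a * y * a⁻¹, ?_, h2.map (MulAut.conj a).toMonoidHom, ⟨k, (ho x).trans h3⟩, (ho y).symm ▸ h4⟩
  rw [← h1]
  group

theorem isPPart_mul {x y : G} (hxy : Commute x y) (hx : ∃ k : ℕ, orderOf x = p ^ k)
    (hy : ¬ p ∣ orderOf y) : IsPPart p (x * y) x := ⟨y, rfl, hxy, hx, hy⟩

end CfsgLib.Blocks
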