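import Cfsg.Agent.Lib.Blocks.Vanishing
import Cfsg.Agent.Lib.Blocks.PPart
import Cfsg.Agent.Lib.Blocks.MainThird

/-!
# Brauer's second main theorem
-/

set_option autoImplicit false
set_option linter.unusedSectionVars false

namespace CfsgLib.Blocks

open Cfsg
open scoped ComplexConjugate CfsgLib.Char

variable {p : ℕ} {M : Ideal AlgInt} {G : Type*} [Group G] [Fintype G]

theorem conv_assoc (a b c : G → ℂ) : conv (conv a b) c = conv a (conv b c) := by
  funext z
  simp only [conv, Finset.sum_mul, Finset.mul_sum]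
  rw [Finset.sum_comm]
  refine Finset.sum_congr rfl fun u _ => ?_
  refine Fintype.sum_equiv (Equiv.mulLeft u⁻¹) _ _ fun w => ?_
  rw [Equiv.coe_mulLeft, show (u⁻¹ * w)⁻¹ * (u⁻¹ * z) = w⁻¹ * z by group, mul_assoc]

/-- A class function acts on the translates of an irreducible character by its central
character. -/
theorem sum_mul_irr_mul {f : G → ℂ} (hf : IsClassFunction G f) (χ : IrrCharacter G) (u : G) :
    ∑ z, f z * (χ : G → ℂ) (z * u) = omega (χ : G → ℂ) f * (χ : G → ℂ) u := by
  obtain ⟨n, ρ, hρ, hχ⟩ := χ.2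
  rw [← hχ]
  have h : ∑ z, f z * ρ.character (z * u) = LinearMap.trace ℂ (Fin n → ℂ) (actFun ρ f * ρ u) := by
    rw [actFun, Finset.sum_mul, map_sum]
    refine Finset.sum_congr rfl fun z _ => ?_
    rw [smul_mul_assoc, map_smul, smul_eq_mul, ← map_mul]
    rfl
  rw [h, actFun_eq_omega ρ hf, smul_mul_assoc, one_mul, map_smul, smul_eq_mul]
  rfl

theorem conv_blockCoeff_self (S : Set (IrrCharacter G)) :
    conv (blockCoeff S) (blockCoeff S) = blockCoeff S := by
  rw [← ofOmega_indVec, ← ofOmega_mul]
  congr 1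
  funext χ
  by_cases h : χ ∈ S
  · simp [indVec_of_mem h]
  · simp [indVec_of_notMem h]

theorem isNilpotent_of_resQuot_eq_zero [M.IsPrime] {x : ZK M G}
    (h : ∀ χ : IrrCharacter G, resQuot χ x = 0) : IsNilpotent x := by
  classical
  obtain ⟨v, rfl⟩ := Ideal.Quotient.mk_surjective x
  have hv : ∀ χ, MemLocalIdeal M ((v : IrrCharacter G → ℂ) χ) := fun χ =>
    (res_eq_zero_iff (memLocalRing_of_mem_ZO v.2 χ)).mp (h χ)
  have hprod : ∏ χ : IrrCharacter G, ((v : ZO M G) - ⟨((v : IrrCharacter G → ℂ) χ) • 1,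
      smul_mem_ZO (memLocalRing_of_mem_ZO v.2 χ) (one_mem _)⟩) = 0 := by
    refine Subtype.ext (funext fun η => ?_)
    rw [SubmonoidClass.coe_finsetProd, Finset.prod_apply, ZeroMemClass.coe_zero, Pi.zero_apply]
    exact Finset.prod_eq_zero (Finset.mem_univ η) (by simp)
  have h2 := congrArg (Ideal.Quotient.mk (nullIdeal M G)) hprod
  rw [map_prod, map_zero] at h2
  simp only [map_sub, Ideal.Quotient.eq_zero_iff_mem.mpr (smul_one_mem_nullIdeal (hv _)), sub_zero,
    Finset.prod_const, Finset.card_univ] at h2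
  exact ⟨_, h2⟩

/-- The blocks sum to the identity. -/
theorem sum_blockCoeff_mul [M.IsPrime] (θ : G → ℂ) (y : G) :
    ∑ b ∈ blocks M G, ∑ k, blockCoeff b k * θ (k * y) = θ y := by
  classical
  rw [Finset.sum_comm]
  simp only [← Finset.sum_mul, sum_blockCoeff_blocks, deltaOne_apply, ite_mul, one_mul, zero_mul,
    Finset.sum_ite_eq', Finset.mem_univ, if_true]

/-- `blockPart` as a twisted sum with the block idempotent. -/
theorem blockPart_eq_sum (b : Set (IrrCharacter G)) {θ : G → ℂ} (hθ : IsClassFunction G θ) (y : G) :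
    blockPart b θ y = ∑ k, blockCoeff b k * θ (k * y) := by
  classical
  have hb : blockPart b θ y =
      ∑ χ : IrrCharacter G with χ ∈ b, classInner θ (χ : G → ℂ) * (χ : G → ℂ) y := by
    rw [blockPart, sum_mem_eq_filter]
    refine Finset.sum_congr rfl fun χ _ => ?_
    congr 1
    simp only [classInner]
    congr 2
    ext x
    simp
  have hexp : ∀ z, θ z = ∑ χ : IrrCharacter G, classInner θ (χ : G → ℂ) * (χ : G → ℂ) z := fun z => by
    have h := congrFun (Char.classFunction_expansion hθ) z
    simpa [Finset.sum_apply] using h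
  rw [hb, Finset.sum_filter]
  simp only [fun k => hexp (k * y), Finset.mul_sum]
  rw [Finset.sum_comm]
  refine Finset.sum_congr rfl fun χ _ => ?_
  simp_rw [mul_left_comm _ (classInner θ (χ : G → ℂ)), ← Finset.mul_sum]
  rw [sum_mul_irr_mul (isClassFunction_blockCoeff b) χ y, omega_blockCoeff]
  by_cases h : χ ∈ b
  · rw [if_pos h, indVec_of_mem h, one_mul]
  · rw [if_neg h, indVec_of_notMem h, zero_mul, mul_zero]

/-- The block part of a class function at a regular element only involves the regular
elements. -/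
theorem blockPart_eq_zero_of_regular_zero (hM : IsPModular p M) {b : Set (IrrCharacter G)}
    (hb : IsPBlock M b) {θ : G → ℂ} (hθ0 : ∀ c, IsPRegular p c → θ c = 0) {y : G}
    (hy : IsPRegular p y) : blockPart b θ y = 0 := by
  classical
  have := isPrime_of_isPModular hM
  rw [blockPart, sum_mem_eq_filter]
  simp only [classInner, Finset.mul_sum, Finset.sum_mul]
  rw [Finset.sum_comm]
  refine Finset.sum_eq_zero fun c _ => ?_
  by_cases hc : IsPRegular p c
  · exact Finset.sum_eq_zero fun χ _ => by rw [hθ0 c hc]; ring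
  · have h0 := sum_block_mul_conj_eq_zero hM (S := {χ : IrrCharacter G | χ ∈ b})
      (by simpa using IsPBlock.isBlockUnion hb) hy hc
    simp only [← mul_assoc]
    calc _ = (Nat.card G : ℂ)⁻¹ * θ c *
          ∑ χ : IrrCharacter G with χ ∈ b, (χ : G → ℂ) y * conj ((χ : G → ℂ) c) := by
          rw [Finset.mul_sum]; exact Finset.sum_congr rfl fun χ _ => by ring
      _ = 0 := by rw [h0, mul_zero]

theorem extendByZero_apply (H : Subgroup G) (e : H → ℂ) (k : H) :
    extendByZero H e (k : G) = e k := Subtype.val_injective.extend_apply _ _ k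

theorem extendByZero_eq_zero (H : Subgroup G) (e : H → ℂ) {z : G} (hz : z ∉ H) :
    extendByZero H e z = 0 :=
  Function.extend_apply' _ _ _ fun ⟨k, hk⟩ => hz (hk ▸ k.2)

theorem sum_extendByZero_mul (H : Subgroup G) [Fintype H] (e : H → ℂ) (F : G → ℂ) :
    ∑ z, extendByZero H e z * F z = ∑ k : H, e k * F k := by
  classical
  rw [← Finset.sum_subset (Finset.subset_univ (Finset.univ.map ⟨(Subtype.val : H → G),
    Subtype.val_injective⟩)) fun z _ hz => ?_, Finset.sum_map]
  · exact Finset.sum_congr rfl fun k _ => by simp [extendByZero_apply]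
  · rw [extendByZero_eq_zero H e fun h => hz (Finset.mem_map.mpr ⟨⟨z, h⟩, Finset.mem_univ _, rfl⟩),
      zero_mul]

/-- The second main theorem in idempotent form. -/
theorem sum_blockCoeff_mul_eq_zero (hM : IsPModular p M) {H : Subgroup G} [Fintype H]
    {b : Set (IrrCharacter H)} {B : Set (IrrCharacter G)} (hind : IsInducedBlock M H b B) {h : H}
    {x : G} (hx : IsPPart p (h : G) x) (hC : Subgroup.centralizer ({x} : Set G) ≤ H)
    {χ : IrrCharacter G} (hχ : χ ∉ B) :
    ∑ k : H, blockCoeff b k * (χ : G → ℂ) ((k : G) * (h : G)) = 0 := by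
  classical
  have := isPrime_of_isPModular hM
  have : Fact p.Prime := ⟨hM.1⟩
  obtain ⟨y, hxy, hcom, ⟨n, hxn⟩, hy⟩ := hx
  set B' := blockOf M (χ : G → ℂ) with hB'
  have hBB : IsPBlock M B' := isPBlock_blockOf χ
  set eB := blockCoeff B' with heB
  have hcls : IsClassFunction G eB := isClassFunction_blockCoeff B'
  set eb := blockCoeff b with heb
  have hbcls : IsClassFunction H eb := isClassFunction_blockCoeff b
  set E := extendByZero H eb with hE
  set f := conv eB E with hf
  have hfl : ∀ z, MemLocalRing M (f z) := fun z => memLocalRing_sum _ _ fun u _ =>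
    memLocalRing_mul (IsPBlock.memLocalRing_blockCoeff hBB u) (by
      by_cases hu : u⁻¹ * z ∈ H
      · rw [show E (u⁻¹ * z) = eb ⟨_, hu⟩ from extendByZero_apply H eb ⟨_, hu⟩]
        exact IsPBlock.memLocalRing_blockCoeff hind.1 _
      · rw [show E (u⁻¹ * z) = 0 from extendByZero_eq_zero H eb hu]
        exact memLocalRing_zero)
  have hEE : conv E E = E := by
    funext z
    rw [conv, sum_extendByZero_mul H eb (fun u => E (u⁻¹ * z))]
    by_cases hz : z ∈ H
    · rw [show E z = eb ⟨z, hz⟩ from extendByZero_apply H eb ⟨z, hz⟩]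
      conv_rhs => rw [show eb = conv eb eb from (conv_blockCoeff_self b).symm]
      refine Finset.sum_congr rfl fun k _ => ?_
      congr 1
      exact extendByZero_apply H eb (k⁻¹ * ⟨z, hz⟩)
    · rw [show E z = 0 from extendByZero_eq_zero H eb hz]
      refine Finset.sum_eq_zero fun k _ => ?_
      rw [show E ((k : G)⁻¹ * z) = 0 from extendByZero_eq_zero H eb
        fun h' => hz (by simpa using H.mul_mem k.2 h'), mul_zero]
  have hff : conv f f = f := by
    rw [hf, conv_assoc, ← conv_assoc E eB, ← conv_comm (f₂ := E) hcls, conv_assoc eB E E, hEE,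
      ← conv_assoc, conv_blockCoeff_self]
  have hEconj : ∀ (u : H) (z : G), E ((u : G) * z * (u : G)⁻¹) = E z := fun u z => by
    by_cases hz : z ∈ H
    · rw [show E z = eb ⟨z, hz⟩ from extendByZero_apply H eb ⟨z, hz⟩,
        show E ((u : G) * z * (u : G)⁻¹) = eb (u * ⟨z, hz⟩ * u⁻¹) from
          extendByZero_apply H eb (u * ⟨z, hz⟩ * u⁻¹), hbcls]
    · rw [show E z = 0 from extendByZero_eq_zero H eb hz,
        show E ((u : G) * z * (u : G)⁻¹) = 0 from extendByZero_eq_zero H eb fun h' => hz (by
          simpa [mul_assoc] using H.mul_mem (H.mul_mem (H.inv_mem u.2) h') u.2)]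
  have hinv : ∀ z, f (x * y * z * (x * y)⁻¹) = f z := fun z => by
    rw [hxy]
    refine (Fintype.sum_equiv (MulAut.conj (h : G)).toEquiv _ _ fun u => ?_).symm
    simp only [MulEquiv.toEquiv_eq_coe, EquivLike.coe_coe, MulAut.conj_apply]
    rw [hcls u h, show ((h : G) * u * (h : G)⁻¹)⁻¹ * ((h : G) * z * (h : G)⁻¹) =
      (h : G) * (u⁻¹ * z) * (h : G)⁻¹ by group, hEconj]
  -- the element of the centre of `H` given by `eB`
  set u : H → ℂ := fun k => eB (k : G)
  have hu : IsClassFunction H u := fun k a => by simpa [u] using hcls (k : G) a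
  have hul : ∀ k, MemLocalRing M (u k) := fun k => IsPBlock.memLocalRing_blockCoeff hBB _
  set U : ZK M H := Ideal.Quotient.mk _ (toZO u hu hul)
  have hnil : IsNilpotent (U * blockIdem hind.1) := by
    refine isNilpotent_of_resQuot_eq_zero fun ξ => ?_
    rw [map_mul, resQuot_blockIdem hind.1]
    split_ifs with hξ
    · rw [mul_one, resQuot_mk]
      refine res_eq_zero ?_
      obtain ⟨ζ, hζ⟩ := IsPBlock.nonempty hind.2.1
      have hc := IsInducedBlock.omega_congr hind hξ hζ hcls (IsPBlock.memLocalRing_blockCoeff hBB)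
      rw [heB, omega_blockCoeff, indVec_of_notMem fun h' => hχ (IsPBlock.eq_of_mem_of_mem
        hind.2.1 hBB hζ h' ▸ mem_blockOf_self χ), sub_zero] at hc
      exact hc
    · rw [mul_zero]
  have hxH : x ∈ H := hC (Subgroup.mem_centralizer_singleton_iff.mpr rfl)
  set P : Subgroup H := Subgroup.zpowers ⟨x, hxH⟩
  set C : Subgroup H := Subgroup.centralizer (P : Set H)
  have hP : IsPGroup p P := IsPGroup.of_card (n := n) (by
    rw [Nat.card_zpowers, ← Subgroup.orderOf_coe]
    exact hxn)
  have hCN : C ≤ Subgroup.normalizer (P : Set H) := Subgroup.centralizer_le_normalizer _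
  have : Fintype C := Fintype.ofFinite _
  set Br := brauerHom hM P C hP le_rfl hCN
  have hmemC : ∀ k : H, k ∈ C ↔ Commute (k : G) x := fun k => by
    rw [Subgroup.mem_centralizer_iff]
    constructor
    · intro hk
      exact (congrArg Subtype.val (hk ⟨x, hxH⟩ (Subgroup.mem_zpowers _))).symm
    · intro hk q hq
      obtain ⟨j, rfl⟩ := Subgroup.mem_zpowers_iff.mp hq
      exact Subtype.ext (by simpa using ((hk : Commute (k : G) x).zpow_right j).symm.eq)
  have hidU : IsIdempotentElem (Br U) := by
    rw [IsIdempotentElem, ← map_mul, ← map_mul (Ideal.Quotient.mk (nullIdeal M H)), brauerHom_mk,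
      brauerHom_mk, mk_eq_mk_iff]
    intro c
    rw [ofOmega_brauerVec, ofOmega_brauerVec, MulMemClass.coe_mul, ofOmega_mul,
      ofOmega_toZO hu hul, brauerFun_of_mem c.2, brauerFun_of_mem c.2]
    -- the difference is a sum over `G ∖ H` which has no fixed point under `x`
    set F : G → ℂ := fun z => if z ∈ H then 0 else eB z * eB (z⁻¹ * ((c : H) : G))
    have hdiff : conv eB eB ((c : H) : G) - conv u u (c : H) = ∑ z, F z := by
      rw [sub_eq_iff_eq_add, conv, conv]
      rw [← sum_extendByZero_mul H u (fun z => eB (z⁻¹ * ((c : H) : G))) |>.trans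
        (Finset.sum_congr rfl fun k _ => by simp [u]), ← Finset.sum_add_distrib]
      refine Finset.sum_congr rfl fun z _ => ?_
      by_cases hz : z ∈ H
      · rw [show extendByZero H u z = eB z from extendByZero_apply H u ⟨z, hz⟩]
        simp [F, hz]
      · rw [extendByZero_eq_zero H u hz]
        simp [F, hz]
    have hsum : MemLocalIdeal M (∑ z, F z) := by
      letI : MulAction P G :=
        MulAction.compHom G (((MulAut.conj : G →* MulAut G).comp H.subtype).comp P.subtype)
      refine memLocalIdeal_sum_of_fixedPoint_zero hM hP (fun z => ?_) (fun q z => ?_) fun z hz => ?_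
      · simp only [F]
        split
        exacts [memLocalRing_zero, memLocalRing_mul (IsPBlock.memLocalRing_blockCoeff hBB _)
          (IsPBlock.memLocalRing_blockCoeff hBB _)]
      · show F (((q : H) : G) * z * ((q : H) : G)⁻¹) = F z
        have hqH : ((q : H) : G) ∈ H := (q : H).2
        have hqc : ((q : H) : G) * ((c : H) : G) = ((c : H) : G) * ((q : H) : G) :=
          congrArg Subtype.val (Subgroup.mem_centralizer_iff.mp c.2 q q.2)
        simp only [F]
        refine if_congr ⟨fun h' => by simpa [mul_assoc] using H.mul_mem (H.mul_mem (H.inv_mem hqH) h') hqH,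
          fun h' => H.mul_mem (H.mul_mem hqH h') (H.inv_mem hqH)⟩ rfl ?_
        rw [hcls z, ← hcls (z⁻¹ * ((c : H) : G)) ((q : H) : G)]
        congr 2
        calc (((q : H) : G) * z * ((q : H) : G)⁻¹)⁻¹ * ((c : H) : G)
            = ((q : H) : G) * z⁻¹ * (((q : H) : G)⁻¹ * (((c : H) : G) * ((q : H) : G))) *
                ((q : H) : G)⁻¹ := by group
          _ = ((q : H) : G) * (z⁻¹ * ((c : H) : G)) * ((q : H) : G)⁻¹ := by rw [← hqc]; group
      · simp only [F]
        rw [if_pos]
        refine hC (Subgroup.mem_centralizer_singleton_iff.mpr ?_)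
        exact (mul_inv_eq_iff_eq_mul.mp (hz ⟨⟨x, hxH⟩, Subgroup.mem_zpowers _⟩ : x * z * x⁻¹ = z)).symm
    rw [← hdiff, heB, conv_blockCoeff_self] at hsum
    exact memLocalIdeal_sub_comm hsum
  have hBr : Br (U * blockIdem hind.1) = 0 := by
    have hid : IsIdempotentElem (Br (U * blockIdem hind.1)) := by
      rw [IsIdempotentElem, map_mul, mul_mul_mul_comm, hidU.eq,
        ((isIdempotentElem_blockIdem hind.1).map Br).eq]
    exact hid.eq_zero_of_isNilpotent (hnil.map Br)
  have hzero : ∀ z, Commute z x → MemLocalIdeal M (f z) := fun z hz => by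
    have hzH : z ∈ H := hC (Subgroup.mem_centralizer_singleton_iff.mpr hz.eq)
    have hc : (⟨z, hzH⟩ : H) ∈ C := (hmemC _).mpr hz
    rw [blockIdem, ← map_mul (Ideal.Quotient.mk (nullIdeal M H)), brauerHom_mk,
      Ideal.Quotient.eq_zero_iff_mem] at hBr
    have h2 := hBr ⟨_, hc⟩
    rw [ofOmega_brauerVec, brauerFun_of_mem (h := ⟨_, hc⟩) hc, MulMemClass.coe_mul, ofOmega_mul,
      ofOmega_toZO hu hul] at h2
    rw [show ofOmega ((⟨indVec b, indVec_mem_ZO (IsPBlock.isBlockUnion hind.1)⟩ : ZO M H) :
      IrrCharacter H → ℂ) = eb from ofOmega_indVec b] at h2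
    have heq : f z = conv eb u ⟨z, hzH⟩ := by
      rw [hf, conv_comm hcls, conv, sum_extendByZero_mul H eb (fun v => eB (v⁻¹ * z))]
      rfl
    rw [heq, conv_comm hbcls]
    exact h2
  have hmain := sum_mul_eq_zero_of_brauer_zero hM hcom hxn hy hfl hff hinv hzero
    (irr_classFunction χ)
  rw [← hmain, hxy, hf]
  simp only [conv, Finset.sum_mul]
  rw [Finset.sum_comm]
  rw [← sum_extendByZero_mul H eb (fun k => (χ : G → ℂ) (k * (h : G)))]
  symm
  calc ∑ u : G, ∑ z : G, eB u * E (u⁻¹ * z) * (χ : G → ℂ) (z * (h : G))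
      = ∑ u : G, ∑ k : G, E k * (eB u * (χ : G → ℂ) (u * (k * (h : G)))) := by
        refine Finset.sum_congr rfl fun u _ => Fintype.sum_equiv (Equiv.mulLeft u⁻¹) _ _ fun z => ?_
        rw [Equiv.coe_mulLeft, show u * (u⁻¹ * z * (h : G)) = z * (h : G) by group]
        ring
    _ = ∑ k : G, E k * (χ : G → ℂ) (k * (h : G)) := by
        rw [Finset.sum_comm]
        refine Finset.sum_congr rfl fun k _ => ?_
        rw [← Finset.mul_sum, sum_mul_irr_mul hcls χ, heB, omega_blockCoeff,
          indVec_of_mem (mem_blockOf_self χ), one_mul]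

section Sections

variable (hM : IsPModular p M) {x : G} (hx : ∃ k : ℕ, orderOf x = p ^ k)
include hM hx

theorem inducedBlockDefined_centralizer {b : Set (IrrCharacter (Subgroup.centralizer ({x} : Set G)))}
    (hb : IsPBlock M b) : InducedBlockDefined M (Subgroup.centralizer ({x} : Set G)) b := by
  obtain ⟨k, hk⟩ := hx
  have : Fintype (Subgroup.centralizer ({x} : Set G)) := Fintype.ofFinite _
  refine inducedBlockDefined_of_le_normalizer hM (P := Subgroup.zpowers x)
    (IsPGroup.of_card (n := k) (by rw [Nat.card_zpowers]; exact hk)) ?_ ?_ ?_ hb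
  · rw [Subgroup.zpowers_le]
    exact Subgroup.mem_centralizer_singleton_iff.mpr rfl
  · intro z hz
    exact Subgroup.mem_centralizer_singleton_iff.mpr
      (Subgroup.mem_centralizer_iff.mp hz x (Subgroup.mem_zpowers x)).symm
  · intro z hz
    have hz' : Commute z x := Subgroup.mem_centralizer_singleton_iff.mp hz
    refine Subgroup.centralizer_le_normalizer _ (Subgroup.mem_centralizer_iff.mpr fun q hq => ?_)
    obtain ⟨j, rfl⟩ := Subgroup.mem_zpowers_iff.mp hq
    exact (hz'.zpow_right j).symm.eq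

omit hM hx in
theorem isClassFunction_translate {χ : G → ℂ} (hχ : IsClassFunction G χ) :
    IsClassFunction (Subgroup.centralizer ({x} : Set G))
      (fun c : Subgroup.centralizer ({x} : Set G) => χ (x * (c : G))) := fun c a => by
  have ha : (a : G) * x = x * (a : G) := Subgroup.mem_centralizer_singleton_iff.mp a.2
  simp only [Subgroup.coe_mul, Subgroup.coe_inv]
  rw [← hχ (x * (c : G)) (a : G)]
  congr 1
  simp only [← mul_assoc, ha]

/-- Brauer's second main theorem. -/
theorem blockPart_eq_zero_of_not_induced [Fintype (Subgroup.centralizer ({x} : Set G))]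
    {B : Set (IrrCharacter G)} (hB : IsPBlock M B) {χ : IrrCharacter G} (hχ : χ ∈ B)
    {b : Set (IrrCharacter (Subgroup.centralizer ({x} : Set G)))} (hb : IsPBlock M b)
    (hnot : ¬ IsInducedBlock M (Subgroup.centralizer ({x} : Set G)) b B)
    {y : Subgroup.centralizer ({x} : Set G)} (hy : ¬ p ∣ orderOf y) :
    blockPart b (fun c : Subgroup.centralizer ({x} : Set G) => (χ : G → ℂ) (x * (c : G))) y = 0 := by
  have := isPrime_of_isPModular hM
  obtain ⟨B₁, hind⟩ := inducedBlockDefined_centralizer hM hx hb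
  rw [blockPart_eq_sum b (isClassFunction_translate (irr_classFunction χ))]
  have hxy : Commute x (y : G) := (Subgroup.mem_centralizer_singleton_iff.mp y.2).symm
  have hxC : x ∈ Subgroup.centralizer ({x} : Set G) := Subgroup.mem_centralizer_singleton_iff.mpr rfl
  have key := sum_blockCoeff_mul_eq_zero hM hind (h := ⟨x, hxC⟩ * y) (x := x)
    (isPPart_mul hxy hx (by rw [Subgroup.orderOf_coe]; exact hy)) le_rfl (χ := χ)
    fun h' => hnot (IsPBlock.eq_of_mem_of_mem hind.2.1 hB h' hχ ▸ hind)
  rw [← key]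
  refine Finset.sum_congr rfl fun k _ => ?_
  simp only [Subgroup.coe_mul]
  rw [← mul_assoc (k : G) x, Subgroup.mem_centralizer_singleton_iff.mp k.2, mul_assoc]

/-- The column sums of a block at a `p`-section. -/
theorem sum_block_mul_eq_sum_blockPart [Fintype (Subgroup.centralizer ({x} : Set G))]
    {B : Set (IrrCharacter G)} (hB : IsPBlock M B) [DecidablePred (· ∈ B)]
    {y : Subgroup.centralizer ({x} : Set G)} (hy : ¬ p ∣ orderOf y) (h : G)
    [DecidablePred fun b : Set (IrrCharacter (Subgroup.centralizer ({x} : Set G))) =>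
      IsInducedBlock M (Subgroup.centralizer ({x} : Set G)) b B] [M.IsPrime] :
    ∑ χ : IrrCharacter G with χ ∈ B, (χ : G → ℂ) (x * (y : G)) * conj ((χ : G → ℂ) h) =
      ∑ b ∈ blocks M (Subgroup.centralizer ({x} : Set G)) with
        IsInducedBlock M (Subgroup.centralizer ({x} : Set G)) b B,
        blockPart b (fun c : Subgroup.centralizer ({x} : Set G) =>
          open Classical in if IsConj (x * (c : G)) h then (Nat.card (Subgroup.centralizer ({h} : Set G)) : ℂ) else 0) y := by
  classical
  set θ : IrrCharacter G → (Subgroup.centralizer ({x} : Set G)) → ℂ := fun χ c => (χ : G → ℂ) (x * (c : G))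
  have hθ : ∀ χ, IsClassFunction (Subgroup.centralizer ({x} : Set G)) (θ χ) := fun χ => isClassFunction_translate (irr_classFunction χ)
  have h1 : ∀ χ : IrrCharacter G, χ ∈ B → (χ : G → ℂ) (x * (y : G)) =
      ∑ b ∈ blocks M (Subgroup.centralizer ({x} : Set G)) with IsInducedBlock M (Subgroup.centralizer ({x} : Set G)) b B, ∑ k, blockCoeff b k * θ χ (k * y) := by
    intro χ hχ
    rw [show (χ : G → ℂ) (x * (y : G)) = θ χ y from rfl, ← sum_blockCoeff_mul (M := M) (θ χ) y,
      Finset.sum_filter]
    refine Finset.sum_congr rfl fun b hb => ?_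
    split_ifs with hi
    · rfl
    · rw [← blockPart_eq_sum b (hθ χ)]
      exact blockPart_eq_zero_of_not_induced hM hx hB hχ (mem_blocks.mp hb) hi hy
  rw [Finset.sum_congr rfl fun χ hχ => by rw [h1 χ (Finset.mem_filter.mp hχ).2, Finset.sum_mul],
    Finset.sum_comm]
  refine Finset.sum_congr rfl fun b hb => ?_
  obtain ⟨hbB, hbi⟩ := Finset.mem_filter.mp hb
  have hout : ∑ χ : IrrCharacter G with χ ∈ B,
      (∑ k, blockCoeff b k * θ χ (k * y)) * conj ((χ : G → ℂ) h) =
      ∑ χ : IrrCharacter G, (∑ k, blockCoeff b k * θ χ (k * y)) * conj ((χ : G → ℂ) h) := by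
    refine Finset.sum_subset (Finset.subset_univ _) fun χ _ hχ => ?_
    have hχB : χ ∉ B := fun h' => hχ (by simp [h'])
    have hnot : ¬ IsInducedBlock M (Subgroup.centralizer ({x} : Set G)) b (blockOf M (χ : G → ℂ)) := fun h' =>
      hχB (IsInducedBlock.unique hbi h' ▸ mem_blockOf_self χ)
    rw [← blockPart_eq_sum b (hθ χ), blockPart_eq_zero_of_not_induced hM hx (isPBlock_blockOf χ)
      (mem_blockOf_self χ) (mem_blocks.mp hbB) hnot hy, zero_mul]
  have hcls : IsClassFunction (Subgroup.centralizer ({x} : Set G)) (fun c : (Subgroup.centralizer ({x} : Set G)) =>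
      if IsConj (x * (c : G)) h then (Nat.card (Subgroup.centralizer ({h} : Set G)) : ℂ) else 0) := by
    intro c a
    have ha : (a : G) * x = x * (a : G) := Subgroup.mem_centralizer_singleton_iff.mp a.2
    have hconj : IsConj (x * (c : G)) (x * ((a : G) * (c : G) * (a : G)⁻¹)) :=
      isConj_iff.mpr ⟨a, by simp only [← mul_assoc, ha]⟩
    simp only [Subgroup.coe_mul, Subgroup.coe_inv]
    exact if_congr ⟨fun H => hconj.trans H, fun H => hconj.symm.trans H⟩ rfl rfl
  rw [hout, blockPart_eq_sum b hcls]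
  simp only [Finset.sum_mul]
  rw [Finset.sum_comm]
  refine Finset.sum_congr rfl fun k _ => ?_
  simp only [mul_assoc]
  rw [← Finset.mul_sum]
  congr 1
  simp only [θ, Char.column_orthogonality]
  congr 1

end Sections

/-- Characters vanish off the sections of the defect group. -/
theorem value_eq_zero_of_not_mem_defectGroup (hM : IsPModular p M) {χ : IrrCharacter G} {g x : G}
    (hx : IsPPart p g x)
    (hD : ∀ D : Subgroup G, IsDefectGroup p M (blockOf M (χ : G → ℂ)) D → x ∉ D) :
    (χ : G → ℂ) g = 0 := by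
  classical
  have := isPrime_of_isPModular hM
  have : Fact p.Prime := ⟨hM.1⟩
  obtain ⟨y, hxy, hcom, ⟨n, hxn⟩, hy⟩ := hx
  have hBB : IsPBlock M (blockOf M (χ : G → ℂ)) := isPBlock_blockOf χ
  set eB := blockCoeff (blockOf M (χ : G → ℂ))
  have hcls : IsClassFunction G eB := isClassFunction_blockCoeff _
  have h := sum_mul_eq_zero_of_brauer_zero hM hcom hxn hy
    (IsPBlock.memLocalRing_blockCoeff hBB) (conv_blockCoeff_self _) (fun z => hcls z (x * y))
    (fun z hz => ?_) (irr_classFunction χ)
  · rw [hxy, sum_mul_irr_mul hcls χ, omega_blockCoeff, indVec_of_mem (mem_blockOf_self χ),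
      one_mul] at h
    exact h
  · by_contra hu
    obtain ⟨D, hDef⟩ := exists_isDefectGroup hM hBB
    obtain ⟨a, ha⟩ := IsDefectGroup.exists_le_conj_of_support hM hBB hDef hu
      (IsPGroup.of_card (n := n) (by rw [Nat.card_zpowers]; exact hxn) : IsPGroup p (Subgroup.zpowers x))
      (by rw [Subgroup.zpowers_le]; exact Subgroup.mem_centralizer_singleton_iff.mpr hz.symm.eq)
    exact hD _ (IsDefectGroup.conj hM hDef a) (ha (Subgroup.mem_zpowers x))

/-- Block orthogonality. -/
theorem sum_block_eq_zero_of_not_isConj (hM : IsPModular p M) {g h a b : G} (hg : IsPPart p g a)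
    (hh : IsPPart p h b) (hab : ¬ IsConj a b) {B : Set (IrrCharacter G)} (hB : IsPBlock M B)
    [DecidablePred (· ∈ B)] :
    ∑ χ : IrrCharacter G with χ ∈ B, (χ : G → ℂ) g * conj ((χ : G → ℂ) h) = 0 := by
  classical
  have := isPrime_of_isPModular hM
  obtain ⟨y, hxy, hcom, hx, hy⟩ := hg
  have : Fintype (Subgroup.centralizer ({a} : Set G)) := Fintype.ofFinite _
  set yC : Subgroup.centralizer ({a} : Set G) :=
    ⟨y, Subgroup.mem_centralizer_singleton_iff.mpr hcom.symm.eq⟩
  have hyC : ¬ p ∣ orderOf yC := by rwa [← Subgroup.orderOf_coe]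
  rw [← hxy, sum_block_mul_eq_sum_blockPart hM hx hB hyC h]
  refine Finset.sum_eq_zero fun b' hb' => blockPart_eq_zero_of_regular_zero hM
    (mem_blocks.mp (Finset.mem_filter.mp hb').1) (fun c hc => if_neg fun hconj => hab ?_) hyC
  obtain ⟨t, ht⟩ := isConj_iff.mp hconj
  have hpa : IsPPart p (a * (c : G)) a :=
    isPPart_mul (Subgroup.mem_centralizer_singleton_iff.mp c.2).symm hx (by
      rw [Subgroup.orderOf_coe]; exact hc)
  exact isConj_iff.mpr ⟨t, IsPPart.unique hM.1 (ht ▸ IsPPart.conj hpa t) hh⟩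

end CfsgLib.Blocks
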