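import Cfsg.Prelude.Def_BrauerPairs
import Cfsg.Agent.Lib.Blocks.KernelBlock
import Cfsg.Agent.Lib.Blocks.MainSecond

/-!
# Conjugation of blocks of subgroups
-/

set_option autoImplicit false
set_option linter.unusedSectionVars false

namespace CfsgLib.Blocks

open Cfsg
open scoped ComplexConjugate CfsgLib.Char

variable {M : Ideal AlgInt} {G : Type*} [Group G]

/-- The conjugate by `x` of a set of irreducible characters of `K`, read on `K'`. -/
def conjSet (x : G) (K K' : Subgroup G) (f : Set (IrrCharacter K)) : Set (IrrCharacter K') :=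
  {ξ' | ∃ ξ ∈ f, ∀ (c : K) (c' : K'), (c' : G) = x * (c : G) * x⁻¹ →
    (ξ' : K' → ℂ) c' = (ξ : K → ℂ) c}

theorem conjBlock_eq (Q : Subgroup G) (x : G)
    (f : Set (IrrCharacter (Subgroup.centralizer (Q : Set G)))) :
    conjBlock Q x f = conjSet x (Subgroup.centralizer (Q : Set G))
      (Subgroup.centralizer ((Q.map (MulAut.conj x).toMonoidHom : Subgroup G) : Set G)) f := rfl

theorem centralizer_map_conj_iff (Q : Subgroup G) (x g : G) :
    x * g * x⁻¹ ∈ Subgroup.centralizer ((Q.map (MulAut.conj x).toMonoidHom : Subgroup G) : Set G) ↔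
      g ∈ Subgroup.centralizer (Q : Set G) := by
  simp only [Subgroup.mem_centralizer_iff, Subgroup.coe_map, Set.forall_mem_image]
  refine forall_congr' fun q => imp_congr_right fun _ => ?_
  show x * q * x⁻¹ * (x * g * x⁻¹) = x * g * x⁻¹ * (x * q * x⁻¹) ↔ _
  rw [show x * q * x⁻¹ * (x * g * x⁻¹) = x * (q * g) * x⁻¹ by group,
    show x * g * x⁻¹ * (x * q * x⁻¹) = x * (g * q) * x⁻¹ by group, mul_left_inj, mul_right_inj]

theorem conj_mem_iff_of_mem {K : Subgroup G} {x : G} (hx : x ∈ K) (g : G) :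
    x * g * x⁻¹ ∈ K ↔ g ∈ K :=
  ⟨fun h => by simpa [mul_assoc] using K.mul_mem (K.mul_mem (K.inv_mem hx) h) hx,
    fun h => K.mul_mem (K.mul_mem hx h) (K.inv_mem hx)⟩

theorem conj_mem_iff_of_mem_normalizer {K : Subgroup G} {x : G}
    (hx : x ∈ Subgroup.normalizer (K : Set G)) (g : G) : x * g * x⁻¹ ∈ K ↔ g ∈ K :=
  (Subgroup.mem_normalizer_iff.mp hx g).symm

/-- Conjugation by `x` as an isomorphism between two subgroups. -/
def conjIso {x : G} {K K' : Subgroup G} (h : ∀ g, x * g * x⁻¹ ∈ K' ↔ g ∈ K) : K ≃* K' where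
  toFun c := ⟨x * c * x⁻¹, (h _).mpr c.2⟩
  invFun c' := ⟨x⁻¹ * c' * x, (h _).mp (by simp [mul_assoc])⟩
  left_inv c := Subtype.ext (by simp [mul_assoc])
  right_inv c' := Subtype.ext (by simp [mul_assoc])
  map_mul' a b := Subtype.ext (by simp [mul_assoc])

/-- The conjugate of an irreducible character. -/
noncomputable def conjIrr {x : G} {K K' : Subgroup G} (h : ∀ g, x * g * x⁻¹ ∈ K' ↔ g ∈ K)
    (χ : IrrCharacter K) : IrrCharacter K' :=
  ⟨(χ : K → ℂ) ∘ (conjIso h).symm, isIrrCharacter_comp_of_surjective χ.2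
    (conjIso h).symm.toMonoidHom (conjIso h).symm.surjective⟩

variable {x : G} {K K' : Subgroup G} (h : ∀ g, x * g * x⁻¹ ∈ K' ↔ g ∈ K)
include h

theorem conjIso_symm_apply {c : K} {c' : K'} (hc : (c' : G) = x * (c : G) * x⁻¹) :
    (conjIso h).symm c' = c := by
  rw [MulEquiv.symm_apply_eq]
  exact Subtype.ext hc

theorem conjIrr_apply (χ : IrrCharacter K) {c : K} {c' : K'} (hc : (c' : G) = x * (c : G) * x⁻¹) :
    (conjIrr h χ : K' → ℂ) c' = (χ : K → ℂ) c :=
  congrArg (χ : K → ℂ) (conjIso_symm_apply h hc)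

theorem eq_conjIrr {χ : IrrCharacter K} {χ' : IrrCharacter K'}
    (hval : ∀ (c : K) (c' : K'), (c' : G) = x * (c : G) * x⁻¹ →
      (χ' : K' → ℂ) c' = (χ : K → ℂ) c) : χ' = conjIrr h χ :=
  Subtype.ext (funext fun c' => by
    have hc : (c' : G) = x * (((conjIso h).symm c' : K) : G) * x⁻¹ :=
      congrArg Subtype.val ((conjIso h).apply_symm_apply c').symm
    rw [conjIrr_apply h χ hc]
    exact hval _ _ hc)

theorem conjIrr_injective : Function.Injective (conjIrr h) := fun a b hab =>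
  Subtype.ext (funext fun c => by
    have := congrArg (fun t : IrrCharacter K' => (t : K' → ℂ) (conjIso h c)) hab
    simpa [conjIrr] using this)

theorem conjSet_eq_image (f : Set (IrrCharacter K)) : conjSet x K K' f = conjIrr h '' f := by
  ext ξ'
  constructor
  · rintro ⟨ξ, hξ, hval⟩
    exact ⟨ξ, hξ, (eq_conjIrr h hval).symm⟩
  · rintro ⟨ξ, hξ, rfl⟩
    exact ⟨ξ, hξ, fun c c' hc => conjIrr_apply h ξ hc⟩

theorem conjIrr_mem_conjSet {f : Set (IrrCharacter K)} {χ : IrrCharacter K} (hχ : χ ∈ f) :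
    conjIrr h χ ∈ conjSet x K K' f :=
  ⟨χ, hχ, fun _ _ hc => conjIrr_apply h χ hc⟩

theorem conjSet_conjSet {y : G} {K'' : Subgroup G} (h' : ∀ g, y * g * y⁻¹ ∈ K'' ↔ g ∈ K')
    (f : Set (IrrCharacter K)) :
    conjSet y K' K'' (conjSet x K K' f) = conjSet (y * x) K K'' f := by
  have hh : ∀ g, y * x * g * (y * x)⁻¹ ∈ K'' ↔ g ∈ K := fun g => by
    rw [show y * x * g * (y * x)⁻¹ = y * (x * g * x⁻¹) * y⁻¹ by group, h', h]
  rw [conjSet_eq_image h, conjSet_eq_image h', conjSet_eq_image hh, Set.image_image]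
  refine Set.image_congr fun χ _ => eq_conjIrr hh fun c c'' hc => ?_
  rw [conjIrr_apply h' _ (c := conjIso h c) (by rw [hc]; show _ = y * (x * c * x⁻¹) * y⁻¹; group)]
  exact conjIrr_apply h χ rfl

theorem isPBlock_conjSet [Finite G] [M.IsPrime] {f : Set (IrrCharacter K)} (hf : IsPBlock M f) :
    IsPBlock M (conjSet x K K' f) := by
  classical
  have := Fintype.ofFinite G
  obtain ⟨χ, rfl⟩ := hf
  refine ⟨conjIrr h χ, Set.ext fun ψ => ?_⟩
  rw [conjSet_eq_image h, mem_blockOf_iff]
  constructor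
  · rintro ⟨η, hη, rfl⟩
    exact sameBlock_inflate (conjIso h).symm.toMonoidHom (conjIso h).symm.surjective hη
  · intro hψ
    refine ⟨⟨(ψ : K' → ℂ) ∘ (conjIso h), isIrrCharacter_comp_of_surjective ψ.2
      (conjIso h).toMonoidHom (conjIso h).surjective⟩, ?_, (eq_conjIrr h fun c c' hc => ?_).symm⟩
    · have := sameBlock_inflate (conjIso h).toMonoidHom (conjIso h).surjective hψ
      rw [mem_blockOf_iff]
      convert this using 1
      · funext c
        exact (conjIrr_apply h χ (c := c) (c' := conjIso h c) rfl).symm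
      · rfl
    · show (ψ : K' → ℂ) c' = (ψ : K' → ℂ) (conjIso h c)
      exact congrArg _ (Subtype.ext hc)

theorem blockCoeff_conjSet (f : Set (IrrCharacter K)) {c : K} {c' : K'}
    (hc : (c' : G) = x * (c : G) * x⁻¹) :
    blockCoeff (conjSet x K K' f) c' = blockCoeff f c := by
  rw [blockCoeff, blockCoeff, Nat.card_congr (conjIso h).toEquiv]
  congr 1
  rw [conjSet_eq_image h, finsum_mem_image (conjIrr_injective h).injOn]
  refine finsum_mem_congr rfl fun χ _ => ?_
  rw [conjIrr_apply h χ hc, conjIrr_apply h χ (c := 1) (c' := 1) (by simp)]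

theorem extendByZero_conjSet [Finite G] (f : Set (IrrCharacter K)) (g : G) :
    extendByZero K' (blockCoeff (conjSet x K K' f)) (x * g * x⁻¹) =
      extendByZero K (blockCoeff f) g := by
  have := Fintype.ofFinite G
  by_cases hg : g ∈ K
  · have h1 := extendByZero_apply K' (blockCoeff (conjSet x K K' f)) ⟨x * g * x⁻¹, (h g).mpr hg⟩
    have h2 := extendByZero_apply K (blockCoeff f) ⟨g, hg⟩
    rw [h1, h2]
    exact blockCoeff_conjSet h f rfl
  · rw [extendByZero_eq_zero K _ hg, extendByZero_eq_zero K' _ fun hh => hg ((h g).mp hh)]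

omit h in
theorem subgroupBlockCoeff_eq [Finite G] (K : Subgroup G) (f : Set (IrrCharacter K)) :
    subgroupBlockCoeff K f = extendByZero K (blockCoeff f) := by
  have := Fintype.ofFinite G
  funext g
  rw [subgroupBlockCoeff]
  by_cases hg : g ∈ K
  · rw [dif_pos hg]
    exact (extendByZero_apply K (blockCoeff f) ⟨g, hg⟩).symm
  · rw [dif_neg hg, extendByZero_eq_zero K _ hg]

theorem subgroupBlockCoeff_conjSet [Finite G] (f : Set (IrrCharacter K)) (g : G) :
    subgroupBlockCoeff K' (conjSet x K K' f) (x * g * x⁻¹) = subgroupBlockCoeff K f g := by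
  rw [subgroupBlockCoeff_eq, subgroupBlockCoeff_eq, extendByZero_conjSet h]

omit h in
theorem conjSet_of_mem [Finite G] {x : G} {K : Subgroup G} (hx : x ∈ K) (f : Set (IrrCharacter K)) :
    conjSet x K K f = f := by
  classical
  have := Fintype.ofFinite G
  have h := conj_mem_iff_of_mem hx
  rw [conjSet_eq_image h]
  have hid : conjIrr h = id := funext fun χ => (eq_conjIrr h fun c c' hc => by
    show (χ : K → ℂ) c' = (χ : K → ℂ) c
    rw [show c' = (⟨x, hx⟩ : K) * c * (⟨x, hx⟩ : K)⁻¹ from Subtype.ext hc]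
    exact irr_classFunction χ c ⟨x, hx⟩).symm
  rw [hid, Set.image_id]

omit h in
theorem conjSet_of_commute {x : G} {K : Subgroup G} (hx : ∀ c ∈ K, Commute x c)
    (f : Set (IrrCharacter K)) : conjSet x K K f = f := by
  have h : ∀ g, x * g * x⁻¹ ∈ K ↔ g ∈ K := fun g => by
    constructor
    · intro hg
      have e := (hx _ hg).eq
      rw [show x * (x * g * x⁻¹) = x * (x * g) * x⁻¹ by group] at e
      have e' : x * g * x⁻¹ = g := by
        have := congrArg (fun t => x⁻¹ * t) e
        simpa [mul_assoc] using this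
      rwa [← e']
    · intro hg
      rwa [(hx g hg).eq, mul_inv_cancel_right]
  rw [conjSet_eq_image h]
  have hid : conjIrr h = id := funext fun χ => (eq_conjIrr h fun c c' hc => by
    show (χ : K → ℂ) c' = (χ : K → ℂ) c
    rw [show c' = c from Subtype.ext (by rw [hc, (hx c c.2).eq, mul_inv_cancel_right])]).symm
  rw [hid, Set.image_id]

omit h in
theorem stabilizesBlock_iff [Finite G] {x : G} {K : Subgroup G} {f : Set (IrrCharacter K)} :
    StabilizesBlock K f x ↔ x ∈ Subgroup.normalizer (K : Set G) ∧ conjSet x K K f = f := by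
  classical
  have := Fintype.ofFinite G
  refine and_congr_right fun hx => ?_
  have h := conj_mem_iff_of_mem_normalizer hx
  rw [conjSet_eq_image h]
  constructor
  · intro hs
    refine Set.eq_of_subset_of_ncard_le ?_ (Set.ncard_image_of_injective f (conjIrr_injective h)).ge
    rintro _ ⟨χ, hχ, rfl⟩
    obtain ⟨χ', hχ', hval⟩ := hs χ hχ
    exact eq_conjIrr h hval ▸ hχ'
  · intro he χ hχ
    exact ⟨_, he ▸ ⟨χ, hχ, rfl⟩, fun c c' hc => conjIrr_apply h χ hc⟩

omit h in
theorem mem_normalizer_centralizer {Q : Subgroup G} {x : G}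
    (hx : x ∈ Subgroup.normalizer (Q : Set G)) :
    x ∈ Subgroup.normalizer ((Subgroup.centralizer (Q : Set G) : Subgroup G) : Set G) :=
  Subgroup.mem_normalizer_iff.mpr fun g => by
    simp only [Subgroup.mem_centralizer_iff]
    constructor
    · intro hg q hq
      have := hg _ ((Subgroup.mem_normalizer_iff.mp (inv_mem hx) q).mp hq)
      calc q * (x * g * x⁻¹) = x * ((x⁻¹ * q * x⁻¹⁻¹) * g) * x⁻¹ := by group
        _ = x * (g * (x⁻¹ * q * x⁻¹⁻¹)) * x⁻¹ := by rw [this]
        _ = x * g * x⁻¹ * q := by group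
    · intro hg q hq
      have := hg _ ((Subgroup.mem_normalizer_iff.mp hx q).mp hq)
      calc q * g = x⁻¹ * ((x * q * x⁻¹) * (x * g * x⁻¹)) * x := by group
        _ = x⁻¹ * ((x * g * x⁻¹) * (x * q * x⁻¹)) * x := by rw [this]
        _ = g * q := by group

end CfsgLib.Blocks
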