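import Cfsg.Agent.Lib.Blocks.SingleBlock
import Cfsg.Agent.Lib.Coprime.Action

/-!
# Constrained centralizers of `p`-elements, and blocks whose defect group contains such an element

If the centralizer of a `p`-element lies in a group with a normal `p`-subgroup containing its
centralizer, it has such a subgroup itself (Thompson's `P × Q` lemma).  A block whose defect group
contains an element of order `p` with constrained centralizer is the principal block.
-/

set_option autoImplicit false
set_option linter.unusedSectionVars false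

namespace CfsgLib.Blocks.SingleBlock

open Cfsg CfsgLib.Blocks CfsgLib.Char
open scoped CfsgLib.Char

variable {p : ℕ} {G : Type*} [Group G] [Finite G]

theorem constrained_centralizer [hp : Fact p.Prime] {P O : Subgroup G} {x : G}
    (hx : IsPGroup p (Subgroup.zpowers x)) (hxP : Subgroup.centralizer ({x} : Set G) ≤ P)
    (hO : IsPGroup p O) (hnorm : P ≤ Subgroup.normalizer (O : Set G))
    (hc : ∀ g ∈ P, (∀ o ∈ O, g * o = o * g) → g ∈ O) :
    Constrained p (Subgroup.centralizer ({x} : Set G)) := by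
  set C := Subgroup.centralizer ({x} : Set G) with hC
  set E₀ := O ⊓ C with hE₀
  set K := C ⊓ Subgroup.centralizer (E₀ : Set G) with hK
  have hCO : C ≤ Subgroup.normalizer (O : Set G) := hxP.trans hnorm
  have hxx : x ∈ C := Subgroup.mem_centralizer_singleton_iff.mpr rfl
  have hCE₀ : ∀ c ∈ C, ∀ e ∈ E₀, c * e * c⁻¹ ∈ E₀ := fun c hcC e he =>
    ⟨(Subgroup.mem_normalizer_iff.1 (hCO hcC) e).1 he.1,
      C.mul_mem (C.mul_mem hcC he.2) (C.inv_mem hcC)⟩
  have hCK : ∀ c ∈ C, ∀ k ∈ K, c * k * c⁻¹ ∈ K := by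
    intro c hcC k hk
    refine ⟨C.mul_mem (C.mul_mem hcC hk.1) (C.inv_mem hcC), Subgroup.mem_centralizer_iff.mpr fun e he => ?_⟩
    have h1 : c⁻¹ * e * c ∈ E₀ := by
      have := hCE₀ c⁻¹ (inv_mem hcC) e he
      rwa [inv_inv] at this
    have h2 := Subgroup.mem_centralizer_iff.mp hk.2 _ h1
    calc e * (c * k * c⁻¹) = c * ((c⁻¹ * e * c) * k) * c⁻¹ := by group
      _ = c * (k * (c⁻¹ * e * c)) * c⁻¹ := by rw [h2]
      _ = c * k * c⁻¹ * e := by group
  -- `K` is a `p`-group
  have hKp : IsPGroup p K := by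
    refine IsPGroup.iff_card.mpr ⟨_, Nat.eq_prime_pow_of_unique_prime_dvd Nat.card_pos.ne'
      (fun {q} hq hqd => ?_)⟩
    by_contra hqp
    have := Fact.mk hq
    obtain ⟨⟨y, hy⟩, hyq⟩ := exists_prime_orderOf_dvd_card' (G := K) q hqd
    rw [Subgroup.orderOf_mk] at hyq
    set Q := Subgroup.zpowers y with hQdef
    have hcop : (Nat.card Q).Coprime p := by
      rw [Nat.card_zpowers, hyq]
      exact (Nat.coprime_primes hq hp.out).mpr hqp
    have hQC : Q ≤ C := Subgroup.zpowers_le.mpr hy.1
    have hxQ : Subgroup.zpowers x ≤ Subgroup.centralizer (Q : Set G) := by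
      refine Subgroup.zpowers_le.mpr (Subgroup.mem_centralizer_iff.mpr fun z hz => ?_)
      exact Subgroup.mem_centralizer_singleton_iff.mp (hQC hz)
    have hQO := Coprime.pxq hx hcop hxQ hO (Subgroup.zpowers_le.mpr (hCO hxx)) (hQC.trans hCO)
      (fun o ho => Subgroup.mem_centralizer_iff.mpr fun z hz => by
        have hoC : o ∈ C := Subgroup.mem_centralizer_singleton_iff.mpr
          (Subgroup.mem_centralizer_iff.mp ho.2 x (Subgroup.mem_zpowers x)).symm
        obtain ⟨m, rfl⟩ := Subgroup.mem_zpowers_iff.mp hz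
        exact ((Commute.zpow_right (show Commute o y from
          Subgroup.mem_centralizer_iff.mp hy.2 o ⟨ho.1, hoC⟩) m).symm).eq)
    have hyO : y ∈ O := hc y (hxP hy.1) fun o ho =>
      (Subgroup.mem_centralizer_iff.mp (hQO (Subgroup.mem_zpowers y)) o ho).symm
    obtain ⟨m, hm⟩ := IsPGroup.iff_orderOf.mp hO ⟨y, hyO⟩
    rw [Subgroup.orderOf_mk, hyq] at hm
    exact hqp ((Nat.prime_dvd_prime_iff_eq hq hp.out).mp (hq.dvd_of_dvd_pow (dvd_of_eq hm)))
  have hKE₀ : K ≤ Subgroup.normalizer (E₀ : Set G) :=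
    inf_le_right.trans (Subgroup.centralizer_le_normalizer _)
  refine ⟨E₀ ⊔ K, sup_le inf_le_right inf_le_left,
    IsPGroup.to_sup_of_normal_left' (hO.to_le inf_le_left) hKp hKE₀, ?_, ?_⟩
  · intro c hcC e he
    have hle : (E₀ ⊔ K).map (MulAut.conj c).toMonoidHom ≤ E₀ ⊔ K := by
      rw [Subgroup.map_sup]
      refine sup_le_sup ?_ ?_
      · rintro _ ⟨a, ha, rfl⟩; exact hCE₀ c hcC a ha
      · rintro _ ⟨a, ha, rfl⟩; exact hCK c hcC a ha
    exact hle ⟨e, he, rfl⟩
  · intro c hcC hcom
    exact Subgroup.mem_sup_right ⟨hcC, Subgroup.mem_centralizer_iff.mpr fun e he =>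
      (hcom e (Subgroup.mem_sup_left he)).symm⟩

variable {M : Ideal AlgInt}

/-- A block whose defect group has an element of order `p` with constrained centralizer is the
principal block. -/
theorem eq_principalBlock_of_mem (hM : IsPModular p M) {B : Set (IrrCharacter G)}
    (hB : IsPBlock M B) {D : Subgroup G} (hD : IsDefectGroup p M B D) {u : G} (huD : u ∈ D)
    (hu : orderOf u = p) (hloc : Constrained p (Subgroup.centralizer ({u} : Set G))) :
    B = principalBlock M G := by
  classical
  haveI := isPrime_of_isPModular hM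
  haveI := Fintype.ofFinite G
  haveI : Fact p.Prime := ⟨hM.1⟩
  set P := Subgroup.zpowers u
  have hP : IsPGroup p P := IsPGroup.of_card (n := 1) (by rw [Nat.card_zpowers, hu, pow_one])
  set H := Subgroup.centralizer (P : Set G)
  have hPH : P ≤ H := Subgroup.zpowers_le.mpr <| Subgroup.mem_centralizer_iff.mpr fun y hy => by
    obtain ⟨k, rfl⟩ := Subgroup.mem_zpowers_iff.mp hy
    exact (Commute.refl u).zpow_left k
  have hHN : H ≤ Subgroup.normalizer (P : Set G) := Subgroup.centralizer_le_normalizer _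
  have hHeq : H = Subgroup.centralizer ({u} : Set G) := by
    refine le_antisymm (Subgroup.centralizer_le (by simp [P])) fun c hc => ?_
    rw [Subgroup.mem_centralizer_singleton_iff] at hc
    refine Subgroup.mem_centralizer_iff.mpr fun y hy => ?_
    obtain ⟨k, rfl⟩ := Subgroup.mem_zpowers_iff.mp hy
    exact (Commute.symm (show Commute c u from hc)).zpow_left k
  haveI : Fintype H := Fintype.ofFinite _
  obtain ⟨b, hb⟩ := (exists_isInducedBlock_iff hM hP hPH le_rfl hHN hB hD).mpr
    ⟨1, fun y => by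
      rintro ⟨q, hq, rfl⟩
      obtain ⟨k, rfl⟩ := Subgroup.mem_zpowers_iff.mp hq
      simpa using zpow_mem huD k⟩
  obtain ⟨E, hEH, hEp, hn, hc⟩ := hHeq ▸ hloc
  haveI : (E.subgroupOf H).Normal := ⟨fun e he c => hn _ c.2 _ he⟩
  have hEp' : IsPGroup p (E.subgroupOf H) := hEp.of_equiv (Subgroup.subgroupOfEquivOfLe hEH).symm
  have hcE : Subgroup.centralizer (E.subgroupOf H : Set H) ≤ E.subgroupOf H := fun c hcc =>
    hc _ c.2 fun e he =>
      (congrArg Subtype.val (Subgroup.mem_centralizer_iff.mp hcc ⟨e, hEH he⟩ he)).symm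
  obtain ⟨ξ, hξ⟩ := IsPBlock.nonempty hb.1
  have hbp : b = principalBlock M H := IsPBlock.eq_of_mem_of_mem hb.1 isPBlock_principalBlock hξ
    (mem_principalBlock_of_normal hM (E.subgroupOf H) hEp' hcE ξ)
  have h0 := isInducedBlock_principal hM (G := G) (H := H)
    ⟨B, hbp ▸ hb⟩
  exact IsInducedBlock.unique (hbp ▸ hb) h0

end CfsgLib.Blocks.SingleBlock
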