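import Cfsg.Agent.Lib.Blocks.GroupRing

/-!
# Primitive idempotents of a finite-dimensional algebra and a divisibility of multiplicities

For a primitive idempotent `j` and an idempotent `i` the multiplicity of `j` in `i` is the
dimension of a space of functionals.  If `i` is a trace of an automorphism of order `p`, then the
sum over the components of `i` of an invariant integer function is divisible by `p`.
-/

set_option autoImplicit false
set_option linter.unusedSectionVars false

namespace CfsgLib.Corner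

open Polynomial Module

variable {K : Type*} [Field K] {A : Type*} [Ring A] [Algebra K A]

/-- A primitive idempotent. -/
structure IsPrim (i : A) : Prop where
  idem : IsIdempotentElem i
  ne_zero : i ≠ 0
  eq_of_le : ∀ e : A, IsIdempotentElem e → i * e = e → e * i = e → e = 0 ∨ e = i

/-- Equivalence of idempotents. -/
def Equiv' (i j : A) : Prop := ∃ x y : A, x * y = i ∧ y * x = j

theorem Equiv'.refl {i : A} (hi : IsIdempotentElem i) : Equiv' i i := ⟨i, i, hi.eq, hi.eq⟩

theorem Equiv'.symm {i j : A} : Equiv' i j → Equiv' j i := fun ⟨x, y, h1, h2⟩ => ⟨y, x, h2, h1⟩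

theorem Equiv'.trans {i j k : A} (hi : IsIdempotentElem i) (hk : IsIdempotentElem k) :
    Equiv' i j → Equiv' j k → Equiv' i k := by
  rintro ⟨x, y, h1, h2⟩ ⟨x', y', h3, h4⟩
  refine ⟨x * x', y' * y, ?_, ?_⟩
  · calc x * x' * (y' * y) = x * (x' * y') * y := by simp only [mul_assoc]
      _ = (x * y) * (x * y) := by rw [h3, ← h2]; simp only [mul_assoc]
      _ = i := by rw [h1, hi.eq]
  · calc y' * y * (x * x') = y' * (y * x) * x' := by simp only [mul_assoc]
      _ = (y' * x') * (y' * x') := by rw [h2, ← h3]; simp only [mul_assoc]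
      _ = k := by rw [h4, hk.eq]

theorem Equiv'.map {i j : A} (σ : A ≃ₐ[K] A) : Equiv' i j → Equiv' (σ i) (σ j) :=
  fun ⟨x, y, h1, h2⟩ => ⟨σ x, σ y, by rw [← map_mul, h1], by rw [← map_mul, h2]⟩

/-- Equivalent idempotents are equivalent inside their corners. -/
theorem Equiv'.exists_corner {i j : A} (hi : IsIdempotentElem i) (hj : IsIdempotentElem j)
    (h : Equiv' i j) : ∃ x y : A, x * y = i ∧ y * x = j ∧
      i * x = x ∧ x * j = x ∧ j * y = y ∧ y * i = y := by
  obtain ⟨x, y, h1, h2⟩ := h
  refine ⟨i * x * j, j * y * i, ?_, ?_, by simp only [← mul_assoc, hi.eq],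
    by simp only [mul_assoc, hj.eq], by simp only [← mul_assoc, hj.eq],
    by simp only [mul_assoc, hi.eq]⟩
  · calc i * x * j * (j * y * i) = i * x * (j * j) * y * i := by simp only [mul_assoc]
      _ = i * (x * y) * (x * y) * i := by rw [hj.eq, ← h2]; simp only [mul_assoc]
      _ = i := by rw [h1, hi.eq, hi.eq, hi.eq]
  · calc j * y * i * (i * x * j) = j * y * (i * i) * x * j := by simp only [mul_assoc]
      _ = j * (y * x) * (y * x) * j := by rw [hi.eq, ← h1]; simp only [mul_assoc]
      _ = j := by rw [h2, hj.eq, hj.eq, hj.eq]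

theorem isPrim_map (σ : A ≃ₐ[K] A) {i : A} (hi : IsPrim i) : IsPrim (σ i) := by
  refine ⟨hi.idem.map σ, fun h => hi.ne_zero (σ.map_eq_zero_iff.mp h), fun e he h1 h2 => ?_⟩
  rcases hi.eq_of_le (σ.symm e) (he.map σ.symm)
    (σ.injective (by simp [h1])) (σ.injective (by simp [h2])) with h | h
  · exact Or.inl (by simpa using congrArg σ h)
  · exact Or.inr (by simpa using congrArg σ h)

theorem pow_mul_pow_eq {i a t : A} (hai : i * a = a) (h : t * a = i) :
    ∀ n, t ^ (n + 1) * a ^ (n + 1) = i := by
  intro n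
  induction n with
  | zero => simpa using h
  | succ n ih =>
    calc t ^ (n + 1 + 1) * a ^ (n + 1 + 1) = t ^ (n + 1) * (t * a) * a ^ (n + 1) := by
          rw [pow_succ t (n + 1), pow_succ' a (n + 1)]; simp only [mul_assoc]
      _ = t ^ (n + 1) * a ^ (n + 1) := by rw [h, mul_assoc, pow_succ' a n, ← mul_assoc i, hai]
      _ = i := ih

theorem mul_mul_pow_eq {i a x y : A} (h : y * x = i) (hia : i * a = a) :
    ∀ k, (x * a * y) ^ (k + 1) = x * a ^ (k + 1) * y := by
  intro k
  induction k with
  | zero => simp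
  | succ k ih =>
    rw [pow_succ, ih, pow_succ a (k + 1)]
    calc x * a ^ (k + 1) * y * (x * a * y) = x * a ^ (k + 1) * ((y * x) * a) * y := by
          simp only [mul_assoc]
      _ = _ := by rw [h, hia]; simp only [mul_assoc]

section FiniteDim

variable [FiniteDimensional K A]

include K in
theorem exists_fitting (s : A) :
    ∃ (t : A) (n : ℕ), Commute s t ∧ (∀ i : A, Commute i s → Commute i t) ∧
      IsIdempotentElem (s * t) ∧ s ^ n * (s * t) = s ^ n := by
  have hint : IsIntegral K s := Algebra.IsIntegral.isIntegral s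
  obtain ⟨ν, hν, hnd⟩ := exists_eq_pow_rootMultiplicity_mul_and_not_dvd (minpoly K s)
    (minpoly.ne_zero hint) 0
  rw [C_0, sub_zero] at hν hnd
  set n := rootMultiplicity 0 (minpoly K s)
  obtain ⟨a, b, hab⟩ := IsCoprime.pow_left (m := n + 1)
    (((irreducible_X : Irreducible (X : K[X])).coprime_iff_not_dvd).mpr hnd)
  have hzero : aeval s (X ^ n * ν) = 0 := by rw [← hν, minpoly.aeval]
  have he : s * aeval s (a * X ^ n) = aeval s (a * X ^ (n + 1)) := by
    rw [show a * X ^ (n + 1) = X * (a * X ^ n) by ring]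
    simp only [map_mul, map_pow, aeval_X]
  have hcomm : ∀ i : A, Commute i s → Commute i (aeval s (a * X ^ n)) := fun i hi =>
    (Subalgebra.mem_centralizer_iff _).mp (Algebra.adjoin_le
      (Set.singleton_subset_iff.mpr ((Subalgebra.mem_centralizer_iff _).mpr fun g hg => by
        rw [Set.mem_singleton_iff.mp hg]; exact hi.eq))
      (aeval_mem_adjoin_singleton K s)) i (Set.mem_singleton i)
  refine ⟨aeval s (a * X ^ n), n, hcomm s (Commute.refl s), hcomm, ?_, ?_⟩
  · rw [IsIdempotentElem, he, ← sub_eq_zero, ← map_mul, ← map_sub,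
      show a * X ^ (n + 1) * (a * X ^ (n + 1)) - a * X ^ (n + 1) =
        -(a * b * X) * (X ^ n * ν) from by linear_combination (a * X ^ (n + 1)) * hab,
      map_mul, hzero, mul_zero]
  · rw [he, ← sub_eq_zero, show s ^ n = aeval s (X ^ n : K[X]) by simp, ← map_mul, ← map_sub,
      show X ^ n * (a * X ^ (n + 1)) - X ^ n = -b * (X ^ n * ν) from by
        linear_combination X ^ n * hab, map_mul, hzero, mul_zero]

include K in
theorem IsPrim.dichotomy {i s : A} (hi : IsPrim i) (his : i * s = s) (hsi : s * i = s) :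
    IsNilpotent s ∨ ∃ t : A, i * t = t ∧ t * i = t ∧ t * s = i ∧ s * t = i := by
  obtain ⟨t, n, hst, hcomm, he, hn⟩ := exists_fitting (K := K) s
  have hit : Commute i t := hcomm i (by rw [Commute, SemiconjBy, his, hsi])
  rcases hi.eq_of_le (s * t) he (by rw [← mul_assoc, his])
    (by rw [mul_assoc, ← hit.eq, ← mul_assoc, hsi]) with h | h
  · exact Or.inl ⟨n, by rw [← hn, h, mul_zero]⟩
  · refine Or.inr ⟨i * t * i, by simp only [← mul_assoc, hi.idem.eq],
      by simp only [mul_assoc, hi.idem.eq], ?_, ?_⟩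
    · rw [mul_assoc, his, mul_assoc, ← hst.eq, h, hi.idem.eq]
    · rw [← mul_assoc, ← mul_assoc, hsi, h, hi.idem.eq]

/-- In a corner of a primitive idempotent an element with a one-sided inverse is not nilpotent. -/
theorem IsPrim.not_isNilpotent_of_left {i a t : A} (hi : IsPrim i) (hia : i * a = a)
    (h : t * a = i) : ¬ IsNilpotent a := by
  rintro ⟨n, hn⟩
  refine hi.ne_zero ?_
  rw [← pow_mul_pow_eq hia h n, pow_succ a n, hn, zero_mul, mul_zero]

include K in
theorem IsPrim.isNilpotent_mul_left {i a b : A} (hi : IsPrim i) (hia : i * a = a) (hai : a * i = a)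
    (hib : i * b = b) (ha : IsNilpotent a) : IsNilpotent (b * a) := by
  rcases hi.dichotomy (K := K) (s := b * a) (by rw [← mul_assoc, hib]) (by rw [mul_assoc, hai])
    with h | ⟨t, -, -, ht, -⟩
  · exact h
  · exact absurd ha (hi.not_isNilpotent_of_left hia (t := t * b) (by rw [mul_assoc, ht]))

include K in
theorem IsPrim.isNilpotent_mul_right {i a b : A} (hi : IsPrim i) (hia : i * a = a) (hai : a * i = a)
    (hbi : b * i = b) (ha : IsNilpotent a) : IsNilpotent (a * b) := by
  obtain ⟨m, hm⟩ := hi.isNilpotent_mul_left (K := K) hia hai (b := i * b)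
    (by rw [← mul_assoc, hi.idem.eq]) ha
  refine ⟨m + 1, ?_⟩
  have key : ∀ k, (a * b) ^ (k + 1) = a * (i * b * a) ^ k * b := by
    intro k
    induction k with
    | zero => simp
    | succ k ih =>
      rw [pow_succ, ih, pow_succ _ k]
      calc a * (i * b * a) ^ k * b * (a * b) = a * (i * b * a) ^ k * (b * a) * b := by
            simp only [mul_assoc]
        _ = _ := by
          rcases k with - | k
          · simp only [pow_zero, mul_one, one_mul, ← mul_assoc, hai]
          · rw [pow_succ _ k]
            simp only [mul_assoc]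
            congr 4
            simp only [← mul_assoc, hai]
  rw [key, hm, mul_zero, zero_mul]

include K in
theorem IsPrim.isNilpotent_add {i a b : A} (hi : IsPrim i) (hia : i * a = a) (hai : a * i = a)
    (hib : i * b = b) (hbi : b * i = b) (ha : IsNilpotent a) (hb : IsNilpotent b) :
    IsNilpotent (a + b) := by
  rcases hi.dichotomy (K := K) (s := a + b) (by rw [mul_add, hia, hib]) (by rw [add_mul, hai, hbi])
    with h | ⟨t, hit, -, ht, -⟩
  · exact h
  · exfalso
    have h1 : t * b = i - t * a := by rw [← ht, mul_add, add_sub_cancel_left]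
    have hna := hi.isNilpotent_mul_left (K := K) hia hai hit ha
    have hnb := hi.isNilpotent_mul_left (K := K) hib hbi hit hb
    have hcomm : Commute (t * b) (t * a) := by
      rw [h1]
      refine Commute.sub_left ?_ (Commute.refl _)
      rw [Commute, SemiconjBy, ← mul_assoc, hit, mul_assoc, hai]
    obtain ⟨n, hn⟩ := hcomm.isNilpotent_add hnb hna
    rw [h1, sub_add_cancel] at hn
    refine hi.ne_zero ?_
    rw [← hi.idem.pow_succ_eq n, pow_succ, hn, zero_mul]

variable [IsAlgClosed K]

include K in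
theorem IsPrim.exists_scalar {i s : A} (hi : IsPrim i) (his : i * s = s) (hsi : s * i = s) :
    ∃ c : K, IsNilpotent (s - c • i) := by
  classical
  by_contra hcon
  push Not at hcon
  have hinv : ∀ c : K, ∃ t, i * t = t ∧ t * i = t ∧ t * (s - c • i) = i := fun c => by
    rcases hi.dichotomy (K := K) (s := s - c • i)
      (by rw [mul_sub, his, mul_smul_comm, hi.idem.eq])
      (by rw [sub_mul, hsi, smul_mul_assoc, hi.idem.eq]) with h | ⟨t, h1, h2, h3, -⟩
    · exact absurd h (hcon c)
    · exact ⟨t, h1, h2, h3⟩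
  have key : ∀ u : Multiset K,
      ∃ t, t * (i * aeval s (u.map fun r => X - C r).prod) = i := by
    intro u
    induction u using Multiset.induction with
    | empty => exact ⟨i, by simp [hi.idem.eq]⟩
    | cons r u ih =>
      obtain ⟨t, ht⟩ := ih
      obtain ⟨t', hit', ht'i, ht'⟩ := hinv r
      refine ⟨t * t', ?_⟩
      rw [Multiset.map_cons, Multiset.prod_cons, map_mul, map_sub, aeval_X, aeval_C,
        Algebra.algebraMap_eq_smul_one, ← mul_assoc i, mul_sub, his, mul_smul_comm, mul_one]
      calc t * t' * ((s - r • i) * aeval s (u.map fun r => X - C r).prod)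
          = t * (t' * (s - r • i)) * aeval s (u.map fun r => X - C r).prod := by
            simp only [mul_assoc]
        _ = i := by rw [ht', mul_assoc, ht]
  have hint : IsIntegral K s := Algebra.IsIntegral.isIntegral s
  obtain ⟨t, ht⟩ := key (minpoly K s).roots
  rw [← (IsAlgClosed.splits (minpoly K s)).eq_prod_roots_of_monic (minpoly.monic hint),
    minpoly.aeval, mul_zero, mul_zero] at ht
  exact hi.ne_zero ht.symm

variable (K) in
/-- The character of the corner of a primitive idempotent. -/
noncomputable def phi (i a : A) : K :=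
  open Classical in
  if h : ∃ c : K, IsNilpotent (i * a * i - c • i) then h.choose else 0

theorem IsPrim.phi_spec {i : A} (hi : IsPrim i) (a : A) :
    IsNilpotent (i * a * i - phi K i a • i) := by
  have h : ∃ c : K, IsNilpotent (i * a * i - c • i) :=
    hi.exists_scalar (by simp only [← mul_assoc, hi.idem.eq]) (by simp only [mul_assoc, hi.idem.eq])
  rw [phi, dif_pos h]
  exact h.choose_spec

theorem IsPrim.phi_eq {i a : A} (hi : IsPrim i) {c : K}
    (h : IsNilpotent (i * a * i - c • i)) : phi K i a = c := by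
  by_contra hne
  have hl : ∀ d : K, i * (i * a * i - d • i) = i * a * i - d • i := fun d => by
    simp only [mul_sub, ← mul_assoc, mul_smul_comm, hi.idem.eq]
  have hr : ∀ d : K, (i * a * i - d • i) * i = i * a * i - d • i := fun d => by
    simp only [sub_mul, mul_assoc, smul_mul_assoc, hi.idem.eq]
  have h2 := hi.isNilpotent_add (K := K) (hl _) (hr _)
    (b := -(i * a * i - c • i)) (by rw [mul_neg, hl]) (by rw [neg_mul, hr]) (hi.phi_spec a) h.neg
  rw [neg_sub, sub_add_sub_cancel', ← sub_smul] at h2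
  obtain ⟨n, hn⟩ := h2
  refine hi.ne_zero ?_
  have h3 : ((c - phi K i a) • i) ^ (n + 1) = 0 := by rw [pow_succ, hn, zero_mul]
  rw [_root_.smul_pow, hi.idem.pow_succ_eq n, smul_eq_zero] at h3
  exact h3.resolve_left (pow_ne_zero _ (sub_ne_zero.mpr fun h' => hne h'.symm))

theorem IsPrim.phi_add {i : A} (hi : IsPrim i) (a b : A) :
    phi K i (a + b) = phi K i a + phi K i b := by
  refine hi.phi_eq ?_
  rw [show i * (a + b) * i - (phi K i a + phi K i b) • i =
    (i * a * i - phi K i a • i) + (i * b * i - phi K i b • i) by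
      rw [mul_add, add_mul, add_smul]; abel]
  refine hi.isNilpotent_add (K := K) ?_ ?_ ?_ ?_ (hi.phi_spec a) (hi.phi_spec b) <;>
    simp only [mul_sub, sub_mul, ← mul_assoc, mul_smul_comm, smul_mul_assoc, hi.idem.eq] <;>
    simp only [mul_assoc, hi.idem.eq]

theorem IsPrim.phi_smul {i : A} (hi : IsPrim i) (c : K) (a : A) :
    phi K i (c • a) = c * phi K i a := by
  refine hi.phi_eq ?_
  rw [mul_smul_comm, smul_mul_assoc, mul_smul, ← smul_sub]
  exact (hi.phi_spec a).smul c

theorem IsPrim.phi_self {i : A} (hi : IsPrim i) : phi K i i = 1 := by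
  refine hi.phi_eq ?_
  rw [one_smul, hi.idem.eq, hi.idem.eq, sub_self]
  exact IsNilpotent.zero

theorem IsPrim.phi_mul {i a b : A} (hi : IsPrim i) (hia : i * a = a) (hai : a * i = a)
    (hib : i * b = b) (hbi : b * i = b) : phi K i (a * b) = phi K i a * phi K i b := by
  refine hi.phi_eq ?_
  have hna := hi.phi_spec (K := K) a
  have hnb := hi.phi_spec (K := K) b
  rw [hia, hai] at hna
  rw [hib, hbi] at hnb
  rw [show i * (a * b) * i - (phi K i a * phi K i b) • i =
    (a - phi K i a • i) * b + phi K i a • (b - phi K i b • i) by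
      rw [sub_mul, smul_mul_assoc, hib, smul_sub, smul_smul, ← mul_assoc, hia, mul_assoc, hbi]
      abel]
  refine hi.isNilpotent_add (K := K) ?_ ?_ ?_ ?_
    (hi.isNilpotent_mul_right (K := K) ?_ ?_ hbi hna) (hnb.smul _)
  · rw [← mul_assoc, mul_sub, hia, mul_smul_comm, hi.idem.eq]
  · rw [mul_assoc, hbi]
  · rw [mul_smul_comm, mul_sub, hib, mul_smul_comm, hi.idem.eq]
  · rw [smul_mul_assoc, sub_mul, hbi, smul_mul_assoc, hi.idem.eq]
  · rw [mul_sub, hia, mul_smul_comm, hi.idem.eq]
  · rw [sub_mul, hai, smul_mul_assoc, hi.idem.eq]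

theorem IsPrim.phi_map {i : A} (hi : IsPrim i) (σ : A ≃ₐ[K] A) (a : A) :
    phi K (σ i) (σ a) = phi K i a := by
  refine (isPrim_map σ hi).phi_eq ?_
  rw [← map_mul, ← map_mul, ← map_smul, ← map_sub]
  exact (hi.phi_spec a).map σ

theorem IsPrim.phi_transport {j j' x y s : A} (hj : IsPrim j) (hj' : IsPrim j') (hxy : x * y = j)
    (hyx : y * x = j') (hjx : j * x = x) (hyj : y * j = y) (hs : j' * s = s) (hs' : s * j' = s) :
    phi K j (x * s * y) = phi K j' s := by
  refine hj.phi_eq ?_
  have hn := hj'.phi_spec (K := K) s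
  rw [hs, hs'] at hn
  obtain ⟨n, hn⟩ := hn
  refine ⟨n + 1, ?_⟩
  rw [show j * (x * s * y) * j - phi K j' s • j = x * (s - phi K j' s • j') * y by
    rw [← mul_assoc j, ← mul_assoc j, hjx, mul_assoc _ y j, hyj, mul_sub, sub_mul, mul_smul_comm,
      smul_mul_assoc]
    congr 2
    rw [← hyx, ← mul_assoc, hxy, mul_assoc, hxy, hj.idem.eq],
    mul_mul_pow_eq hyx (by rw [mul_sub, hs, mul_smul_comm, hj'.idem.eq]), pow_succ, hn, zero_mul,
    mul_zero, zero_mul]

/-! ### The multiplicity space -/

open Classical in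
variable (K) in
/-- The bilinear form `a, y ↦ φ_j (j a i y j)`. -/
noncomputable def multMap (j i : A) : A →ₗ[K] Module.Dual K A :=
  if hj : IsPrim j then
    LinearMap.mk₂ K (fun a y => phi K j (j * a * i * y * j))
      (fun a a' y => by rw [← hj.phi_add]; congr 1; simp only [mul_add, add_mul])
      (fun c a y => by
        rw [smul_eq_mul, ← hj.phi_smul]; congr 1
        simp only [mul_smul_comm, smul_mul_assoc])
      (fun a y y' => by rw [← hj.phi_add]; congr 1; simp only [mul_add, add_mul])
      (fun c a y => by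
        rw [smul_eq_mul, ← hj.phi_smul]; congr 1
        simp only [mul_smul_comm, smul_mul_assoc])
  else 0

theorem IsPrim.multMap_apply {j : A} (hj : IsPrim j) (i a y : A) :
    multMap K j i a y = phi K j (j * a * i * y * j) := by
  rw [multMap, dif_pos hj]
  rfl

variable (K) in
/-- The multiplicity of `j` in `i`. -/
noncomputable def mult (j i : A) : ℕ := finrank K (LinearMap.range (multMap K j i))

theorem IsPrim.mult_zero {j : A} (hj : IsPrim j) : mult K j 0 = 0 := by
  have : multMap K j 0 = 0 := LinearMap.ext fun a => LinearMap.ext fun y => by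
    rw [hj.multMap_apply]
    refine hj.phi_eq (c := (0 : K)) ?_
    simp
  rw [mult, this, LinearMap.range_zero, finrank_bot]

theorem IsPrim.mult_add {j i i' : A} (hj : IsPrim j) (hi : IsIdempotentElem i)
    (hi' : IsIdempotentElem i') (h : i * i' = 0) (h' : i' * i = 0) :
    mult K j (i + i') = mult K j i + mult K j i' := by
  have hle : ∀ a y, multMap K j (i + i') (a * i) y = multMap K j i a y := fun a y => by
    simp only [hj.multMap_apply]
    congr 1
    simp only [mul_add, mul_assoc, h, mul_zero, add_zero]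
    simp only [← mul_assoc i i, hi.eq]
  have hle' : ∀ a y, multMap K j (i + i') (a * i') y = multMap K j i' a y := fun a y => by
    simp only [hj.multMap_apply]
    congr 1
    simp only [mul_add, mul_assoc, h', mul_zero, zero_add]
    simp only [← mul_assoc i' i', hi'.eq]
  have hsup : LinearMap.range (multMap K j (i + i')) =
      LinearMap.range (multMap K j i) ⊔ LinearMap.range (multMap K j i') := by
    refine le_antisymm ?_ (sup_le ?_ ?_)
    · rintro _ ⟨a, rfl⟩
      have : multMap K j (i + i') a = multMap K j i a + multMap K j i' a := LinearMap.ext fun y => by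
        simp only [LinearMap.add_apply, hj.multMap_apply]
        rw [← hj.phi_add]
        congr 1
        simp only [mul_add, add_mul]
      rw [this]
      exact Submodule.add_mem_sup ⟨a, rfl⟩ ⟨a, rfl⟩
    · rintro _ ⟨a, rfl⟩
      exact ⟨a * i, LinearMap.ext (hle a)⟩
    · rintro _ ⟨a, rfl⟩
      exact ⟨a * i', LinearMap.ext (hle' a)⟩
  have hinf : LinearMap.range (multMap K j i) ⊓ LinearMap.range (multMap K j i') = ⊥ := by
    refine (Submodule.eq_bot_iff _).mpr fun ℓ hℓ => LinearMap.ext fun y => ?_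
    obtain ⟨⟨a, ha⟩, b, hb⟩ := hℓ
    rw [← ha, hj.multMap_apply,
      show j * a * i * y * j = j * a * i * (i * y) * j by
        simp only [← mul_assoc]; rw [mul_assoc _ i i, hi.eq],
      ← hj.multMap_apply, ha, ← hb, hj.multMap_apply,
      show j * b * i' * (i * y) * j = 0 by
        simp only [← mul_assoc]; simp only [mul_assoc _ i' i, h', mul_zero, zero_mul]]
    exact hj.phi_eq (c := (0 : K)) (by simp)
  have := Submodule.finrank_sup_add_finrank_inf_eq (LinearMap.range (multMap K j i))
    (LinearMap.range (multMap K j i'))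
  rw [hinf, finrank_bot, add_zero, ← hsup] at this
  exact this

theorem IsPrim.mult_prim {j j' : A} (hj : IsPrim j) (hj' : IsPrim j') :
    (Equiv' j j' → mult K j j' = 1) ∧ (¬ Equiv' j j' → mult K j j' = 0) := by
  constructor
  · intro h
    obtain ⟨x, y, hxy, hyx, hjx, hxj', hj'y, hyj⟩ := h.exists_corner hj.idem hj'.idem
    set ℓ : Module.Dual K A := multMap K j j' x
    have hℓ : ℓ ≠ 0 := fun h0 => by
      have h1 : multMap K j j' x y = 0 := LinearMap.congr_fun h0 y
      rw [hj.multMap_apply, hjx, hxj', hxy, hj.idem.eq, hj.phi_self] at h1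
      exact one_ne_zero h1
    have heq : LinearMap.range (multMap K j j') = Submodule.span K {ℓ} := by
      refine le_antisymm ?_ ((Submodule.span_singleton_le_iff_mem _ _).mpr ⟨x, rfl⟩)
      rintro _ ⟨a, rfl⟩
      refine Submodule.mem_span_singleton.mpr ⟨phi K j (j * a * y), LinearMap.ext fun z => ?_⟩
      rw [LinearMap.smul_apply, smul_eq_mul, hj.multMap_apply, hj.multMap_apply, hjx, hxj',
        ← hj.phi_mul (by simp only [← mul_assoc, hj.idem.eq]) (by rw [mul_assoc, hyj])
          (by simp only [← mul_assoc, hjx]) (by simp only [mul_assoc, hj.idem.eq])]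
      congr 1
      rw [← hyx]
      simp only [mul_assoc]
    rw [mult, heq, finrank_span_singleton hℓ]
  · intro h
    rw [mult, Submodule.finrank_eq_zero.mpr]
    refine LinearMap.range_eq_bot.mpr (LinearMap.ext fun a => LinearMap.ext fun y => ?_)
    rw [hj.multMap_apply]
    by_contra hne
    set s := j * a * j' * y * j
    rcases hj.dichotomy (K := K) (s := s) (by simp only [s, ← mul_assoc, hj.idem.eq])
      (by simp only [s, mul_assoc, hj.idem.eq]) with ⟨n, hn⟩ | ⟨t, hjt, htj, hts, -⟩
    · refine hne (hj.phi_eq ⟨n, ?_⟩)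
      show (j * s * j - (0 : K) • j) ^ n = 0
      rw [zero_smul, sub_zero,
        show j * s * j = s by simp only [s, ← mul_assoc, hj.idem.eq]; rw [mul_assoc _ j j, hj.idem.eq],
        hn]
    · refine h ?_
      set X := t * a * j'
      set Y := j' * y * j
      have hXY : X * Y = j := by
        rw [← hts]
        simp only [X, Y, s, ← mul_assoc, htj]
        rw [mul_assoc _ j' j', hj'.idem.eq]
      have hYX : IsIdempotentElem (Y * X) := by
        rw [IsIdempotentElem, mul_assoc, ← mul_assoc X, hXY,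
          show j * X = X by simp only [X, ← mul_assoc, hjt]]
      rcases hj'.eq_of_le (Y * X) hYX (by simp only [Y, ← mul_assoc, hj'.idem.eq])
        (by simp only [X, mul_assoc, hj'.idem.eq]) with h0 | h1
      · refine absurd ?_ hj.ne_zero
        calc j = X * Y * (X * Y) := by rw [hXY, hj.idem.eq]
          _ = X * (Y * X) * Y := by simp only [mul_assoc]
          _ = 0 := by rw [h0, mul_zero, zero_mul]
      · exact ⟨X, Y, hXY, h1⟩

theorem IsPrim.mult_sum {j : A} (hj : IsPrim j) (s : Finset A) (hs : ∀ x ∈ s, IsIdempotentElem x)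
    (ho : (s : Set A).Pairwise fun x y => x * y = 0) :
    mult K j (∑ x ∈ s, x) = ∑ x ∈ s, mult K j x ∧ IsIdempotentElem (∑ x ∈ s, x) := by
  classical
  induction s using Finset.induction with
  | empty => exact ⟨by simpa using hj.mult_zero, by simpa using IsIdempotentElem.zero⟩
  | insert a t hat ih =>
    obtain ⟨h1, h2⟩ := ih (fun x hx => hs x (Finset.mem_insert_of_mem hx))
      (ho.mono (Finset.coe_subset.mpr (Finset.subset_insert a t)))
    have hao : a * ∑ x ∈ t, x = 0 := by
      rw [Finset.mul_sum]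
      exact Finset.sum_eq_zero fun x hx => ho (Finset.mem_coe.mpr (Finset.mem_insert_self a t))
        (Finset.mem_coe.mpr (Finset.mem_insert_of_mem hx)) fun h => hat (h ▸ hx)
    have hoa : (∑ x ∈ t, x) * a = 0 := by
      rw [Finset.sum_mul]
      exact Finset.sum_eq_zero fun x hx => ho (Finset.mem_coe.mpr (Finset.mem_insert_of_mem hx))
        (Finset.mem_coe.mpr (Finset.mem_insert_self a t)) fun h => hat (h ▸ hx)
    have ha := hs a (Finset.mem_insert_self a t)
    rw [Finset.sum_insert hat, Finset.sum_insert hat, hj.mult_add ha h2 hao hoa, h1]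
    refine ⟨rfl, ?_⟩
    rw [IsIdempotentElem, add_mul, mul_add, mul_add, ha.eq, h2.eq, hao, hoa, add_zero, zero_add]

include K in
/-- Every idempotent is a sum of orthogonal primitive idempotents. -/
theorem exists_prim_decomp {i : A} (hi : IsIdempotentElem i) :
    ∃ s : Finset A, (∀ x ∈ s, IsPrim x) ∧ (s : Set A).Pairwise (fun x y => x * y = 0) ∧
      ∑ x ∈ s, x = i := by
  classical
  induction hn : finrank K (LinearMap.range (LinearMap.mulLeft K i)) using Nat.strong_induction_on
    generalizing i with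
  | _ n ih =>
    by_cases h0 : i = 0
    · exact ⟨∅, by simp, by simp, by simp [h0]⟩
    by_cases hprim : IsPrim i
    · exact ⟨{i}, by simpa using hprim, by simp, by simp⟩
    obtain ⟨e, he, hie, hei, hne0, hnei⟩ : ∃ e, IsIdempotentElem e ∧ i * e = e ∧ e * i = e ∧
        e ≠ 0 ∧ e ≠ i := by
      by_contra hcon
      push Not at hcon
      exact hprim ⟨hi, h0, fun e he h1 h2 => (em (e = 0)).imp_right (hcon e he h1 h2)⟩
    have hd : IsIdempotentElem (i - e) := by
      rw [IsIdempotentElem, sub_mul, mul_sub, mul_sub, hi.eq, he.eq, hie, hei, sub_self, sub_zero]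
    have hlt : ∀ f : A, IsIdempotentElem f → i * f = f → f * i = f → f ≠ i →
        finrank K (LinearMap.range (LinearMap.mulLeft K f)) < n := fun f hf hif hfi hne => by
      subst hn
      refine Submodule.finrank_lt_finrank_of_lt (lt_of_le_of_ne ?_ fun h => hne ?_)
      · rintro _ ⟨a, rfl⟩
        exact ⟨f * a, by simp [← mul_assoc, hif]⟩
      · have hi1 : i ∈ LinearMap.range (LinearMap.mulLeft K i) := ⟨i, by simp [hi.eq]⟩
        rw [← h] at hi1
        obtain ⟨a, ha⟩ := hi1
        rw [LinearMap.mulLeft_apply] at ha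
        calc f = f * i := hfi.symm
          _ = i := by rw [← ha, ← mul_assoc, hf.eq]
    obtain ⟨s, hs, hso, hsum⟩ := ih _ (hlt e he hie hei hnei) he rfl
    obtain ⟨t, ht, hto, htsum⟩ := ih _ (hlt (i - e) hd (by rw [mul_sub, hi.eq, hie])
      (by rw [sub_mul, hi.eq, hei]) (by simpa using hne0)) hd rfl
    have hfix : ∀ (u : Finset A) (g : A), (∀ x ∈ u, IsPrim x) →
        (u : Set A).Pairwise (fun x y => x * y = 0) → ∑ x ∈ u, x = g →
        ∀ x ∈ u, g * x = x ∧ x * g = x := fun u g hu huo hug x hx => by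
      constructor
      · rw [← hug, Finset.sum_mul, Finset.sum_eq_single_of_mem x hx fun y hy hne =>
          huo (Finset.mem_coe.mpr hy) (Finset.mem_coe.mpr hx) hne, (hu x hx).idem.eq]
      · rw [← hug, Finset.mul_sum, Finset.sum_eq_single_of_mem x hx fun y hy hne =>
          huo (Finset.mem_coe.mpr hx) (Finset.mem_coe.mpr hy) hne.symm, (hu x hx).idem.eq]
    have hcross : ∀ x ∈ s, ∀ y ∈ t, x * y = 0 ∧ y * x = 0 := fun x hx y hy => by
      obtain ⟨hex, hxe⟩ := hfix s e hs hso hsum x hx
      obtain ⟨hdy, hyd⟩ := hfix t (i - e) ht hto htsum y hy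
      constructor
      · rw [← hxe, ← hdy, mul_assoc, ← mul_assoc e, mul_sub, hei, he.eq, sub_self, zero_mul,
          mul_zero]
      · rw [← hyd, ← hex, mul_assoc, ← mul_assoc (i - e), sub_mul, hie, he.eq, sub_self, zero_mul,
          mul_zero]
    have hdisj : Disjoint s t := Finset.disjoint_left.mpr fun x hxs hxt => (hs x hxs).ne_zero (by
      rw [← (hs x hxs).idem.eq]
      exact (hcross x hxs x hxt).1)
    refine ⟨s ∪ t, fun x hx => ?_, ?_, by
      rw [Finset.sum_union hdisj, hsum, htsum, add_sub_cancel]⟩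
    · rcases Finset.mem_union.mp hx with h | h
      exacts [hs x h, ht x h]
    · intro x hx y hy hxy
      rcases Finset.mem_union.mp (Finset.mem_coe.mp hx) with h1 | h1 <;>
        rcases Finset.mem_union.mp (Finset.mem_coe.mp hy) with h2 | h2
      exacts [hso h1 h2 hxy, (hcross x h1 y h2).1, (hcross y h2 x h1).2, hto h1 h2 hxy]

theorem IsPrim.mult_eq_card [DecidableEq A] {j : A} (hj : IsPrim j) (s : Finset A)
    [DecidablePred (Equiv' j)] (hs : ∀ x ∈ s, IsPrim x)
    (ho : (s : Set A).Pairwise fun x y => x * y = 0) :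
    mult K j (∑ x ∈ s, x) = (s.filter (Equiv' j)).card := by
  rw [(hj.mult_sum s (fun x hx => (hs x hx).idem) ho).1, Finset.card_filter]
  refine Finset.sum_congr rfl fun x hx => ?_
  by_cases h : Equiv' j x
  · rw [if_pos h, (hj.mult_prim (hs x hx)).1 h]
  · rw [if_neg h, (hj.mult_prim (hs x hx)).2 h]

/-! ### An automorphism of order `p` -/

variable {σ : A ≃ₐ[K] A}

theorem iterate_map_eq (n : ℕ) (a b : A) :
    (⇑σ)^[n] (a * b) = (⇑σ)^[n] a * (⇑σ)^[n] b := by
  induction n with
  | zero => rfl
  | succ n ih => rw [Function.iterate_succ_apply', ih, map_mul, ← Function.iterate_succ_apply' σ,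
      ← Function.iterate_succ_apply' σ]

theorem IsPrim.mult_map {j i : A} (hj : IsPrim j) (σ : A ≃ₐ[K] A) :
    mult K (σ j) (σ i) = mult K j i := by
  have hσj := isPrim_map σ hj
  let D : Module.Dual K A ≃ₗ[K] Module.Dual K A := σ.symm.toLinearEquiv.dualMap
  have : LinearMap.range (multMap K (σ j) (σ i)) =
      (LinearMap.range (multMap K j i)).map (D : Module.Dual K A →ₗ[K] Module.Dual K A) := by
    have key : ∀ a, multMap K (σ j) (σ i) (σ a) = D (multMap K j i a) := fun a =>
      LinearMap.ext fun y => by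
        show _ = multMap K j i a (σ.symm y)
        rw [hσj.multMap_apply, hj.multMap_apply, ← hj.phi_map σ]
        simp only [map_mul, AlgEquiv.apply_symm_apply]
    refine le_antisymm ?_ ?_
    · rintro _ ⟨a, rfl⟩
      exact ⟨multMap K j i (σ.symm a), ⟨σ.symm a, rfl⟩,
        by rw [LinearEquiv.coe_coe, ← key, AlgEquiv.apply_symm_apply]⟩
    · rintro _ ⟨_, ⟨a, rfl⟩, rfl⟩
      exact ⟨σ a, key a⟩
  rw [mult, mult, this]
  exact LinearEquiv.finrank_map_eq D _

omit [IsAlgClosed K] in
/-- A nilpotent operator of index `p` with kernel inside the last image. -/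
theorem dvd_finrank_of_nilpotent {W : Type*} [AddCommGroup W] [Module K W]
    [FiniteDimensional K W] (D : Module.End K W) {p : ℕ} (hp : D ^ p = 0)
    (hker : LinearMap.ker D ≤ LinearMap.range (D ^ (p - 1))) : p ∣ finrank K W := by
  have key : ∀ k, k ≤ p →
      finrank K (LinearMap.ker (D ^ k)) = k * finrank K (LinearMap.ker D) := by
    intro k
    induction k with
    | zero => intro _; rw [pow_zero, Module.End.one_eq_id, LinearMap.ker_id, finrank_bot, zero_mul]
    | succ k ih =>
      intro hk
      set g : LinearMap.ker (D ^ (k + 1)) →ₗ[K] W :=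
        (D ^ k).comp (LinearMap.ker (D ^ (k + 1))).subtype
      have hrange : LinearMap.range g = LinearMap.ker D := by
        refine le_antisymm ?_ fun w hw => ?_
        · rintro _ ⟨w, rfl⟩
          have h1 : (D ^ (k + 1)) (w : W) = 0 := w.2
          show D ((D ^ k) (w : W)) = 0
          rw [← Module.End.mul_apply, ← pow_succ']
          exact h1
        · obtain ⟨z, hz⟩ := hker hw
          set y := (D ^ (p - 1 - k)) z
          have hy : (D ^ k) y = w := by
            rw [← hz, ← Module.End.mul_apply, ← pow_add,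
              show k + (p - 1 - k) = p - 1 by omega]
          refine ⟨⟨y, ?_⟩, hy⟩
          rw [LinearMap.mem_ker, pow_succ', Module.End.mul_apply, hy]
          exact hw
      have hkerg : (LinearMap.ker g).map (LinearMap.ker (D ^ (k + 1))).subtype =
          LinearMap.ker (D ^ k) := by
        refine le_antisymm ?_ fun w hw => ?_
        · rintro _ ⟨w, hw, rfl⟩
          exact hw
        · refine ⟨⟨w, ?_⟩, hw, rfl⟩
          rw [LinearMap.mem_ker] at hw ⊢
          rw [pow_succ', Module.End.mul_apply, hw, map_zero]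
      have h1 := LinearMap.finrank_range_add_finrank_ker g
      rw [hrange, ← Submodule.finrank_map_subtype_eq, hkerg, ih (by omega)] at h1
      rw [← h1]
      ring
  have := key p le_rfl
  rw [hp, LinearMap.ker_zero, finrank_top] at this
  exact ⟨_, this⟩

variable {p : ℕ} [hp : Fact p.Prime] [CharP K p]

omit [IsAlgClosed K] in
/-- An operator of order `p` all whose fixed vectors are traces. -/
theorem dvd_finrank_of_pow_eq_one {W : Type*} [AddCommGroup W] [Module K W]
    [FiniteDimensional K W] (V ρ : Module.End K W) (hV : V ^ p = 1)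
    (hfix : ∀ w, V w = w → ∑ t ∈ Finset.range p, (V ^ t) (ρ w) = w) : p ∣ finrank K W := by
  have hgeom : ∑ t ∈ Finset.range p, V ^ t = (V - 1) ^ (p - 1) := by
    have h1 : (∑ t ∈ Finset.range p, (X : K[X]) ^ t) = (X - 1) ^ (p - 1) := by
      refine mul_right_cancel₀ (b := (X : K[X]) - 1) ?_ ?_
      · simpa using X_sub_C_ne_zero (1 : K)
      · rw [geom_sum_mul, ← pow_succ, Nat.sub_add_cancel hp.out.pos, sub_pow_char, one_pow]
    simpa [map_pow, map_sub, aeval_X, map_one] using congrArg (aeval V) h1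
  refine dvd_finrank_of_nilpotent (V - 1) ?_ fun w hw => ?_
  · have h1 : ((X : K[X]) - 1) ^ p = X ^ p - 1 := by rw [sub_pow_char, one_pow]
    simpa [hV] using congrArg (aeval V) h1
  · rw [LinearMap.mem_ker, LinearMap.sub_apply, Module.End.one_apply, sub_eq_zero] at hw
    exact ⟨ρ w, by rw [← hgeom, LinearMap.sum_apply]; exact hfix w hw⟩

/-- If a fixed idempotent is a trace, a fixed class of primitive idempotents has multiplicity
divisible by `p`. -/
theorem IsPrim.dvd_mult {j i a : A} (hj : IsPrim j) (hfix : Equiv' j (σ j))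
    (hσp : ∀ x, (⇑σ)^[p] x = x) (hi : IsIdempotentElem i) (hσi : σ i = i)
    (ha : i = ∑ t ∈ Finset.range p, (⇑σ)^[t] a) : p ∣ mult K j i := by
  classical
  have hσj := isPrim_map σ hj
  obtain ⟨x₀, y₀, hxy₀, hyx₀, hjx₀, hxj₀, hjy₀, hyj₀⟩ := hfix.exists_corner hj.idem hσj.idem
  -- the norm of the intertwiner
  let P : A → ℕ → A := fun x n => Nat.rec j (fun n Pn => Pn * (⇑σ)^[n] x) n
  let Q : A → ℕ → A := fun y n => Nat.rec j (fun n Qn => (⇑σ)^[n] y * Qn) n
  have hP : ∀ x n, P x (n + 1) = P x n * (⇑σ)^[n] x := fun _ _ => rfl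
  have hQ : ∀ y n, Q y (n + 1) = (⇑σ)^[n] y * Q y n := fun _ _ => rfl
  have hPj : ∀ n, j * P x₀ n = P x₀ n ∧ P x₀ n * (⇑σ)^[n] j = P x₀ n := by
    intro n
    induction n with
    | zero => exact ⟨hj.idem.eq, hj.idem.eq⟩
    | succ n ih =>
      refine ⟨by rw [hP, ← mul_assoc, ih.1], ?_⟩
      rw [hP, mul_assoc, Function.iterate_succ_apply, ← iterate_map_eq, hxj₀]
  have hPQ : ∀ n, P x₀ n * Q y₀ n = j := by
    intro n
    induction n with
    | zero => exact hj.idem.eq
    | succ n ih => rw [hP, hQ, ← mul_assoc, mul_assoc (P x₀ n), ← iterate_map_eq, hxy₀, (hPj n).2, ih]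
  have hXj : P x₀ p * j = P x₀ p := by
    conv_rhs => rw [← (hPj p).2, hσp]
  have hc₀ : phi K j (P x₀ p) ≠ 0 := fun h0 => by
    have h1 := hj.phi_self (K := K)
    have hQj : Q y₀ p * j = Q y₀ p := by
      suffices ∀ n, Q y₀ n * j = Q y₀ n from this p
      intro n
      induction n with
      | zero => exact hj.idem.eq
      | succ n ih => rw [hQ, mul_assoc, ih]
    have h2 := hj.phi_mul (K := K) (hPj p).1 hXj (b := j * Q y₀ p * j)
      (by simp only [← mul_assoc, hj.idem.eq]) (by simp only [mul_assoc, hj.idem.eq])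
    rw [show P x₀ p * (j * Q y₀ p * j) = j by rw [mul_assoc j, hQj, ← mul_assoc, hXj, hPQ], h1,
      h0, zero_mul] at h2
    exact one_ne_zero h2
  obtain ⟨μ, hμ⟩ := IsAlgClosed.exists_pow_nat_eq (phi K j (P x₀ p))⁻¹ hp.out.pos
  have hμ0 : μ ≠ 0 := fun h => by
    rw [h, zero_pow hp.out.ne_zero] at hμ
    exact hc₀ (inv_eq_zero.mp hμ.symm)
  set x := μ • x₀ with hxdef
  set y₁ := μ⁻¹ • y₀ with hydef
  have hjx : j * x = x := by rw [hxdef, mul_smul_comm, hjx₀]
  have hxj : x * σ j = x := by rw [hxdef, smul_mul_assoc, hxj₀]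
  have hyj : y₁ * j = y₁ := by rw [hydef, smul_mul_assoc, hyj₀]
  have hxy : x * y₁ = j := by
    rw [hxdef, hydef, smul_mul_smul_comm, hxy₀, mul_inv_cancel₀ hμ0, one_smul]
  have hyx : y₁ * x = σ j := by
    rw [hxdef, hydef, smul_mul_smul_comm, hyx₀, inv_mul_cancel₀ hμ0, one_smul]
  have hiter : ∀ n (c : K) (z : A), (⇑σ)^[n] (c • z) = c • (⇑σ)^[n] z := by
    intro n c z
    induction n with
    | zero => rfl
    | succ n ih => rw [Function.iterate_succ_apply', ih, map_smul, Function.iterate_succ_apply']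
  have hPs : ∀ n, P x n = μ ^ n • P x₀ n := by
    intro n
    induction n with
    | zero => rw [pow_zero, one_smul]; rfl
    | succ n ih => rw [hP, hP, ih, hiter, smul_mul_smul_comm, pow_succ]
  have hphiX : phi K j (P x p) = 1 := by
    rw [hPs, hj.phi_smul, hμ, inv_mul_cancel₀ hc₀]
  -- the semilinear operator
  let Λ : A →ₗ[K] A := σ.symm.toLinearMap.comp (LinearMap.mulRight K x)
  have hΛ : ∀ z, Λ z = σ.symm (z * x) := fun _ => rfl
  have hΛp : ∀ n z, (⇑σ)^[n] ((Λ ^ n) z * j) = z * P x n := by
    intro n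
    induction n with
    | zero => intro z; rfl
    | succ n ih =>
      intro z
      rw [hP, pow_succ', Module.End.mul_apply, hΛ, Function.iterate_succ_apply, map_mul,
        AlgEquiv.apply_symm_apply, mul_assoc, hxj]
      conv_lhs => rw [← hjx, ← mul_assoc, iterate_map_eq, ih]
      rw [mul_assoc]
  set R := LinearMap.range (multMap K j i)
  have hVR : ∀ ℓ ∈ R, Λ.dualMap ℓ ∈ R := by
    rintro _ ⟨b, rfl⟩
    refine ⟨x * σ b, LinearMap.ext fun z => ?_⟩
    rw [LinearMap.dualMap_apply, hj.multMap_apply, hj.multMap_apply,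
      ← hj.phi_map σ (j * b * i * Λ z * j)]
    simp only [map_mul, hΛ, AlgEquiv.apply_symm_apply, hσi]
    rw [← hj.phi_transport hσj hxy hyx hjx hyj (by simp only [← mul_assoc, hσj.idem.eq])
      (by simp only [mul_assoc, hσj.idem.eq])]
    congr 1
    calc j * (x * σ b) * i * z * j = (j * x) * σ b * i * z * j := by simp only [mul_assoc]
      _ = (x * σ j) * σ b * i * z * (x * y₁) := by rw [hjx, hxj, hxy]
      _ = (x * σ j) * σ b * i * z * ((x * σ j) * y₁) := by rw [hxj]
      _ = _ := by simp only [mul_assoc]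
  let V : Module.End K R := LinearMap.restrict Λ.dualMap hVR
  have hV : ∀ (n : ℕ) (ℓ : R) (z : A),
      (((V ^ n) ℓ : R) : Module.Dual K A) z = (ℓ : Module.Dual K A) ((Λ ^ n) z) := by
    intro n
    induction n with
    | zero => intro ℓ z; rfl
    | succ n ih => intro ℓ z; rw [pow_succ, Module.End.mul_apply, ih, pow_succ' Λ]; rfl
  have hVp : V ^ p = 1 := by
    refine LinearMap.ext fun ℓ => Subtype.ext (LinearMap.ext fun z => ?_)
    rw [hV]
    obtain ⟨b, hb⟩ := ℓ.2
    show (ℓ : Module.Dual K A) _ = (ℓ : Module.Dual K A) z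
    rw [← hb, hj.multMap_apply, hj.multMap_apply]
    have h1 := hΛp p z
    rw [hσp] at h1
    rw [mul_assoc _ ((Λ ^ p) z) j, h1, ← mul_assoc,
      show j * b * i * z * P x p = (j * b * i * z * j) * P x p by
        rw [mul_assoc _ j, show j * P x p = P x p by rw [hPs, mul_smul_comm, (hPj p).1]],
      hj.phi_mul (by simp only [← mul_assoc, hj.idem.eq]) (by simp only [mul_assoc, hj.idem.eq])
        (by rw [hPs, mul_smul_comm, (hPj p).1]) (by rw [hPs, smul_mul_assoc, hXj]),
      hphiX, mul_one]
  -- multiplication operators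
  have hρR : ∀ b : A, i * b * i = b → ∀ ℓ ∈ R, (LinearMap.mulLeft K b).dualMap ℓ ∈ R := by
    rintro b hb _ ⟨c, rfl⟩
    refine ⟨c * i * b, LinearMap.ext fun z => ?_⟩
    rw [LinearMap.dualMap_apply, LinearMap.mulLeft_apply, hj.multMap_apply, hj.multMap_apply]
    congr 1
    conv_rhs => rw [← hb]
    simp only [← mul_assoc]
    rw [mul_assoc (j * c) i i, hi.eq]
  set a' := i * a * i
  have hai : ∀ t, i * (⇑σ)^[t] a' * i = (⇑σ)^[t] a' := fun t => by
    have hσti : (⇑σ)^[t] i = i := Function.iterate_fixed hσi t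
    simp only [a', iterate_map_eq, hσti]
    simp only [← mul_assoc, hi.eq]
    rw [mul_assoc _ i i, hi.eq]
  have hsum : i = ∑ t ∈ Finset.range p, (⇑σ)^[t] a' := by
    rw [Finset.sum_congr rfl (g := fun t => i * (⇑σ)^[t] a * i) fun t _ => by
      rw [iterate_map_eq, iterate_map_eq, Function.iterate_fixed hσi t],
      ← Finset.sum_mul, ← Finset.mul_sum, ← ha, hi.eq, hi.eq]
  let ρ : ℕ → Module.End K R := fun t =>
    LinearMap.restrict (LinearMap.mulLeft K ((⇑σ)^[t] a')).dualMap (hρR _ (hai t))
  have hρ : ∀ (t : ℕ) (ℓ : R) (z : A),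
      ((ρ t ℓ : R) : Module.Dual K A) z = (ℓ : Module.Dual K A) ((⇑σ)^[t] a' * z) := fun _ _ _ => rfl
  have hcomm : ∀ t, V * ρ t = ρ (t + 1) * V := fun t => by
    refine LinearMap.ext fun ℓ => Subtype.ext (LinearMap.ext fun z => ?_)
    show (ℓ : Module.Dual K A) ((⇑σ)^[t] a' * σ.symm (z * x)) =
      (ℓ : Module.Dual K A) (σ.symm ((⇑σ)^[t + 1] a' * z * x))
    congr 1
    rw [mul_assoc ((⇑σ)^[t + 1] a') z x, Function.iterate_succ_apply',
      map_mul σ.symm (σ _) (z * x), AlgEquiv.symm_apply_apply]
  have hid : ∑ t ∈ Finset.range p, ρ t = 1 := by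
    refine LinearMap.ext fun ℓ => Subtype.ext (LinearMap.ext fun z => ?_)
    rw [LinearMap.sum_apply, AddSubmonoidClass.coe_finsetSum, LinearMap.sum_apply]
    simp only [hρ]
    rw [← map_sum, ← Finset.sum_mul, ← hsum]
    obtain ⟨b, hb⟩ := ℓ.2
    show (ℓ : Module.Dual K A) _ = (ℓ : Module.Dual K A) z
    rw [← hb, hj.multMap_apply, hj.multMap_apply]
    congr 1
    simp only [← mul_assoc]
    rw [mul_assoc _ i i, hi.eq]
  have hVρ : ∀ t, V ^ t * ρ 0 = ρ t * V ^ t := by
    intro t
    induction t with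
    | zero => simp
    | succ t ih => rw [pow_succ', mul_assoc, ih, ← mul_assoc, hcomm, mul_assoc]
  refine dvd_finrank_of_pow_eq_one (W := ↥R) V (ρ 0) hVp fun w hw => ?_
  · have hwn : ∀ t, (V ^ t) w = w := by
      intro t
      induction t with
      | zero => rfl
      | succ t ih => rw [pow_succ, Module.End.mul_apply, hw, ih]
    calc ∑ t ∈ Finset.range p, (V ^ t) (ρ 0 w) = ∑ t ∈ Finset.range p, ρ t w :=
          Finset.sum_congr rfl fun t _ => by
            rw [← Module.End.mul_apply, hVρ, Module.End.mul_apply, hwn]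
      _ = w := by rw [← LinearMap.sum_apply, hid]; rfl

/-- An invariant function summed over the components of a trace is divisible by `p`. -/
theorem dvd_sum_components (hσp : ∀ x, (⇑σ)^[p] x = x) {i a : A} (hi : IsIdempotentElem i)
    (hσi : σ i = i) (ha : i = ∑ t ∈ Finset.range p, (⇑σ)^[t] a) (s : Finset A)
    (hs : ∀ x ∈ s, IsPrim x) (ho : (s : Set A).Pairwise fun x y => x * y = 0)
    (hsum : ∑ x ∈ s, x = i) (c : A → ℤ) (hc : ∀ x y, IsPrim x → IsPrim y → Equiv' x y → c x = c y)
    (hcσ : ∀ x, IsPrim x → c (σ x) = c x) : (p : ℤ) ∣ ∑ x ∈ s, c x := by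
  classical
  rw [← ZMod.intCast_zmod_eq_zero_iff_dvd, Int.cast_sum, ← Finset.sum_coe_sort s]
  let r : Setoid s := ⟨fun x y => Equiv' (x : A) y, fun x => Equiv'.refl (hs _ x.2).idem,
    fun h => h.symm, fun {x y z} h1 h2 => h1.trans (hs _ x.2).idem (hs _ z.2).idem h2⟩
  have hcount : ∀ {j : A}, IsPrim j → mult K j i = (s.filter (Equiv' j)).card := fun hj => by
    rw [← hsum]
    exact hj.mult_eq_card s hs ho
  have hfiber : ∀ x : s, ({y : s | Quotient.mk r y = Quotient.mk r x} : Finset s).card =
      mult K (x : A) i := fun x => by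
    rw [hcount (hs _ x.2)]
    refine Finset.card_bij (fun y _ => (y : A)) (fun y hy => ?_)
      (fun _ _ _ _ h => Subtype.ext h) fun z hz => ?_
    · exact Finset.mem_filter.mpr ⟨y.2,
        Equiv'.symm (Quotient.exact (s := r) (Finset.mem_filter.mp hy).2)⟩
    · obtain ⟨hzs, hzx⟩ := Finset.mem_filter.mp hz
      exact ⟨⟨z, hzs⟩, Finset.mem_filter.mpr ⟨Finset.mem_univ _,
        Quotient.sound (s := r) (Equiv'.symm hzx)⟩, rfl⟩
  have hstep : ∀ x : s, ∃ y : s, Equiv' (σ (x : A)) y := fun x => by
    have h1 : mult K (σ (x : A)) i = mult K (x : A) i := by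
      conv_lhs => rw [← hσi]
      exact (hs _ x.2).mult_map σ
    have h2 : 0 < mult K (x : A) i := by
      rw [hcount (hs _ x.2), Finset.card_pos]
      exact ⟨x, Finset.mem_filter.mpr ⟨x.2, Equiv'.refl (hs _ x.2).idem⟩⟩
    rw [← h1, hcount (isPrim_map σ (hs _ x.2)), Finset.card_pos] at h2
    obtain ⟨y, hy⟩ := h2
    exact ⟨⟨y, (Finset.mem_filter.mp hy).1⟩, (Finset.mem_filter.mp hy).2⟩
  choose f hf using hstep
  let π : Quotient r → Quotient r := Quotient.lift (fun x => Quotient.mk r (f x)) fun x x' h =>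
    Quotient.sound <| Equiv'.trans (hs _ (f x).2).idem (hs _ (f x').2).idem (hf x).symm
      (Equiv'.trans ((hs _ x.2).idem.map σ) (hs _ (f x').2).idem (Equiv'.map σ h) (hf x'))
  have hπn : ∀ (n : ℕ) (x : s),
      ∃ y : s, π^[n] (Quotient.mk r x) = Quotient.mk r y ∧ Equiv' ((⇑σ)^[n] (x : A)) y := by
    intro n
    induction n with
    | zero => exact fun x => ⟨x, rfl, Equiv'.refl (hs _ x.2).idem⟩
    | succ n ih =>
      intro x
      obtain ⟨y, hy, hy'⟩ := ih x
      refine ⟨f y, by rw [Function.iterate_succ_apply', hy]; rfl, ?_⟩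
      rw [Function.iterate_succ_apply']
      refine Equiv'.trans ?_ (hs _ (f y).2).idem (Equiv'.map σ hy') (hf y)
      clear hy hy' ih
      induction n with
      | zero => exact (hs _ x.2).idem.map σ
      | succ n ih => rw [Function.iterate_succ_apply']; exact ih.map σ
  have hπp : ∀ C, π^[p] C = C := fun C => by
    induction C using Quotient.inductionOn with
    | h x =>
      obtain ⟨y, hy, hy'⟩ := hπn p x
      rw [hσp] at hy'
      rw [hy]
      exact Quotient.sound hy'.symm
  have hp1 := hp.out.pos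
  let e : Equiv.Perm (Quotient r) := ⟨π, π^[p - 1],
    fun C => by rw [← Function.iterate_succ_apply, show (p - 1).succ = p by omega, hπp],
    fun C => by rw [← Function.iterate_succ_apply' π, show (p - 1).succ = p by omega, hπp]⟩
  have heq : ∀ n : ℕ, ∀ C, (e ^ n) C = π^[n] C := fun n => by
    induction n with
    | zero => exact fun C => rfl
    | succ n ih => intro C; rw [pow_succ, Equiv.Perm.mul_apply, ih, Function.iterate_succ_apply]; rfl
  have hep : e ^ p = 1 := Equiv.ext fun C => (heq p C).trans (hπp C)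
  have hP : IsPGroup p (Subgroup.zpowers e) := by
    obtain ⟨k, -, hk⟩ := (Nat.dvd_prime_pow hp.out (m := 1) (i := orderOf e)).mp
      (by rw [pow_one]; exact orderOf_dvd_of_pow_eq_one hep)
    exact IsPGroup.of_card (n := k) (by rw [Nat.card_zpowers, hk])
  -- weights of the classes
  let g : Quotient r → ZMod p :=
    fun C => ∑ y : s with Quotient.mk r y = C, (c (y : A) : ZMod p)
  have hg : ∀ x : s, g (Quotient.mk r x) = (mult K (x : A) i : ZMod p) * (c (x : A) : ZMod p) :=
    fun x => by
      show ∑ y : s with Quotient.mk r y = Quotient.mk r x, _ = _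
      rw [Finset.sum_congr rfl (g := fun _ => ((c (x : A) : ℤ) : ZMod p)) fun y hy => by
        rw [hc _ _ (hs _ y.2) (hs _ x.2) (Quotient.exact (s := r) (Finset.mem_filter.mp hy).2)],
        Finset.sum_const, nsmul_eq_mul, hfiber x]
  have : Fintype (Quotient r) := Fintype.ofFinite _
  rw [← Finset.sum_fiberwise Finset.univ (Quotient.mk r)]
  show ∑ C, g C = 0
  have hginv : ∀ C, g (π C) = g C := fun C => by
    induction C using Quotient.inductionOn with
    | h x =>
      show g (Quotient.mk r (f x)) = _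
      rw [hg, hg, ← hc _ _ (isPrim_map σ (hs _ x.2)) (hs _ (f x).2) (hf x), hcσ _ (hs _ x.2)]
      congr 2
      rw [hcount (hs _ (f x).2), ← (hs _ x.2).mult_map σ, hσi, hcount (isPrim_map σ (hs _ x.2))]
      exact congrArg Finset.card (Finset.filter_congr fun y hy =>
        ⟨fun h => Equiv'.trans (isPrim_map σ (hs _ x.2)).idem (hs y hy).idem (hf x) h,
          fun h => Equiv'.trans (hs _ (f x).2).idem (hs y hy).idem (hf x).symm h⟩)
  rw [GrpRing.sum_eq_sum_fixed hP fun q C => ?_]
  · refine Finset.sum_eq_zero fun C hC => ?_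
    induction C using Quotient.inductionOn with
    | h x =>
      have hfx : e (Quotient.mk r x) = Quotient.mk r x :=
        (Finset.mem_filter.mp hC).2 ⟨e, Subgroup.mem_zpowers e⟩
      have hx : Equiv' (x : A) (σ (x : A)) := by
        have h1 : Equiv' ((f x : s) : A) (x : A) := Quotient.exact (s := r) hfx
        exact (Equiv'.trans ((hs _ x.2).idem.map σ) (hs _ x.2).idem (hf x) h1).symm
      rw [hg, (ZMod.natCast_eq_zero_iff _ _).mpr ((hs _ x.2).dvd_mult hx hσp hi hσi ha),
        zero_mul]
  · obtain ⟨n, hn⟩ := (IsOfFinOrder.mem_powers_iff_mem_zpowers (isOfFinOrder_of_finite e)).mpr q.2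
    show g ((q : Equiv.Perm (Quotient r)) C) = g C
    rw [← show e ^ n = (q : Equiv.Perm (Quotient r)) from hn, heq]
    clear hn
    induction n with
    | zero => rfl
    | succ n ih => rw [Function.iterate_succ_apply', hginv, ih]

end FiniteDim

end CfsgLib.Corner
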