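import Cfsg.Agent.Lib.Blocks.Covering
import Cfsg.Agent.Lib.Blocks.Stable
import Cfsg.Agent.Lib.Blocks.Defect
import Cfsg.Agent.Lib.Blocks.StableBlock
import Cfsg.Agent.Lib.Blocks.Center

/-!
# A covering block meets the centralizer of a defect group of a covered block

An idempotent of `G` absorbed by the idempotent of the conjugates of a block `b` of `N`, and
vanishing modulo `M` on the centralizers of the conjugates of a defect group of `b`, is zero
modulo `M`. The proof decomposes along the cosets of `N` and uses that the centre of `(k N) b`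
is local.
-/

set_option autoImplicit false
set_option linter.unusedSectionVars false

namespace CfsgLib.Blocks

open Cfsg
open scoped ComplexConjugate CfsgLib.Char

variable {p : ℕ} {M : Ideal AlgInt}

/-- A product of `|Irr N|` central elements with all central characters in the ideal is zero
modulo the ideal. -/
theorem memLocalIdeal_prod_of_values [M.IsPrime] {H : Type*} [Group H] [Fintype H]
    (v : Fin (Fintype.card (IrrCharacter H)) → ZO M H)
    (hv : ∀ i (χ : IrrCharacter H), MemLocalIdeal M ((v i : IrrCharacter H → ℂ) χ)) (h : H) :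
    MemLocalIdeal M (ofOmega ((∏ i, v i : ZO M H) : IrrCharacter H → ℂ) h) := by
  classical
  let χ := (Fintype.equivFin (IrrCharacter H)).symm
  have hprod : ∏ i, (v i - ⟨((v i : IrrCharacter H → ℂ) (χ i)) • 1,
      smul_mem_ZO (memLocalRing_of_mem_ZO (v i).2 (χ i)) (one_mem _)⟩ : ZO M H) = 0 := by
    refine Subtype.ext (funext fun η => ?_)
    rw [SubmonoidClass.coe_finsetProd, Finset.prod_apply, ZeroMemClass.coe_zero, Pi.zero_apply]
    exact Finset.prod_eq_zero (Finset.mem_univ (χ.symm η)) (by simp)
  have h2 := congrArg (Ideal.Quotient.mk (nullIdeal M H)) hprod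
  rw [map_prod, map_zero] at h2
  simp only [map_sub, Ideal.Quotient.eq_zero_iff_mem.mpr (smul_one_mem_nullIdeal (hv _ _)),
    sub_zero] at h2
  rw [← map_prod, Ideal.Quotient.eq_zero_iff_mem, mem_nullIdeal] at h2
  exact h2 h

variable {G : Type*} [Group G] [Fintype G] (N : Subgroup G) [hN : N.Normal] [Fintype N]

/-- Local and invariant under conjugation by `N`. -/
def LocInv (M : Ideal AlgInt) (f : G → ℂ) : Prop :=
  (∀ g, MemLocalRing M (f g)) ∧ ∀ x ∈ N, ∀ g, f (x * g * x⁻¹) = f g

/-- Zero modulo `M` on the centralizers of all conjugates of `Q`. -/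
def CentNull (M : Ideal AlgInt) (Q : Subgroup G) (f : G → ℂ) : Prop :=
  ∀ (x : G), ∀ c ∈ Subgroup.centralizer (Q : Set G), MemLocalIdeal M (f (x * c * x⁻¹))

/-- Supported in one coset. -/
def InCoset (q : G ⧸ N) (f : G → ℂ) : Prop := ∀ g : G, f g ≠ 0 → (g : G ⧸ N) = q

variable {N}

theorem conv_deltaOne_right (f : G → ℂ) : conv f deltaOne = f := by
  classical
  funext z
  simp [conv, deltaOne_apply, inv_mul_eq_one]

theorem conv_deltaOne_left (f : G → ℂ) : conv deltaOne f = f := by
  classical
  funext z
  simp [conv, deltaOne_apply]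

theorem InCoset.conv {q r : G ⧸ N} {f₁ f₂ : G → ℂ} (h₁ : InCoset N q f₁) (h₂ : InCoset N r f₂) :
    InCoset N (q * r) (Blocks.conv f₁ f₂) := by
  intro z hz
  obtain ⟨y, -, hy⟩ := Finset.exists_ne_zero_of_sum_ne_zero hz
  rw [← h₁ y (left_ne_zero_of_mul hy), ← h₂ _ (right_ne_zero_of_mul hy), ← QuotientGroup.mk_mul,
    mul_inv_cancel_left]

theorem inCoset_deltaOne : InCoset N (1 : G ⧸ N) (deltaOne : G → ℂ) := fun g hg => by
  classical
  rw [deltaOne_apply] at hg
  rcases eq_or_ne g 1 with rfl | h
  · rfl
  · exact absurd (if_neg h) hg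

variable [M.IsPrime]

theorem locInv_deltaOne : LocInv N M (deltaOne : G → ℂ) :=
  ⟨fun g => memLocalRing_classInd 1 g, fun x _ g => isClassFunction_classInd 1 g x⟩

theorem LocInv.conv {f₁ f₂ : G → ℂ} (h₁ : LocInv N M f₁) (h₂ : LocInv N M f₂) :
    LocInv N M (Blocks.conv f₁ f₂) := by
  refine ⟨fun g => memLocalRing_sum _ _ fun y _ => memLocalRing_mul (h₁.1 y) (h₂.1 _),
    fun x hx g => (Fintype.sum_equiv (MulAut.conj x).toEquiv _ _ fun y => ?_).symm⟩
  show _ = f₁ (x * y * x⁻¹) * f₂ ((x * y * x⁻¹)⁻¹ * (x * g * x⁻¹))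
  rw [h₁.2 x hx, show (x * y * x⁻¹)⁻¹ * (x * g * x⁻¹) = x * (y⁻¹ * g) * x⁻¹ by group, h₂.2 x hx]

theorem CentNull.conv_left (hM : IsPModular p M) {Q : Subgroup G} (hQN : Q ≤ N)
    (hQp : IsPGroup p Q) {f₁ f₂ : G → ℂ} (h₁ : LocInv N M f₁) (h₂ : LocInv N M f₂)
    (hc : CentNull M Q f₁) : CentNull M Q (Blocks.conv f₁ f₂) := by
  classical
  intro x c hc'
  set P := Q.map (MulAut.conj x).toMonoidHom
  have hPN : ∀ y ∈ P, y ∈ N := by
    rintro _ ⟨q, hq, rfl⟩
    exact hN.conj_mem q (hQN hq) x
  have hz : x * c * x⁻¹ ∈ Subgroup.centralizer (P : Set G) :=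
    (centralizer_map_conj_iff Q x c).mpr hc'
  have h := restrict_conv_congr hM (hQp.map _ : IsPGroup p P) h₁.1 h₂.1
    (fun y hy => h₁.2 y (hPN y hy)) (fun y hy => h₂.2 y (hPN y hy)) ⟨_, hz⟩
  refine (memLocalIdeal_iff_of_sub h).mpr
    (memLocalIdeal_sum _ _ fun y _ => memLocalIdeal_mul_right ?_ (h₂.1 _))
  have hy : x⁻¹ * (y : G) * x ∈ Subgroup.centralizer (Q : Set G) :=
    (centralizer_map_conj_iff Q x _).mp (by
      rw [show x * (x⁻¹ * (y : G) * x) * x⁻¹ = y by group]
      exact y.2)
  have := hc x _ hy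
  rwa [show x * (x⁻¹ * (y : G) * x) * x⁻¹ = (y : G) by group] at this

theorem CentNull.conv_right (hM : IsPModular p M) {Q : Subgroup G} (hQN : Q ≤ N)
    (hQp : IsPGroup p Q) {f₁ f₂ : G → ℂ} (h₁ : LocInv N M f₁) (h₂ : LocInv N M f₂)
    (hc : CentNull M Q f₂) : CentNull M Q (Blocks.conv f₁ f₂) := by
  classical
  intro x c hc'
  set P := Q.map (MulAut.conj x).toMonoidHom
  have hPN : ∀ y ∈ P, y ∈ N := by
    rintro _ ⟨q, hq, rfl⟩
    exact hN.conj_mem q (hQN hq) x
  have hz : x * c * x⁻¹ ∈ Subgroup.centralizer (P : Set G) :=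
    (centralizer_map_conj_iff Q x c).mpr hc'
  have h := restrict_conv_congr hM (hQp.map _ : IsPGroup p P) h₁.1 h₂.1
    (fun y hy => h₁.2 y (hPN y hy)) (fun y hy => h₂.2 y (hPN y hy)) ⟨_, hz⟩
  refine (memLocalIdeal_iff_of_sub h).mpr
    (memLocalIdeal_sum _ _ fun y _ => memLocalIdeal_mul_left (h₁.1 _) ?_)
  set w := (y⁻¹ * ⟨x * c * x⁻¹, hz⟩ : Subgroup.centralizer (P : Set G))
  have hy : x⁻¹ * (w : G) * x ∈ Subgroup.centralizer (Q : Set G) :=
    (centralizer_map_conj_iff Q x _).mp (by
      rw [show x * (x⁻¹ * (w : G) * x) * x⁻¹ = w by group]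
      exact w.2)
  have := hc x _ hy
  rwa [show x * (x⁻¹ * (w : G) * x) * x⁻¹ = (w : G) by group] at this

section Core

variable (b : Set (IrrCharacter N))

/-- The idempotent of the conjugates of `b`, on `G`. -/
noncomputable def orbitIdem : G → ℂ := extendByZero N (blockCoeff (conjUnion (G := G) b))

theorem isClassFunction_orbitIdem : IsClassFunction G (orbitIdem b) := by
  intro g x
  simp only [orbitIdem]
  by_cases hg : g ∈ N
  · rw [show g = ((⟨g, hg⟩ : N) : G) from rfl,
      show x * ((⟨g, hg⟩ : N) : G) * x⁻¹ = ((⟨x * g * x⁻¹, hN.conj_mem g hg x⟩ : N) : G) from rfl,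
      extendByZero_apply, extendByZero_apply]
    exact blockCoeff_conjUnion_conj b x ⟨g, hg⟩
  · rw [extendByZero_eq_zero N _ hg, extendByZero_eq_zero N _ fun h => hg (by
      simpa [mul_assoc] using hN.conj_mem _ h x⁻¹)]

variable {b} (hb : IsPBlock M b)
include hb

theorem memLocalRing_orbitIdem (g : G) : MemLocalRing M (orbitIdem b g) := by
  simp only [orbitIdem]
  by_cases hg : g ∈ N
  · rw [show g = ((⟨g, hg⟩ : N) : G) from rfl, extendByZero_apply]
    exact memLocalRing_blockCoeff (isBlockUnion_conjUnion hb) _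
  · rw [extendByZero_eq_zero N _ hg]; exact memLocalRing_zero

theorem omega_orbitIdem {χ : IrrCharacter G} {θ : IrrCharacter N}
    (h : classInner (fun n : N => (χ : G → ℂ) n) (θ : N → ℂ) ≠ 0) :
    omega (χ : G → ℂ) (orbitIdem b) = indVec (conjUnion (G := G) b) θ := by
  rw [omega_eq_of_constituent h (isClassFunction_orbitIdem b) fun g hg =>
    extendByZero_eq_zero N _ hg, ← omega_blockCoeff]
  congr 1
  exact funext fun n => extendByZero_apply N _ n

variable (hM : IsPModular p M) {Q : Subgroup G} (hQN : Q ≤ N)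
  (hQ : IsDefectGroup p M b (Q.subgroupOf N))
include hM hQN hQ

/-- Central characters of the conjugates of `b` kill functions vanishing on the centralizers. -/
theorem memLocalIdeal_omega_of_centNull {h : G → ℂ} (hcls : IsClassFunction N fun n : N => h n)
    (hl : ∀ g, MemLocalRing M (h g)) (hc : CentNull M Q h) {θ : IrrCharacter N}
    (hθ : θ ∈ conjUnion (G := G) b) :
    MemLocalIdeal M (omega (θ : N → ℂ) fun n : N => h n) := by
  classical
  obtain ⟨g, hg⟩ := hθ
  haveI : Fintype (ConjClasses N) := Fintype.ofFinite _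
  let hg' : N → ℂ := fun n => h (g * (n : G) * g⁻¹)
  have hg'c : IsClassFunction N hg' := fun a x => by
    have e := hcls ⟨g * (a : G) * g⁻¹, hN.conj_mem _ a.2 g⟩ ⟨g * (x : G) * g⁻¹, hN.conj_mem _ x.2 g⟩
    show h (g * ((x * a * x⁻¹ : N) : G) * g⁻¹) = h (g * (a : G) * g⁻¹)
    refine Eq.trans ?_ e
    congr 1
    simp only [Subgroup.coe_mul, Subgroup.coe_inv]
    group
  have e : omega (θ : N → ℂ) (fun n : N => h n) = omega (conjI g θ : N → ℂ) hg' := by
    simp only [omega, coe_conjI, Char.conjBy_apply_one]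
    congr 1
    refine (Fintype.sum_equiv (MulAut.conjNormal g : MulAut N).toEquiv _ _ fun n => ?_).symm
    rw [Char.conjBy_eq_comp]
    show h (g * (n : G) * g⁻¹) * _ = h (((MulAut.conjNormal g : MulAut N) n : N) : G) * _
    rw [MulAut.conjNormal_apply]
    rfl
  rw [e, omega_eq_sum_classes (conjI g θ) hg'c]
  refine memLocalIdeal_sum _ _ fun c _ => ?_
  by_cases hu : MemLocalIdeal M (centralChar (conjI g θ : N → ℂ) (Quotient.out c))
  · exact memLocalIdeal_mul_left (hl _) hu
  · obtain ⟨y, hy, hyQ⟩ := IsDefectGroup.exists_isConj_centralizing hM hb hQ hg hu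
    rw [IsClassFunction.eq_of_isConj hg'c hy]
    refine memLocalIdeal_mul_right (hc g _ (Subgroup.mem_centralizer_iff.mpr fun q hq => ?_))
      (memLocalRing_centralChar _ _)
    have h1 := hyQ (Subgroup.mem_subgroupOf.mpr hq : (⟨q, hQN hq⟩ : N) ∈ Q.subgroupOf N)
    exact congrArg Subtype.val (Subgroup.mem_centralizer_singleton_iff.mp h1)

omit hQN hQ in
/-- An idempotent absorbed by the orbit idempotent whose coset pieces lie in a class `Sm` of
functions with central characters in the ideal on the conjugates of `b` is zero modulo `M`. -/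
theorem memLocalIdeal_of_pieces {e : G → ℂ} (hec : IsClassFunction G e)
    (hel : ∀ g, MemLocalRing M (e g)) (hid : conv e e = e) (habs : conv e (orbitIdem b) = e)
    (Sm : (G → ℂ) → Prop)
    (hconv : ∀ f₁ f₂ : G → ℂ, LocInv N M f₁ → LocInv N M f₂ → Sm f₂ → Sm (conv f₁ f₂))
    (hpiece : ∀ q : G ⧸ N, Sm fun z : G => open Classical in if (z : G ⧸ N) = q then e z else 0)
    (hω : ∀ h : G → ℂ, IsClassFunction N (fun n : N => h n) → (∀ g, MemLocalRing M (h g)) → Sm h →
      (∀ g, g ∉ N → h g = 0) → ∀ θ : IrrCharacter N, θ ∈ conjUnion (G := G) b →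
        MemLocalIdeal M (omega (θ : N → ℂ) fun n : N => h n))
    (g : G) : MemLocalIdeal M (e g) := by
  classical
  haveI : Fintype (G ⧸ N) := Fintype.ofFinite _
  set ε := orbitIdem b with hε
  set β : G ⧸ N → G → ℂ := fun q z => if (z : G ⧸ N) = q then e z else 0 with hβ
  have hεsupp : ∀ y, ε y ≠ 0 → y ∈ N := fun y hy => by
    by_contra h; exact hy (extendByZero_eq_zero N _ h)
  have hεinv : LocInv N M ε :=
    ⟨memLocalRing_orbitIdem hb, fun x _ y => isClassFunction_orbitIdem b y x⟩
  have hβinv : ∀ q, LocInv N M (β q) := fun q => ⟨fun z => by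
    simp only [hβ]; split_ifs <;> [exact hel z; exact memLocalRing_zero], fun x hx z => by
    have h1 : ((x * z * x⁻¹ : G) : G ⧸ N) = (z : G ⧸ N) := by
      rw [QuotientGroup.mk_mul, QuotientGroup.mk_mul, QuotientGroup.mk_inv,
        (QuotientGroup.eq_one_iff x).mpr hx, one_mul, inv_one, mul_one]
    simp only [hβ, h1, hec z x]⟩
  have hβco : ∀ q, InCoset N q (β q) := fun q z hz => by
    by_contra h; exact hz (if_neg h)
  have hβnull : ∀ q, Sm (β q) := fun q => by
    convert hpiece q using 1
  have hβabs : ∀ q, conv (β q) ε = β q := fun q => by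
    funext z
    have hz := congrFun habs z
    simp only [conv, hβ] at hz ⊢
    have key : ∀ y : G, (if (y : G ⧸ N) = q then e y else 0) * ε (y⁻¹ * z) =
        if (z : G ⧸ N) = q then e y * ε (y⁻¹ * z) else 0 := fun y => by
      by_cases hy : ε (y⁻¹ * z) = 0
      · simp [hy]
      · rw [QuotientGroup.eq.mpr (hεsupp _ hy), ite_mul, zero_mul]
    rw [Finset.sum_congr rfl fun y _ => key y]
    split_ifs
    · exact hz
    · exact Finset.sum_const_zero
  -- products of pieces along a sequence
  let S : (ℕ → G ⧸ N) → ℕ → ℕ → G → ℂ :=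
    fun q i k => Nat.rec (motive := fun _ => G → ℂ) deltaOne (fun k f => conv f (β (q (i + k)))) k
  let E : (ℕ → G ⧸ N) → ℕ → ℕ → G ⧸ N :=
    fun q i k => Nat.rec (motive := fun _ => G ⧸ N) 1 (fun k d => d * q (i + k)) k
  have hS0 : ∀ q i, S q i 0 = deltaOne := fun q i => rfl
  have hSs : ∀ q i k, S q i (k + 1) = conv (S q i k) (β (q (i + k))) := fun q i k => rfl
  have hE0 : ∀ q i, E q i 0 = 1 := fun q i => rfl
  have hEs : ∀ q i k, E q i (k + 1) = E q i k * q (i + k) := fun q i k => rfl
  have hSinv : ∀ q i k, LocInv N M (S q i k) := fun q i k => by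
    induction k with
    | zero => exact hS0 q i ▸ locInv_deltaOne
    | succ k ih => exact hSs q i k ▸ ih.conv (hβinv _)
  have hSco : ∀ q i k, InCoset N (E q i k) (S q i k) := fun q i k => by
    induction k with
    | zero => rw [hS0, hE0]; exact inCoset_deltaOne
    | succ k ih => rw [hSs, hEs]; exact ih.conv (hβco _)
  have hSnull : ∀ q i k, 0 < k → Sm (S q i k) := fun q i k hk => by
    obtain ⟨k, rfl⟩ := Nat.exists_eq_succ_of_ne_zero hk.ne'
    rw [hSs]
    exact hconv _ _ (hSinv q i k) (hβinv _) (hβnull _)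
  have hSabs : ∀ q i k, 0 < k → conv (S q i k) ε = S q i k := fun q i k hk => by
    obtain ⟨k, rfl⟩ := Nat.exists_eq_succ_of_ne_zero hk.ne'
    rw [hSs, conv_assoc, hβabs]
  have hsplit : ∀ q i k, S q 0 (i + k) = conv (S q 0 i) (S q i k) := fun q i k => by
    induction k with
    | zero => rw [hS0, conv_deltaOne_right, Nat.add_zero]
    | succ k ih => rw [← Nat.add_assoc, hSs, hSs, Nat.zero_add, ih, conv_assoc]
  have hEsplit : ∀ q i k, E q 0 (i + k) = E q 0 i * E q i k := fun q i k => by
    induction k with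
    | zero => rw [hE0, mul_one, Nat.add_zero]
    | succ k ih => rw [← Nat.add_assoc, hEs, hEs, Nat.zero_add, ih, mul_assoc]
  -- a product returning to its coset is a nilpotent element of the centre of the block
  have hloop : ∀ q i k, 0 < k → E q i k = 1 →
      ∃ v : ZO M N, (∀ η : IrrCharacter N, MemLocalIdeal M ((v : IrrCharacter N → ℂ) η)) ∧
        S q i k = extendByZero N (ofOmega (v : IrrCharacter N → ℂ)) := fun q i k hk hE => by
    set h := S q i k with hh
    have hco : ∀ y, h y ≠ 0 → y ∈ N := fun y hy =>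
      (QuotientGroup.eq_one_iff y).mp ((hSco q i k y hy).trans hE)
    have hcls : IsClassFunction N fun n : N => h n := fun a x => (hSinv q i k).2 x x.2 a
    have hlN : ∀ n : N, MemLocalRing M ((fun n : N => h n) n) := fun n => (hSinv q i k).1 _
    refine ⟨toZO (fun n : N => h n) hcls hlN, fun η => ?_, ?_⟩
    · show MemLocalIdeal M (omega (η : N → ℂ) fun n : N => h n)
      by_cases hη : η ∈ conjUnion (G := G) b
      · exact hω h hcls (hSinv q i k).1 (hSnull q i k hk)
          (fun y hy => by_contra fun hne => hy (hco y hne)) η hη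
      · have e1 : (fun n : N => h n) = conv (fun n : N => h n) (blockCoeff (conjUnion (G := G) b)) := by
          funext n
          rw [show h n = conv h ε n from (congrFun (hSabs q i k hk) n).symm, conv, conv]
          refine (Fintype.sum_of_injective Subtype.val Subtype.val_injective _ _ (fun y hy => ?_)
            fun m => ?_).symm
          · rw [show h y = 0 from by_contra fun hne => hy ⟨⟨y, hco y hne⟩, rfl⟩, zero_mul]
          · rw [hε, orbitIdem, ← Subgroup.coe_inv, ← Subgroup.coe_mul, extendByZero_apply]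
        rw [e1, omega_conv η hcls (isClassFunction_blockCoeff _), omega_blockCoeff,
          indVec_of_notMem hη, mul_zero]
        exact memLocalIdeal_zero
    · rw [ofOmega_toZO hcls hlN]
      funext y
      by_cases hy : y ∈ N
      · exact (extendByZero_apply N (fun n : N => h n) ⟨y, hy⟩).symm
      · rw [extendByZero_eq_zero N _ hy]
        by_contra hne
        exact hy (hco y hne)
  -- many returns to one coset
  let fib : (ℕ → G ⧸ N) → ℕ → Finset ℕ := fun q j =>
    (Finset.range (j + 1)).filter fun i : ℕ => (E q 0 i : G ⧸ N) = E q 0 j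
  have hfib : ∀ q j i, i ∈ fib q j ↔ i < j + 1 ∧ E q 0 i = E q 0 j := fun q j i => by
    simp only [fib, Finset.mem_filter, Finset.mem_range]
  have hrep : ∀ (q : ℕ → G ⧸ N) (r j : ℕ),
      r + 1 ≤ (fib q j).card →
      ∃ (a : G → ℂ) (v : Fin r → ZO M N), (∀ z, MemLocalRing M (a z)) ∧
        (∀ i (η : IrrCharacter N), MemLocalIdeal M ((v i : IrrCharacter N → ℂ) η)) ∧
        S q 0 j = conv a (extendByZero N (ofOmega ((∏ i, v i : ZO M N) : IrrCharacter N → ℂ))) := by
    intro q r
    induction r with
    | zero =>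
      intro j _
      refine ⟨S q 0 j, Fin.elim0, (hSinv q 0 j).1, fun i => i.elim0, ?_⟩
      have h1 : ((∏ i, (Fin.elim0 : Fin 0 → ZO M N) i : ZO M N) : IrrCharacter N → ℂ) = 1 := by simp
      rw [h1, ofOmega_one]
      have h2 : extendByZero N (deltaOne : N → ℂ) = (deltaOne : G → ℂ) := funext fun y => by
        by_cases hy : y ∈ N
        · rw [show y = ((⟨y, hy⟩ : N) : G) from rfl, extendByZero_apply]
          simp [deltaOne_apply, Subtype.ext_iff]
        · rw [extendByZero_eq_zero N _ hy, deltaOne_apply, if_neg fun h : y = 1 => hy (by rw [h]; exact N.one_mem)]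
      rw [h2, conv_deltaOne_right]
    | succ r ih =>
      intro j hj
      have hjmem : j ∈ fib q j := (hfib q j j).mpr ⟨by omega, rfl⟩
      have hcard := Finset.card_erase_of_mem hjmem
      set F := (fib q j).erase j with hF
      have hFne : F.Nonempty := Finset.card_pos.mp (by omega)
      set i := F.max' hFne with hi
      have hiF := F.max'_mem hFne
      rw [← hi, hF, Finset.mem_erase, hfib] at hiF
      have hij : i < j := lt_of_le_of_ne (Nat.lt_succ_iff.mp hiF.2.1) hiF.1
      have hsub : F ⊆ fib q i := fun l hl => by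
        have hle := F.le_max' l hl
        rw [hF, Finset.mem_erase, hfib] at hl
        exact (hfib q i l).mpr ⟨by omega, hl.2.2.trans hiF.2.2.symm⟩
      have hcard' := Finset.card_le_card hsub
      obtain ⟨a, v, ha, hv, he⟩ := ih i (by omega)
      have hE : E q i (j - i) = 1 := by
        have h := hEsplit q i (j - i)
        rw [Nat.add_sub_cancel' hij.le, hiF.2.2] at h
        exact mul_eq_left.mp h.symm
      obtain ⟨w, hw, hwe⟩ := hloop q i (j - i) (by omega) hE
      refine ⟨a, Fin.snoc v w, ha, fun l => ?_, ?_⟩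
      · refine Fin.lastCases ?_ (fun l => ?_) l
        · rw [Fin.snoc_last]; exact hw
        · rw [Fin.snoc_castSucc]; exact hv l
      · rw [← Nat.add_sub_cancel' hij.le, hsplit, he, hwe, conv_assoc, conv_extendByZero,
          ← ofOmega_mul, Fin.prod_univ_castSucc, MulMemClass.coe_mul]
        simp only [Fin.snoc_castSucc, Fin.snoc_last]
  -- long products vanish
  set m := Fintype.card (IrrCharacter N)
  set L := Fintype.card (G ⧸ N) * m + 1 with hL
  have hlong : ∀ q z, MemLocalIdeal M (S q 0 L z) := fun q => by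
    obtain ⟨d, -, hd⟩ := Finset.exists_lt_card_fiber_of_mul_lt_card_of_maps_to
      (s := Finset.range (L + 1)) (t := (Finset.univ : Finset (G ⧸ N))) (f := fun i => E q 0 i)
      (n := m) (fun i _ => Finset.mem_univ _) (by rw [Finset.card_range, Finset.card_univ]; omega)
    set F := (Finset.range (L + 1)).filter fun i => E q 0 i = d
    have hFne : F.Nonempty := Finset.card_pos.mp (lt_of_le_of_lt (Nat.zero_le _) hd)
    set j := F.max' hFne with hj
    have hjF := Finset.mem_filter.mp (F.max'_mem hFne)
    rw [← hj, Finset.mem_range] at hjF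
    have hsub : F ⊆ fib q j := fun l hl =>
      (hfib q j l).mpr ⟨Nat.lt_succ_of_le (F.le_max' l hl),
        (Finset.mem_filter.mp hl).2.trans hjF.2.symm⟩
    obtain ⟨a, v, ha, hv, he⟩ :=
      hrep q m j (Nat.succ_le_of_lt (lt_of_lt_of_le hd (Finset.card_le_card hsub)))
    have hPj : ∀ y, MemLocalIdeal M (S q 0 j y) := fun y => by
      rw [he, conv]
      refine memLocalIdeal_sum _ _ fun u _ => memLocalIdeal_mul_left (ha u) ?_
      by_cases hu : u⁻¹ * y ∈ N
      · rw [show u⁻¹ * y = ((⟨_, hu⟩ : N) : G) from rfl, extendByZero_apply]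
        exact memLocalIdeal_prod_of_values v hv _
      · rw [extendByZero_eq_zero N _ hu]; exact memLocalIdeal_zero
    intro z
    rw [← Nat.add_sub_cancel' (Nat.lt_succ_iff.mp hjF.1), hsplit, conv]
    exact memLocalIdeal_sum _ _ fun u _ =>
      memLocalIdeal_mul_right (hPj u) ((hSinv q j _).1 _)
  -- `e` is a sum of such products
  have hspan : ∀ k, 0 < k →
      e ∈ AddSubmonoid.closure (Set.range fun q : ℕ → G ⧸ N => S q 0 k) := by
    intro k hk
    have hesum : e = ∑ r, β r := funext fun z => by simp [Finset.sum_apply, hβ]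
    induction k with
    | zero => omega
    | succ k ih =>
      rcases Nat.eq_zero_or_pos k with rfl | hk'
      · rw [hesum]
        refine AddSubmonoid.sum_mem _ fun r _ => AddSubmonoid.subset_closure ⟨fun _ => r, ?_⟩
        exact (hSs (fun _ => r) 0 0).trans (conv_deltaOne_left (β r))
      · have key : ∀ f ∈ AddSubmonoid.closure (Set.range fun q : ℕ → G ⧸ N => S q 0 k),
            conv f e ∈ AddSubmonoid.closure (Set.range fun q : ℕ → G ⧸ N => S q 0 (k + 1)) := by
          intro f hf
          induction hf using AddSubmonoid.closure_induction with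
          | mem f hf =>
            obtain ⟨q, rfl⟩ := hf
            have e1 : conv (S q 0 k) e = ∑ r, conv (S q 0 k) (β r) := by
              funext z
              rw [hesum]
              simp only [conv, Finset.sum_apply, Finset.mul_sum]
              exact Finset.sum_comm
            rw [e1]
            refine AddSubmonoid.sum_mem _ fun r _ =>
              AddSubmonoid.subset_closure ⟨Function.update q k r, ?_⟩
            show S _ 0 (k + 1) = conv (S q 0 k) (β r)
            rw [hSs, Nat.zero_add, Function.update_self]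
            congr 1
            have : ∀ l ≤ k, S (Function.update q k r) 0 l = S q 0 l := fun l hl => by
              induction l with
              | zero => rfl
              | succ l ihl =>
                rw [hSs, hSs, ihl (by omega), Nat.zero_add,
                  Function.update_of_ne (by omega : l ≠ k)]
            exact this k le_rfl
          | zero =>
            rw [show conv (0 : G → ℂ) e = 0 from funext fun z => by simp [conv]]
            exact zero_mem _
          | add f₁ f₂ _ _ h₁ h₂ =>
            rw [show conv (f₁ + f₂) e = conv f₁ e + conv f₂ e from funext fun z => by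
              simp [conv, add_mul, Finset.sum_add_distrib]]
            exact add_mem h₁ h₂
        rw [← hid]
        exact key e (ih hk')
  have hfin : ∀ f ∈ AddSubmonoid.closure (Set.range fun q : ℕ → G ⧸ N => S q 0 L),
      ∀ z, MemLocalIdeal M (f z) := by
    intro f hf
    induction hf using AddSubmonoid.closure_induction with
    | mem f hf => obtain ⟨q, rfl⟩ := hf; exact hlong q
    | zero => exact fun _ => memLocalIdeal_zero
    | add f₁ f₂ _ _ h₁ h₂ => exact fun z => memLocalIdeal_add (h₁ z) (h₂ z)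
  exact hfin e (hspan L (Nat.succ_pos _)) g

/-- An idempotent absorbed by the orbit idempotent that vanishes on the centralizers of the
conjugates of `Q` is zero modulo `M`. -/
theorem memLocalIdeal_of_centNull {e : G → ℂ} (hec : IsClassFunction G e)
    (hel : ∀ g, MemLocalRing M (e g)) (hid : conv e e = e) (habs : conv e (orbitIdem b) = e)
    (hnull : CentNull M Q e) (g : G) : MemLocalIdeal M (e g) := by
  classical
  have hQp : IsPGroup p Q := by
    have h := (IsDefectGroup.isPGroup hM hQ).map N.subtype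
    rwa [Subgroup.subgroupOf_map_subtype, inf_eq_left.mpr hQN] at h
  exact memLocalIdeal_of_pieces hb hM hec hel hid habs (CentNull M Q)
    (fun f₁ f₂ h₁ h₂ h => CentNull.conv_right hM hQN hQp h₁ h₂ h)
    (fun q x c hc => by dsimp only; split_ifs <;> [exact hnull x c hc; exact memLocalIdeal_zero])
    (fun h hcls hl hc _ θ hθ => memLocalIdeal_omega_of_centNull hb hM hQN hQ hcls hl hc hθ) g

end Core

end CfsgLib.Blocks
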