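import Cfsg.Agent.Lib.Blocks.Induced
import Cfsg.Agent.Lib.Blocks.MainSecond
import Cfsg.Agent.Lib.Blocks.Osima
import Cfsg.Agent.Lib.Blocks.Inflate
import Cfsg.Agent.Lib.Blocks.KernelBlock
import Cfsg.Agent.Lib.Blocks.Defect
import Cfsg.Agent.Lib.Char.Clifford
import Cfsg.Agent.Lib.Char.Constituents

/-!
# Blocks of a normal subgroup covered by a block
-/

set_option autoImplicit false
set_option linter.unusedSectionVars false

namespace CfsgLib.Blocks

open Cfsg
open scoped ComplexConjugate CfsgLib.Char

variable {p : ℕ} {M : Ideal AlgInt} {G : Type*} [Group G] [Fintype G]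

/-- The induced central character as the central character on a class indicator. -/
theorem inducedCentralChar_eq_omega_classInd (H : Subgroup G) [Fintype H] (ξ : H → ℂ) (g : G) :
    inducedCentralChar H ξ g = omega ξ (fun h : H => classInd g (h : G)) := by
  classical
  rw [inducedCentralChar,
    finsum_mem_eq_sum_of_inter_support_eq _ (t := ({h : H | IsConj g (h : G)} : Finset H)) (by simp),
    omega, Finset.sum_div, Finset.sum_filter]
  refine Finset.sum_congr rfl fun h _ => ?_
  by_cases hc : IsConj g (h : G)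
  · rw [if_pos hc, classInd, if_pos hc, one_mul]
  · rw [if_neg hc, classInd, if_neg hc, zero_mul, zero_div]

/-- A class function as a combination of the class indicators. -/
theorem eq_sum_classInd [Fintype (ConjClasses G)] {f : G → ℂ} (hf : IsClassFunction G f) :
    f = ∑ c : ConjClasses G, f (Quotient.out c) • classInd (Quotient.out c) := by
  classical
  funext g
  have hq : ∀ c : ConjClasses G, IsConj (Quotient.out c) g ↔ c = ConjClasses.mk g := fun c => by
    rw [← ConjClasses.mk_eq_mk_iff_isConj,
      show ConjClasses.mk (Quotient.out c) = c from Quotient.out_eq c]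
  simp only [Finset.sum_apply, Pi.smul_apply, smul_eq_mul, classInd, hq, mul_ite, mul_one, mul_zero,
    Finset.sum_ite_eq', Finset.mem_univ, if_true]
  exact (IsClassFunction.eq_of_isConj hf ((hq _).mpr rfl)).symm

variable {N : Subgroup G} [N.Normal] [Fintype N]

theorem classInd_eq_zero_of_not_mem {n : G} (hn : n ∈ N) {g : G} (hg : g ∉ N) :
    classInd n g = 0 := by
  rw [classInd, if_neg]
  intro hcon
  obtain ⟨x, hx⟩ := isConj_iff.mp hcon
  exact hg (hx ▸ ‹N.Normal›.conj_mem n hn x)

/-- A constituent of the restriction has the same central character on the centre of the normal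
subgroup that is fixed by the group. -/
theorem omega_eq_of_constituent {χ : IrrCharacter G} {θ : IrrCharacter N}
    (hcon : classInner (fun n : N => (χ : G → ℂ) n) (θ : N → ℂ) ≠ 0) {v : G → ℂ}
    (hv : IsClassFunction G v) (hsupp : ∀ g, g ∉ N → v g = 0) :
    omega (χ : G → ℂ) v = omega (θ : N → ℂ) (fun n : N => v n) := by
  classical
  set vN : N → ℂ := fun n => v n with hvN
  have hvNc : IsClassFunction N vN := fun a x => hv (a : G) (x : G)
  have hr : IsClassFunction N (fun n : N => (χ : G → ℂ) n) := fun a x =>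
    irr_classFunction χ (a : G) (x : G)
  set c : IrrCharacter N → ℂ := fun ψ => classInner (fun n : N => (χ : G → ℂ) n) (ψ : N → ℂ)
  have hexp : ∀ n : N, (χ : G → ℂ) n = ∑ ψ, c ψ * (ψ : N → ℂ) n := fun n => by
    have h := congrFun (Char.classFunction_expansion hr) n
    simpa using h
  have key : ∑ ψ : IrrCharacter N, (c ψ * omega (ψ : N → ℂ) vN) • (ψ : N → ℂ) =
      ∑ ψ : IrrCharacter N, (omega (χ : G → ℂ) v * c ψ) • (ψ : N → ℂ) := by
    funext u
    simp only [Finset.sum_apply, Pi.smul_apply, smul_eq_mul, mul_assoc]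
    rw [← Finset.mul_sum, ← hexp u, ← sum_mul_irr_mul hv χ (u : G),
      Finset.sum_congr rfl fun ψ _ => by rw [← sum_mul_irr_mul hvNc ψ u, Finset.mul_sum],
      Finset.sum_comm]
    refine (Finset.sum_congr rfl fun z _ => ?_).trans (Fintype.sum_of_injective Subtype.val
      Subtype.val_injective (fun z : N => v z * (χ : G → ℂ) ((z : G) * u)) _ (fun g hg => ?_)
      fun z => rfl)
    · rw [← Subgroup.coe_mul, hexp, Finset.mul_sum]
      exact Finset.sum_congr rfl fun ψ _ => by rw [hvN]; ring
    · rw [hsupp g fun h => hg ⟨⟨g, h⟩, rfl⟩, zero_mul]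
  have h := congrArg (fun f => classInner f (θ : N → ℂ)) key
  simp only [Char.classInner_sum_smul_irr] at h
  exact (mul_left_cancel₀ hcon (h.trans (mul_comm _ _))).symm

/-- The central character is the induced one on the normal subgroup. -/
theorem centralChar_eq_inducedCentralChar_of_constituent {χ : IrrCharacter G} {θ : IrrCharacter N}
    (hcon : classInner (fun n : N => (χ : G → ℂ) n) (θ : N → ℂ) ≠ 0) (n : N) :
    centralChar (χ : G → ℂ) (n : G) = inducedCentralChar N (θ : N → ℂ) (n : G) := by
  rw [← omega_classInd, inducedCentralChar_eq_omega_classInd,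
    omega_eq_of_constituent hcon (isClassFunction_classInd _)
      fun g hg => classInd_eq_zero_of_not_mem n.2 hg]

/-- The congruence attached to a covered block. -/
theorem omega_congr_of_covering [M.IsPrime] {B : Set (IrrCharacter G)} (hB : IsPBlock M B)
    {b : Set (IrrCharacter N)} (hb : IsPBlock M b) {χ : IrrCharacter G} (hχ : χ ∈ B)
    {θ : IrrCharacter N} (hθ : θ ∈ b)
    (hcon : classInner (fun n : N => (χ : G → ℂ) n) (θ : N → ℂ) ≠ 0)
    {χ' : IrrCharacter G} (hχ' : χ' ∈ B) {θ' : IrrCharacter N} (hθ' : θ' ∈ b) {v : G → ℂ}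
    (hv : IsClassFunction G v) (hl : ∀ g, MemLocalRing M (v g)) (hsupp : ∀ g, g ∉ N → v g = 0) :
    MemLocalIdeal M (omega (χ' : G → ℂ) v - omega (θ' : N → ℂ) (fun n : N => v n)) := by
  have h1 := sub_mem_localIdeal_of_sameBlock (IsPBlock.sameBlock hB hχ' hχ) hv hl
  have h2 := sub_mem_localIdeal_of_sameBlock (IsPBlock.sameBlock hb hθ hθ')
    (f := fun n : N => v n) (fun a x => hv (a : G) (x : G)) fun n => hl _
  rw [omega_eq_of_constituent hcon hv hsupp] at h1
  exact memLocalIdeal_sub_trans h1 h2

/-- The conjugate of an irreducible character of a normal subgroup. -/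
noncomputable def conjI (g : G) (ψ : IrrCharacter N) : IrrCharacter N :=
  inflate (MulAut.conjNormal g : MulAut N).toMonoidHom (MulAut.conjNormal g : MulAut N).surjective ψ

theorem coe_conjI (g : G) (ψ : IrrCharacter N) :
    (conjI g ψ : N → ℂ) = Char.conjBy N (ψ : N → ℂ) g := by
  rw [Char.conjBy_eq_comp]; rfl

theorem conjI_mul (ψ : IrrCharacter N) (a b : G) : conjI (a * b) ψ = conjI b (conjI a ψ) := by
  apply Subtype.ext
  rw [coe_conjI, coe_conjI, coe_conjI, Char.conjBy_mul]

theorem conjI_one (ψ : IrrCharacter N) : conjI (1 : G) ψ = ψ := by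
  apply Subtype.ext
  rw [coe_conjI, Char.conjBy_one]

/-- The union of the conjugates of a set of characters. -/
def conjUnion (b : Set (IrrCharacter N)) : Set (IrrCharacter N) := {ψ | ∃ g : G, conjI g ψ ∈ b}

theorem isBlockUnion_conjUnion [M.IsPrime] {b : Set (IrrCharacter N)} (hb : IsPBlock M b) :
    IsBlockUnion M (conjUnion (G := G) b) := by
  rintro ψ ⟨g, hg⟩ ψ' h
  exact ⟨g, IsPBlock.mem_of_sameBlock hb hg (sameBlock_inflate _ _ h)⟩

theorem conjI_mem_conjUnion_iff (b : Set (IrrCharacter N)) (x : G) (ψ : IrrCharacter N) :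
    conjI x ψ ∈ conjUnion (G := G) b ↔ ψ ∈ conjUnion (G := G) b := by
  constructor
  · rintro ⟨g, hg⟩
    exact ⟨x * g, by rwa [conjI_mul]⟩
  · rintro ⟨g, hg⟩
    exact ⟨x⁻¹ * g, by rwa [← conjI_mul, mul_inv_cancel_left]⟩

theorem blockCoeff_conjUnion_conj (b : Set (IrrCharacter N)) (x : G) (n : N) :
    blockCoeff (conjUnion (G := G) b) ⟨x * n * x⁻¹, ‹N.Normal›.conj_mem n n.2 x⟩ =
      blockCoeff (conjUnion (G := G) b) n := by
  classical
  simp only [blockCoeff, sum_mem_eq_filter]
  congr 1
  refine Finset.sum_bij' (fun ψ _ => conjI x ψ) (fun ψ _ => conjI x⁻¹ ψ)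
    (fun ψ h => by simpa [conjI_mem_conjUnion_iff] using h)
    (fun ψ h => by simpa [conjI_mem_conjUnion_iff] using h)
    (fun ψ _ => by rw [← conjI_mul, mul_inv_cancel, conjI_one])
    (fun ψ _ => by rw [← conjI_mul, inv_mul_cancel, conjI_one]) fun ψ _ => ?_
  rw [coe_conjI, Char.conjBy_apply_one]
  rfl

/-- A function with the congruences of a covered block has all constituents conjugate into it. -/
theorem exists_conjI_mem_of_congr [M.IsPrime] {b : Set (IrrCharacter N)} (hb : IsPBlock M b)
    {θ : IrrCharacter N} (hθ : θ ∈ b) {χ : IrrCharacter G}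
    (hcong : ∀ v : G → ℂ, IsClassFunction G v → (∀ g, MemLocalRing M (v g)) →
      (∀ g, g ∉ N → v g = 0) →
      MemLocalIdeal M (omega (χ : G → ℂ) v - omega (θ : N → ℂ) (fun n : N => v n)))
    {ψ : IrrCharacter N} (hψ : classInner (fun n : N => (χ : G → ℂ) n) (ψ : N → ℂ) ≠ 0) :
    ∃ g : G, conjI g ψ ∈ b := by
  classical
  by_contra hno
  set v : G → ℂ := extendByZero N (blockCoeff (conjUnion (G := G) b))
  have hvN : (fun n : N => v n) = blockCoeff (conjUnion (G := G) b) :=
    funext fun n => extendByZero_apply N _ n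
  have hsupp : ∀ g, g ∉ N → v g = 0 := fun g hg => extendByZero_eq_zero N _ hg
  have hv : IsClassFunction G v := by
    intro g x
    by_cases hg : g ∈ N
    · rw [congrFun hvN ⟨g, hg⟩, congrFun hvN ⟨x * g * x⁻¹, ‹N.Normal›.conj_mem g hg x⟩]
      exact blockCoeff_conjUnion_conj b x ⟨g, hg⟩
    · rw [hsupp g hg, hsupp _ fun h => hg (by
        simpa [mul_assoc] using ‹N.Normal›.conj_mem _ h x⁻¹)]
  have hl : ∀ g, MemLocalRing M (v g) := fun g => by
    by_cases hg : g ∈ N
    · rw [congrFun hvN ⟨g, hg⟩]
      exact memLocalRing_blockCoeff (isBlockUnion_conjUnion hb) _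
    · rw [hsupp g hg]; exact memLocalRing_zero
  have h := hcong v hv hl hsupp
  rw [omega_eq_of_constituent hψ hv hsupp, hvN, omega_blockCoeff, omega_blockCoeff,
    indVec_of_notMem (S := conjUnion (G := G) b) hno,
    indVec_of_mem (show θ ∈ conjUnion (G := G) b from ⟨1, by rwa [conjI_one]⟩)] at h
  exact not_memLocalIdeal_one (by simpa using memLocalIdeal_neg h)

omit [N.Normal] in
/-- Every irreducible character of a subgroup lies below an irreducible character of the group. -/
theorem exists_irr_above (θ : IrrCharacter N) :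
    ∃ χ : IrrCharacter G, classInner (fun n : N => (χ : G → ℂ) n) (θ : N → ℂ) ≠ 0 := by
  by_contra hno
  push Not at hno
  have h := congrFun (Char.classFunction_expansion (Char.isClassFunction_indFun N (θ : N → ℂ))) 1
  rw [Char.indFun_one] at h
  simp only [Finset.sum_apply, Pi.smul_apply,
    fun χ : IrrCharacter G => Char.frobenius_reciprocity N (θ : N → ℂ) (irr_classFunction χ)] at h
  rw [Finset.sum_eq_zero fun χ _ => ?_, mul_eq_zero] at h
  · exact h.elim (Nat.cast_ne_zero.mpr Subgroup.index_ne_zero_of_finite) (Char.irr_degree_ne_zero θ.2)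
  · rw [← Char.classInner_conj_symm, hno χ, map_zero, zero_smul]

/-- A block covering a block of a normal subgroup containing the centralizer of a normal
`p`-subgroup is induced from it. -/
theorem isInducedBlock_of_covering (hM : IsPModular p M) (Q : Subgroup G) [Q.Normal]
    (hQ : IsPGroup p Q) (hCN : Subgroup.centralizer (Q : Set G) ≤ N)
    {b : Set (IrrCharacter N)} (hb : IsPBlock M b) {B : Set (IrrCharacter G)} (hB : IsPBlock M B)
    {χ : IrrCharacter G} (hχ : χ ∈ B) {θ : IrrCharacter N} (hθ : θ ∈ b)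
    (hcon : classInner (fun n : N => (χ : G → ℂ) n) (θ : N → ℂ) ≠ 0) : IsInducedBlock M N b B := by
  classical
  have := isPrime_of_isPModular hM
  refine ⟨hb, hB, fun θ' hθ' χ' hχ' g => ?_⟩
  rw [inducedCentralChar_eq_omega_classInd]
  by_cases hg : g ∈ N
  · have h := omega_congr_of_covering hB hb hχ hθ hcon hχ' hθ' (isClassFunction_classInd g)
      (memLocalRing_classInd g) fun x hx => classInd_eq_zero_of_not_mem hg hx
    rw [omega_classInd] at h
    exact memLocalIdeal_sub_comm h
  · rw [omega, Finset.sum_eq_zero, zero_div, zero_sub]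
    · exact memLocalIdeal_neg (memLocalIdeal_centralChar_of_not_centralizing hM Q hQ χ'
        fun h => hg (hCN h))
    · intro x _
      rw [classInd, if_neg, zero_mul]
      intro hc
      obtain ⟨a, ha⟩ := isConj_iff.mp hc.symm
      exact hg (ha ▸ ‹N.Normal›.conj_mem (x : G) x.2 a)

end CfsgLib.Blocks
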