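import Cfsg.Agent.Lib.Blocks.CoveringDefect
import Cfsg.Agent.Lib.Blocks.StableBlock

/-!
# Every character of a covered block lies below a character of the covering block
-/

set_option autoImplicit false
set_option linter.unusedSectionVars false

namespace CfsgLib.Blocks

open Cfsg
open scoped ComplexConjugate CfsgLib.Char

variable {p : ℕ} {M : Ideal AlgInt} {G : Type*} [Group G] [Fintype G] {N : Subgroup G}
  [hN : N.Normal] [Fintype N] [M.IsPrime]

/-- Every character of a block covered by `B` is a constituent of the restriction of a member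
of `B`. -/
theorem exists_constituent_mem_of_covering (hM : IsPModular p M) {b : Set (IrrCharacter N)}
    (hb : IsPBlock M b) {B : Set (IrrCharacter G)} (hB : IsPBlock M B) {χ : IrrCharacter G}
    (hχ : χ ∈ B) {θ : IrrCharacter N} (hθ : θ ∈ b)
    (hcon : classInner (fun n : N => (χ : G → ℂ) n) (θ : N → ℂ) ≠ 0)
    {θ₁ : IrrCharacter N} (hθ₁ : θ₁ ∈ b) :
    ∃ χ₁ ∈ B, classInner (fun n : N => (χ₁ : G → ℂ) n) (θ₁ : N → ℂ) ≠ 0 := by
  classical
  by_contra hno
  push Not at hno
  set O : Set (IrrCharacter N) := {η | ∃ g : G, conjI g η = θ₁} with hO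
  set E : G → ℂ := extendByZero N (blockCoeff O) with hE
  have hOinv : ∀ (x : G) (η : IrrCharacter N), conjI x η ∈ O ↔ η ∈ O := fun x η =>
    ⟨fun ⟨g, hg⟩ => ⟨x * g, by rwa [conjI_mul]⟩, fun ⟨g, hg⟩ => ⟨x⁻¹ * g, by
      rwa [← conjI_mul, mul_inv_cancel_left]⟩⟩
  have hOc : ∀ (x : G) (n : N),
      blockCoeff O ⟨x * n * x⁻¹, hN.conj_mem n n.2 x⟩ = blockCoeff O n := fun x n => by
    simp only [blockCoeff, sum_mem_eq_filter]
    congr 1
    refine Finset.sum_bij' (fun ψ _ => conjI x ψ) (fun ψ _ => conjI x⁻¹ ψ)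
      (fun ψ h => by simpa [hOinv] using h) (fun ψ h => by simpa [hOinv] using h)
      (fun ψ _ => by rw [← conjI_mul, mul_inv_cancel, conjI_one])
      (fun ψ _ => by rw [← conjI_mul, inv_mul_cancel, conjI_one]) fun ψ _ => ?_
    rw [coe_conjI, Char.conjBy_apply_one]
    rfl
  have hEc : IsClassFunction G E := by
    intro g x
    simp only [hE]
    by_cases hg : g ∈ N
    · rw [show g = ((⟨g, hg⟩ : N) : G) from rfl,
        show x * ((⟨g, hg⟩ : N) : G) * x⁻¹ = ((⟨x * g * x⁻¹, hN.conj_mem g hg x⟩ : N) : G) from rfl,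
        extendByZero_apply, extendByZero_apply]
      exact hOc x ⟨g, hg⟩
    · rw [extendByZero_eq_zero N _ hg, extendByZero_eq_zero N _ fun h => hg (by
        simpa [mul_assoc] using hN.conj_mem _ h x⁻¹)]
  have hEsupp : ∀ y, E y ≠ 0 → y ∈ N := fun y hy => by
    by_contra h; exact hy (extendByZero_eq_zero N _ h)
  set e := blockCoeff B
  have heE : conv e E = 0 := by
    refine eq_of_omega_eq (isClassFunction_conv (isClassFunction_blockCoeff B) hEc)
      (fun _ _ => rfl) fun χ' => ?_
    rw [omega_conv χ' (isClassFunction_blockCoeff B) hEc, omega_blockCoeff,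
      show omega (χ' : G → ℂ) (0 : G → ℂ) = 0 by simp [omega]]
    by_cases hχ' : χ' ∈ B
    · obtain ⟨η, hη⟩ := Char.exists_constituent N (Char.isCharacter_of_isIrr χ'.2)
        (Char.irr_degree_ne_zero χ'.2)
      rw [omega_eq_of_constituent hη hEc fun g hg => extendByZero_eq_zero N _ hg,
        show (fun n : N => E n) = blockCoeff O from funext fun n => extendByZero_apply N _ n,
        omega_blockCoeff, indVec_of_notMem (S := O) ?_, mul_zero]
      rintro ⟨g, hg⟩
      refine ?_
      have h := hno χ' hχ'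
      rw [← hg, coe_conjI, ← Char.conjBy_restrict N (irr_classFunction χ') g,
        Char.classInner_conjBy] at h
      exact hη h
    · rw [indVec_of_notMem hχ', zero_mul]
  have hnull : ∀ g, MemLocalIdeal M (e g) := memLocalIdeal_of_pieces hb hM
    (isClassFunction_blockCoeff B) (IsPBlock.memLocalRing_blockCoeff hB) (conv_blockCoeff_self B)
    (conv_blockCoeff_orbitIdem hb hB hχ hθ hcon) (fun f => conv f E = 0)
    (fun f₁ f₂ _ _ h => by
      rw [conv_assoc, h]
      funext z
      simp [conv])
    (fun q => by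
      funext z
      have hz := congrFun heE z
      simp only [conv, Pi.zero_apply] at hz ⊢
      have key : ∀ y : G, (if (y : G ⧸ N) = q then e y else 0) * E (y⁻¹ * z) =
          if (z : G ⧸ N) = q then e y * E (y⁻¹ * z) else 0 := fun y => by
        by_cases hy : E (y⁻¹ * z) = 0
        · simp [hy]
        · rw [QuotientGroup.eq.mpr (hEsupp _ hy), ite_mul, zero_mul]
      rw [Finset.sum_congr rfl fun y _ => key y]
      split_ifs
      · exact hz
      · exact Finset.sum_const_zero)
    (fun h hcls hl hhE hsupp η hη => by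
      obtain ⟨g, hg⟩ := hη
      -- the value at the conjugate of `θ₁` in the block of `η` vanishes
      set η₁ := conjI g⁻¹ θ₁
      have hη₁O : η₁ ∈ O := ⟨g, by rw [← conjI_mul, inv_mul_cancel, conjI_one]⟩
      have hs : SameBlock M (η : N → ℂ) (η₁ : N → ℂ) := by
        have h1 : SameBlock M (conjI g⁻¹ (conjI g η) : N → ℂ) (η₁ : N → ℂ) :=
          sameBlock_inflate _ _ (IsPBlock.sameBlock hb hg hθ₁)
        rwa [← conjI_mul, mul_inv_cancel, conjI_one] at h1
      have h2 := sub_mem_localIdeal_of_sameBlock hs hcls fun n => hl _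
      have h3 : omega (η₁ : N → ℂ) (fun n : N => h n) = 0 := by
        have e1 : conv (fun n : N => h n) (blockCoeff O) = fun _ => 0 := funext fun n => by
          have h4 := congrFun hhE (n : G)
          rw [Pi.zero_apply] at h4
          rw [← h4, conv, conv]
          refine Fintype.sum_of_injective Subtype.val Subtype.val_injective _ _ (fun y hy => ?_)
            fun m => ?_
          · rw [hsupp y fun hy' => hy ⟨⟨y, hy'⟩, rfl⟩, zero_mul]
          · rw [hE, ← Subgroup.coe_inv, ← Subgroup.coe_mul, extendByZero_apply]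
        have h5 := congrArg (omega (η₁ : N → ℂ)) e1
        rw [omega_conv η₁ hcls (isClassFunction_blockCoeff O), omega_blockCoeff,
          indVec_of_mem hη₁O, mul_one] at h5
        rw [h5]
        simp [omega]
      rwa [h3, sub_zero] at h2)
  obtain ⟨g, hg⟩ := exists_isDefectClass hM hB
  exact hg.2.1 (hnull g)

end CfsgLib.Blocks
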