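import Cfsg.Agent.Lib.Blocks.SubsectionRows
import Cfsg.Agent.Lib.Blocks.Sections
import Cfsg.Agent.Lib.Blocks.Integrality
import Cfsg.Agent.Lib.Blocks.MainThird
import Cfsg.Agent.Lib.Blocks.Stable
import Cfsg.Agent.Lib.Char.CMValue

/-!
# Diagonal contributions of a subsection

For a `p`-element `u`, an irreducible character `χ` and a block `b` of `C_G(u)` the number
`(1/|C_G(u)|) ∑ |χ^b(us)|²` over the `p`-regular `s` becomes an algebraic integer after
multiplication by the `p`-part of `|G|/χ(1)`; it is non-zero for blocks of full defect.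
-/

set_option autoImplicit false
set_option linter.unusedSectionVars false

namespace CfsgLib.Blocks

open Cfsg
open scoped ComplexConjugate CfsgLib.Char

variable {p : ℕ} {M : Ideal AlgInt} {G : Type*} [Group G] [Fintype G]

/-- A sum over the group grouped by `p`-parts. -/
theorem sum_eq_sum_pParts (hp : p.Prime) (F : G → ℂ) [∀ v : G, Fintype (Subgroup.centralizer ({v} : Set G))]
    [DecidablePred fun v : G => ∃ k : ℕ, orderOf v = p ^ k]
    [∀ v : G, DecidablePred fun s : Subgroup.centralizer ({v} : Set G) => IsPRegular p s] :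
    ∑ g : G, F g = ∑ v : G with ∃ k : ℕ, orderOf v = p ^ k,
      ∑ s : Subgroup.centralizer ({v} : Set G) with IsPRegular p s, F (v * (s : G)) := by
  classical
  rw [Finset.sum_sigma']
  refine (Finset.sum_bij (fun x _ => x.1 * (x.2 : G)) (fun x _ => Finset.mem_univ _) ?_ ?_ ?_).symm
  · rintro ⟨v, s⟩ hv ⟨w, t⟩ hw h
    simp only [Finset.mem_sigma, Finset.mem_filter, Finset.mem_univ, true_and] at hv hw
    have h1 : IsPPart p (v * (s : G)) v := isPPart_mul
      (Subgroup.mem_centralizer_singleton_iff.mp s.2).symm hv.1 (by rw [Subgroup.orderOf_coe]; exact hv.2)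
    have h2 : IsPPart p (w * (t : G)) w := isPPart_mul
      (Subgroup.mem_centralizer_singleton_iff.mp t.2).symm hw.1 (by rw [Subgroup.orderOf_coe]; exact hw.2)
    dsimp only at h
    rw [← h] at h2
    obtain rfl := IsPPart.unique hp h1 h2
    obtain rfl : s = t := Subtype.ext (mul_left_cancel h)
    rfl
  · intro g _
    obtain ⟨v, ⟨y, hy, hcom, hv, hyr⟩, -⟩ := exists_isPPart hp g
    refine ⟨⟨v, ⟨y, Subgroup.mem_centralizer_singleton_iff.mpr hcom.symm⟩⟩, ?_, hy⟩
    simp only [Finset.mem_sigma, Finset.mem_filter, Finset.mem_univ, true_and]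
    refine ⟨hv, ?_⟩
    show ¬ p ∣ orderOf _
    rw [← Subgroup.orderOf_coe]
    exact hyr
  · exact fun x _ => rfl

section Regular

variable [DecidablePred fun s : G => IsPRegular p s]

theorem sum_regular_irr_mul_conj (hM : IsPModular p M) {b : Set (IrrCharacter G)}
    (hb : IsPBlock M b) {η η' : IrrCharacter G} (hη : η ∈ b) (hη' : η' ∉ b) :
    ∑ s : G with IsPRegular p s, (η' : G → ℂ) s * conj ((η : G → ℂ) s) = 0 := by
  have := isPrime_of_isPModular hM
  have h := classInner_regPart_eq_zero hM (IsPBlock.isBlockUnion hb) hη hη'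
  rw [classInner_regPart_comm, classInner, mul_eq_zero,
    or_iff_right (inv_ne_zero (Nat.cast_ne_zero.mpr Nat.card_pos.ne'))] at h
  rw [Finset.sum_filter]
  refine (Finset.sum_congr rfl fun s _ => ?_).trans h
  by_cases hs : IsPRegular p s
  · rw [if_pos hs, regPart_of_regular hs]
  · rw [if_neg hs, regPart_of_singular hs, zero_mul]

/-- On regular elements the block part of a class function is its projection. -/
theorem sum_regular_mul_conj_irr (hM : IsPModular p M) {b : Set (IrrCharacter G)}
    (hb : IsPBlock M b) {θ : G → ℂ} (hθ : IsClassFunction G θ) {η : IrrCharacter G} (hη : η ∈ b) :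
    ∑ s : G with IsPRegular p s, θ s * conj ((η : G → ℂ) s) =
      ∑ s : G with IsPRegular p s, blockPart b θ s * conj ((η : G → ℂ) s) := by
  classical
  have hexp : ∀ z, θ z = ∑ χ : IrrCharacter G, classInner θ (χ : G → ℂ) * (χ : G → ℂ) z := fun z => by
    have h := congrFun (Char.classFunction_expansion hθ) z
    simpa [Finset.sum_apply] using h
  simp only [blockPart_eq_filter, hexp, Finset.sum_mul]
  rw [Finset.sum_comm, Finset.sum_comm (t := Finset.univ.filter (· ∈ b))]
  refine (Finset.sum_subset (Finset.subset_univ _) fun χ _ hχ => ?_).symm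
  simp only [mul_assoc, ← Finset.mul_sum]
  rw [sum_regular_irr_mul_conj hM hb hη (fun h => hχ (by simp [h])), mul_zero]

theorem sum_regular_mul_conj_blockPart (hM : IsPModular p M) {b : Set (IrrCharacter G)}
    (hb : IsPBlock M b) {θ : G → ℂ} (hθ : IsClassFunction G θ) :
    ∑ s : G with IsPRegular p s, θ s * conj (blockPart b θ s) =
      ∑ s : G with IsPRegular p s, blockPart b θ s * conj (blockPart b θ s) := by
  classical
  have e : ∀ f : G → ℂ, ∑ s : G with IsPRegular p s, f s * conj (blockPart b θ s) =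
      ∑ χ : IrrCharacter G with χ ∈ b, conj (classInner θ (χ : G → ℂ)) *
        ∑ s : G with IsPRegular p s, f s * conj ((χ : G → ℂ) s) := by
    intro f
    simp only [blockPart_eq_filter, map_sum, map_mul, Finset.mul_sum]
    rw [Finset.sum_comm]
    exact Finset.sum_congr rfl fun χ _ => Finset.sum_congr rfl fun s _ => by ring
  rw [e, e]
  refine Finset.sum_congr rfl fun χ hχ => ?_
  rw [sum_regular_mul_conj_irr hM hb hθ (Finset.mem_filter.mp hχ).2]

theorem sum_regular_normSq_eq_sum_blocks (hM : IsPModular p M) {θ : G → ℂ}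
    (hθ : IsClassFunction G θ) :
    ∑ s : G with IsPRegular p s, θ s * conj (θ s) =
      ∑ b ∈ blocks M G, ∑ s : G with IsPRegular p s, blockPart b θ s * conj (blockPart b θ s) := by
  have := isPrime_of_isPModular hM
  have hsum : ∀ c, θ c = ∑ b ∈ blocks M G, blockPart b θ c := fun c => by
    rw [← sum_blockCoeff_mul (M := M) θ c]
    exact Finset.sum_congr rfl fun b _ => (blockPart_eq_sum b hθ c).symm
  rw [Finset.sum_congr rfl fun b hb => (sum_regular_mul_conj_blockPart hM (mem_blocks.mp hb) hθ).symm,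
    Finset.sum_comm]
  refine Finset.sum_congr rfl fun s _ => ?_
  rw [← Finset.mul_sum, ← map_sum, ← hsum]

end Regular

section SectionFun

variable {u : G}

/-- A function on the regular part of `C_G(u)` moved to the section of `u`. -/
noncomputable def sectionBase (p : ℕ) (u : G) (φ : Subgroup.centralizer ({u} : Set G) → ℂ) : G → ℂ :=
  fun z => open Classical in if h : u⁻¹ * z ∈ Subgroup.centralizer ({u} : Set G) then
    if IsPRegular p (u⁻¹ * z) then φ ⟨u⁻¹ * z, h⟩ else 0 else 0

/-- The class function on the section of `u` given by a function on the regular part of `C_G(u)`. -/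
noncomputable def sectionFun (p : ℕ) (u : G) (φ : Subgroup.centralizer ({u} : Set G) → ℂ) : G → ℂ :=
  fun g => (Nat.card (Subgroup.centralizer ({u} : Set G)) : ℂ)⁻¹ *
    ∑ x : G, sectionBase p u φ (x⁻¹ * g * x)

variable {φ : Subgroup.centralizer ({u} : Set G) → ℂ}

theorem isClassFunction_sectionFun : IsClassFunction G (sectionFun p u φ) := by
  intro g a
  simp only [sectionFun]
  congr 1
  refine Fintype.sum_equiv (Equiv.mulLeft a⁻¹) _ _ fun x => ?_
  rw [Equiv.coe_mulLeft]
  congr 1
  group

theorem sectionBase_ne_zero {z : G} (h : sectionBase p u φ z ≠ 0)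
    (hu : ∃ k : ℕ, orderOf u = p ^ k) : IsPPart p z u := by
  classical
  rw [sectionBase] at h
  by_cases hm : u⁻¹ * z ∈ Subgroup.centralizer ({u} : Set G)
  · rw [dif_pos hm] at h
    by_cases hr : IsPRegular p (u⁻¹ * z)
    · refine ⟨u⁻¹ * z, by group, ?_, hu, hr⟩
      exact (Subgroup.mem_centralizer_singleton_iff.mp hm).symm
    · rw [if_neg hr] at h
      exact absurd rfl h
  · rw [dif_neg hm] at h
    exact absurd rfl h

theorem sectionBase_conj (hφ : IsClassFunction (Subgroup.centralizer ({u} : Set G)) φ) {c : G}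
    (hc : c ∈ Subgroup.centralizer ({u} : Set G)) (z : G) :
    sectionBase p u φ (c⁻¹ * z * c) = sectionBase p u φ z := by
  classical
  have hcu : u⁻¹ * (c⁻¹ * z * c) = c⁻¹ * (u⁻¹ * z) * c := by
    rw [← mul_assoc, ← mul_assoc, ← mul_assoc]
    congr 2
    exact ((show Commute c u from Subgroup.mem_centralizer_singleton_iff.mp hc).inv_inv.eq).symm
  simp only [sectionBase, hcu]
  have hord : IsPRegular p (c⁻¹ * (u⁻¹ * z) * c) ↔ IsPRegular p (u⁻¹ * z) := by
    have e : orderOf (c⁻¹ * (u⁻¹ * z) * c) = orderOf (u⁻¹ * z) := by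
      have h := orderOf_injective (MulAut.conj c⁻¹).toMonoidHom (MulAut.conj c⁻¹).injective (u⁻¹ * z)
      simpa using h
    rw [IsPRegular, IsPRegular, e]
  by_cases hm : u⁻¹ * z ∈ Subgroup.centralizer ({u} : Set G)
  · have hm' := mul_mem (mul_mem (inv_mem hc) hm) hc
    rw [dif_pos hm', dif_pos hm]
    refine if_congr hord ?_ rfl
    have h := hφ ⟨u⁻¹ * z, hm⟩ (⟨c, hc⟩⁻¹)
    rw [← h]
    congr 1
    exact Subtype.ext (by simp)
  · rw [dif_neg hm, dif_neg]
    intro hm'
    apply hm
    have := mul_mem (mul_mem hc hm') (inv_mem hc)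
    simpa [mul_assoc] using this

theorem sectionFun_eq (hp : p.Prime) (hu : ∃ k : ℕ, orderOf u = p ^ k)
    (hφ : IsClassFunction (Subgroup.centralizer ({u} : Set G)) φ) (g : G) :
    sectionFun p u φ g = 0 ∨ ∃ z, sectionFun p u φ g = sectionBase p u φ z := by
  classical
  by_cases h : ∀ x : G, sectionBase p u φ (x⁻¹ * g * x) = 0
  · exact Or.inl (by simp [sectionFun, h])
  push Not at h
  obtain ⟨x₀, hx₀⟩ := h
  refine Or.inr ⟨x₀⁻¹ * g * x₀, ?_⟩
  obtain ⟨z, hz⟩ : ∃ z, z = x₀⁻¹ * g * x₀ := ⟨_, rfl⟩
  rw [← hz] at hx₀ ⊢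
  have hterm : ∀ x : G, sectionBase p u φ (x⁻¹ * g * x) =
      if x₀⁻¹ * x ∈ Subgroup.centralizer ({u} : Set G) then sectionBase p u φ z else 0 := by
    intro x
    have e : x⁻¹ * g * x = (x₀⁻¹ * x)⁻¹ * z * (x₀⁻¹ * x) := by rw [hz]; group
    split_ifs with hx
    · rw [e, sectionBase_conj hφ hx]
    · by_contra hne
      refine hx (Subgroup.mem_centralizer_singleton_iff.mpr ?_)
      have h1 := sectionBase_ne_zero hne hu
      have h2 := IsPPart.conj (sectionBase_ne_zero hx₀ hu) (x₀⁻¹ * x)⁻¹
      rw [inv_inv, ← e] at h2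
      have h3 := IsPPart.unique hp h1 h2
      calc x₀⁻¹ * x * u = x₀⁻¹ * x * ((x₀⁻¹ * x)⁻¹ * u * (x₀⁻¹ * x)) := by rw [← h3]
        _ = u * (x₀⁻¹ * x) := by group
  rw [sectionFun, Finset.sum_congr rfl fun x _ => hterm x, ← Finset.sum_filter, Finset.sum_const,
    nsmul_eq_mul, ← mul_assoc]
  have hcard : ((Finset.univ.filter fun x : G => x₀⁻¹ * x ∈ Subgroup.centralizer ({u} : Set G)).card) =
      Nat.card (Subgroup.centralizer ({u} : Set G)) := by
    rw [← Fintype.card_subtype, ← Nat.card_eq_fintype_card]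
    exact Nat.card_congr ((Equiv.mulLeft x₀⁻¹).subtypeEquiv fun x => Iff.rfl)
  rw [hcard, inv_mul_cancel₀ (Nat.cast_ne_zero.mpr Nat.card_pos.ne'), one_mul]

theorem memLocalRing_sectionFun [M.IsPrime] (hp : p.Prime) (hu : ∃ k : ℕ, orderOf u = p ^ k)
    (hφ : IsClassFunction (Subgroup.centralizer ({u} : Set G)) φ)
    (hl : ∀ s, MemLocalRing M (φ s)) (g : G) : MemLocalRing M (sectionFun p u φ g) := by
  classical
  rcases sectionFun_eq hp hu hφ g with h | ⟨z, h⟩
  · exact h ▸ memLocalRing_zero
  · rw [h, sectionBase]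
    split_ifs
    exacts [hl _, memLocalRing_zero, memLocalRing_zero]

theorem isIntegral_sectionFun (hp : p.Prime) (hu : ∃ k : ℕ, orderOf u = p ^ k)
    (hφ : IsClassFunction (Subgroup.centralizer ({u} : Set G)) φ)
    (hl : ∀ s, IsIntegral ℤ (φ s)) (g : G) : IsIntegral ℤ (sectionFun p u φ g) := by
  classical
  rcases sectionFun_eq hp hu hφ g with h | ⟨z, h⟩
  · exact h ▸ isIntegral_zero
  · rw [h, sectionBase]
    split_ifs
    exacts [hl _, isIntegral_zero, isIntegral_zero]

theorem sum_sectionBase [Fintype (Subgroup.centralizer ({u} : Set G))]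
    [DecidablePred fun s : Subgroup.centralizer ({u} : Set G) => IsPRegular p s] (f : G → ℂ) :
    ∑ z : G, sectionBase p u φ z * f z =
      ∑ s : Subgroup.centralizer ({u} : Set G) with IsPRegular p s, φ s * f (u * (s : G)) := by
  classical
  rw [Finset.sum_filter]
  symm
  refine Fintype.sum_of_injective (fun s : Subgroup.centralizer ({u} : Set G) => u * (s : G))
    (fun a b h => Subtype.ext (mul_left_cancel h)) _ _ (fun z hz => ?_) fun s => ?_
  · rw [sectionBase, dif_neg, zero_mul]
    exact fun h => hz ⟨⟨_, h⟩, mul_inv_cancel_left u z⟩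
  · rw [sectionBase, dif_pos (by simp [inv_mul_cancel_left])]
    have hiff : IsPRegular p (u⁻¹ * (u * (s : G))) ↔ IsPRegular p s := by
      rw [IsPRegular, IsPRegular, inv_mul_cancel_left, Subgroup.orderOf_coe]
    by_cases hs : IsPRegular p s
    · rw [if_pos (hiff.mpr hs), if_pos hs]
      congr 2
      exact Subtype.ext (inv_mul_cancel_left u (s : G)).symm
    · rw [if_neg (fun h => hs (hiff.mp h)), if_neg hs, zero_mul]

/-- The central character at a section function. -/
theorem omega_sectionFun [Fintype (Subgroup.centralizer ({u} : Set G))]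
    [DecidablePred fun s : Subgroup.centralizer ({u} : Set G) => IsPRegular p s] (χ : IrrCharacter G) :
    omega (χ : G → ℂ) (sectionFun p u φ) =
      (Nat.card G : ℂ) / (Nat.card (Subgroup.centralizer ({u} : Set G)) : ℂ) / (χ : G → ℂ) 1 *
        ∑ s : Subgroup.centralizer ({u} : Set G) with IsPRegular p s,
          φ s * (χ : G → ℂ) (u * (s : G)) := by
  rw [← sum_sectionBase, omega]
  simp only [sectionFun, mul_assoc, ← Finset.mul_sum, Finset.sum_mul]
  rw [Finset.sum_comm]
  have hx : ∀ x : G, ∑ g : G, sectionBase p u φ (x⁻¹ * g * x) * (χ : G → ℂ) g =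
      ∑ z : G, sectionBase p u φ z * (χ : G → ℂ) z := fun x => by
    refine Fintype.sum_equiv (MulAut.conj x⁻¹).toEquiv _ _ fun g => ?_
    show _ = sectionBase p u φ (x⁻¹ * g * x⁻¹⁻¹) * (χ : G → ℂ) (x⁻¹ * g * x⁻¹⁻¹)
    rw [irr_classFunction χ g x⁻¹, inv_inv]
  simp only [mul_assoc] at hx
  simp only [hx, Finset.sum_const, Finset.card_univ, nsmul_eq_mul, Nat.card_eq_fintype_card]
  ring

end SectionFun

theorem isIntegral_omega_of_values (χ : IrrCharacter G) {f : G → ℂ} (hf : IsClassFunction G f)
    (hl : ∀ g, IsIntegral ℤ (f g)) : IsIntegral ℤ (omega (χ : G → ℂ) f) := by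
  classical
  have : Fintype (ConjClasses G) := Fintype.ofFinite _
  rw [omega_eq_sum_classes χ hf]
  exact IsIntegral.sum _ fun c _ => (hl _).mul (isIntegral_centralChar χ _)

theorem isIntegral_of_coprime_multiples {z : ℂ} {m n d : ℕ} (hd : Nat.gcd m n ∣ d)
    (hm : IsIntegral ℤ ((m : ℂ) * z)) (hn : IsIntegral ℤ ((n : ℂ) * z)) :
    IsIntegral ℤ ((d : ℂ) * z) := by
  obtain ⟨k, rfl⟩ := hd
  have e : (((Nat.gcd m n * k : ℕ) : ℤ) : ℂ) * z =
      ((k * Nat.gcdA m n : ℤ) : ℂ) * ((m : ℂ) * z) + ((k * Nat.gcdB m n : ℤ) : ℂ) * ((n : ℂ) * z) := by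
    rw [Nat.cast_mul, Nat.gcd_eq_gcd_ab]
    push_cast
    ring
  rw [Int.cast_natCast] at e
  rw [e]
  exact ((isIntegral_algebraMap (R := ℤ) (A := ℂ)).mul hm).add
    ((isIntegral_algebraMap (R := ℤ) (A := ℂ)).mul hn)

section Contribution

variable {u : G} [Fintype (Subgroup.centralizer ({u} : Set G))]

/-- The diagonal contribution of the subsection `(u, b)`, times the order of the centralizer. -/
noncomputable def diagSum (p : ℕ) (u : G) [Fintype (Subgroup.centralizer ({u} : Set G))]
    (b : Set (IrrCharacter (Subgroup.centralizer ({u} : Set G)))) (χ : G → ℂ) : ℂ :=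
  open Classical in ∑ s : Subgroup.centralizer ({u} : Set G) with IsPRegular p s,
    blockPart b (fun c : Subgroup.centralizer ({u} : Set G) => χ (u * (c : G))) s *
      conj (blockPart b (fun c : Subgroup.centralizer ({u} : Set G) => χ (u * (c : G))) s)

/-- The Fourier coefficients of `c ↦ χ (u c)` are integral and conjugation-stable. -/
theorem classInner_translate (χ : IrrCharacter G) (η : IrrCharacter (Subgroup.centralizer ({u} : Set G))) :
    IsIntegral ℤ (classInner (fun c : Subgroup.centralizer ({u} : Set G) => (χ : G → ℂ) (u * (c : G)))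
        (η : Subgroup.centralizer ({u} : Set G) → ℂ)) ∧
      Char.IsCMValue (classInner (fun c : Subgroup.centralizer ({u} : Set G) => (χ : G → ℂ) (u * (c : G)))
        (η : Subgroup.centralizer ({u} : Set G) → ℂ)) := by
  classical
  obtain ⟨m, hm⟩ := Char.exists_multiplicities
    (Char.isCharacter_restrict (Subgroup.centralizer ({u} : Set G)) (Char.isCharacter_of_isIrr χ.2))
  set w : Subgroup.zpowers u := ⟨u, Subgroup.mem_zpowers u⟩
  have hθ : (fun c : Subgroup.centralizer ({u} : Set G) => (χ : G → ℂ) (u * (c : G))) =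
      ∑ ψ : IrrCharacter (Subgroup.centralizer ({u} : Set G)),
        ((m ψ : ℂ) * (centralScalar u ψ w : ℂ)) • (ψ : Subgroup.centralizer ({u} : Set G) → ℂ) := by
    funext c
    have h := congrFun hm (c * zpowersToCentralizer u w)
    simp only [Finset.sum_apply, Pi.smul_apply, smul_eq_mul, centralScalar_mul] at h ⊢
    rw [show (χ : G → ℂ) (u * (c : G)) = (χ : G → ℂ) (((c * zpowersToCentralizer u w :
        Subgroup.centralizer ({u} : Set G)) : G)) by
      refine congrArg (χ : G → ℂ) ?_
      exact (Subgroup.mem_centralizer_singleton_iff.mp c.2).symm, h]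
    exact Finset.sum_congr rfl fun ψ _ => by ring
  rw [hθ, Char.classInner_sum_smul_irr]
  refine ⟨IsIntegral.mul (isIntegral_algebraMap (R := ℤ) (A := ℂ) (x := (m η : ℤ)) |> fun h => by
    simpa using h) ?_, (Char.isCMValue_natCast _).mul
      (Char.isCMValue_character (isCharacter_units_hom (centralScalar u η)) w)⟩
  exact Char.isIntegral_value (isCharacter_units_hom (centralScalar u η)) w

theorem blockPart_translate (χ : IrrCharacter G) (b : Set (IrrCharacter (Subgroup.centralizer ({u} : Set G))))
    (s : Subgroup.centralizer ({u} : Set G)) :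
    IsIntegral ℤ (blockPart b (fun c : Subgroup.centralizer ({u} : Set G) => (χ : G → ℂ) (u * (c : G))) s) ∧
      Char.IsCMValue (blockPart b (fun c : Subgroup.centralizer ({u} : Set G) => (χ : G → ℂ) (u * (c : G))) s) := by
  classical
  rw [blockPart_eq_filter]
  exact ⟨IsIntegral.sum _ fun η _ => (classInner_translate χ η).1.mul (irr_isIntegral η.2 s),
    Char.isCMValue_sum _ _ fun η _ => (classInner_translate χ η).2.mul
      (Char.isCMValue_character (Char.isCharacter_of_isIrr η.2) s)⟩

theorem isCMValue_diag_term (χ : IrrCharacter G) (b : Set (IrrCharacter (Subgroup.centralizer ({u} : Set G)))) :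
    Char.IsCMValue (diagSum p u b (χ : G → ℂ)) :=
  Char.isCMValue_sum _ _ fun s _ => (blockPart_translate χ b s).2.mul (blockPart_translate χ b s).2.star

/-- The contribution times the `p`-part of `|G| / χ(1)` is integral. -/
theorem isIntegral_diagSum (hM : IsPModular p M) (hu : ∃ k : ℕ, orderOf u = p ^ k) (χ : IrrCharacter G)
    {b : Set (IrrCharacter (Subgroup.centralizer ({u} : Set G)))} (hb : IsPBlock M b) :
    IsIntegral ℤ (((p ^ ((Nat.card G).factorization p - (charDegree (χ : G → ℂ)).factorization p) : ℕ) : ℂ) *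
      (diagSum p u b (χ : G → ℂ) / (Nat.card (Subgroup.centralizer ({u} : Set G)) : ℂ))) := by
  classical
  have := isPrime_of_isPModular hM
  obtain ⟨n, hn, hn0, hdvd⟩ := Char.exists_degree_dvd_card χ.2
  have hdeg : charDegree (χ : G → ℂ) = n :=
    Nat.cast_injective (R := ℂ) ((irr_degree_eq χ).1.symm.trans hn)
  set θ : Subgroup.centralizer ({u} : Set G) → ℂ := fun c => (χ : G → ℂ) (u * (c : G)) with hθdef
  have hθ : IsClassFunction (Subgroup.centralizer ({u} : Set G)) θ :=
    isClassFunction_translate (irr_classFunction χ)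
  set f := blockPart b θ with hfdef
  have hf : IsClassFunction (Subgroup.centralizer ({u} : Set G)) f := fun a x => by
    simp only [hfdef, blockPart_eq_filter, fun η : IrrCharacter (Subgroup.centralizer ({u} : Set G)) =>
      irr_classFunction η a x]
  set C := Nat.card (Subgroup.centralizer ({u} : Set G))
  refine isIntegral_of_coprime_multiples (m := Nat.card G / n) (n := p ^ C.factorization p) ?_ ?_ ?_
  · -- the gcd divides the `p`-part
    obtain ⟨j, hj, hjeq⟩ := (Nat.dvd_prime_pow hM.1).mp (Nat.gcd_dvd_right (Nat.card G / n) (p ^ C.factorization p))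
    rw [hjeq]
    refine pow_dvd_pow p ?_
    have h1 : p ^ j ∣ Nat.card G / n := hjeq ▸ Nat.gcd_dvd_left _ _
    have hq0 : Nat.card G / n ≠ 0 := (Nat.div_pos (Nat.le_of_dvd Nat.card_pos hdvd) hn0).ne'
    have h2 := (hM.1.pow_dvd_iff_le_factorization hq0).mp h1
    rwa [Nat.factorization_div hdvd, Finsupp.tsub_apply, ← hdeg] at h2
  · have hsum := sum_regular_mul_conj_blockPart hM hb hθ
    have hom := omega_sectionFun (p := p) (u := u) (φ := fun s => conj (f s)) χ
    have hint := isIntegral_omega_of_values χ (isClassFunction_sectionFun (p := p) (u := u)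
      (φ := fun s => conj (f s))) (isIntegral_sectionFun hM.1 hu
      (fun a x => by show conj (f _) = conj (f a); rw [hf a x])
      fun s => (blockPart_translate χ b s).1.map (starRingEnd ℂ).toIntAlgHom)
    rw [hom] at hint
    convert hint using 1
    rw [Nat.cast_div hdvd (Nat.cast_ne_zero.mpr hn0.ne'), ← hn, diagSum, ← hsum]
    simp only [Finset.sum_congr rfl fun s _ => mul_comm (conj (f s)) _]
    field_simp
    rw [mul_div_mul_right _ _ (Nat.cast_ne_zero.mpr (Nat.card_pos (α := Subgroup.centralizer ({u} : Set G))).ne')]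
  · have hSum : diagSum p u b (χ : G → ℂ) = (C : ℂ) * classInner (regPart p f) f := by
      rw [classInner, mul_inv_cancel_left₀ (Nat.cast_ne_zero.mpr Nat.card_pos.ne'), diagSum,
        Finset.sum_filter]
      refine Finset.sum_congr rfl fun s _ => ?_
      by_cases hs : IsPRegular p s
      · rw [if_pos hs, regPart_of_regular hs]
      · rw [if_neg hs, regPart_of_singular hs, zero_mul]
    rw [hSum, mul_div_cancel_left₀ _ (Nat.cast_ne_zero.mpr Nat.card_pos.ne')]
    set S : Finset (IrrCharacter (Subgroup.centralizer ({u} : Set G))) := {η | η ∈ b}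
    have hfexp : f = ∑ η ∈ S, classInner θ (η : Subgroup.centralizer ({u} : Set G) → ℂ) •
        (η : Subgroup.centralizer ({u} : Set G) → ℂ) := funext fun c => by
      rw [hfdef, blockPart_eq_filter, Finset.sum_apply]
      exact Finset.sum_congr rfl fun η _ => rfl
    have hreg : regPart p f = ∑ η ∈ S, classInner θ (η : Subgroup.centralizer ({u} : Set G) → ℂ) •
        regPart p (η : Subgroup.centralizer ({u} : Set G) → ℂ) := funext fun c => by
      by_cases hc : IsPRegular p c
      · rw [regPart_of_regular hc, hfexp]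
        simp [Finset.sum_apply, regPart_of_regular hc]
      · rw [regPart_of_singular hc]
        simp [Finset.sum_apply, regPart_of_singular hc]
    rw [hreg, Char.classInner_sum_left, Finset.mul_sum]
    refine IsIntegral.sum _ fun η _ => ?_
    rw [Char.classInner_smul_left, hfexp, Char.classInner_sum_right, Finset.mul_sum, Finset.mul_sum]
    refine IsIntegral.sum _ fun η' _ => ?_
    rw [Char.classInner_smul_right]
    obtain ⟨k, hk⟩ := Char.exists_int_classInner (isGeneralized_smul_regPart (p := p) hM η)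
      (Char.isGeneralized_of_isIrr η'.2)
    rw [Char.classInner_smul_left] at hk
    have hle := degree_factorization_le (p := p) η
    have e : ((p ^ C.factorization p : ℕ) : ℂ) =
        ((p ^ (charDegree (η : Subgroup.centralizer ({u} : Set G) → ℂ)).factorization p : ℕ) : ℂ) *
          (p : ℂ) ^ (C.factorization p -
            (charDegree (η : Subgroup.centralizer ({u} : Set G) → ℂ)).factorization p) := by
      push_cast
      rw [← pow_add, Nat.add_sub_cancel' hle]
    have hint := (((isIntegral_algebraMap (R := ℤ) (A := ℂ)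
      (x := ((p ^ (charDegree (η : Subgroup.centralizer ({u} : Set G) → ℂ)).factorization p : ℕ) : ℤ) * k)).mul
        (classInner_translate χ η).1).mul ((classInner_translate χ η').1.map (starRingEnd ℂ).toIntAlgHom))
    convert hint using 1
    rw [e]
    simp only [eq_intCast, Int.cast_mul, Int.cast_natCast, RingHom.toIntAlgHom_apply, ← hk]
    ring

/-- A block of full defect inducing the block of `χ` gives a non-zero contribution. -/
theorem diagSum_ne_zero (hM : IsPModular p M) (hu : ∃ k : ℕ, orderOf u = p ^ k)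
    {B : Set (IrrCharacter G)} {χ : IrrCharacter G} (hχ : χ ∈ B)
    {b : Set (IrrCharacter (Subgroup.centralizer ({u} : Set G)))}
    (hb : IsInducedBlock M (Subgroup.centralizer ({u} : Set G)) b B)
    (hd : blockDefect p b = blockDefect p B) : diagSum p u b (χ : G → ℂ) ≠ 0 := by
  classical
  have := isPrime_of_isPModular hM
  intro h0
  have hB := hb.2.1
  have hzero : ∀ s : Subgroup.centralizer ({u} : Set G), IsPRegular p s →
      blockPart b (fun c : Subgroup.centralizer ({u} : Set G) => (χ : G → ℂ) (u * (c : G))) s = 0 := by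
    intro s hs
    simp only [diagSum, Complex.mul_conj, ← Complex.ofReal_sum, Complex.ofReal_eq_zero] at h0
    exact Complex.normSq_eq_zero.mp ((Finset.sum_eq_zero_iff_of_nonneg
      fun i _ => Complex.normSq_nonneg _).mp h0 s (by simp [hs]))
  obtain ⟨ψ₀, hψ₀, hψ0⟩ := exists_blockHeight_eq_zero hM hB
  obtain ⟨η₀, hη₀, hη0⟩ := exists_blockHeight_eq_zero hM hb.1
  set φ : Subgroup.centralizer ({u} : Set G) → ℂ :=
    fun s => conj ((η₀ : Subgroup.centralizer ({u} : Set G) → ℂ) s)
  have hφ : IsClassFunction (Subgroup.centralizer ({u} : Set G)) φ := fun a x => by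
    show conj _ = conj _
    rw [irr_classFunction η₀ a x]
  have hFl : ∀ g, MemLocalRing M (sectionFun p u φ g) := memLocalRing_sectionFun hM.1 hu hφ fun s => by
    show MemLocalRing M (conj _)
    rw [← irr_value_inv η₀.2]
    exact memLocalRing_of_isIntegral (irr_isIntegral η₀.2 _)
  have hχ0 : omega (χ : G → ℂ) (sectionFun p u φ) = 0 := by
    rw [omega_sectionFun]
    refine mul_eq_zero_of_right _ ?_
    rw [Finset.sum_congr rfl fun s _ => mul_comm (φ s) _,
      sum_regular_mul_conj_irr hM hb.1 (isClassFunction_translate (irr_classFunction χ)) hη₀]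
    exact Finset.sum_eq_zero fun s hs => by rw [hzero s (Finset.mem_filter.mp hs).2, zero_mul]
  have hcong := sub_mem_localIdeal_of_sameBlock (IsPBlock.sameBlock hB hψ₀ hχ)
    (isClassFunction_sectionFun (p := p) (u := u) (φ := φ)) hFl
  rw [hχ0, sub_zero] at hcong
  set θ₁ : Subgroup.centralizer ({u} : Set G) → ℂ := fun c => (ψ₀ : G → ℂ) (u * (c : G)) with hθ₁
  set θ₀ : Subgroup.centralizer ({u} : Set G) → ℂ := fun c => (ψ₀ : G → ℂ) (c : G) with hθ₀
  have hθ₁c : IsClassFunction (Subgroup.centralizer ({u} : Set G)) θ₁ :=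
    isClassFunction_translate (irr_classFunction ψ₀)
  have hθ₀c : IsClassFunction (Subgroup.centralizer ({u} : Set G)) θ₀ := fun a x =>
    irr_classFunction ψ₀ (a : G) (x : G)
  have hint : ∀ g, MemLocalRing M ((ψ₀ : G → ℂ) g) := fun g =>
    memLocalRing_of_isIntegral (irr_isIntegral ψ₀.2 g)
  have hl : ∀ (θ : Subgroup.centralizer ({u} : Set G) → ℂ), (∀ c, MemLocalRing M (θ c)) →
      ∀ c, MemLocalRing M (dualReg p θ c) := fun θ h c => by
    by_cases hc : IsPRegular p c
    · rw [dualReg, regPart_of_regular hc]; exact h _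
    · rw [dualReg, regPart_of_singular hc]; exact memLocalRing_zero
  have hsum : omega (ψ₀ : G → ℂ) (sectionFun p u φ) =
      (((Nat.card G * charDegree (η₀ : Subgroup.centralizer ({u} : Set G) → ℂ) : ℕ) : ℂ) /
        ((Nat.card (Subgroup.centralizer ({u} : Set G)) * charDegree (ψ₀ : G → ℂ) : ℕ) : ℂ)) *
      omega (η₀ : Subgroup.centralizer ({u} : Set G) → ℂ) (dualReg p θ₁) := by
    rw [omega_sectionFun]
    have e : omega (η₀ : Subgroup.centralizer ({u} : Set G) → ℂ) (dualReg p θ₁) =
        (∑ s : Subgroup.centralizer ({u} : Set G) with IsPRegular p s,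
          φ s * (ψ₀ : G → ℂ) (u * (s : G))) / (η₀ : Subgroup.centralizer ({u} : Set G) → ℂ) 1 := by
      rw [omega]
      congr 1
      rw [Finset.sum_filter]
      refine Fintype.sum_equiv (Equiv.inv _) _ _ fun c => ?_
      rw [Equiv.inv_apply]
      have hiff : IsPRegular p c⁻¹ ↔ IsPRegular p c := by rw [IsPRegular, IsPRegular, orderOf_inv]
      by_cases hc : IsPRegular p c
      · rw [if_pos (hiff.mpr hc), dualReg, regPart_of_regular hc]
        show θ₁ c⁻¹ * _ = conj _ * θ₁ c⁻¹
        rw [irr_value_inv η₀.2, Complex.conj_conj, mul_comm]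
      · rw [if_neg (fun h => hc (hiff.mp h)), dualReg, regPart_of_singular hc, zero_mul]
    rw [e, (irr_degree_eq η₀).1, (irr_degree_eq ψ₀).1]
    have h1 := (Nat.cast_ne_zero (R := ℂ)).mpr (irr_degree_eq η₀).2.ne'
    have h2 := (Nat.cast_ne_zero (R := ℂ)).mpr (irr_degree_eq ψ₀).2.ne'
    push_cast
    field_simp
  rw [hsum] at hcong
  have hu1 : ¬ MemLocalIdeal M (omega (η₀ : Subgroup.centralizer ({u} : Set G) → ℂ) (dualReg p θ₁)) := by
    have hunit := not_memLocalIdeal_omega_dualReg hM hB hψ₀ hψ0 hψ₀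
    have hc := IsInducedBlock.omega_congr hb hη₀ hψ₀ (f := dualReg p (ψ₀ : G → ℂ))
      (isClassFunction_dualReg (irr_classFunction ψ₀)) (memLocalRing_dualReg ψ₀)
    rw [dualReg_comp_subtype] at hc
    have h1 : ¬ MemLocalIdeal M (omega (η₀ : Subgroup.centralizer ({u} : Set G) → ℂ) (dualReg p θ₀)) :=
      fun h => hunit ((memLocalIdeal_iff_of_sub hc).mp h)
    intro h
    refine h1 ((memLocalIdeal_iff_of_sub ?_).mp h)
    have hr := res_omega_congr (M := M) η₀ (isClassFunction_dualReg hθ₁c) (isClassFunction_dualReg hθ₀c)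
      (hl θ₁ fun c => hint _) (hl θ₀ fun c => hint _) (fun c => by
        by_cases hc : IsPRegular p c
        · rw [dualReg, dualReg, regPart_of_regular hc, regPart_of_regular hc]
          exact (res_eq_iff (hint _) (hint _)).mp (res_value_mul_pElement hM ψ₀.2
            (show Commute u ((c⁻¹ : Subgroup.centralizer ({u} : Set G)) : G) from
              (Subgroup.mem_centralizer_singleton_iff.mp (c⁻¹ : Subgroup.centralizer ({u} : Set G)).2).symm) hu)
        · rw [dualReg, dualReg, regPart_of_singular hc, regPart_of_singular hc, sub_zero]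
          exact memLocalIdeal_zero)
    exact (res_eq_iff (memLocalRing_omega η₀ (isClassFunction_dualReg hθ₁c) (hl θ₁ fun c => hint _))
      (memLocalRing_omega η₀ (isClassFunction_dualReg hθ₀c) (hl θ₀ fun c => hint _))).mp hr
  have hfac : (Nat.card G * charDegree (η₀ : Subgroup.centralizer ({u} : Set G) → ℂ)).factorization p =
      (Nat.card (Subgroup.centralizer ({u} : Set G)) * charDegree (ψ₀ : G → ℂ)).factorization p := by
    rw [Nat.factorization_mul Nat.card_pos.ne' (irr_degree_eq η₀).2.ne', Finsupp.add_apply,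
      Nat.factorization_mul Nat.card_pos.ne' (irr_degree_eq ψ₀).2.ne', Finsupp.add_apply,
      (blockHeight_eq_zero_iff hM hb.1 hη₀).mp hη0, (blockHeight_eq_zero_iff hM hB hψ₀).mp hψ0, hd]
    have := (blockDefect_le_and_degree hM hB).1
    have := (blockDefect_le_and_degree hM hb.1).1
    omega
  obtain ⟨hr, hnu⟩ := unit_natCast_div hM (Nat.mul_ne_zero Nat.card_pos.ne' (irr_degree_eq η₀).2.ne')
    (Nat.mul_ne_zero Nat.card_pos.ne' (irr_degree_eq ψ₀).2.ne') hfac
  exact (memLocalIdeal_or_of_mul hr
    (memLocalRing_omega η₀ (isClassFunction_dualReg hθ₁c) (hl θ₁ fun c => hint _)) hcong).elim hnu hu1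

end Contribution

end CfsgLib.Blocks
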