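import Cfsg.Agent.Lib.Blocks.OverCharacter
import Cfsg.Agent.Lib.Blocks.DefectPairs
import Cfsg.Agent.Lib.Blocks.MainThird
import Cfsg.Agent.Lib.Char.GlaubermanPGroup
import Cfsg.Agent.Lib.PSolvable.Core

/-!
# The block over an invariant character of `O_{p'}` in a `p`-constrained group

`K` is a normal `p'`-subgroup, `L ≥ K` is normal and a `p`-group modulo `K`, and a `p`-subgroup
`Q ≤ L` has its centralizer in `L`. Then the characters over an invariant character of `K` form
one block, of full defect, with a single pair at every `p`-subgroup.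
-/

set_option autoImplicit false
set_option linter.unusedSectionVars false

namespace CfsgLib.Blocks

open Cfsg
open scoped ComplexConjugate CfsgLib.Char

variable {p : ℕ} {M : Ideal AlgInt} {G : Type*} [Group G] [Fintype G]
  {K : Subgroup G} [Fintype K] [hKn : K.Normal] {θ : IrrCharacter K}

section Correspondent

variable [M.IsPrime] (hinv : ∀ g : G, Char.conjBy K (θ : K → ℂ) g = θ) (hM : IsPModular p M)
  (hK : ¬ p ∣ Nat.card K) {R : Subgroup G} (hR : IsPGroup p R)
include hinv hM hK hR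

theorem isStableFun_overSet : IsStableFun M R (blockCoeff (overSet K θ)) :=
  isStableFun_of_classFun (isClassFunction_blockCoeff _) fun g => by
    rw [blockCoeff_overSet hinv]; exact memLocalRing_singleton hinv hM hK g

/-- The constituents below the Brauer pairs of the idempotent at `R` are the Glauberman
correspondent. -/
theorem exists_correspondent [Fintype (Subgroup.centralizer (R : Set G))]
    [Fintype (K.subgroupOf (Subgroup.centralizer (R : Set G)))] :
    ∃ β : IrrCharacter (K.subgroupOf (Subgroup.centralizer (R : Set G))),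
      (∀ h : Subgroup.centralizer (R : Set G),
        Char.conjBy (K.subgroupOf (Subgroup.centralizer (R : Set G)))
          (β : K.subgroupOf (Subgroup.centralizer (R : Set G)) → ℂ) h = β) ∧
      ∀ ξ : IrrCharacter (Subgroup.centralizer (R : Set G)),
        res M (brauerOmega R (blockCoeff (overSet K θ))
          (ξ : Subgroup.centralizer (R : Set G) → ℂ)) = 1 →
        ξ ∈ overSet (K.subgroupOf (Subgroup.centralizer (R : Set G))) β := by
  classical
  haveI := Fact.mk hM.1
  set H := Subgroup.centralizer (R : Set G)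
  set Kc := K.subgroupOf H
  set C := K ⊓ H
  let e : C ≃* Kc :=
    { toFun := fun c => ⟨⟨(c : G), (Subgroup.mem_inf.mp c.2).2⟩,
        Subgroup.mem_subgroupOf.mpr (Subgroup.mem_inf.mp c.2).1⟩
      invFun := fun k => ⟨((k : H) : G), Subgroup.mem_inf.mpr ⟨k.2, (k : H).2⟩⟩
      left_inv := fun c => rfl
      right_inv := fun k => rfl
      map_mul' := fun a b => rfl }
  have hcopR : (Nat.card K).Coprime (Nat.card R) := by
    obtain ⟨n, hn⟩ := IsPGroup.iff_card.mp hR
    rw [hn]
    exact ((hM.1.coprime_iff_not_dvd.mpr hK).symm).pow_right n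
  obtain ⟨F, -, hF⟩ := CfsgLib.Char.Glauberman.hasCorr_of_isPGroup hM.1 (G := K) (Nat.card R) R rfl
    Subgroup.le_normalizer_of_normal hR hcopR C inf_le_left rfl
  have hθR : CfsgLib.Char.Glauberman.Inv K R (θ : K → ℂ) := fun s _ g g' hg => by
    have h := congrFun (hinv s) g
    rw [Char.conjBy_apply] at h
    rw [← h]
    exact congrArg _ (Subtype.ext hg)
  have hcorr := hF ⟨θ, hθR⟩
  have key : ∀ ξ : IrrCharacter H,
      res M (brauerOmega R (blockCoeff (overSet K θ)) (ξ : H → ℂ)) = 1 →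
      ∀ η : IrrCharacter Kc, classInner (fun k : Kc => (ξ : H → ℂ) k) (η : Kc → ℂ) ≠ 0 →
        (⟨fun c => (η : Kc → ℂ) (e c), Char.isIrrCharacter_comp_mulEquiv e η.2⟩ :
          IrrCharacter C) = F ⟨θ, hθR⟩ := by
    intro ξ h1 η hη
    set θc : Kc → ℂ := fun k => (θ : K → ℂ) ⟨((k : H) : G), k.2⟩
    have hθc : IsCharacter Kc θc := Char.isCharacter_comp
      ({ toFun := fun k => ⟨((k : H) : G), k.2⟩
         map_one' := rfl
         map_mul' := fun _ _ => rfl } : Kc →* K) (Char.isCharacter_of_isIrr θ.2)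
    obtain ⟨m, hm⟩ := Char.exists_nat_classInner hθc (Char.isCharacter_of_isIrr η.2)
    refine CfsgLib.Char.Glauberman.IsCorr.eq_of_not_dvd hcorr (m := m) ?_ fun hdvd => ?_
    · rw [← hm]
      exact (Char.classInner_comp_mulEquiv e θc (η : Kc → ℂ))
    · have hcls : IsClassFunction H (fun h : H => blockCoeff (overSet K θ) (h : G)) :=
        fun a b => isClassFunction_blockCoeff _ (a : G) (b : G)
      have hsupp : ∀ h : H, h ∉ Kc → blockCoeff (overSet K θ) (h : G) = 0 := fun h hh => by
        rw [blockCoeff_overSet hinv, extendByZero_eq_zero K _ fun hk =>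
          hh (Subgroup.mem_subgroupOf.mpr hk)]
      have hconj : ∑ k : Kc, (η : Kc → ℂ) k * conj (θc k) = (Nat.card Kc : ℂ) * m := by
        have h := congrArg (starRingEnd ℂ) hm
        rw [map_natCast, classInner, map_mul, map_inv₀, map_natCast, map_sum] at h
        rw [← h, ← mul_assoc, mul_inv_cancel₀ (Nat.cast_ne_zero.mpr Nat.card_pos.ne'), one_mul]
        refine Finset.sum_congr rfl fun k _ => ?_
        rw [map_mul, Complex.conj_conj, mul_comm]
      have hterm : ∀ k : Kc, blockCoeff (overSet K θ) ((k : H) : G) * (η : Kc → ℂ) k =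
          ((Nat.card K : ℂ)⁻¹ * (θ : K → ℂ) 1) * ((η : Kc → ℂ) k * conj (θc k)) := fun k => by
        rw [blockCoeff_overSet hinv, show ((k : H) : G) = ((⟨((k : H) : G), k.2⟩ : K) : G)
          from rfl, extendByZero_apply, blockCoeff_singleton]
        simp only [θc]; ring
      have hval : brauerOmega R (blockCoeff (overSet K θ)) (ξ : H → ℂ) =
          (m : ℂ) * ((Nat.card Kc * charDegree (θ : K → ℂ) : ℕ) *
            ((Nat.card K * charDegree (η : Kc → ℂ) : ℕ) : ℂ)⁻¹) := by
        rw [brauerOmega_eq, omega_eq_of_constituent hη hcls hsupp, omega,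
          Finset.sum_congr rfl fun k _ => hterm k,
          ← Finset.mul_sum, hconj, (irr_degree_eq θ).1, (irr_degree_eq η).1, Nat.cast_mul,
          Nat.cast_mul, mul_inv, div_eq_mul_inv]
        ring
      have hKc : ¬ p ∣ Nat.card Kc := fun h => hK (h.trans
        ((Nat.card_congr e.toEquiv) ▸ Subgroup.card_dvd_of_le inf_le_left))
      have hunit : ¬ p ∣ Nat.card K * charDegree (η : Kc → ℂ) := fun h =>
        (hM.1.dvd_mul.mp h).elim hK (not_dvd_degree η hKc)
      have hloc := memLocalRing_mul (memLocalRing_natCast (M := M)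
        (Nat.card Kc * charDegree (θ : K → ℂ))) (memLocalRing_natCast_inv hM hunit)
      rw [hval, res_eq_zero (memLocalIdeal_mul_right
        ((memLocalIdeal_natCast_iff hM).mpr hdvd) hloc)] at h1
      exact zero_ne_one h1
  obtain ⟨ξ₀, hξ₀⟩ := exists_res_eq_one_of_support hM hR
    (isStableFun_overSet hinv hM hK hR) (conv_blockCoeff_self _) (one_mem _)
    (blockCoeff_overSet_one hinv hM hK).2
  obtain ⟨β, hβ⟩ := Char.exists_constituent Kc (Char.isCharacter_of_isIrr ξ₀.2)
    (Char.irr_degree_ne_zero ξ₀.2)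
  have huniq : ∀ ξ : IrrCharacter H,
      res M (brauerOmega R (blockCoeff (overSet K θ)) (ξ : H → ℂ)) = 1 →
      ∀ η : IrrCharacter Kc, classInner (fun k : Kc => (ξ : H → ℂ) k) (η : Kc → ℂ) ≠ 0 →
        η = β := fun ξ h η hη => by
    have h1 := (key ξ h η hη).trans (key ξ₀ hξ₀ β hβ).symm
    refine Subtype.ext (funext fun k => ?_)
    have h2 := congrFun (congrArg Subtype.val h1) (e.symm k)
    simpa using h2
  refine ⟨β, fun h => ?_, fun ξ hξ => ?_⟩
  · refine congrArg Subtype.val (huniq ξ₀ hξ₀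
      ⟨_, Char.isIrrCharacter_conjBy Kc β.2 h⟩ ?_)
    rw [← Char.conjBy_restrict Kc (irr_classFunction ξ₀) h, Char.classInner_conjBy]
    exact hβ
  · obtain ⟨η, hη⟩ := Char.exists_constituent Kc (Char.isCharacter_of_isIrr ξ.2)
      (Char.irr_degree_ne_zero ξ.2)
    obtain rfl := huniq ξ hξ η hη
    intro h
    exact hη (by convert h)

end Correspondent

section Main

variable (hinv : ∀ g : G, Char.conjBy K (θ : K → ℂ) g = θ) (hM : IsPModular p M)
  (hK : ¬ p ∣ Nat.card K) {L : Subgroup G} [L.Normal] (hKL : K ≤ L)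
  (hLp : ∀ x ∈ L, ∃ n : ℕ, x ^ p ^ n ∈ K) {Q : Subgroup G} (hQ : IsPGroup p Q) (hQL : Q ≤ L)
  (hC : Subgroup.centralizer (Q : Set G) ≤ L)
include hinv hM hK hKL hLp hQ hQL hC

/-- There is only one block over `θ`. -/
theorem block_unique_over {B B' : Set (IrrCharacter G)} (hB : IsPBlock M B) (hB' : IsPBlock M B')
    (hBU : B ⊆ overSet K θ) (hB'U : B' ⊆ overSet K θ) : B = B' := by
  classical
  have := isPrime_of_isPModular hM
  set H := Subgroup.centralizer (Q : Set G)
  obtain ⟨β, hβinv, hβ⟩ := exists_correspondent hinv hM hK hQ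
  have hpair : ∀ B₀ : Set (IrrCharacter G), IsPBlock M B₀ → B₀ ⊆ overSet K θ →
      ∃ ξ : IrrCharacter H, IsBrauerPairOf p M B₀ Q (blockOf M (ξ : H → ℂ)) ∧
        ξ ∈ overSet (K.subgroupOf H) β := fun B₀ hB₀ hU => by
    obtain ⟨c, hc, hu⟩ := exists_unit_centralizing hinv hM hK hLp hKL hQ hQL hB₀ hU
    obtain ⟨ξ, hξ⟩ := exists_res_eq_one_of_support hM hQ (isStableFun_blockCoeff hB₀ Q)
      (conv_blockCoeff_self _) hc hu
    refine ⟨ξ, isBrauerPairOf_of_res hB₀ ⟨hQ, isPBlock_blockOf ξ⟩ (mem_blockOf_self ξ) hξ,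
      hβ ξ ?_⟩
    have h := res_brauerOmega_conv hM hQ (isStableFun_blockCoeff hB₀ Q)
      (isStableFun_overSet hinv hM hK hQ) ξ
    rw [conv_blockCoeff_inter, Set.inter_eq_left.mpr hU, hξ, one_mul] at h
    exact h.symm
  have hKc : ¬ p ∣ Nat.card (K.subgroupOf H) := fun h => hK (h.trans (by
    rw [← Subgroup.card_map_of_injective H.subtype_injective, Subgroup.subgroupOf_map_subtype]
    exact Subgroup.card_dvd_of_le inf_le_left))
  have hUH := isBlockUnion_overSet hβinv hM hKc
  obtain ⟨ξ, hξp, hξ⟩ := hpair B hB hBU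
  obtain ⟨ξ', hξp', hξ'⟩ := hpair B' hB' hB'U
  have e : blockOf M (ξ : H → ℂ) = blockOf M (ξ' : H → ℂ) :=
    block_unique_of_top hβinv hM hKc (L := ⊤) (fun x _ => by
      obtain ⟨n, hn⟩ := hLp (x : G) (hC x.2)
      exact ⟨n, Subgroup.mem_subgroupOf.mpr (by rwa [Subgroup.coe_pow])⟩) rfl
      (isPBlock_blockOf ξ) (isPBlock_blockOf ξ') (fun ζ hζ => hUH ξ hξ ζ hζ)
      (fun ζ hζ => hUH ξ' hξ' ζ hζ)
  exact (existsUnique_isBrauerPairOf hM hξp.1).unique hξp (e ▸ hξp')

/-- The characters over `θ` form a block. -/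
theorem isPBlock_overSet : IsPBlock M (overSet K θ) := by
  have := isPrime_of_isPModular hM
  have hU := isBlockUnion_overSet hinv hM hK
  obtain ⟨χ, hχ⟩ := overSet_nonempty hinv
  refine ⟨χ, Set.ext fun ψ => ⟨fun hψ => ?_, fun hψ => hU χ hχ ψ hψ⟩⟩
  rw [block_unique_over hinv hM hK hKL hLp hQ hQL hC (isPBlock_blockOf χ) (isPBlock_blockOf ψ)
    (fun ζ hζ => hU χ hχ ζ hζ) (fun ζ hζ => hU ψ hψ ζ hζ)]
  exact mem_blockOf_self ψ

/-- Its defect groups are exactly the Sylow `p`-subgroups. -/
theorem isDefectGroup_overSet_iff (D : Subgroup G) :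
    IsDefectGroup p M (overSet K θ) D ↔ ∃ S : Sylow p G, D = (S : Subgroup G) := by
  classical
  have := isPrime_of_isPModular hM
  haveI := Fact.mk hM.1
  have hB := isPBlock_overSet hinv hM hK hKL hLp hQ hQL hC
  have hsyl : ∀ S : Sylow p G, IsDefectGroup p M (overSet K θ) (S : Subgroup G) := fun S => by
    obtain ⟨h1, h2⟩ := blockCoeff_overSet_one hinv hM hK
    have htop : Subgroup.centralizer ({(1 : G)} : Set G) = ⊤ := eq_top_iff.mpr fun g _ =>
      Subgroup.mem_centralizer_singleton_iff.mpr (by simp)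
    have hle : (S : Subgroup G) ≤ Subgroup.centralizer ({(1 : G)} : Set G) := htop ▸ le_top
    refine ⟨1, ⟨h1, h2, fun χ _ => ?_⟩, S.subtype hle, ?_⟩
    · rw [centralChar, htop, Subgroup.index_top, Nat.cast_one, one_mul,
        div_self (Char.irr_degree_ne_zero χ.2)]
      exact not_memLocalIdeal_one
    · rw [Sylow.coe_subtype, Subgroup.subgroupOf_map_subtype, inf_eq_left.mpr hle]
  refine ⟨fun hD => ?_, fun ⟨S, hS⟩ => hS ▸ hsyl S⟩
  refine ⟨Sylow.ofCard D ?_, rfl⟩
  rw [IsDefectGroup.card_eq hM hB hD, ← IsDefectGroup.card_eq hM hB (hsyl default)]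
  exact Sylow.card_eq_multiplicity _

end Main

section Local

/-- With `C(O_p) ≤ O_p` in `G ⧸ K`, the centralizer of a `p`-subgroup has the same shape. -/
theorem exists_local_setting (hp : p.Prime) (hK : ¬ p ∣ Nat.card K)
    (hO : Subgroup.centralizer (pCore p (G ⧸ K) : Set (G ⧸ K)) ≤ pCore p (G ⧸ K))
    {R : Subgroup G} (hR : IsPGroup p R) :
    ∃ L' : Subgroup (Subgroup.centralizer (R : Set G)), L'.Normal ∧
      K.subgroupOf (Subgroup.centralizer (R : Set G)) ≤ L' ∧
      (∀ x ∈ L', ∃ n : ℕ, x ^ p ^ n ∈ K.subgroupOf (Subgroup.centralizer (R : Set G))) ∧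
      ∃ Q' : Subgroup (Subgroup.centralizer (R : Set G)), IsPGroup p Q' ∧ Q' ≤ L' ∧
        Subgroup.centralizer (Q' : Set (Subgroup.centralizer (R : Set G))) ≤ L' := by
  classical
  haveI := Fact.mk hp
  haveI := Fitting.pCore_normal (G := G ⧸ K) p
  set H := Subgroup.centralizer (R : Set G) with hH
  set f := QuotientGroup.mk' K with hf
  have hker : (Nat.card f.ker).Coprime p := by
    rw [hf, QuotientGroup.ker_mk']; exact (hp.coprime_iff_not_dvd.mpr hK).symm
  set φ := f.comp H.subtype with hφ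
  set φ' := φ.rangeRestrict with hφ'
  have hsurj : Function.Surjective φ' := φ.rangeRestrict_surjective
  have hkφ : φ'.ker = K.subgroupOf H := by
    rw [hφ', MonoidHom.ker_rangeRestrict, hφ, ← MonoidHom.comap_ker, hf, QuotientGroup.ker_mk']
    rfl
  have hkc : (Nat.card φ'.ker).Coprime p := by
    rw [hkφ]
    refine ((hp.coprime_iff_not_dvd.mpr hK).symm).coprime_dvd_left ?_
    rw [← Subgroup.card_map_of_injective H.subtype_injective, Subgroup.subgroupOf_map_subtype]
    exact Subgroup.card_dvd_of_le inf_le_left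
  have hrange : φ.range = Subgroup.centralizer ((R.map f : Subgroup (G ⧸ K)) : Set (G ⧸ K)) := by
    rw [hφ, MonoidHom.range_comp, Subgroup.range_subtype]
    exact PSolvable.map_centralizer_eq (QuotientGroup.mk'_surjective K) hker hR
  set O := pCore p φ.range
  haveI : O.Normal := Fitting.pCore_normal p
  have hcent : Subgroup.centralizer (O : Set φ.range) ≤ O := by
    refine Fitting.le_pCore inferInstance (IsPGroup.iff_orderOf.mpr fun x => ?_)
    set a := (orderOf x).factorization p
    refine ⟨a, ?_⟩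
    obtain ⟨x, hx⟩ := x
    rw [Subgroup.orderOf_mk]
    have ha : a = (orderOf x).factorization p := by simp [a]
    by_contra hne
    have hyC : x ^ p ^ a ∈ Subgroup.centralizer (O : Set φ.range) := pow_mem hx _
    set y : φ.range := x ^ p ^ a with hy
    have hdiv : p ^ a ∣ orderOf x := ha ▸ Nat.ordProj_dvd _ _
    have hyord : orderOf y = orderOf x / p ^ a := by
      rw [hy, orderOf_pow' _ (pow_ne_zero _ hp.ne_zero), Nat.gcd_eq_right hdiv]
    have hy' : ¬ p ∣ orderOf y := by
      rw [hyord, ha]; exact Nat.not_dvd_ordCompl hp (orderOf_pos x).ne'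
    have hD := PSolvable.eq_bot_of_centralizes hO (P := R.map f)
      (D := Subgroup.zpowers (y : G ⧸ K)) (hR.map f) (by
        rw [Nat.card_zpowers, Subgroup.orderOf_coe]
        exact (hp.coprime_iff_not_dvd.mpr hy').symm) (fun r hr => ?_) ?_
    · rw [Subgroup.zpowers_eq_bot, OneMemClass.coe_eq_one] at hD
      refine hne (Nat.dvd_antisymm (orderOf_dvd_of_pow_eq_one (hy.symm.trans hD)) hdiv)
    · have h1 : (y : G ⧸ K) ∈ Subgroup.centralizer ((R.map f : Subgroup (G ⧸ K)) : Set (G ⧸ K)) :=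
        hrange ▸ y.2
      refine Subgroup.mem_centralizer_iff.mpr fun d hd => ?_
      obtain ⟨i, rfl⟩ := Subgroup.mem_zpowers_iff.mp hd
      have h2 : Commute r (y : G ⧸ K) := Subgroup.mem_centralizer_iff.mp h1 r hr
      exact (h2.zpow_right i).symm
    · intro z hz
      have hzr : z ∈ φ.range := by rw [hrange]; exact (Subgroup.mem_inf.mp hz).2
      have hzO : (⟨z, hzr⟩ : φ.range) ∈ O := by
        refine Fitting.le_pCore (N := (pCore p (G ⧸ K)).subgroupOf φ.range) inferInstance ?_
          (Subgroup.mem_subgroupOf.mpr (Subgroup.mem_inf.mp hz).1)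
        exact (Fitting.pCore_isPGroup p).comap_of_injective φ.range.subtype
          φ.range.subtype_injective
      have hc : Commute z (y : G ⧸ K) :=
        congrArg Subtype.val (Subgroup.mem_centralizer_iff.mp hyC _ hzO :)
      refine Subgroup.centralizer_le_normalizer _ (Subgroup.mem_centralizer_iff.mpr fun d hd => ?_)
      obtain ⟨i, rfl⟩ := Subgroup.mem_zpowers_iff.mp hd
      exact (hc.zpow_right i).symm
  obtain ⟨P, hP⟩ := PSolvable.exists_map_eq hsurj (Fitting.pCore_isPGroup p : IsPGroup p O) hkc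
  refine ⟨O.comap φ', inferInstance, ?_, fun x hx => ?_,
    (P : Subgroup (O.comap φ')).map (O.comap φ').subtype, P.2.map _, Subgroup.map_subtype_le _,
    fun c hc => ?_⟩
  · rw [← hkφ]; exact Subgroup.ker_le_comap φ' O
  · obtain ⟨n, hn⟩ := Fitting.pCore_isPGroup p (⟨φ' x, hx⟩ : O)
    refine ⟨n, ?_⟩
    rw [← hkφ, MonoidHom.mem_ker, map_pow]
    exact congrArg Subtype.val hn
  · refine hcent ?_
    intro o ho
    have ho' : o ∈ pCore p φ.range := ho
    rw [← hP] at ho'
    obtain ⟨u, hu, rfl⟩ := ho'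
    rw [← map_mul, ← map_mul, hc u hu]

end Local

section Pairs

variable (hinv : ∀ g : G, Char.conjBy K (θ : K → ℂ) g = θ) (hM : IsPModular p M)
  (hK : ¬ p ∣ Nat.card K)
  (hO : Subgroup.centralizer (pCore p (G ⧸ K) : Set (G ⧸ K)) ≤ pCore p (G ⧸ K))
include hinv hM hK hO

/-- At each `p`-subgroup exactly one block of the centralizer induces the block over `θ`. -/
theorem existsUnique_inducedBlock_overSet (hU : IsPBlock M (overSet K θ)) {R : Subgroup G}
    (hR : IsPGroup p R) :
    ∃! f : Set (IrrCharacter (Subgroup.centralizer (R : Set G))),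
      IsInducedBlock M (Subgroup.centralizer (R : Set G)) f (overSet K θ) := by
  classical
  have := isPrime_of_isPModular hM
  set H := Subgroup.centralizer (R : Set G)
  have hHN : H ≤ Subgroup.normalizer (R : Set G) := Subgroup.centralizer_le_normalizer _
  have hbrauer : ∀ (ξ : IrrCharacter H) (g : G), inducedCentralChar H (ξ : H → ℂ) g =
      brauerCentralChar R H (ξ : H → ℂ) g := fun ξ g => by
    rw [inducedCentralChar, brauerCentralChar]
    exact finsum_mem_congr (Set.ext fun h => ⟨fun h1 => ⟨h1, h.2⟩, fun h1 => h1.1⟩) fun _ _ => rfl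
  have hres : ∀ (f : Set (IrrCharacter H)) (B : Set (IrrCharacter G)), IsInducedBlock M H f B →
      ∀ ξ ∈ f, res M (brauerOmega R (blockCoeff B) (ξ : H → ℂ)) = 1 := fun f B h ξ hξ => by
    obtain ⟨χ, hχ⟩ := IsPBlock.nonempty h.2.1
    have h1 := IsInducedBlock.omega_congr h hξ hχ (isClassFunction_blockCoeff B)
      (IsPBlock.memLocalRing_blockCoeff h.2.1)
    rw [← brauerOmega_eq, omega_blockCoeff, indVec_of_mem hχ] at h1
    exact (memLocalIdeal_res_eq_one
      (memLocalRing_brauerOmega (isStableFun_blockCoeff h.2.1 R) ξ)).mp h1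
  obtain ⟨ξ₀, hξ₀⟩ := exists_res_eq_one_of_support hM hR (isStableFun_overSet hinv hM hK hR)
    (conv_blockCoeff_self _) (one_mem _) (blockCoeff_overSet_one hinv hM hK).2
  obtain ⟨B, ⟨hB, hBc⟩, -⟩ := existsUnique_brauer_block hM hR le_rfl hHN ξ₀
  have hind : IsInducedBlock M H (blockOf M (ξ₀ : H → ℂ)) B :=
    ⟨isPBlock_blockOf ξ₀, hB, fun ξ hξ χ hχ g => by
      rw [hbrauer]
      exact memLocalIdeal_sub_trans
        (resQuot_brauerHom_eq_of_mem hM hR le_rfl hHN (IsPBlock.sameBlock (isPBlock_blockOf ξ₀) hξ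
          (mem_blockOf_self ξ₀)) g) (hBc χ hχ g)⟩
  have hBe : B = overSet K θ := by
    have hpair : IsBrauerPair p M R (blockOf M (ξ₀ : H → ℂ)) := ⟨hR, isPBlock_blockOf ξ₀⟩
    exact (existsUnique_isBrauerPairOf hM hpair).unique
      (isBrauerPairOf_of_res hB hpair (mem_blockOf_self ξ₀)
        (hres _ _ hind ξ₀ (mem_blockOf_self ξ₀)))
      (isBrauerPairOf_of_res hU hpair (mem_blockOf_self ξ₀) hξ₀)
  obtain ⟨β, hβinv, hβ⟩ := exists_correspondent hinv hM hK hR
  obtain ⟨L', hL'n, hKL', hL'p, Q', hQ', hQL', hC'⟩ := exists_local_setting hM.1 hK hO hR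
  have hKc : ¬ p ∣ Nat.card (K.subgroupOf H) := fun h => hK (h.trans (by
    rw [← Subgroup.card_map_of_injective H.subtype_injective, Subgroup.subgroupOf_map_subtype]
    exact Subgroup.card_dvd_of_le inf_le_left))
  refine ⟨blockOf M (ξ₀ : H → ℂ), hBe ▸ hind, fun f hf => ?_⟩
  exact block_unique_over hβinv hM hKc hKL' hL'p hQ' hQL' hC' hf.1 (isPBlock_blockOf ξ₀)
    (fun ξ hξ => hβ ξ (hres f _ hf ξ hξ))
    (fun ξ hξ => hβ ξ (hres _ _ (hBe ▸ hind) ξ hξ))

end Pairs

end CfsgLib.Blocks
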