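import Cfsg.Agent.Lib.Blocks.KernelBlock
import Cfsg.Agent.Lib.Blocks.NormalPBlocks
import Cfsg.Agent.Lib.Blocks.InducingBlocks

/-!
# Defect classes and defect groups under passage to a quotient
-/

set_option autoImplicit false
set_option linter.unusedSectionVars false

namespace CfsgLib.Blocks

open Cfsg
open scoped CfsgLib.Char

variable {p : ℕ} {M : Ideal AlgInt} {G : Type*} [Group G] [Fintype G]

/-- A class of `G` whose central character at an inflated character is a unit maps to a class whose
central character is a unit, and a Sylow subgroup of the centralizer maps to one. -/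
theorem image_of_unit_class [Fact p.Prime] (hM : IsPModular p M) (N : Subgroup G) [N.Normal]
    [Fintype (G ⧸ N)] {η : IrrCharacter (G ⧸ N)} {g : G}
    (hu : ¬ MemLocalIdeal M (centralChar
      (inflate (QuotientGroup.mk' N) (QuotientGroup.mk'_surjective N) η : G → ℂ) g))
    {P : Subgroup G} (hP : IsSylowCent p g P) :
    ¬ MemLocalIdeal M (centralChar (η : G ⧸ N → ℂ) (QuotientGroup.mk' N g)) ∧
      IsSylowCent p (QuotientGroup.mk' N g) (P.map (QuotientGroup.mk' N)) := by
  classical
  have := isPrime_of_isPModular hM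
  have hp : p.Prime := hM.1
  set π := QuotientGroup.mk' N with hπ
  have hπs : Function.Surjective π := QuotientGroup.mk'_surjective N
  have hc : centralChar (inflate π hπs η : G → ℂ) g =
      (Nat.card {h : G // IsConj g h ∧ π h = π g} : ℂ) * centralChar (η : G ⧸ N → ℂ) (π g) :=
    centralChar_comp π hπs (η : G ⧸ N → ℂ) g
  rw [hc] at hu
  set f := Nat.card {h : G // IsConj g h ∧ π h = π g} with hf
  have hu1 : ¬ MemLocalIdeal M (f : ℂ) := fun h =>
    hu (memLocalIdeal_mul_right h (memLocalRing_centralChar η _))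
  have hu2 : ¬ MemLocalIdeal M (centralChar (η : G ⧸ N → ℂ) (π g)) := fun h =>
    hu (memLocalIdeal_mul_left (memLocalRing_natCast f) h)
  refine ⟨hu2, ?_, ?_⟩
  · rintro _ ⟨x, hx, rfl⟩
    refine Subgroup.mem_centralizer_singleton_iff.mpr ?_
    rw [← map_mul, ← map_mul, Subgroup.mem_centralizer_singleton_iff.mp (hP.1 hx)]
  set C := Subgroup.centralizer ({g} : Set G) with hCdef
  set Cb := Subgroup.centralizer ({π g} : Set (G ⧸ N)) with hCbdef
  have hidx : C.index = f * Cb.index := index_centralizer_eq_fiber_mul π hπs g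
  have hcard : Nat.card C * f = Nat.card Cb * Nat.card N := by
    have h1 : Nat.card C * (f * Cb.index) = Nat.card Cb * Cb.index * Nat.card N := by
      rw [← hidx, C.card_mul_index, Cb.card_mul_index,
        Subgroup.card_eq_card_quotient_mul_card_subgroup N]
    refine Nat.eq_of_mul_eq_mul_right (Nat.pos_of_ne_zero Cb.index_ne_zero_of_finite) ?_
    linarith [h1]
  have hf0 : f ≠ 0 := fun h => hu1 (by rw [h, Nat.cast_zero]; exact memLocalIdeal_zero)
  have hfac : (Nat.card C).factorization p =
      (Nat.card Cb).factorization p + (Nat.card N).factorization p := by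
    have h := congrArg (fun n => n.factorization p) hcard
    simp only [Nat.factorization_mul Nat.card_pos.ne' hf0,
      Nat.factorization_mul Nat.card_pos.ne' Nat.card_pos.ne', Finsupp.add_apply] at h
    rw [Nat.factorization_eq_zero_of_not_dvd (fun hd => hu1 ((memLocalIdeal_natCast_iff hM).mpr hd)),
      add_zero] at h
    exact h
  have hPp := hP.isPGroup
  obtain ⟨a, ha⟩ := IsPGroup.iff_card.mp (hPp.map π)
  have hle : a ≤ (Nat.card Cb).factorization p := by
    refine (hp.pow_dvd_iff_le_factorization Nat.card_pos.ne').mp ?_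
    rw [← ha]
    refine Subgroup.card_dvd_of_le ?_
    rintro _ ⟨x, hx, rfl⟩
    refine Subgroup.mem_centralizer_singleton_iff.mpr ?_
    rw [← map_mul, ← map_mul, Subgroup.mem_centralizer_singleton_iff.mp (hP.1 hx)]
  obtain ⟨b, hb⟩ := IsPGroup.iff_card.mp (hPp.to_le (inf_le_left : P ⊓ N ≤ P))
  have hbN : b ≤ (Nat.card N).factorization p := by
    refine (hp.pow_dvd_iff_le_factorization Nat.card_pos.ne').mp ?_
    rw [← hb]
    exact Subgroup.card_dvd_of_le inf_le_right
  have hsplit : Nat.card P = Nat.card (P.map π) * Nat.card ↥(P ⊓ N) := by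
    rw [Subgroup.card_eq_card_quotient_mul_card_subgroup ((π.subgroupMap P).ker),
      Nat.card_congr (QuotientGroup.quotientKerEquivOfSurjective (π.subgroupMap P)
        (π.subgroupMap_surjective P)).toEquiv]
    congr 1
    rw [inf_comm]
    refine (Nat.card_congr (Equiv.subtypeEquiv (Equiv.refl _) fun x => ?_)).trans
      (Nat.card_congr (Subgroup.subgroupOfEquivOfLe (inf_le_right : N ⊓ P ≤ P)).toEquiv)
    rw [MonoidHom.mem_ker, Subgroup.mem_subgroupOf, Equiv.refl_apply, Subgroup.mem_inf]
    constructor
    · intro h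
      exact ⟨(QuotientGroup.eq_one_iff _).mp (congrArg Subtype.val h), x.2⟩
    · intro h
      exact Subtype.ext ((QuotientGroup.eq_one_iff _).mpr h.1)
  have hP2 : Nat.card P = p ^ (Nat.card C).factorization p := hP.2
  show Nat.card (P.map π) = p ^ (Nat.card Cb).factorization p
  rw [hP2, ha, hb, ← pow_add] at hsplit
  have := Nat.pow_right_injective hp.two_le hsplit
  rw [ha]
  congr 1
  omega

/-- An element of a block inflated from a quotient. -/
theorem exists_defectClass_image [Fact p.Prime] (hM : IsPModular p M) (N : Subgroup G) [N.Normal]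
    [Fintype (G ⧸ N)] {B : Set (IrrCharacter G)} (hB : IsPBlock M B) (η : IrrCharacter (G ⧸ N))
    (hη : inflate (QuotientGroup.mk' N) (QuotientGroup.mk'_surjective N) η ∈ B) :
    ∃ (g : G) (P : Subgroup G), IsDefectClass M B g ∧ IsDefectGroup p M B P ∧
      ¬ MemLocalIdeal M (centralChar (η : G ⧸ N → ℂ) (QuotientGroup.mk' N g)) ∧
      IsSylowCent p (QuotientGroup.mk' N g) (P.map (QuotientGroup.mk' N)) := by
  obtain ⟨P, hP⟩ := exists_isDefectGroup hM hB
  obtain ⟨g, hg, hsyl⟩ := isDefectGroup_iff.mp hP
  exact ⟨g, P, hg, hP, image_of_unit_class hM N (hg.2.2 _ hη) hsyl⟩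

theorem map_conj_mk (N : Subgroup G) [N.Normal] (P : Subgroup G) (x : G) :
    (P.map (MulAut.conj x).toMonoidHom).map (QuotientGroup.mk' N) =
      (P.map (QuotientGroup.mk' N)).map (MulAut.conj (QuotientGroup.mk' N x)).toMonoidHom := by
  rw [Subgroup.map_map, Subgroup.map_map]
  congr 1

end CfsgLib.Blocks
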