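import Cfsg.Agent.Lib.Blocks.MaxPairs
import Cfsg.Agent.Lib.Blocks.NormalPBlocks
import Cfsg.Agent.Lib.Blocks.BrauerFeit
import Cfsg.Agent.Lib.Blocks.Inflate
import Cfsg.Agent.Lib.Char.Central

/-!
# Central characters through Brauer pairs; a lower bound for characters of 2-defect zero
-/

set_option autoImplicit false
set_option linter.unusedSectionVars false

namespace CfsgLib.Blocks

open Cfsg
open scoped ComplexConjugate CfsgLib.Char

variable {p : ℕ} {M : Ideal AlgInt} {G : Type*} [Group G] [Fintype G]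

/-- Central characters of a block can be computed at any of its Brauer pairs. -/
theorem res_omega_eq_res_brauerOmega [M.IsPrime] (hM : IsPModular p M) {B : Set (IrrCharacter G)}
    {Q : Subgroup G} {e : Set (IrrCharacter (Subgroup.centralizer (Q : Set G)))}
    (h : IsBrauerPairOf p M B Q e) {ξ : IrrCharacter (Subgroup.centralizer (Q : Set G))}
    (hξ : ξ ∈ e) {χ : IrrCharacter G} (hχ : χ ∈ B) {f : G → ℂ} (hf : IsClassFunction G f)
    (hl : ∀ g, MemLocalRing M (f g)) :
    res M (omega (χ : G → ℂ) f) =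
      res M (brauerOmega Q f (ξ : Subgroup.centralizer (Q : Set G) → ℂ)) := by
  classical
  have hst : ∀ v : ZO M G, IsStableFun M Q (ofOmega (v : IrrCharacter G → ℂ)) := fun v =>
    isStableFun_of_classFun (isClassFunction_ofOmega _) (mem_ZO.mp v.2)
  let Φ : ZO M G → ResField M := fun v =>
    res M (brauerOmega Q (ofOmega (v : IrrCharacter G → ℂ))
      (ξ : Subgroup.centralizer (Q : Set G) → ℂ))
  have hadd : ∀ v w, Φ (v + w) = Φ v + Φ w := fun v w => by
    show res M (brauerOmega Q (ofOmega ((v : IrrCharacter G → ℂ) + w)) _) = _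
    rw [ofOmega_add, ← res_add (memLocalRing_brauerOmega (hst v) ξ)
      (memLocalRing_brauerOmega (hst w) ξ), brauerOmega_eq, brauerOmega_eq, brauerOmega_eq,
      ← omega_add]
    rfl
  let φ : ZO M G →+* ResField M :=
    { toFun := Φ
      map_one' := by
        show res M (brauerOmega Q (ofOmega (1 : IrrCharacter G → ℂ)) _) = 1
        rw [ofOmega_one, res_brauerOmega_deltaOne]
      map_mul' := fun v w => by
        show res M (brauerOmega Q (ofOmega ((v : IrrCharacter G → ℂ) * w)) _) = _
        rw [ofOmega_mul]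
        exact res_brauerOmega_conv hM h.1.1 (hst v) (hst w) ξ
      map_zero' := by
        show res M (brauerOmega Q (ofOmega (0 : IrrCharacter G → ℂ)) _) = 0
        rw [show ofOmega (0 : IrrCharacter G → ℂ) = fun _ => (0 : ℂ) from
          funext fun g => by simp [ofOmega], res_brauerOmega_zero]
      map_add' := hadd }
  obtain ⟨B', ⟨hB', hφ⟩, -⟩ := exists_block_of_hom φ fun c hc => by
    show res M (brauerOmega Q (ofOmega (c • (1 : IrrCharacter G → ℂ))) _) = res M c
    rw [ofOmega_smul, ofOmega_one, brauerOmega_eq]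
    show res M (omega (ξ : Subgroup.centralizer (Q : Set G) → ℂ)
      (c • fun y : Subgroup.centralizer (Q : Set G) => (deltaOne : G → ℂ) (y : G))) = _
    rw [omega_smul, res_mul hc, ← brauerOmega_eq, res_brauerOmega_deltaOne, mul_one]
    rw [← brauerOmega_eq]
    exact memLocalRing_brauerOmega (isStableFun_deltaOne Q) ξ
  have hBB' : B' = B := by
    by_contra hne
    obtain ⟨η, hη⟩ := IsPBlock.nonempty hB'
    have h1 := RingHom.congr_fun (hφ η hη)
      ⟨indVec B, indVec_mem_ZO (IsPBlock.isBlockUnion h.2.1)⟩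
    change res M (brauerOmega Q (ofOmega (indVec B)) _) = res M (indVec B η) at h1
    rw [ofOmega_indVec, IsBrauerPairOf.res_eq_one h hξ, indVec_of_notMem fun hmem =>
      hne (IsPBlock.eq_of_mem_of_mem hB' h.2.1 hη hmem), res_zero] at h1
    exact one_ne_zero h1
  subst hBB'
  have h2 := RingHom.congr_fun (hφ χ hχ)
    ⟨fun ψ : IrrCharacter G => omega (ψ : G → ℂ) f, omega_mem_ZO hf hl⟩
  change res M (brauerOmega Q (ofOmega fun ψ : IrrCharacter G => omega (ψ : G → ℂ) f) _) =
    res M (omega (χ : G → ℂ) f) at h2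
  rw [ofOmega_omega hf] at h2
  exact h2.symm

/-- The indicator function of the solutions of `x ^ 2 = 1`. -/
noncomputable def sqOneInd (G : Type*) [Group G] : G → ℂ := fun g =>
  open Classical in if g * g = 1 then 1 else 0

theorem isClassFunction_sqOneInd : IsClassFunction G (sqOneInd G) := fun g h => by
  classical
  refine if_congr ?_ rfl rfl
  rw [show h * g * h⁻¹ * (h * g * h⁻¹) = h * (g * g) * h⁻¹ by group, mul_inv_eq_one,
    mul_eq_left]

theorem memLocalRing_sqOneInd [M.IsPrime] (g : G) : MemLocalRing M (sqOneInd G g) := by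
  classical
  unfold sqOneInd
  split
  exacts [memLocalRing_one, memLocalRing_zero]

/-- In a 2-block of positive defect the solutions of `x ^ 2 = 1` sum to zero modulo the ideal. -/
theorem res_omega_sqOneInd_eq_zero [M.IsPrime] (hM : IsPModular 2 M) {B : Set (IrrCharacter G)}
    (hB : IsPBlock M B) (hd : 0 < blockDefect 2 B) {χ : IrrCharacter G} (hχ : χ ∈ B) :
    res M (omega (χ : G → ℂ) (sqOneInd G)) = 0 := by
  classical
  have : Fact (Nat.Prime 2) := ⟨Nat.prime_two⟩
  obtain ⟨e₀, he₀⟩ := exists_pair_of_normal hM (⊥ : Subgroup G) IsPGroup.of_bot hB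
  obtain ⟨⟨P, e⟩, hmax, -⟩ := exists_maximal_pair_above hM he₀
  have hcard := IsDefectGroup.card_eq hM hB (isDefectGroup_of_maximal hM hmax)
  obtain ⟨⟨z, hzP⟩, hz⟩ := exists_prime_orderOf_dvd_card' (G := P) 2
    (hcard ▸ dvd_pow_self 2 hd.ne')
  rw [Subgroup.orderOf_mk] at hz
  set Q := Subgroup.zpowers z
  have hQP : Q ≤ P := Subgroup.zpowers_le.mpr hzP
  obtain ⟨f, hf, -⟩ := existsUnique_subpair hM hmax.1.1 hQP
  have hQf := (SubpairLE.isBrauerPairOf_iff hM hf hB).mp hmax.1
  set C := Subgroup.centralizer (Q : Set G)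
  have hZc : ∀ u : C, (u : G) ∈ Q → ∀ c : C, u * c = c * u := fun u hu c =>
    Subtype.ext (c.2 u hu)
  haveI : (Q.subgroupOf C).Normal := ⟨fun u hu c => by
    rw [← hZc u hu c, mul_inv_cancel_right]; exact hu⟩
  have hQC : Q ≤ C := Subgroup.zpowers_le.mpr fun q hq => by
    obtain ⟨k, rfl⟩ := Subgroup.mem_zpowers_iff.mp hq
    exact (Commute.zpow_self z k).eq
  obtain ⟨ξ, hξ, htriv⟩ := exists_mem_trivial_on_normal_pgroup hM hQf.1.2 (Q.subgroupOf C)
    (hQf.1.1.comap_of_injective _ (Subgroup.subtype_injective _))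
  rw [res_omega_eq_res_brauerOmega hM hQf hξ hχ isClassFunction_sqOneInd memLocalRing_sqOneInd]
  obtain ⟨η, hη⟩ := exists_inflate_eq_of_ker (Q.subgroupOf C) ξ htriv
  have hsq : ∀ u : C, (u : G) ∈ Q → (u : G) * u = 1 := fun u hu => by
    obtain ⟨k, hk⟩ := Subgroup.mem_zpowers_iff.mp hu
    rw [← hk, ← (Commute.refl z).mul_zpow, show z * z = 1 by rw [← pow_two, ← hz, pow_orderOf_eq_one],
      one_zpow]
  have hinv : ∀ c u : C, u ∈ Q.subgroupOf C →
      sqOneInd G ((c * u : C) : G) = sqOneInd G (c : G) := fun c u hu => by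
    refine if_congr ?_ rfl rfl
    rw [Subgroup.coe_mul]
    have hcu : (u : G) * c = c * u := congrArg Subtype.val (hZc u hu c)
    rw [show (c : G) * u * (c * u) = c * ((u : G) * c) * u by group, hcu,
      show (c : G) * (c * u) * u = c * c * ((u : G) * u) by group, hsq u hu, mul_one]
  let fb : C ⧸ Q.subgroupOf C → ℂ := fun q => sqOneInd G ((q.out : C) : G)
  have hfb : ∀ c : C, fb (c : C ⧸ Q.subgroupOf C) = sqOneInd G (c : G) := fun c => by
    obtain ⟨u, hu⟩ := QuotientGroup.mk_out_eq_mul (Q.subgroupOf C) c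
    show sqOneInd G (((c : C ⧸ Q.subgroupOf C).out : C) : G) = _
    rw [hu]
    exact hinv c u u.2
  have hfbcl : IsClassFunction (C ⧸ Q.subgroupOf C) fb := fun a b => by
    induction a using QuotientGroup.induction_on with
    | H x =>
      induction b using QuotientGroup.induction_on with
      | H y =>
        rw [← QuotientGroup.mk_inv, ← QuotientGroup.mk_mul, ← QuotientGroup.mk_mul, hfb, hfb]
        exact isClassFunction_sqOneInd (x : G) (y : G)
  have hloc : MemLocalRing M (omega (η : C ⧸ Q.subgroupOf C → ℂ) fb) :=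
    memLocalRing_omega η hfbcl fun q => memLocalRing_sqOneInd _
  have hcardZ : Nat.card (Q.subgroupOf C) = 2 := by
    rw [Nat.card_congr (Subgroup.subgroupOfEquivOfLe hQC).toEquiv, Nat.card_zpowers, hz]
  have hsum : brauerOmega Q (sqOneInd G) (ξ : C → ℂ) =
      2 * omega (η : C ⧸ Q.subgroupOf C → ℂ) fb := by
    rw [brauerOmega, finsum_eq_sum_of_fintype, ← Finset.sum_div]
    have hval : ∀ c : C, (ξ : C → ℂ) c = (η : C ⧸ Q.subgroupOf C → ℂ) c := fun c => by
      rw [hη]; rfl
    rw [hval 1, QuotientGroup.mk_one, omega, ← mul_div_assoc]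
    congr 1
    rw [← Fintype.sum_equiv (Subgroup.groupEquivQuotientProdSubgroup (s := Q.subgroupOf C)).symm
      (fun x => fb x.1 * (η : C ⧸ Q.subgroupOf C → ℂ) x.1) _ ?_]
    · rw [Fintype.sum_prod_type]
      simp only [Finset.sum_const, Finset.card_univ, ← Nat.card_eq_fintype_card, hcardZ,
        nsmul_eq_mul, Nat.cast_ofNat, ← Finset.mul_sum]
    · intro x
      have hx : (((Subgroup.groupEquivQuotientProdSubgroup (s := Q.subgroupOf C)).symm x : C) :
          C ⧸ Q.subgroupOf C) = x.1 := by
        conv_rhs => rw [← (Subgroup.groupEquivQuotientProdSubgroup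
          (s := Q.subgroupOf C)).apply_symm_apply x]
        rfl
      rw [hval, ← hfb, hx]
  have h2 : MemLocalRing M (2 : ℂ) := by simpa using memLocalRing_natCast (M := M) 2
  have h2' : MemLocalIdeal M (2 : ℂ) := by simpa using memLocalIdeal_p hM
  rw [hsum, ← res_zero, res_eq_iff (memLocalRing_mul h2 hloc) memLocalRing_zero, sub_zero]
  exact memLocalIdeal_mul_right h2' hloc

/-- A `p`-regular element of order three normalizing no 2-subgroup is not moved by an involution
to another element of order three. -/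
theorem eq_one_of_pow_three {y t : G} (hnorm : ∀ Q : Subgroup G, IsPGroup 2 Q →
      y ∈ Subgroup.normalizer (Q : Set G) → Q = ⊥)
    (hy : y ^ 3 = 1) (ht : t * t = 1) (hty : (t * y) ^ 3 = 1) : t = 1 := by
  classical
  have : Fact (Nat.Prime 2) := ⟨Nat.prime_two⟩
  set b := y * t * y⁻¹ with hb0
  set c := y * b * y⁻¹ with hc0
  have hb : b * b = 1 := by rw [hb0, show y * t * y⁻¹ * (y * t * y⁻¹) = y * (t * t) * y⁻¹ by group, ht]; group
  have hc : c * c = 1 := by rw [hc0, show y * b * y⁻¹ * (y * b * y⁻¹) = y * (b * b) * y⁻¹ by group, hb]; group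
  have habc : t * b * c = 1 := by
    have e : t * b * c * y ^ 3 = (t * y) ^ 3 := by
      simp only [hc0, hb0, pow_succ, pow_zero, one_mul]
      group
    rwa [hty, hy, mul_one] at e
  have hti : t⁻¹ = t := inv_eq_of_mul_eq_one_right ht
  have hbi : b⁻¹ = b := inv_eq_of_mul_eq_one_right hb
  have hc' : c = b * t := by
    rw [eq_inv_of_mul_eq_one_right habc, mul_inv_rev, hti, hbi]
  have hcomm : t * b = b * t := by
    have h2 : b * t * (b * t) = 1 := hc' ▸ hc
    have h3 := eq_inv_of_mul_eq_one_right h2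
    rw [mul_inv_rev, hti, hbi] at h3
    exact h3.symm
  set V := Subgroup.zpowers t ⊔ Subgroup.zpowers b
  have hp2 : ∀ u : G, u * u = 1 → IsPGroup 2 (Subgroup.zpowers u) := fun u hu => by
    rintro ⟨x, hx⟩
    obtain ⟨k, rfl⟩ := Subgroup.mem_zpowers_iff.mp hx
    exact ⟨1, Subtype.ext (by
      show (u ^ k) ^ (2 ^ 1) = 1
      rw [pow_one, pow_two, ← (Commute.refl u).mul_zpow, hu, one_zpow])⟩
  have hle : Subgroup.zpowers b ≤ Subgroup.normalizer (Subgroup.zpowers t : Set G) := by
    refine le_trans ?_ (Subgroup.centralizer_le_normalizer _)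
    refine Subgroup.zpowers_le.mpr fun q hq => ?_
    obtain ⟨k, rfl⟩ := Subgroup.mem_zpowers_iff.mp hq
    exact (Commute.zpow_left (hcomm : Commute t b) k).eq
  have hVp : IsPGroup 2 V := (hp2 t ht).to_sup_of_normal_left' (hp2 b hb) hle
  have hmapV : V.map (MulAut.conj y).toMonoidHom ≤ V := by
    rw [Subgroup.map_sup, MonoidHom.map_zpowers, MonoidHom.map_zpowers, sup_le_iff,
      Subgroup.zpowers_le, Subgroup.zpowers_le]
    refine ⟨?_, ?_⟩
    · show b ∈ V
      exact Subgroup.mem_sup_right (Subgroup.mem_zpowers b)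
    · show c ∈ V
      rw [hc']
      exact mul_mem (Subgroup.mem_sup_right (Subgroup.mem_zpowers b))
        (Subgroup.mem_sup_left (Subgroup.mem_zpowers t))
  have heq : V.map (MulAut.conj y).toMonoidHom = V :=
    Subgroup.eq_of_le_of_card_ge hmapV
      (Subgroup.card_map_of_injective (MulAut.conj y).injective).ge
  have hyV : y ∈ Subgroup.normalizer (V : Set G) := by
    refine Subgroup.mem_normalizer_iff.mpr fun z => ⟨fun hz => hmapV ⟨z, hz, rfl⟩, fun hz => ?_⟩
    rw [← heq] at hz
    obtain ⟨w, hw, hwz⟩ := hz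
    have : w = z := by
      have := hwz
      simpa using this
    exact this ▸ hw
  have htV : t ∈ V := Subgroup.mem_sup_left (Subgroup.mem_zpowers t)
  rw [hnorm V hVp hyV] at htV
  exact Subgroup.mem_bot.mp htV

/-- The count of classes of elements of order three normalizing no 2-subgroup. -/
theorem card_classes_le_defectZero [M.IsPrime] (hM : IsPModular 2 M) {ι : Type*} [Fintype ι]
    (g : ι → G) (hinj : ∀ i j, IsConj (g i) (g j) → i = j) (h3 : ∀ i, orderOf (g i) = 3)
    (hnorm : ∀ i, ∀ Q : Subgroup G, IsPGroup 2 Q →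
      g i ∈ Subgroup.normalizer (Q : Set G) → Q = ⊥) :
    Fintype.card ι ≤ Nat.card {χ : IrrCharacter G //
      (charDegree (χ : G → ℂ)).factorization 2 = (Nat.card G).factorization 2} := by
  classical
  have : Fact (Nat.Prime 2) := ⟨Nat.prime_two⟩
  let C : ι → Subgroup G := fun i => Subgroup.centralizer ({g i} : Set G)
  have hodd : ∀ i, ¬ 2 ∣ Nat.card (C i) := fun i h2 => by
    obtain ⟨⟨t, htC⟩, ht⟩ := exists_prime_orderOf_dvd_card' (G := C i) 2 h2
    rw [Subgroup.orderOf_mk] at ht
    have hb := hnorm i (Subgroup.zpowers t)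
      (IsPGroup.of_card (n := 1) (by rw [Nat.card_zpowers, ht, pow_one]))
      (Subgroup.centralizer_le_normalizer _ fun q hq => by
        obtain ⟨k, rfl⟩ := Subgroup.mem_zpowers_iff.mp hq
        exact (Commute.zpow_left (Subgroup.mem_centralizer_singleton_iff.mp htC : Commute t (g i)) k).eq)
    rw [Subgroup.zpowers_eq_bot] at hb
    rw [hb, orderOf_one] at ht
    exact absurd ht (by norm_num)
  have hdelta : ∀ i j, conv (sqOneInd G) (classInd (g j)) (g i) = if i = j then (1 : ℂ) else 0 := by
    intro i j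
    have hone : ∀ t : G, t * t = 1 → IsConj (g j) (t⁻¹ * g i) → t = 1 := by
      intro t ht hconj
      rw [show t⁻¹ = t from inv_eq_of_mul_eq_one_right ht] at hconj
      refine eq_one_of_pow_three (hnorm i) (h3 i ▸ pow_orderOf_eq_one _) ht ?_
      obtain ⟨x, hx⟩ := isConj_iff.mp hconj
      rw [← hx, conj_pow, show g j ^ 3 = 1 from h3 j ▸ pow_orderOf_eq_one _, mul_one,
        mul_inv_cancel]
    rw [conv, Finset.sum_eq_single (1 : G)]
    · simp only [sqOneInd, classInd, mul_one, one_mul, inv_one, if_true]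
      refine if_congr ⟨fun h => (hinj j i h).symm, fun h => h ▸ IsConj.refl _⟩ rfl rfl
    · intro t _ ht
      by_cases hs : t * t = 1
      · by_cases hc : IsConj (g j) (t⁻¹ * g i)
        · exact absurd (hone t hs hc) ht
        · rw [classInd, if_neg hc, mul_zero]
      · simp [sqOneInd, hs]
    · exact fun h => absurd (Finset.mem_univ _) h
  set w : IrrCharacter G → ℂ := fun χ => omega (χ : G → ℂ) (sqOneInd G)
  have hid : ∀ i j, ∑ χ : IrrCharacter G, conj ((χ : G → ℂ) (g i)) * (w χ * (χ : G → ℂ) (g j)) =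
      (Nat.card (C j) : ℂ) * if i = j then (1 : ℂ) else 0 := by
    intro i j
    have e : conv (sqOneInd G) (classInd (g j)) =
        ofOmega (fun χ : IrrCharacter G => w χ * centralChar (χ : G → ℂ) (g j)) := by
      rw [← ofOmega_omega (isClassFunction_conv isClassFunction_sqOneInd
        (isClassFunction_classInd (g j)))]
      congr 1
      funext χ
      rw [omega_conv χ isClassFunction_sqOneInd (isClassFunction_classInd (g j)), omega_classInd]
    have e2 := congrFun e (g i)
    rw [hdelta] at e2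
    simp only [C]
    rw [e2, ofOmega, ← card_centralizer_mul_index (g j)]
    push_cast
    have hC0 : (Nat.card (Subgroup.centralizer ({g j} : Set G)) : ℂ) ≠ 0 :=
      Nat.cast_ne_zero.mpr Nat.card_pos.ne'
    have hI0 : ((Subgroup.centralizer ({g j} : Set G)).index : ℂ) ≠ 0 :=
      Nat.cast_ne_zero.mpr Subgroup.index_ne_zero_of_finite
    rw [Finset.mul_sum, Finset.mul_sum]
    refine Finset.sum_congr rfl fun χ _ => ?_
    have h1 := Char.irr_degree_ne_zero χ.2
    simp only [centralChar]
    field_simp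
  let Z := {χ : IrrCharacter G //
      (charDegree (χ : G → ℂ)).factorization 2 = (Nat.card G).factorization 2}
  have hw : ∀ χ : IrrCharacter G,
      (charDegree (χ : G → ℂ)).factorization 2 ≠ (Nat.card G).factorization 2 →
        res M (w χ) = 0 := by
    intro χ hχ
    refine res_omega_sqOneInd_eq_zero hM (isPBlock_blockOf χ) ?_ (mem_blockOf_self χ)
    have h1 := degree_exponent_ge hM (isPBlock_blockOf χ) (mem_blockOf_self χ)
    obtain ⟨n, hn, -, hχn⟩ := Char.exists_degree_dvd_card χ.2
    have h2 : (charDegree (χ : G → ℂ)).factorization 2 ≤ (Nat.card G).factorization 2 := by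
      refine (Nat.factorization_le_iff_dvd (irr_degree_eq χ).2.ne' Nat.card_pos.ne').mpr ?_ 2
      have : charDegree (χ : G → ℂ) = n := by
        rw [charDegree, hn, Complex.natCast_re, Nat.floor_natCast]
      exact this ▸ hχn
    omega
  have : Finite (IrrCharacter G) := Char.finite_irrCharacter
  have : Fintype Z := Fintype.ofFinite _
  let U : Matrix ι Z (ResField M) := fun i χ => res M (conj ((χ.1 : G → ℂ) (g i)))
  let W : Matrix Z ι (ResField M) := fun χ j => res M (w χ.1 * (χ.1 : G → ℂ) (g j))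
  let d : ι → ResField M := fun j => res M (Nat.card (C j) : ℂ)
  have hlocw : ∀ χ, MemLocalRing M (w χ) := fun χ =>
    memLocalRing_omega χ isClassFunction_sqOneInd memLocalRing_sqOneInd
  have hval : ∀ (χ : IrrCharacter G) (x : G), MemLocalRing M ((χ : G → ℂ) x) := fun χ x =>
    memLocalRing_of_isIntegral (irr_isIntegral χ.2 x)
  have hcval : ∀ (χ : IrrCharacter G) (x : G), MemLocalRing M (conj ((χ : G → ℂ) x)) := fun χ x =>
    memLocalRing_of_isIntegral (irr_conj_isIntegral χ.2 x)
  have hUW : U * W = Matrix.diagonal d := by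
    refine Matrix.ext fun i j => ?_
    have hterm : ∀ χ : IrrCharacter G, MemLocalRing M
        (conj ((χ : G → ℂ) (g i)) * (w χ * (χ : G → ℂ) (g j))) := fun χ =>
      memLocalRing_mul (hcval χ _) (memLocalRing_mul (hlocw χ) (hval χ _))
    have h := congrArg (res M) (hid i j)
    rw [res_sum _ _ fun χ _ => hterm χ] at h
    rw [← Finset.sum_subset (Finset.subset_univ (Finset.univ.filter fun χ : IrrCharacter G =>
      (charDegree (χ : G → ℂ)).factorization 2 = (Nat.card G).factorization 2))
      (fun χ _ hχ => by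
        rw [res_mul (hcval χ _) (memLocalRing_mul (hlocw χ) (hval χ _)),
          res_mul (hlocw χ) (hval χ _), hw χ (fun e => hχ (Finset.mem_filter.mpr ⟨Finset.mem_univ _, e⟩))]
        simp)] at h
    rw [Finset.sum_subtype (p := fun χ : IrrCharacter G =>
      (charDegree (χ : G → ℂ)).factorization 2 = (Nat.card G).factorization 2) _
      (fun χ => by simp)] at h
    rw [Matrix.mul_apply]
    refine Eq.trans (Finset.sum_congr rfl fun χ _ => ?_) (h.trans ?_)
    · show res M _ * res M _ = _
      rw [← res_mul (hcval _ _) (memLocalRing_mul (hlocw _) (hval _ _))]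
    · rw [Matrix.diagonal_apply]
      split_ifs with he
      · subst he; rw [mul_one]
      · rw [mul_zero, res_zero]
  have hd : ∀ j, d j ≠ 0 := fun j h0 => hodd j ((memLocalIdeal_natCast_iff hM).mp (by
    have h := (res_eq_iff (memLocalRing_natCast (M := M) (Nat.card (C j))) memLocalRing_zero).mp
      (h0.trans res_zero.symm)
    rwa [sub_zero] at h))
  have hunit : IsUnit (Matrix.diagonal d) := by
    rw [Matrix.isUnit_iff_isUnit_det, Matrix.det_diagonal]
    exact (Finset.prod_ne_zero_iff.mpr fun j _ => hd j).isUnit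
  have hr := Matrix.rank_of_isUnit _ hunit
  rw [← hUW] at hr
  calc Fintype.card ι = (U * W).rank := hr.symm
    _ ≤ U.rank := Matrix.rank_mul_le_left U W
    _ ≤ Fintype.card Z := Matrix.rank_le_card_width U
    _ = Nat.card Z := Nat.card_eq_fintype_card.symm

end CfsgLib.Blocks
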