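import Cfsg.Agent.Lib.Blocks.BlockSaturation
import Cfsg.Agent.Lib.Blocks.HeightZero
import Cfsg.Agent.Lib.Char.DefectZero

/-!
# Recognizing maximal Brauer pairs
-/

set_option autoImplicit false
set_option linter.unusedSectionVars false

namespace CfsgLib.Blocks

open Cfsg
open scoped ComplexConjugate CfsgLib.Char

variable {p : ℕ} {M : Ideal AlgInt} {G : Type*} [Group G] [Fintype G]

theorem not_dvd_relIndex_iff [hp : Fact p.Prime] {K T : Subgroup G} (hKT : K ≤ T)
    [hn : (K.subgroupOf T).Normal] :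
    ¬ p ∣ K.relIndex T ↔ ∀ g ∈ T, (∃ k : ℕ, orderOf g = p ^ k) → g ∈ K := by
  classical
  rw [Subgroup.relIndex, Subgroup.index_eq_card]
  constructor
  · rintro h g hg ⟨k, hk⟩
    set x : T ⧸ K.subgroupOf T := QuotientGroup.mk (⟨g, hg⟩ : T) with hx
    have h1 : orderOf x ∣ p ^ k := by
      refine (orderOf_map_dvd (QuotientGroup.mk' (K.subgroupOf T)) (⟨g, hg⟩ : T)).trans ?_
      rw [← Subgroup.orderOf_coe, hk]
    have h2 : orderOf x ∣ Nat.card (T ⧸ K.subgroupOf T) := orderOf_dvd_natCard x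
    have h3 : orderOf x = 1 := Nat.dvd_one.mp
      (((Nat.Coprime.pow_left k (hp.out.coprime_iff_not_dvd.mpr h)).gcd_eq_one) ▸ Nat.dvd_gcd h1 h2)
    rw [orderOf_eq_one_iff, hx, QuotientGroup.eq_one_iff] at h3
    exact h3
  · intro h hd
    obtain ⟨x, hx⟩ := exists_prime_orderOf_dvd_card' p hd
    obtain ⟨y, rfl⟩ := QuotientGroup.mk_surjective x
    obtain ⟨m, hm⟩ : ordProj[p] (orderOf y) ∣ orderOf y := Nat.ordProj_dvd _ _
    have hm0 : m ≠ 0 := fun h0 => (orderOf_pos y).ne' (by rw [hm, h0, mul_zero])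
    have hord : orderOf (y ^ m) = p ^ (orderOf y).factorization p := by
      rw [orderOf_pow' y hm0, Nat.gcd_eq_right (Dvd.intro_left _ hm.symm)]
      conv_lhs => rw [hm]
      rw [Nat.mul_div_cancel _ (Nat.pos_of_ne_zero hm0)]
    have hmem := h ((y ^ m : T) : G) (y ^ m).2 ⟨_, by rw [Subgroup.orderOf_coe]; exact hord⟩
    have h1 : ((y : T ⧸ K.subgroupOf T)) ^ m = 1 := by
      rw [← QuotientGroup.mk_pow, QuotientGroup.eq_one_iff]; exact hmem
    have h2 : p ∣ m := hx ▸ orderOf_dvd_of_pow_eq_one h1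
    have h3 : m = orderOf y / p ^ (orderOf y).factorization p :=
      (Nat.div_eq_of_eq_mul_left (pow_pos hp.out.pos _) (hm.trans (mul_comm _ _))).symm
    exact Nat.not_dvd_ordCompl hp.out (orderOf_pos y).ne' (h3 ▸ h2)

section Central

variable {C : Type*} [Group C] [Fintype C] (Z : Subgroup C)

/-- A character of defect zero of the quotient by a central `p`-subgroup has norm `1 / |Z|` on
the regular elements. -/
theorem classInner_regPart_of_central_defect [hp : Fact p.Prime] (hZc : Z ≤ Subgroup.center C)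
    (hZp : IsPGroup p Z) (θ : IrrCharacter C)
    (hθ : ∀ z ∈ Z, (θ : C → ℂ) z = (θ : C → ℂ) 1)
    (hdeg : (charDegree (θ : C → ℂ)).factorization p + (Nat.card Z).factorization p =
      (Nat.card C).factorization p) :
    classInner (regPart p (θ : C → ℂ)) (θ : C → ℂ) = (Nat.card Z : ℂ)⁻¹ := by
  classical
  haveI : Z.Normal := ⟨fun z hz g => by
    rwa [Subgroup.mem_center_iff.mp (hZc hz) g, mul_inv_cancel_right]⟩
  haveI := Fintype.ofFinite (C ⧸ Z)
  obtain ⟨η, rfl⟩ := exists_inflate_eq_of_ker Z θ hθ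
  have hval : ∀ g : C, (inflate (QuotientGroup.mk' Z) (QuotientGroup.mk'_surjective Z) η :
      C → ℂ) g = (η : C ⧸ Z → ℂ) (g : C ⧸ Z) := fun g => rfl
  obtain ⟨k, hk⟩ := IsPGroup.iff_card.mp hZp
  have hC : Nat.card C = Nat.card (C ⧸ Z) * Nat.card Z := Subgroup.card_eq_card_quotient_mul_card_subgroup Z
  have hd0 := (irr_degree_eq η).2.ne'
  have hdeg' : charDegree (inflate (QuotientGroup.mk' Z) (QuotientGroup.mk'_surjective Z) η :
      C → ℂ) = charDegree (η : C ⧸ Z → ℂ) := rfl
  have hfac : (charDegree (η : C ⧸ Z → ℂ)).factorization p =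
      (Nat.card (C ⧸ Z)).factorization p := by
    rw [hdeg', hC, Nat.factorization_mul Nat.card_pos.ne' Nat.card_pos.ne', Finsupp.add_apply] at hdeg
    exact Nat.add_right_cancel hdeg
  have hvan : ∀ x : C ⧸ Z, p ∣ orderOf x → (η : C ⧸ Z → ℂ) x = 0 := fun x hx =>
    Char.defect_zero_vanish η.2 (irr_degree_eq η).1 (Nat.ordProj_dvd _ p)
      (Nat.pow_succ_factorization_not_dvd Nat.card_pos.ne' hp.out)
      (hfac ▸ Nat.ordProj_dvd _ p) hx
  have hreg : ∀ g : C, IsPRegular p g → IsPRegular p (g : C ⧸ Z) := fun g hg h =>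
    hg (h.trans (orderOf_map_dvd (QuotientGroup.mk' Z) g))
  have hsum : ∑ g : C with IsPRegular p g,
        (η : C ⧸ Z → ℂ) (g : C ⧸ Z) * conj ((η : C ⧸ Z → ℂ) (g : C ⧸ Z)) =
      ∑ x : C ⧸ Z, (η : C ⧸ Z → ℂ) x * conj ((η : C ⧸ Z → ℂ) x) := by
    rw [← Finset.sum_filter_add_sum_filter_not Finset.univ (fun x : C ⧸ Z => IsPRegular p x)
      (fun x => (η : C ⧸ Z → ℂ) x * conj ((η : C ⧸ Z → ℂ) x)),
      Finset.sum_eq_zero (s := Finset.univ.filter fun x : C ⧸ Z => ¬ IsPRegular p x)
        (fun x hx => by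
          rw [hvan x (not_not.mp (Finset.mem_filter.mp hx).2), zero_mul]), add_zero]
    refine Finset.sum_bij (fun g _ => (g : C ⧸ Z)) (fun g hg => Finset.mem_filter.mpr
      ⟨Finset.mem_univ _, hreg g (Finset.mem_filter.mp hg).2⟩) ?_ ?_ (fun _ _ => rfl)
    · intro a ha b hb hab
      have hz : a⁻¹ * b ∈ Z := QuotientGroup.eq.mp hab
      have hc : Commute a b := by
        have h1 : a * (a⁻¹ * b) = (a⁻¹ * b) * a := Subgroup.mem_center_iff.mp (hZc hz) a
        rw [mul_inv_cancel_left] at h1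
        exact (congrArg (a * ·) h1).trans (by group)
      obtain ⟨j, hj⟩ := IsPGroup.iff_orderOf.mp hZp ⟨_, hz⟩
      rw [← Subgroup.orderOf_coe] at hj
      have h2 : orderOf (a⁻¹ * b) ∣ orderOf a * orderOf b := by
        refine (hc.inv_left.orderOf_mul_dvd_lcm).trans ?_
        rw [orderOf_inv]
        exact Nat.lcm_dvd_mul _ _
      rcases Nat.eq_zero_or_pos j with rfl | hj0
      · rw [pow_zero, orderOf_eq_one_iff] at hj
        exact eq_of_inv_mul_eq_one hj
      · exfalso
        have h3 : p ∣ orderOf a * orderOf b :=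
          (dvd_pow_self p hj0.ne').trans (hj ▸ h2)
        rcases hp.out.dvd_mul.mp h3 with h | h
        · exact (Finset.mem_filter.mp ha).2 h
        · exact (Finset.mem_filter.mp hb).2 h
    · intro x hx
      have hxr : ¬ p ∣ orderOf x := (Finset.mem_filter.mp hx).2
      obtain ⟨g, rfl⟩ := QuotientGroup.mk_surjective x
      obtain ⟨u, ⟨y, huy, hcomm, ⟨i, hu⟩, hy⟩, -⟩ := exists_isPPart hp.out g
      refine ⟨y, Finset.mem_filter.mpr ⟨Finset.mem_univ _, hy⟩, ?_⟩
      have hu1 : (u : C ⧸ Z) = 1 := by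
        rw [← orderOf_eq_one_iff]
        have h1 : orderOf (u : C ⧸ Z) ∣ p ^ i :=
          hu ▸ orderOf_map_dvd (QuotientGroup.mk' Z) u
        obtain ⟨l, -, hl⟩ := (Nat.dvd_prime_pow hp.out).mp h1
        rcases Nat.eq_zero_or_pos l with rfl | hl0
        · rw [hl, pow_zero]
        · exfalso
          apply hxr
          have hcop : Nat.Coprime (orderOf (u : C ⧸ Z)) (orderOf (y : C ⧸ Z)) :=
            Nat.Coprime.coprime_dvd_left h1 (Nat.Coprime.pow_left i
              (hp.out.coprime_iff_not_dvd.mpr (hreg y hy)))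
          have hcm : Commute (u : C ⧸ Z) (y : C ⧸ Z) := hcomm.map (QuotientGroup.mk' Z)
          rw [← huy, QuotientGroup.mk_mul, hcm.orderOf_mul_eq_mul_orderOf_of_coprime hcop, hl]
          exact (dvd_pow_self p hl0.ne').mul_right _
      rw [← huy, QuotientGroup.mk_mul, hu1, one_mul]
  have h1 := Char.classInner_irr_self η.2
  simp only [classInner] at h1 ⊢
  rw [← hsum, Finset.sum_filter, inv_mul_eq_one₀ (Nat.cast_ne_zero.mpr Nat.card_pos.ne')] at h1
  rw [hC, Nat.cast_mul, mul_inv, mul_comm (Nat.card (C ⧸ Z) : ℂ)⁻¹, mul_assoc, h1]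
  rw [show (∑ a : C, if IsPRegular p a then (η : C ⧸ Z → ℂ) (a : C ⧸ Z) *
      conj ((η : C ⧸ Z → ℂ) (a : C ⧸ Z)) else 0) = ∑ g : C, regPart p
      (inflate (QuotientGroup.mk' Z) (QuotientGroup.mk'_surjective Z) η : C → ℂ) g *
      conj ((inflate (QuotientGroup.mk' Z) (QuotientGroup.mk'_surjective Z) η : C → ℂ) g) from
    Finset.sum_congr rfl fun g _ => by
      by_cases hg : IsPRegular p g
      · rw [if_pos hg, regPart_of_regular hg, hval]
      · rw [if_neg hg, regPart_of_singular hg, zero_mul]] at h1 ⊢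
  rw [inv_mul_cancel₀, mul_one]
  rw [← h1]
  exact Nat.cast_ne_zero.mpr Nat.card_pos.ne'

/-- A block has the order of a central `p`-subgroup as defect exactly if it contains a character
of defect zero of the quotient. -/
theorem blockDefect_eq_central_iff [hp : Fact p.Prime] (hM : IsPModular p M)
    (hZc : Z ≤ Subgroup.center C) (hZp : IsPGroup p Z) {e : Set (IrrCharacter C)}
    (he : IsPBlock M e) :
    blockDefect p e = (Nat.card Z).factorization p ↔
      ∃ θ ∈ e, (∀ z ∈ Z, (θ : C → ℂ) z = (θ : C → ℂ) 1) ∧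
        (charDegree (θ : C → ℂ)).factorization p + (Nat.card Z).factorization p =
          (Nat.card C).factorization p := by
  classical
  have := isPrime_of_isPModular hM
  haveI : Z.Normal := ⟨fun z hz g => by
    rwa [Subgroup.mem_center_iff.mp (hZc hz) g, mul_inv_cancel_right]⟩
  haveI := Fintype.ofFinite (C ⧸ Z)
  obtain ⟨hle, hInf, hall, -⟩ := blockDefect_le_and_degree hM he
  constructor
  · intro hd
    obtain ⟨θ, hθe, hθ⟩ := exists_mem_trivial_on_normal_pgroup hM he Z hZp
    refine ⟨θ, hθe, hθ, ?_⟩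
    obtain ⟨η, hη⟩ := exists_inflate_eq_of_ker Z θ hθ
    obtain ⟨n, hn, hn0, hdvd⟩ := Char.exists_degree_dvd_card η.2
    have hdeg : charDegree (θ : C → ℂ) = n := by
      have h1 := (irr_degree_eq θ).1
      rw [hη] at h1 ⊢
      exact_mod_cast (h1.symm.trans hn)
    have h2 : (Nat.card C).factorization p =
        (Nat.card (C ⧸ Z)).factorization p + (Nat.card Z).factorization p := by
      rw [Subgroup.card_eq_card_quotient_mul_card_subgroup Z,
        Nat.factorization_mul Nat.card_pos.ne' Nat.card_pos.ne', Finsupp.add_apply]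
    have h3 := (Nat.factorization_le_iff_dvd hn0.ne' Nat.card_pos.ne').mpr hdvd p
    have h4 := hall θ hθe
    rw [hdeg] at h4 ⊢
    omega
  · rintro ⟨θ, hθe, hθ, hdeg⟩
    have hself := classInner_regPart_of_central_defect Z hZc hZp θ hθ hdeg
    have hmin : ∀ η ∈ e, (charDegree (θ : C → ℂ)).factorization p ≤
        (charDegree (η : C → ℂ)).factorization p := by
      intro η hη
      set s := omega (θ : C → ℂ) (dualReg p (θ : C → ℂ)) with hs
      have hs' : s = (Nat.card C : ℂ) / ((Nat.card Z : ℂ) * (charDegree (θ : C → ℂ) : ℂ)) := by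
        rw [hs, omega_dualReg, hself, (irr_degree_eq θ).1]
        field_simp
      have hcls : ∀ ξ : IrrCharacter C, IsClassFunction C (dualReg p (ξ : C → ℂ)) := fun ξ =>
        isClassFunction_dualReg (irr_classFunction ξ)
      have hsu : ¬ MemLocalIdeal M s := by
        rw [hs']
        intro hmem
        set a := (Nat.card C).factorization p
        set c := Nat.card C / p ^ a with hc
        have hC : Nat.card C = p ^ a * c := (Nat.ordProj_mul_ordCompl_eq_self _ p).symm
        set b := (Nat.card Z * charDegree (θ : C → ℂ)) / p ^ a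
        have hne : Nat.card Z * charDegree (θ : C → ℂ) ≠ 0 :=
          Nat.mul_ne_zero Nat.card_pos.ne' (irr_degree_eq θ).2.ne'
        have hfac : (Nat.card Z * charDegree (θ : C → ℂ)).factorization p = a := by
          rw [Nat.factorization_mul Nat.card_pos.ne' (irr_degree_eq θ).2.ne', Finsupp.add_apply]
          omega
        have hb : Nat.card Z * charDegree (θ : C → ℂ) = p ^ a * b := by
          simp only [b, ← hfac]
          exact (Nat.ordProj_mul_ordCompl_eq_self _ p).symm
        have hbp : ¬ p ∣ b := by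
          simp only [b, ← hfac]
          exact Nat.not_dvd_ordCompl hp.out hne
        have hcp : ¬ p ∣ c := Nat.not_dvd_ordCompl hp.out Nat.card_pos.ne'
        refine hcp ((memLocalIdeal_natCast_iff hM).mp ?_)
        have h1 := memLocalIdeal_mul_right hmem (memLocalRing_natCast b)
        convert h1 using 1
        rw [← Nat.cast_mul (Nat.card Z), hb, hC]
        have : (p : ℂ) ≠ 0 := Nat.cast_ne_zero.mpr hp.out.ne_zero
        have : (b : ℂ) ≠ 0 := Nat.cast_ne_zero.mpr fun h => hbp (h ▸ dvd_zero p)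
        push_cast
        field_simp
      have hcongr : MemLocalIdeal M (omega (η : C → ℂ) (dualReg p (θ : C → ℂ)) - s) :=
        sub_mem_localIdeal_of_sameBlock (IsPBlock.sameBlock he hη hθe) (hcls θ)
          (memLocalRing_dualReg θ)
      have hunit : ¬ MemLocalIdeal M (omega (η : C → ℂ) (dualReg p (θ : C → ℂ))) :=
        fun h => hsu ((memLocalIdeal_iff_of_sub hcongr).mp h)
      have hswap : omega (η : C → ℂ) (dualReg p (θ : C → ℂ)) =
          omega (θ : C → ℂ) (dualReg p (η : C → ℂ)) * ((θ : C → ℂ) 1 / (η : C → ℂ) 1) := by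
        rw [omega_dualReg, omega_dualReg, classInner_regPart_comm]
        have := Char.irr_degree_ne_zero θ.2
        field_simp
      by_contra hlt
      push Not at hlt
      apply hunit
      rw [hswap]
      refine memLocalIdeal_mul_left (memLocalRing_omega θ (hcls η) (memLocalRing_dualReg η)) ?_
      set cn := (charDegree (η : C → ℂ)).factorization p
      obtain ⟨q, hq⟩ := (hM.1.pow_dvd_iff_le_factorization (irr_degree_eq θ).2.ne').mpr
        (Nat.succ_le_of_lt hlt)
      set u := charDegree (η : C → ℂ) / p ^ cn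
      have hu : charDegree (η : C → ℂ) = p ^ cn * u := (Nat.ordProj_mul_ordCompl_eq_self _ p).symm
      have hup : ¬ p ∣ u := Nat.not_dvd_ordCompl hM.1 (irr_degree_eq η).2.ne'
      convert memLocalIdeal_mul_right (memLocalIdeal_p hM)
        (memLocalRing_mul (memLocalRing_natCast q) (memLocalRing_natCast_inv hM hup)) using 1
      rw [(irr_degree_eq η).1, (irr_degree_eq θ).1, hu, hq]
      push_cast
      have : (p : ℂ) ≠ 0 := Nat.cast_ne_zero.mpr hp.out.ne_zero
      have : (u : ℂ) ≠ 0 := Nat.cast_ne_zero.mpr fun h => hup (h ▸ dvd_zero p)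
      field_simp
      simp only [Nat.succ_eq_add_one, pow_succ]
      ring
    have hInf' : sInf ((fun χ : IrrCharacter C => (charDegree (χ : C → ℂ)).factorization p) '' e) =
        (charDegree (θ : C → ℂ)).factorization p := by
      refine le_antisymm (Nat.sInf_le ⟨θ, hθe, rfl⟩) (le_csInf ⟨_, θ, hθe, rfl⟩ ?_)
      rintro _ ⟨η, hη, rfl⟩
      exact hmin η hη
    rw [blockDefect, hInf']
    omega

end Central

section Maximal

variable {Q : Subgroup G} {e : Set (IrrCharacter (Subgroup.centralizer (Q : Set G)))}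
  {T : Subgroup G} [Fintype T] {F : Set (IrrCharacter T)}

/-- The block of the stabilizer has defect group `Q` exactly under the local conditions. -/
theorem isDefectGroup_stab_iff [hp : Fact p.Prime] (hM : IsPModular p M) (hQ : IsPGroup p Q)
    (he : IsPBlock M e) (hQT : Q ≤ T) (hCT : Subgroup.centralizer (Q : Set G) ≤ T)
    (hTN : T ≤ Subgroup.normalizer (Q : Set G)) (hF : IsPBlock M F)
    (hFc : ∀ t : T, blockCoeff F t =
      subgroupBlockCoeff (Subgroup.centralizer (Q : Set G)) e (t : G)) :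
    IsDefectGroup p M F (Q.subgroupOf T) ↔
      blockDefect p e = (Nat.card ↥(Q ⊓ Subgroup.centralizer (Q : Set G))).factorization p ∧
        ∀ g ∈ T, (∃ k : ℕ, orderOf g = p ^ k) → g ∈ Q ⊔ Subgroup.centralizer (Q : Set G) := by
  classical
  have := isPrime_of_isPModular hM
  set C := Subgroup.centralizer (Q : Set G) with hCdef
  have hsupT : Q ⊔ C ≤ T := sup_le hQT hCT
  haveI hn : ((Q ⊔ C).subgroupOf T).Normal := by
    refine Subgroup.normal_subgroupOf_of_le_normalizer fun x hx => ?_
    refine Subgroup.mem_normalizer_iff_map_conj_eq.mpr ?_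
    rw [Subgroup.map_sup,
      Subgroup.mem_normalizer_iff_map_conj_eq.mp (hTN hx),
      Subgroup.mem_normalizer_iff_map_conj_eq.mp (mem_normalizer_centralizer (hTN hx))]
  rw [← not_dvd_relIndex_iff (hp := hp) hsupT]
  constructor
  · intro hD
    obtain ⟨h1, h2⟩ := stable_local_defect hM he hCT hTN hF hFc hD
    rw [Subgroup.subgroupOf_map_subtype, inf_eq_left.mpr hQT] at h1 h2
    rw [sup_comm] at h2
    refine ⟨?_, h2⟩
    rw [h1, Nat.factorization_pow, Finsupp.smul_apply, hp.out.factorization_self, smul_eq_mul,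
      mul_one]
  · rintro ⟨hd, hidx⟩
    obtain ⟨D, hD⟩ := exists_isDefectGroup hM hF
    haveI : (Q.subgroupOf T).Normal := Subgroup.normal_subgroupOf_of_le_normalizer hTN
    have hle := IsDefectGroup.normal_le hM hF hD (Q.subgroupOf T)
      (hQ.of_equiv (Subgroup.subgroupOfEquivOfLe hQT).symm)
    obtain ⟨h1, -⟩ := stable_local_defect hM he hCT hTN hF hFc hD
    suffices h : D ≤ Q.subgroupOf T by rwa [le_antisymm hle h]
    set E := D.map T.subtype with hE
    have hQE : Q ≤ E := fun q hq => ⟨⟨q, hQT hq⟩, hle hq, rfl⟩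
    have hQC : Q ⊓ C = E ⊓ C := by
      refine Subgroup.eq_of_le_of_card_ge (inf_le_inf_right C hQE) ?_
      obtain ⟨k, hk⟩ := IsPGroup.iff_card.mp (hQ.to_le (inf_le_left : Q ⊓ C ≤ Q))
      rw [h1, hd, hk, Nat.factorization_pow, Finsupp.smul_apply, hp.out.factorization_self,
        smul_eq_mul, mul_one]
    intro x hx
    rw [Subgroup.mem_subgroupOf]
    have hxE : (x : G) ∈ E := ⟨x, hx, rfl⟩
    have hxp : ∃ k : ℕ, orderOf (x : G) = p ^ k := by
      obtain ⟨k, hk⟩ := IsPGroup.iff_orderOf.mp (IsDefectGroup.isPGroup hM hD) ⟨x, hx⟩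
      exact ⟨k, by rw [Subgroup.orderOf_coe]; simpa [← Subgroup.orderOf_coe] using hk⟩
    have hxQC : (x : G) ∈ Q ⊔ C := (not_dvd_relIndex_iff (hp := hp) hsupT).mp hidx _ x.2 hxp
    have hQN : Q ≤ Subgroup.normalizer (C : Set G) := fun q hq =>
      mem_normalizer_centralizer (Subgroup.le_normalizer hq)
    have hxm : (x : G) ∈ (↑(Q ⊔ C) : Set G) := hxQC
    rw [Subgroup.coe_mul_of_left_le_normalizer_right Q C hQN] at hxm
    obtain ⟨q, hq, c, hc, hqc⟩ := Set.mem_mul.mp hxm
    have hcE : c ∈ E := by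
      have : c = q⁻¹ * (x : G) := by rw [← hqc, inv_mul_cancel_left]
      rw [this]
      exact mul_mem (inv_mem (hQE hq)) hxE
    have hcQ : c ∈ Q := by
      have : c ∈ Q ⊓ C := hQC ▸ ⟨hcE, hc⟩
      exact this.1
    rw [← hqc]
    exact mul_mem hq hcQ

/-- A pair is maximal exactly if the block of its stabilizer has defect group `Q`. -/
theorem exists_maximal_iff [hp : Fact p.Prime] (hM : IsPModular p M) (he : IsBrauerPair p M Q e)
    (hT : ∀ g, g ∈ T ↔ g ∈ Subgroup.normalizer (Q : Set G) ∧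
      StabilizesBlock (Subgroup.centralizer (Q : Set G)) e g)
    (hF : IsPBlock M F) (hFc : ∀ t : T, blockCoeff F t =
      subgroupBlockCoeff (Subgroup.centralizer (Q : Set G)) e (t : G)) :
    (∃ B, IsMaximalBrauerPair p M B Q e) ↔ IsDefectGroup p M F (Q.subgroupOf T) := by
  classical
  have := isPrime_of_isPModular hM
  have hTe : T = blockT Q e := Subgroup.ext fun g => (hT g).trans mem_blockT.symm
  have hCT : Subgroup.centralizer (Q : Set G) ≤ T := hTe ▸ centralizer_le_blockT
  have hQT : Q ≤ T := hTe ▸ le_blockT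
  have hTN : T ≤ Subgroup.normalizer (Q : Set G) := hTe ▸ blockT_le_normalizer
  haveI : (Q.subgroupOf T).Normal := Subgroup.normal_subgroupOf_of_le_normalizer hTN
  constructor
  · rintro ⟨B, hmax⟩
    obtain ⟨D, hD⟩ := exists_isDefectGroup hM hF
    have hle := IsDefectGroup.normal_le hM hF hD (Q.subgroupOf T)
      (he.1.of_equiv (Subgroup.subgroupOfEquivOfLe hQT).symm)
    rcases eq_or_lt_of_le hle with heq | hlt
    · exact heq ▸ hD
    exfalso
    have hDp := IsDefectGroup.isPGroup hM hD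
    obtain ⟨c, hc, hcu⟩ := (exists_support_centralizing_iff hM hF hD hDp).mpr
      ⟨1, fun q hq => by rwa [map_conj_one] at hq⟩
    have hQE : Q < D.map T.subtype := by
      have h2 := lt_of_le_of_ne (Subgroup.map_mono (f := T.subtype) hlt.le)
        fun h => hlt.ne (Subgroup.map_injective Subtype.val_injective h)
      rwa [Subgroup.subgroupOf_map_subtype, inf_eq_left.mpr hQT] at h2
    have hET : D.map T.subtype ≤ T := Subgroup.map_subtype_le D
    have hst : ∀ x ∈ D.map T.subtype,
        StabilizesBlock (Subgroup.centralizer (Q : Set G)) e x := fun x hx => ((hT x).mp (hET hx)).2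
    have hcE : (c : G) ∈ Subgroup.centralizer ((D.map T.subtype : Subgroup G) : Set G) := by
      rintro _ ⟨q, hq, rfl⟩
      exact congrArg Subtype.val (hc q hq)
    rw [hFc] at hcu
    obtain ⟨ξ, hξ⟩ := exists_res_eq_one_of_support hM (hDp.map _)
      (isStableFun_subgroupBlockCoeff hQE.le he.2 hst) (conv_subgroupBlockCoeff_self _ _) hcE hcu
    have hns := isNormalSubpair_of_res ⟨hDp.map _, isPBlock_blockOf ξ⟩ hQE.le (hET.trans hTN) he.2
      hst (mem_blockOf_self ξ) hξ
    have hsl : SubpairLE p M Q e (D.map T.subtype) _ := Relation.ReflTransGen.single hns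
    exact hQE.ne (hmax.2 _ _
      ((SubpairLE.isBrauerPairOf_iff hM hsl hmax.1.2.1).mpr hmax.1) hsl).symm
  · intro hD
    obtain ⟨B, hB, -⟩ := existsUnique_isBrauerPairOf hM he
    refine ⟨B, hB, fun R g hRg hle => ?_⟩
    have hQR := SubpairLE.le hle
    by_contra hne
    have hlt : Q.subgroupOf R < ⊤ := lt_top_iff_ne_top.mpr fun h =>
      hne (le_antisymm (Subgroup.subgroupOf_eq_top.mp h) hQR)
    haveI : Group.IsNilpotent R := hRg.1.1.isNilpotent
    obtain ⟨y, hyN, hyQ⟩ := SetLike.exists_of_lt (normalizerCondition_of_isNilpotent _ hlt)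
    have hyN' : (y : G) ∈ Subgroup.normalizer (Q : Set G) := by
      refine Subgroup.mem_normalizer_iff.mpr fun z => ?_
      have h := Subgroup.mem_normalizer_iff.mp hyN
      constructor
      · intro hz
        exact ((h ⟨z, hQR hz⟩).mp hz)
      · intro hz
        have hzR : z ∈ R := by
          have := mul_mem (mul_mem (inv_mem y.2) (hQR hz)) y.2
          simpa [mul_assoc] using this
        exact ((h ⟨z, hzR⟩).mpr hz)
    have hyT : (y : G) ∈ T := (hT _).mpr ⟨hyN', stabilizes_of_mem_normalizer hM hRg.1 hle y.2 hyN'⟩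
    obtain ⟨D', hD', hle'⟩ := exists_defectGroup_ge hM hRg.1 hle hCT hTN hF hFc
    have hQD : Q.subgroupOf T ≤ D' := fun q hq => hle' ⟨hQR hq, q.2⟩
    have hcard : Nat.card D' = Nat.card (Q.subgroupOf T) := by
      rw [IsDefectGroup.card_eq hM hF hD', IsDefectGroup.card_eq hM hF hD]
    have hy' : (⟨(y : G), hyT⟩ : T) ∈ D' := hle' ⟨y.2, hyT⟩
    rw [← Subgroup.eq_of_le_of_card_ge hQD hcard.le] at hy'
    exact hyQ hy'

end Maximal

end CfsgLib.Blocks
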