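import Cfsg.Agent.Lib.Blocks.CentralChar
import Cfsg.Agent.Lib.Blocks.LocalRing
import Mathlib.RingTheory.Valuation.LocalSubring
import Mathlib.RingTheory.Flat.TorsionFree
import Mathlib.RingTheory.LocalRing.Module
import Mathlib.FieldTheory.IsAlgClosed.Basic

/-!
# A valuation ring above `M` and integral forms of representations

The local ring at `M` is contained in a valuation subring of `ℂ` whose maximal ideal contains
`M`; over it every representation has an integral form and the residue field is algebraically
closed.
-/

set_option autoImplicit false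
set_option linter.unusedSectionVars false

namespace CfsgLib.Blocks.ValRed

open Cfsg
open scoped CfsgLib.Char

variable {M : Ideal AlgInt} [hMp : M.IsPrime]

theorem isLocalRing_locRing : IsLocalRing (locRing M) := by
  haveI : Nontrivial (locRing M) := inferInstance
  refine IsLocalRing.of_nonunits_add fun a b ha hb => ?_
  simp only [mem_nonunits_iff, isUnit_iff_not_mem_locIdeal, not_not] at ha hb ⊢
  exact (locIdeal M).add_mem ha hb

variable (M) in
/-- There is a valuation ring dominating the local ring at `M`. -/
theorem exists_valuation : ∃ V : ValuationSubring ℂ,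
    (∀ z : ℂ, MemLocalRing M z → z ∈ V) ∧
      ∀ (z : ℂ) (h : z ∈ V), MemLocalIdeal M z → (⟨z, h⟩ : V) ∈ IsLocalRing.maximalIdeal V := by
  haveI := isLocalRing_locRing (M := M)
  obtain ⟨V, hle⟩ := LocalSubring.exists_le_valuationSubring (LocalSubring.mk (locRing M))
  obtain ⟨hsub, hloc⟩ := LocalSubring.le_def.mp hle
  refine ⟨V, fun z hz => hsub hz, fun z h hz => ?_⟩
  rw [IsLocalRing.mem_maximalIdeal, mem_nonunits_iff]
  intro hu
  have h1 := hloc.map_nonunit (⟨z, memLocalRing_of_memLocalIdeal hz⟩ : locRing M) hu
  exact (isUnit_iff_not_mem_locIdeal).mp h1 hz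

/-- The residue field of a valuation subring of `ℂ` is algebraically closed. -/
instance isAlgClosed_residue (V : ValuationSubring ℂ) :
    IsAlgClosed (IsLocalRing.ResidueField V) := by
  refine IsAlgClosed.of_exists_root _ fun P hmon hirr => ?_
  obtain ⟨Q, hQ, hdeg, hQm⟩ := Polynomial.lifts_and_degree_eq_and_monic
    (f := IsLocalRing.residue V) (p := P)
    ((Polynomial.lifts_iff_coeff_lifts _).mpr fun n => IsLocalRing.residue_surjective _) hmon
  have hne : (Q.map (algebraMap V ℂ)).degree ≠ 0 := by
    rw [hQm.degree_map, hdeg]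
    exact (Polynomial.degree_pos_of_irreducible hirr).ne'
  obtain ⟨z, hz⟩ := IsAlgClosed.exists_root _ hne
  have hint : IsIntegral V z := ⟨Q, hQm, by rwa [← Polynomial.eval_map]⟩
  obtain ⟨y, rfl⟩ := (IsIntegrallyClosed.isIntegral_iff).mp hint
  refine ⟨IsLocalRing.residue V y, ?_⟩
  rw [Polynomial.IsRoot.def, Polynomial.eval_map, Polynomial.eval₂_at_apply] at hz
  have h0 : Q.eval y = 0 := IsFractionRing.injective V ℂ (hz.trans (map_zero _).symm)
  rw [← hQ, Polynomial.eval_map, Polynomial.eval₂_at_apply, h0, map_zero]

variable {V : ValuationSubring ℂ}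

/-- Vectors with independent reductions are independent. -/
theorem indep_lift {ι r : Type*} [Fintype ι] [Fintype r] (w : r → ι → V)
    (h : LinearIndependent (IsLocalRing.ResidueField V)
      fun i j => IsLocalRing.residue V (w i j)) :
    LinearIndependent ℂ fun i j => ((w i j : V) : ℂ) := by
  classical
  obtain ⟨N, hN⟩ := LinearMap.exists_leftInverse_of_injective
    (Fintype.linearCombination (IsLocalRing.ResidueField V) fun i j => IsLocalRing.residue V (w i j))
    (LinearMap.ker_eq_bot.mpr h.fintypeLinearCombination_injective)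
  choose N' hN' using fun (j : ι) (i : r) =>
    IsLocalRing.residue_surjective (R := V) (N (Pi.single j 1) i)
  let A : Matrix r r V := Matrix.of fun i k => ∑ j, w k j * N' j i
  have hA : A.map (IsLocalRing.residue V) = 1 := by
    ext i k
    have h1 := congrFun (LinearMap.congr_fun hN (Pi.single k 1)) i
    rw [LinearMap.comp_apply, LinearMap.id_apply, Fintype.linearCombination_apply_single,
      one_smul] at h1
    have e : (fun j => IsLocalRing.residue V (w k j)) =
        ∑ j, IsLocalRing.residue V (w k j) • (Pi.single j 1 : ι → IsLocalRing.ResidueField V) :=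
      pi_eq_sum_univ' _
    rw [e, map_sum, Finset.sum_apply] at h1
    simp only [Matrix.map_apply, A, Matrix.of_apply, map_sum, map_mul, hN']
    simp only [map_smul, Pi.smul_apply, smul_eq_mul] at h1
    rw [h1, Matrix.one_apply, Pi.single_apply]
  have hdet : IsUnit A.det := by
    rw [← isUnit_map_iff (IsLocalRing.residue V), RingHom.map_det]
    show IsUnit (A.map (IsLocalRing.residue V)).det
    rw [hA, Matrix.det_one]
    exact isUnit_one
  rw [Fintype.linearIndependent_iff]
  intro c hc
  have hmul : (A.map (algebraMap V ℂ)).mulVec c = 0 := by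
    funext i
    calc (A.map (algebraMap V ℂ)).mulVec c i
        = ∑ k, (∑ j, ((w k j : V) : ℂ) * ((N' j i : V) : ℂ)) * c k := by
          simp [Matrix.mulVec, dotProduct, A, map_sum]
      _ = ∑ j, ((N' j i : V) : ℂ) * (∑ k, c k * ((w k j : V) : ℂ)) := by
          simp only [Finset.sum_mul, Finset.mul_sum]
          rw [Finset.sum_comm]
          exact Finset.sum_congr rfl fun j _ => Finset.sum_congr rfl fun k _ => by ring
      _ = 0 := Finset.sum_eq_zero fun j _ => by
          have := congrFun hc j
          simp only [Finset.sum_apply, Pi.smul_apply, smul_eq_mul, Pi.zero_apply] at this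
          rw [this, mul_zero]
  have hdet' : IsUnit (A.map (algebraMap V ℂ)).det := by
    rw [← RingHom.mapMatrix_apply, ← RingHom.map_det]
    exact hdet.map _
  exact congrFun (Matrix.mulVec_injective_of_isUnit
    ((Matrix.isUnit_iff_isUnit_det _).mpr hdet')
    (hmul.trans (Matrix.mulVec_zero _).symm))

variable (V) in
/-- Every complex representation has a basis in which it is integral over `V`. -/
theorem exists_integral_basis {G : Type*} [Group G] [Finite G] {W : Type*} [AddCommGroup W]
    [Module ℂ W] [FiniteDimensional ℂ W] (ρ : Representation ℂ G W) :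
    ∃ (ι : Type) (_ : Fintype ι) (_ : DecidableEq ι) (b : Module.Basis ι ℂ W),
      ∀ g i j, LinearMap.toMatrix b b (ρ g) i j ∈ V := by
  classical
  haveI : Fintype G := Fintype.ofFinite G
  letI : Module V W := Module.compHom W (algebraMap V ℂ)
  haveI : IsScalarTower V ℂ W := IsScalarTower.of_algebraMap_smul fun _ _ => rfl
  let b₀ := Module.finBasis ℂ W
  let L : Submodule V W := Submodule.span V (Set.range fun q : G × Fin (Module.finrank ℂ W) => ρ q.1 (b₀ q.2))
  haveI : Module.Finite V L := Module.Finite.iff_fg.mpr (Submodule.fg_span (Set.finite_range _))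
  haveI : Module.IsTorsionFree V W := Module.IsTorsionFree.comap (algebraMap V ℂ)
    (fun r hr => isRegular_iff_ne_zero.mpr fun e => hr.ne_zero
      (IsFractionRing.injective V ℂ (e.trans (map_zero _).symm))) fun _ _ => rfl
  haveI : Module.Flat V L := by
    rw [Module.Flat.flat_iff_torsion_eq_bot_of_isBezout, Submodule.eq_bot_iff]
    rintro x ⟨a, ha⟩
    exact (smul_eq_zero.mp ha).resolve_left (nonZeroDivisors.coe_ne_zero a)
  haveI : Module.Free V L := Module.free_of_flat_of_isLocalRing
  let bL := Module.Free.chooseBasis V L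
  have hli : LinearIndependent ℂ fun i => ((bL i : L) : W) := by
    rw [← LinearIndependent.iff_fractionRing V ℂ]
    exact bL.linearIndependent.map' L.subtype L.ker_subtype
  have hL : ∀ x : L, (x : W) = ∑ i, bL.repr x i • ((bL i : L) : W) := fun x => by
    have := congrArg L.subtype (bL.sum_repr x)
    rw [map_sum] at this
    exact this.symm.trans (Finset.sum_congr rfl fun i _ => L.subtype.map_smul _ _)
  have hsp : (⊤ : Submodule ℂ W) ≤ Submodule.span ℂ (Set.range fun i => ((bL i : L) : W)) := by
    rw [← b₀.span_eq, Submodule.span_le]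
    rintro _ ⟨i, rfl⟩
    have hmem : b₀ i ∈ L := Submodule.subset_span ⟨((1 : G), i), by simp⟩
    show b₀ i ∈ _
    rw [show b₀ i = ((⟨b₀ i, hmem⟩ : L) : W) from rfl, hL]
    refine Submodule.sum_mem _ fun j _ => ?_
    rw [← IsScalarTower.algebraMap_smul ℂ]
    exact Submodule.smul_mem _ _ (Submodule.subset_span ⟨j, rfl⟩)
  let b' := Module.Basis.mk hli hsp
  let e := (Fintype.equivFin (Module.Free.ChooseBasisIndex V L))
  refine ⟨_, inferInstance, inferInstance, b'.reindex e, fun g i j => ?_⟩
  have hinv : ∀ x ∈ L, ρ g x ∈ L := by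
    intro x hx
    induction hx using Submodule.span_induction with
    | mem x hx =>
      obtain ⟨⟨h, k⟩, rfl⟩ := hx
      refine Submodule.subset_span ⟨(g * h, k), ?_⟩
      simp [map_mul]
    | zero => rw [map_zero]; exact L.zero_mem
    | add x y _ _ hx hy => rw [map_add]; exact L.add_mem hx hy
    | smul a x _ hx =>
      rw [← IsScalarTower.algebraMap_smul ℂ, map_smul, IsScalarTower.algebraMap_smul ℂ]
      exact L.smul_mem _ hx
  rw [LinearMap.toMatrix_apply, Module.Basis.reindex_apply, Module.Basis.repr_reindex_apply]
  set y : L := ⟨ρ g (b' (e.symm j)), hinv _ (by simp [b'])⟩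
  have hy : ρ g (b' (e.symm j)) = ∑ i, ((bL.repr y i : V) : ℂ) • b' i :=
    (hL y).trans (Finset.sum_congr rfl fun i _ => by
      rw [← IsScalarTower.algebraMap_smul ℂ]
      simp [b'])
  rw [hy, b'.repr_sum_self]
  exact (bL.repr y (e.symm i)).2

end CfsgLib.Blocks.ValRed
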