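import Cfsg.Agent.Lib.Blocks.Integrality
import Cfsg.Agent.Lib.Char.MeanValueVirtual
import Cfsg.Agent.Lib.Char.Artin
import Cfsg.Agent.Lib.Char.Counting
import Mathlib.NumberTheory.NumberField.Cyclotomic.Basic

/-!
# Divisible values of generalized characters of cyclic groups

A value at a generator which is divisible by `N` is `N` times the value of another generalized
character.  A real value lying in the prime above `2`, positive at all generators of a cyclic
`2`-group, is at least two on average there.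
-/

set_option autoImplicit false
set_option linter.unusedSectionVars false

namespace CfsgLib.Blocks.CyclicValue

open Cfsg
open scoped ComplexConjugate CfsgLib.Char

/-- An algebraic integer of a cyclotomic field is an integral polynomial in the root of unity. -/
theorem exists_aeval_cyclotomic {n : ℕ} [NeZero n] {ζ : ℂ} (hζ : IsPrimitiveRoot ζ n) {z : ℂ}
    (hz : IsIntegral ℤ z) (hK : z ∈ IntermediateField.adjoin ℚ ({ζ} : Set ℂ)) :
    ∃ f : Polynomial ℤ, Polynomial.aeval ζ f = z := by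
  set K := IntermediateField.adjoin ℚ ({ζ} : Set ℂ)
  have : IsCyclotomicExtension {n} ℚ K := by
    have := (hζ.isIntegral (NeZero.pos n)).tower_top (A := ℚ)
    change IsCyclotomicExtension {n} ℚ K.toSubalgebra
    rw [IntermediateField.adjoin_simple_toSubalgebra_of_isAlgebraic this.isAlgebraic]
    exact hζ.adjoin_isCyclotomicExtension ℚ
  let ζK : K := ⟨ζ, IntermediateField.subset_adjoin ℚ _ rfl⟩
  have hζK : IsPrimitiveRoot ζK n :=
    IsPrimitiveRoot.of_map_of_injective (f := algebraMap K ℂ) hζ (algebraMap K ℂ).injective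
  have hcl := IsCyclotomicExtension.Rat.isIntegralClosure_adjoin_singleton hζK
  have hzK : IsIntegral ℤ (⟨z, hK⟩ : K) :=
    (isIntegral_algebraMap_iff (B := ℂ) (algebraMap K ℂ).injective).mp hz
  obtain ⟨y, hy⟩ := hcl.isIntegral_iff.mp hzK
  have hy2 : (y : K) ∈ Algebra.adjoin ℤ ({ζK} : Set K) := y.2
  obtain ⟨f, hf⟩ := (SetLike.ext_iff.mp
    (Algebra.adjoin_singleton_eq_range_aeval ℤ ζK) (y : K)).mp hy2
  refine ⟨f, ?_⟩
  have h2 : Polynomial.aeval ζK f = (⟨z, hK⟩ : K) := hf.trans hy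
  rw [show ζ = algebraMap K ℂ ζK from rfl, Polynomial.aeval_algebraMap_apply, h2]
  rfl

variable {H : Type*} [Group H] [Fintype H] {x : H}

theorem comm_of_gen (hgen : ∀ v : H, v ∈ Subgroup.zpowers x) (a b : H) : a * b = b * a := by
  obtain ⟨i, rfl⟩ := Subgroup.mem_zpowers_iff.mp (hgen a)
  obtain ⟨j, rfl⟩ := Subgroup.mem_zpowers_iff.mp (hgen b)
  rw [← zpow_add, ← zpow_add, add_comm]

theorem value_mem_adjoin (hgen : ∀ v : H, v ∈ Subgroup.zpowers x) {f : H → ℂ}
    (hf : IsGeneralizedCharacter H f) {ζ : ℂ} (hζ : IsPrimitiveRoot ζ (orderOf x)) :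
    f x ∈ IntermediateField.adjoin ℚ ({ζ} : Set ℂ) := by
  choose c hc using fun ψ : IrrCharacter H =>
    Char.exists_int_classInner hf (Char.isGeneralized_of_isIrr ψ.2)
  rw [Char.classFunction_expansion (Char.isClassFunction_of_isGeneralized hf)]
  simp only [Finset.sum_apply, Pi.smul_apply, smul_eq_mul, hc]
  refine sum_mem fun ψ _ => mul_mem (intCast_mem _ _) ?_
  have h1 : (ψ : H → ℂ) x ^ orderOf x = 1 := by
    rw [← Char.linearHom_apply (Char.isCharacter_of_isIrr ψ.2)
        (Char.degree_one_of_comm (comm_of_gen hgen) ψ) x,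
      ← Units.val_pow_eq_pow_val, ← map_pow, pow_orderOf_eq_one, map_one, Units.val_one]
  have : NeZero (orderOf x) := ⟨(orderOf_pos x).ne'⟩
  obtain ⟨i, -, hi⟩ := hζ.eq_pow_of_pow_eq_one h1
  rw [← hi]
  exact pow_mem (IntermediateField.subset_adjoin ℚ _ (Set.mem_singleton ζ)) i

/-- A primitive linear character. -/
theorem exists_hom (hgen : ∀ v : H, v ∈ Subgroup.zpowers x) {ζ : ℂ}
    (hζ : IsPrimitiveRoot ζ (orderOf x)) : ∃ L : H →* ℂˣ, (L x : ℂ) = ζ := by
  have hu := hζ.isUnit (orderOf_pos x).ne'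
  refine ⟨monoidHomOfForallMemZpowers hgen (g' := hu.unit) ?_, ?_⟩
  · exact orderOf_dvd_of_pow_eq_one (Units.ext (by
      rw [Units.val_pow_eq_pow_val, IsUnit.unit_spec, hζ.pow_eq_one, Units.val_one]))
  · rw [monoidHomOfForallMemZpowers_apply_gen, IsUnit.unit_spec]

/-- An integral polynomial in a primitive linear character. -/
theorem isGeneralized_polynomial (L : H →* ℂˣ) (s : Finset ℕ) (e : ℕ → ℤ) :
    IsGeneralizedCharacter H (fun v => ∑ i ∈ s, (e i : ℂ) * (L v : ℂ) ^ i) := by
  have e1 : (fun v => ∑ i ∈ s, (e i : ℂ) * (L v : ℂ) ^ i) =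
      ∑ i ∈ s, (e i : ℂ) • fun v => ((L ^ i) v : ℂ) := by
    funext v
    simp [Finset.sum_apply]
  rw [e1]
  exact Char.isGeneralized_sum _ _ fun i _ => Char.isGeneralized_intCast_smul
    (Char.isGeneralized_of_isCharacter (Char.isCharacter_monoidHom _)) _

theorem eq_on_gens {f g : H → ℂ} (hf : IsGeneralizedCharacter H f)
    (hg : IsGeneralizedCharacter H g) (h : f x = g x) {v : H}
    (hv : Subgroup.zpowers v = Subgroup.zpowers x) : f v = g v := by
  have h0 := Char.eq_of_zpowers_eq_of_rat (Char.isGeneralized_sub hf hg) hv.symm (q := 0)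
    (by simp [h])
  simpa [sub_eq_zero] using h0

/-- A divisible value is a multiple of the value of a generalized character. -/
theorem exists_generalized_eq_mul (hgen : ∀ v : H, v ∈ Subgroup.zpowers x) {f : H → ℂ}
    (hf : IsGeneralizedCharacter H f) {N : ℕ} (hN : N ≠ 0) (hint : IsIntegral ℤ (f x / N)) :
    ∃ g : H → ℂ, IsGeneralizedCharacter H g ∧
      ∀ v, Subgroup.zpowers v = Subgroup.zpowers x → f v = (N : ℂ) * g v := by
  have : NeZero (orderOf x) := ⟨(orderOf_pos x).ne'⟩
  have hζ := Complex.isPrimitiveRoot_exp (orderOf x) (NeZero.ne _)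
  set ζ := Complex.exp (2 * Real.pi * Complex.I / (orderOf x : ℂ))
  obtain ⟨P, hP⟩ := exists_aeval_cyclotomic hζ hint
    (div_mem (value_mem_adjoin hgen hf hζ) (natCast_mem _ _))
  obtain ⟨L, hL⟩ := exists_hom hgen hζ
  have hg := isGeneralized_polynomial L (Finset.range (P.natDegree + 1)) P.coeff
  refine ⟨_, hg, fun v hv => ?_⟩
  have hNg := Char.isGeneralized_intCast_smul hg (N : ℤ)
  have h := eq_on_gens hf hNg ?_ hv
  · simpa using h
  · simp only [Pi.smul_apply, smul_eq_mul, hL, Int.cast_natCast]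
    rw [Polynomial.aeval_eq_sum_range] at hP
    simp only [zsmul_eq_mul] at hP
    rw [hP, mul_div_cancel₀ _ (Nat.cast_ne_zero.mpr hN)]

/-- Real values in the prime above two are at least two on average. -/
theorem two_mul_card_le_sum {M : Ideal AlgInt} (hM : IsPModular 2 M)
    (hgen : ∀ v : H, v ∈ Subgroup.zpowers x) {m : ℕ} (hm : orderOf x = 2 ^ m) {f : H → ℂ}
    (hf : IsGeneralizedCharacter H f) (hreal : conj (f x) = f x) (hmem : MemLocalIdeal M (f x))
    (S : Finset H) (hS : ∀ v, v ∈ S ↔ Subgroup.zpowers v = Subgroup.zpowers x)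
    (hpos : ∀ v ∈ S, 0 < (f v).re) : 2 * (S.card : ℝ) ≤ ∑ v ∈ S, (f v).re := by
  classical
  have := isPrime_of_isPModular hM
  have hxS : x ∈ S := (hS x).mpr rfl
  rcases Nat.eq_zero_or_pos m with rfl | hm0
  · have hx1 : x = 1 := orderOf_eq_one_iff.mp (by simpa using hm)
    obtain ⟨g, g', hg, hg', rfl⟩ := id hf
    obtain ⟨a, ha⟩ := Char.exists_nat_degree hg
    obtain ⟨c, hc⟩ := Char.exists_nat_degree hg'
    have hval : (g - g') x = (((a : ℤ) - c : ℤ) : ℂ) := by
      rw [hx1, Pi.sub_apply, ha, hc]; push_cast; ring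
    rw [hval, memLocalIdeal_intCast_iff hM] at hmem
    have hall : ∀ v ∈ S, (g - g') v = (((a : ℤ) - c : ℤ) : ℂ) := fun v _ => by
      obtain ⟨k, hk⟩ := Subgroup.mem_zpowers_iff.mp (hgen v)
      rw [← hk, hx1, one_zpow, ← hx1, hval]
    have hp := hpos x hxS
    rw [hall x hxS, Complex.intCast_re] at hp
    have h2 : (2 : ℤ) ≤ (a : ℤ) - c := by
      have := Int.le_of_dvd (Int.cast_pos.mp hp) hmem
      simpa using this
    rw [Finset.sum_congr rfl fun v hv => congrArg Complex.re (hall v hv), Finset.sum_const,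
      nsmul_eq_mul, Complex.intCast_re, mul_comm]
    exact mul_le_mul_of_nonneg_left (by exact_mod_cast h2) (Nat.cast_nonneg _)
  obtain ⟨r, rfl⟩ : ∃ r, m = r + 1 := ⟨m - 1, by omega⟩
  set N := 2 ^ r with hN
  have hN0 : 0 < N := Nat.two_pow_pos r
  have hord : orderOf x = 2 * N := by rw [hm, hN, pow_succ, mul_comm]
  have : NeZero (orderOf x) := ⟨(orderOf_pos x).ne'⟩
  have hζ := Complex.isPrimitiveRoot_exp (orderOf x) (NeZero.ne _)
  set ζ := Complex.exp (2 * Real.pi * Complex.I / (orderOf x : ℂ))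
  have hζN : ζ ^ N = -1 := IsPrimitiveRoot.eq_neg_one_of_two_right
    (hζ.pow (orderOf_pos x) (by rw [hord, mul_comm]))
  obtain ⟨P, hP⟩ := exists_aeval_cyclotomic hζ (Char.isIntegral_generalized hf x)
    (value_mem_adjoin hgen hf hζ)
  set q : Polynomial ℤ := Polynomial.X ^ N + 1 with hq
  have hqm : q.Monic := by simpa [hq] using Polynomial.monic_X_pow_add_C (1 : ℤ) hN0.ne'
  have hqd : q.natDegree = N := by
    simpa [hq] using Polynomial.natDegree_X_pow_add_C (n := N) (r := (1 : ℤ))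
  set R := P %ₘ q with hR
  have hRd : R.natDegree < N := by
    rw [← hqd]
    exact Polynomial.natDegree_modByMonic_lt P hqm fun h => hN0.ne' (by rw [← hqd, h, Polynomial.natDegree_one])
  set e := R.coeff
  have hfx : f x = ∑ i ∈ Finset.range N, (e i : ℂ) * ζ ^ i := by
    have h := Polynomial.modByMonic_add_div (p := P) (q := q)
    rw [← hP, ← h, map_add, map_mul, show Polynomial.aeval ζ q = 0 by simp [hq, hζN], zero_mul,
      add_zero, Polynomial.aeval_eq_sum_range' hRd]
    exact Finset.sum_congr rfl fun i _ => zsmul_eq_mul _ _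
  have hsplit : Finset.range N = insert 0 (Finset.Ico 1 N) := by
    ext i
    simp only [Finset.mem_range, Finset.mem_insert, Finset.mem_Ico]
    omega
  have h0I : (0 : ℕ) ∉ Finset.Ico 1 N := by simp
  -- the sum of the coefficients
  have hpow : ∀ i ∈ Finset.Ico 1 N, conj (ζ ^ i) = - ζ ^ (N - i) := fun i hi => by
    have h1 : ‖ζ ^ i‖ = 1 := by rw [norm_pow, hζ.norm'_eq_one (NeZero.ne _), one_pow]
    rw [← Complex.inv_eq_conj h1]
    refine inv_eq_of_mul_eq_one_right ?_
    rw [mul_neg, ← pow_add, Nat.add_sub_cancel' (Finset.mem_Ico.mp hi).2.le, hζN, neg_neg]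
  set Q : Polynomial ℤ := ∑ i ∈ Finset.Ico 1 N,
    Polynomial.C (e i) * (Polynomial.X ^ i + Polynomial.X ^ (N - i)) with hQ
  have hQz : Polynomial.aeval ζ Q = 0 := by
    have h := hreal
    rw [hfx, hsplit, Finset.sum_insert h0I, map_add, map_sum, map_mul, map_intCast, pow_zero,
      map_one, Finset.sum_congr rfl fun i hi => show conj ((e i : ℂ) * ζ ^ i) =
        -((e i : ℂ) * ζ ^ (N - i)) by rw [map_mul, map_intCast, hpow i hi, mul_neg],
      Finset.sum_neg_distrib] at h
    simp only [hQ, map_sum, map_mul, map_add, map_pow, Polynomial.aeval_X,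
      eq_intCast, map_intCast, mul_add, Finset.sum_add_distrib]
    linear_combination -h
  have hQd : Q.natDegree < N := by
    refine lt_of_le_of_lt (Polynomial.natDegree_sum_le_of_forall_le _ _ (n := N - 1) fun i hi => ?_)
      (by omega)
    have := Finset.mem_Ico.mp hi
    refine (Polynomial.natDegree_C_mul_le _ _).trans ((Polynomial.natDegree_add_le _ _).trans ?_)
    simp only [Polynomial.natDegree_X_pow, max_le_iff]
    omega
  have hQ0 : Q = 0 := by
    by_contra hne
    have hneQ : Q.map (algebraMap ℤ ℚ) ≠ 0 :=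
      (Polynomial.map_ne_zero_iff (algebraMap ℤ ℚ).injective_int).mpr hne
    have h1 := Polynomial.natDegree_le_of_dvd (minpoly.dvd ℚ ζ
      (p := Q.map (algebraMap ℤ ℚ)) (by rw [Polynomial.aeval_map_algebraMap, hQz])) hneQ
    rw [← Polynomial.cyclotomic_eq_minpoly_rat hζ (orderOf_pos x), Polynomial.natDegree_cyclotomic,
      hm, Nat.totient_prime_pow Nat.prime_two (Nat.succ_pos r),
      Polynomial.natDegree_map_eq_of_injective (algebraMap ℤ ℚ).injective_int] at h1
    simp only [Nat.succ_sub_one, mul_one] at h1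
    omega
  have hzero : ∑ i ∈ Finset.Ico 1 N, e i = 0 := by
    have h := congrArg (Polynomial.eval (1 : ℤ)) hQ0
    simp only [hQ, Polynomial.eval_finsetSum, Polynomial.eval_mul, Polynomial.eval_C,
      Polynomial.eval_add, Polynomial.eval_pow, Polynomial.eval_X, one_pow, Polynomial.eval_zero,
      ← Finset.sum_mul] at h
    omega
  -- the constant coefficient is even
  have heven : (2 : ℤ) ∣ e 0 := by
    have hz1 : MemLocalRing M ζ ∧ res M ζ = 1 := by
      have hl : MemLocalRing M ζ := memLocalRing_of_isIntegral (hζ.isIntegral (orderOf_pos x))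
      have : Fact (Nat.Prime 2) := ⟨Nat.prime_two⟩
      have := charP_resField hM
      refine ⟨hl, sub_eq_zero.mp (eq_zero_of_pow_eq_zero (n := 2 ^ (r + 1)) ?_)⟩
      rw [sub_pow_char_pow, one_pow, ← res_pow hl, ← hm, hζ.pow_eq_one, res_one, sub_self]
    refine (show ((2 : ℕ) : ℤ) ∣ e 0 ↔ (2 : ℤ) ∣ e 0 from Iff.rfl).mp
      ((memLocalIdeal_intCast_iff hM).mp ?_)
    have hterm : ∀ i ∈ Finset.range N, MemLocalIdeal M ((e i : ℂ) * ζ ^ i - (e i : ℂ)) := fun i _ => by
      rw [← mul_sub_one]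
      refine memLocalIdeal_mul_left (memLocalRing_intCast _) ?_
      refine (res_eq_iff (memLocalRing_pow hz1.1 i) memLocalRing_one).mp ?_
      rw [res_pow hz1.1, hz1.2, one_pow, res_one]
    have h := memLocalIdeal_sum _ _ hterm
    rw [Finset.sum_sub_distrib, ← hfx, hsplit, Finset.sum_insert h0I, ← Int.cast_sum, hzero,
      Int.cast_zero, add_zero] at h
    exact (memLocalIdeal_iff_of_sub h).mp hmem
  -- the average
  obtain ⟨L, hL⟩ := exists_hom hgen hζ
  have hval : ∀ v ∈ S, f v = ∑ i ∈ Finset.range N, (e i : ℂ) * (L v : ℂ) ^ i := fun v hv =>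
    eq_on_gens hf (isGeneralized_polynomial L _ e) (by rw [hfx, hL]) ((hS v).mp hv)
  have hcomm := comm_of_gen hgen
  have hSN : ∀ v, v ∈ S ↔ v ^ N ≠ 1 := fun v => by
    rw [hS]
    constructor
    · intro h h1
      have h2 : orderOf v = orderOf x := by rw [← Nat.card_zpowers, h, Nat.card_zpowers]
      have := Nat.le_of_dvd hN0 (orderOf_dvd_of_pow_eq_one h1)
      omega
    · intro h
      have : Fact (Nat.Prime 2) := ⟨Nat.prime_two⟩
      have hle : Subgroup.zpowers v ≤ Subgroup.zpowers x := fun w _ => hgen w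
      have h1 : v ^ 2 ^ (r + 1) = 1 := by
        obtain ⟨k, rfl⟩ := Subgroup.mem_zpowers_iff.mp (hgen v)
        rw [← hm, ← zpow_natCast, ← zpow_mul, mul_comm, zpow_mul, zpow_natCast, pow_orderOf_eq_one,
          one_zpow]
      exact Subgroup.eq_of_le_of_card_ge hle (by
        rw [Nat.card_zpowers, Nat.card_zpowers, orderOf_eq_prime_pow h h1, hm])
  have hvan : ∀ i ∈ Finset.Ico 1 N, ∑ v ∈ S, (L v : ℂ) ^ i = 0 := fun i hi => by
    have hne : (ζ ^ 2) ^ i ≠ 1 := by
      rw [← pow_mul]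
      have := Finset.mem_Ico.mp hi
      exact hζ.pow_ne_one_of_pos_of_lt (by omega) (by omega)
    have hx2 : (x ^ 2) ^ N = 1 := by rw [← pow_mul, ← hord, pow_orderOf_eq_one]
    have hshift : ∀ v, x ^ 2 * v ∈ S ↔ v ∈ S := fun v => by
      rw [hSN, hSN, (show Commute (x ^ 2) v from hcomm _ _).mul_pow, hx2, one_mul]
    have h : ∑ v ∈ S, (L v : ℂ) ^ i = (ζ ^ 2) ^ i * ∑ v ∈ S, (L v : ℂ) ^ i := by
      conv_lhs => rw [← Finset.sum_equiv (Equiv.mulLeft (x ^ 2))
        (t := S) (g := fun v => (L v : ℂ) ^ i) (f := fun v => (L (x ^ 2 * v) : ℂ) ^ i)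
        (fun v => (hshift v).symm) (fun v _ => rfl)]
      rw [Finset.mul_sum]
      refine Finset.sum_congr rfl fun v _ => ?_
      rw [map_mul, map_pow, Units.val_mul, Units.val_pow_eq_pow_val, hL, mul_pow]
    rcases mul_eq_zero.mp (show ((ζ ^ 2) ^ i - 1) * ∑ v ∈ S, (L v : ℂ) ^ i = 0 by
      linear_combination -h) with h' | h'
    · exact absurd (sub_eq_zero.mp h') hne
    · exact h'
  have hsum : ∑ v ∈ S, (f v).re = (S.card : ℝ) * (e 0 : ℝ) := by
    have h : ∑ v ∈ S, f v = (((S.card : ℝ) * (e 0 : ℝ) : ℝ) : ℂ) := by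
      rw [Finset.sum_congr rfl hval, Finset.sum_comm, hsplit, Finset.sum_insert h0I]
      simp only [← Finset.mul_sum]
      rw [Finset.sum_eq_zero (s := Finset.Ico 1 N) fun i hi => by rw [hvan i hi, mul_zero]]
      simp [mul_comm]
    rw [← Complex.re_sum, h, Complex.ofReal_re]
  have hS0 : (0 : ℝ) < S.card := Nat.cast_pos.mpr (Finset.card_pos.mpr ⟨x, hxS⟩)
  have hp : (0 : ℝ) < ∑ v ∈ S, (f v).re := Finset.sum_pos hpos ⟨x, hxS⟩
  rw [hsum] at hp ⊢
  have h2 : (2 : ℤ) ≤ e 0 := Int.le_of_dvd (Int.cast_pos.mp ((mul_pos_iff_of_pos_left hS0).mp hp)) heven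
  rw [mul_comm]
  exact mul_le_mul_of_nonneg_left (by exact_mod_cast h2) hS0.le

end CfsgLib.Blocks.CyclicValue
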