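import Cfsg.Agent.Lib.Blocks.MainSecond
import Cfsg.Agent.Lib.Blocks.KernelBlock

/-!
# Characters of a block on `p`-sections; the principal block
-/

set_option autoImplicit false
set_option linter.unusedSectionVars false

namespace CfsgLib.Blocks

open Cfsg
open scoped ComplexConjugate CfsgLib.Char

variable {p : ℕ} {M : Ideal AlgInt} (hM : IsPModular p M) {G : Type*} [Group G] [Fintype G]
  {x : G} (hx : ∃ k : ℕ, orderOf x = p ^ k) [Fintype (Subgroup.centralizer ({x} : Set G))]
include hM hx

/-- The value at `x y` is the sum of the parts of the blocks of the centralizer inducing the block. -/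
theorem value_eq_sum_inducing_blocks {B : Set (IrrCharacter G)} (hB : IsPBlock M B)
    {χ : IrrCharacter G} (hχ : χ ∈ B) {y : Subgroup.centralizer ({x} : Set G)} (hy : ¬ p ∣ orderOf y)
    (S : Finset (Set (IrrCharacter (Subgroup.centralizer ({x} : Set G)))))
    (hS : ∀ b, b ∈ S ↔ IsInducedBlock M (Subgroup.centralizer ({x} : Set G)) b B) :
    (χ : G → ℂ) (x * (y : G)) = ∑ b ∈ S,
      blockPart b (fun c : Subgroup.centralizer ({x} : Set G) => (χ : G → ℂ) (x * (c : G))) y := by
  classical
  have := isPrime_of_isPModular hM
  have hθ := isClassFunction_translate (x := x) (irr_classFunction χ)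
  have hsub : S ⊆ blocks M (Subgroup.centralizer ({x} : Set G)) := fun b hb =>
    mem_blocks.mpr ((hS b).mp hb).1
  refine ((sum_blockCoeff_mul (M := M)
    (fun c : Subgroup.centralizer ({x} : Set G) => (χ : G → ℂ) (x * (c : G))) y).symm.trans ?_)
  rw [← Finset.sum_subset hsub fun b hb hnb => ?_]
  · exact Finset.sum_congr rfl fun b _ => (blockPart_eq_sum b hθ y).symm
  · rw [← blockPart_eq_sum b hθ y]
    exact blockPart_eq_zero_of_not_induced hM hx hB hχ (mem_blocks.mp hb) (fun h => hnb ((hS b).mpr h)) hy

/-- The only block of a `p`-centralizer inducing the principal block is the principal one. -/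
theorem isInducedBlock_centralizer_principal_iff
    (b : Set (IrrCharacter (Subgroup.centralizer ({x} : Set G)))) :
    IsInducedBlock M (Subgroup.centralizer ({x} : Set G)) b (principalBlock M G) ↔
      b = principalBlock M (Subgroup.centralizer ({x} : Set G)) := by
  have := isPrime_of_isPModular hM
  constructor
  · exact fun h => (third_main_theorem hM ⟨_, h⟩).mp h
  · rintro rfl
    exact isInducedBlock_principal hM (inducedBlockDefined_centralizer hM hx isPBlock_principalBlock)

/-- The principal block at a section. -/
theorem value_eq_principal_blockPart {χ : IrrCharacter G} (hχ : χ ∈ principalBlock M G)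
    {y : Subgroup.centralizer ({x} : Set G)} (hy : ¬ p ∣ orderOf y) :
    (χ : G → ℂ) (x * (y : G)) = blockPart (principalBlock M (Subgroup.centralizer ({x} : Set G)))
      (fun c : Subgroup.centralizer ({x} : Set G) => (χ : G → ℂ) (x * (c : G))) y := by
  have := isPrime_of_isPModular hM
  rw [value_eq_sum_inducing_blocks hM hx isPBlock_principalBlock hχ hy
    {principalBlock M (Subgroup.centralizer ({x} : Set G))} fun b => by
      rw [Finset.mem_singleton, isInducedBlock_centralizer_principal_iff hM hx],
    Finset.sum_singleton]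

/-- Members of the principal block are constant on `x O_{p'}(C(x))`-cosets. -/
theorem value_mul_pPrimeCore {χ : IrrCharacter G} (hχ : χ ∈ principalBlock M G)
    {y v : Subgroup.centralizer ({x} : Set G)} (hy : ¬ p ∣ orderOf y) (hyv : ¬ p ∣ orderOf (y * v))
    (hv : v ∈ pPrimeCore p (Subgroup.centralizer ({x} : Set G))) :
    (χ : G → ℂ) (x * ((y * v : Subgroup.centralizer ({x} : Set G)) : G)) =
      (χ : G → ℂ) (x * (y : G)) := by
  classical
  have := isPrime_of_isPModular hM
  rw [value_eq_principal_blockPart hM hx hχ hy, value_eq_principal_blockPart hM hx hχ hyv,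
    blockPart, blockPart, sum_mem_eq_filter, sum_mem_eq_filter]
  refine Finset.sum_congr rfl fun ξ hξ => ?_
  congr 1
  have : (pPrimeCore p (Subgroup.centralizer ({x} : Set G))).Normal := SelfCent.pPrimeCore_normal' p
  have h1 := trivial_on_of_mem_principalBlock hM _
    (not_dvd_card_pPrimeCore (H := Subgroup.centralizer ({x} : Set G)) hM.1)
    (Finset.mem_filter.mp hξ).2 v hv
  obtain ⟨n, ρ, hρ, hρξ⟩ := ξ.2
  rw [← hρξ] at h1 ⊢
  rw [Representation.char_one] at h1
  have hv1 : ρ v = 1 := (Char.character_eq_finrank_iff ρ v).mp h1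
  show LinearMap.trace ℂ _ (ρ (y * v)) = LinearMap.trace ℂ _ (ρ y)
  rw [map_mul, hv1, mul_one]

end CfsgLib.Blocks
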