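import Cfsg.Agent.Lib.Blocks.HeightCount

/-!
# Inner products of weighted sums of parts, as sums over the defect group

When every map of the fusion system of the block is induced by the defect group `P`, the pairs
`(v, b)` of the block correspond to the classes of `P`, and a sum over the sections of `G` of a
conjugation invariant function of the pairs is a sum over the elements of `P`.
-/

set_option autoImplicit false
set_option linter.unusedSectionVars false

namespace CfsgLib.Blocks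

open Cfsg
open CfsgLib.GrpRing
open scoped ComplexConjugate CfsgLib.Char

variable {p : ℕ} {M : Ideal AlgInt} [M.IsPrime] {G : Type*} [Group G] [Fintype G] {P : Subgroup G}
  {e : Set (IrrCharacter (Subgroup.centralizer (P : Set G)))} {B : Set (IrrCharacter G)}

variable (p M P e) in
/-- Every map between pairs below `(P, e)` is conjugation by an element of `P`. -/
def HasInnerMaps : Prop :=
  ∀ (g : G) (Q : Subgroup G), Carries p M P e g Q → ∃ a ∈ P, ∀ y ∈ Q, g * y * g⁻¹ = a * y * a⁻¹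

variable (p M e) in
/-- The value of `f` at a conjugate of `u` below the maximal pair. -/
noncomputable def pairVal (f : G → ℂ) (u : G) (a : BrauerPairIdx G) : ℂ :=
  open Classical in
    if h : ∃ x : G, PairLE p M (conjPair x a) ⟨P, e⟩ then f (h.choose * u * h.choose⁻¹) else 0

theorem starW_eq_pairVal (lam : ↥P →* ℂˣ) : starW p M e lam = pairVal p M e (lamExt lam) := rfl

theorem pairVal_of_none (f : G → ℂ) (u : G) {a : BrauerPairIdx G}
    (h : ¬ ∃ x : G, PairLE p M (conjPair x a) ⟨P, e⟩) : pairVal p M e f u a = 0 := by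
  rw [pairVal, dif_neg h]

theorem pairVal_of_le (hinn : HasInnerMaps p M P e) {f : G → ℂ}
    (hf : ∀ a ∈ P, ∀ y, f (a * y * a⁻¹) = f y) {u x : G} {a : BrauerPairIdx G} (hu : u ∈ a.1)
    (hx : PairLE p M (conjPair x a) ⟨P, e⟩) : pairVal p M e f u a = f (x * u * x⁻¹) := by
  have h : ∃ y : G, PairLE p M (conjPair y a) ⟨P, e⟩ := ⟨x, hx⟩
  rw [pairVal, dif_pos h]
  have hc : Carries p M P e (h.choose * x⁻¹) (conjPair x a).1 :=
    ⟨(conjPair x a).2, hx, by
      show PairLE p M (conjPair (h.choose * x⁻¹) (conjPair x a)) _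
      rw [conjPair_conjPair, inv_mul_cancel_right]
      exact h.choose_spec⟩
  obtain ⟨c, hc', hcy⟩ := hinn _ _ hc
  have h1 := hcy (x * u * x⁻¹) ⟨u, hu, rfl⟩
  rw [← hf c hc' (x * u * x⁻¹), ← h1]
  congr 1
  group

theorem isPairWeight_pairVal (hM : IsPModular p M) (hmax : IsMaximalBrauerPair p M B P e)
    (hinn : HasInnerMaps p M P e) {f : G → ℂ} (hf : ∀ a ∈ P, ∀ y, f (a * y * a⁻¹) = f y)
    (hgen : IsGeneralizedCharacter ↥P (fun y : ↥P => f y)) :
    IsPairWeight p M (pairVal p M e f) := by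
  refine ⟨fun x u a hu => ?_, fun Q g hQg => ?_⟩
  · by_cases h : ∃ y : G, PairLE p M (conjPair y a) ⟨P, e⟩
    · obtain ⟨y, hy⟩ := h
      have hy' : PairLE p M (conjPair (y * x⁻¹) (conjPair x a)) ⟨P, e⟩ := by
        rwa [conjPair_conjPair, inv_mul_cancel_right]
      rw [pairVal_of_le hinn hf hu hy, pairVal_of_le hinn hf
        (show x * u * x⁻¹ ∈ (conjPair x a).1 from ⟨u, hu, rfl⟩) hy']
      congr 1
      group
    · rw [pairVal_of_none f u h, pairVal_of_none]
      rintro ⟨y, hy⟩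
      exact h ⟨y * x, by rwa [← conjPair_conjPair]⟩
  · by_cases h : ∃ x : G, PairLE p M (conjPair x ⟨Q, g⟩) ⟨P, e⟩
    · obtain ⟨x, hx⟩ := h
      right
      have hQP : ∀ u : Q, x * (u : G) * x⁻¹ ∈ P := fun u => PairLE.fst_le hx ⟨u, u.2, rfl⟩
      refine ⟨fun u => f (x * (u : G) * x⁻¹), Char.isGeneralized_comp
        (((MulAut.conj x).toMonoidHom.comp Q.subtype).codRestrict P fun u => hQP u) hgen,
        fun u c hc => ?_⟩
      exact pairVal_of_le hinn hf (Subgroup.mem_zpowers (u : G))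
        ((subpairLE_conjPair x hc).trans hx)
    · left
      intro u hu c hc
      refine pairVal_of_none f u fun hg => h ?_
      exact (exists_conj_le_top_iff hM hmax).mpr ((SubpairLE.isBrauerPairOf_iff hM hc
        hmax.1.2.1).mpr ((exists_conj_le_top_iff hM hmax).mp hg))

variable (p M P e) in
/-- The pair below `(P, e)` on the cyclic subgroup of an element of `P`. -/
noncomputable def topPair (u : G) : BrauerPairIdx G :=
  open Classical in
    if h : ∃ f, PairLE p M ⟨Subgroup.zpowers u, f⟩ ⟨P, e⟩ then ⟨Subgroup.zpowers u, h.choose⟩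
    else ⟨Subgroup.zpowers u, ∅⟩

theorem topPair_fst (u : G) : (topPair p M P e u).1 = Subgroup.zpowers u := by
  unfold topPair
  split_ifs <;> rfl

theorem topPair_le (hM : IsPModular p M) (hPe : IsBrauerPair p M P e) {u : G} (hu : u ∈ P) :
    PairLE p M (topPair p M P e u) ⟨P, e⟩ := by
  have h := exists_le_top hM hPe (Subgroup.zpowers_le.mpr hu)
  rw [topPair, dif_pos h]
  exact h.choose_spec

theorem mem_topPair (u : G) : u ∈ (topPair p M P e u).1 :=
  (topPair_fst (p := p) (M := M) (e := e) u).symm ▸ Subgroup.mem_zpowers u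

theorem map_zpowers_conj (x u : G) :
    (Subgroup.zpowers u).map (MulAut.conj x).toMonoidHom = Subgroup.zpowers (x * u * x⁻¹) := by
  rw [MonoidHom.map_zpowers]
  simp

theorem eq_topPair (hM : IsPModular p M) (hPe : IsBrauerPair p M P e) {u : G} {a : BrauerPairIdx G}
    (hu : u ∈ P) (ha : a.1 = Subgroup.zpowers u) (hle : PairLE p M a ⟨P, e⟩) :
    a = topPair p M P e u :=
  pair_eq_of_le_top hM hPe hle (topPair_le hM hPe hu) (ha.trans (topPair_fst u).symm)

theorem pairVal_topPair (hM : IsPModular p M) (hPe : IsBrauerPair p M P e)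
    (hinn : HasInnerMaps p M P e) {f : G → ℂ} (hf : ∀ a ∈ P, ∀ y, f (a * y * a⁻¹) = f y) {u : G}
    (hu : u ∈ P) : pairVal p M e f u (topPair p M P e u) = f u := by
  rw [pairVal_of_le hinn hf (mem_topPair u) (x := 1)
    (by rw [conjPair_one]; exact topPair_le hM hPe hu)]
  simp

/-! ### Sums over regular elements of the centralizer of a pair -/

variable (p M) in
/-- The product of the parts of `χ` and `ψ` at the section of `v` in the pair `a`, summed. -/
noncomputable def pairSum (χ ψ : G → ℂ) (v : G) (a : BrauerPairIdx G) : ℂ :=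
  open Classical in ∑ r : G, if IsPRegular p r ∧ r ∈ Subgroup.centralizer (a.1 : Set G) then
    blkTrace χ (v * r) (blkK M (Subgroup.centralizer (a.1 : Set G)) a.2) *
      conj (blkTrace ψ (v * r) (blkK M (Subgroup.centralizer (a.1 : Set G)) a.2)) else 0

theorem pairSum_conj {χ ψ : G → ℂ} (hχ : IsClassFunction G χ) (hψ : IsClassFunction G ψ) {v : G}
    {a : BrauerPairIdx G} (hv : v ∈ a.1) (ha : IsPBlock M a.2) (x : G) :
    pairSum p M χ ψ (x * v * x⁻¹) (conjPair x a) = pairSum p M χ ψ v a := by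
  classical
  obtain ⟨Q, b⟩ := a
  refine (Fintype.sum_equiv (MulAut.conj x).toEquiv _ _ fun r => ?_).symm
  have hC := centralizer_map_conj_iff Q x r
  show _ = if IsPRegular p (x * r * x⁻¹) ∧ x * r * x⁻¹ ∈
      Subgroup.centralizer ((Q.map (MulAut.conj x).toMonoidHom : Subgroup G) : Set G) then _ else 0
  have hreg : IsPRegular p (x * r * x⁻¹) ↔ IsPRegular p r := by
    rw [IsPRegular, IsPRegular, show orderOf (x * r * x⁻¹) = orderOf r from
      (MulAut.conj x).orderOf_eq r]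
  simp only [hreg, hC]
  split_ifs with h
  · have hid := isIdempotentElem_blkK ha
    have hfix : blkK M (Subgroup.centralizer (Q : Set G)) b ∈ fixAlg (ResField M) {v * r} :=
      fixAlg_pair_le_mul (mem_fixAlg.mpr (by
        rintro s (rfl | rfl)
        · exact mem_fixAlg.mp (blkK_mem_fixAlg_self Q b) _ hv
        · exact mem_fixAlg.mp (blkK_mem_fixAlg _ b) _ h.2))
    have hk := conjAlg_blkK (M := M) (centralizer_map_conj_iff Q x) b
    show _ = blkTrace χ (x * v * x⁻¹ * (x * r * x⁻¹)) (blkK M _ (conjBlock Q x b)) *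
      conj (blkTrace ψ (x * v * x⁻¹ * (x * r * x⁻¹)) (blkK M _ (conjBlock Q x b)))
    rw [show x * v * x⁻¹ * (x * r * x⁻¹) = x * (v * r) * x⁻¹ by group,
      ← blkTrace_conjAlg hχ x hid hfix, ← blkTrace_conjAlg hψ x hid hfix, hk]
    rfl
  · rfl

open Classical in
theorem pairSum_eq {χ ψ : G → ℂ} (hχ : IsClassFunction G χ) (hψ : IsClassFunction G ψ) (v : G)
    {b : Set (IrrCharacter (cz v))} (hb : IsPBlock M b) :
    pairSum p M χ ψ v ⟨Subgroup.zpowers v, b⟩ = ∑ s : cz v with IsPRegular p s,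
      blockPart b (sect χ v) s * conj (blockPart b (sect ψ v) s) := by
  rw [Finset.sum_filter]
  refine (Fintype.sum_of_injective Subtype.val Subtype.val_injective _ _ (fun r hr => ?_)
    fun s => ?_).symm
  · exact if_neg fun h => hr ⟨⟨r, h.2⟩, rfl⟩
  · have hreg : IsPRegular p s ↔ IsPRegular p (s : G) := by
      rw [IsPRegular, IsPRegular, Subgroup.orderOf_coe]
    rw [blkTrace_blkK hχ s.2 (mem_centralizer_zpowers (Commute.refl v)) hb,
      blkTrace_blkK hψ s.2 (mem_centralizer_zpowers (Commute.refl v)) hb]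
    by_cases hs : IsPRegular p s
    · rw [if_pos hs, if_pos ⟨hreg.mp hs, s.2⟩]
    · rw [if_neg hs, if_neg fun h => hs (hreg.mpr h.1)]

open Classical in
/-- The inner product of two weighted sums of parts. -/
theorem classInner_starChar (hM : IsPModular p M) {χ ψ : G → ℂ} (hχ : IsClassFunction G χ)
    (hψ : IsClassFunction G ψ) (w w' : G → BrauerPairIdx G → ℂ) :
    classInner (starChar p M χ w) (starChar p M ψ w') = (Nat.card G : ℂ)⁻¹ *
      ∑ v : G with ∃ k : ℕ, orderOf v = p ^ k, ∑ b ∈ subBlocks M (cz v),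
        w v ⟨Subgroup.zpowers v, b⟩ * conj (w' v ⟨Subgroup.zpowers v, b⟩) *
          pairSum p M χ ψ v ⟨Subgroup.zpowers v, b⟩ := by
  rw [classInner, sum_sections hM.1]
  congr 1
  refine Finset.sum_congr rfl fun v hv => ?_
  have hv' := (Finset.mem_filter.mp hv).2
  rw [Finset.sum_congr rfl fun s hs => by
    rw [starChar_section hM.1 hχ w hv' (Finset.mem_filter.mp hs).2,
      starChar_section hM.1 hψ w' hv' (Finset.mem_filter.mp hs).2]]
  simp only [map_sum, map_mul, Finset.sum_mul, Finset.mul_sum]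
  rw [Finset.sum_comm]
  refine Finset.sum_congr rfl fun b hb => ?_
  rw [Finset.sum_comm, Finset.sum_eq_single b]
  · rw [pairSum_eq hχ hψ v (mem_subBlocks.mp hb), Finset.mul_sum]
    exact Finset.sum_congr rfl fun s _ => by ring
  · intro b' hb' hne
    rw [Finset.sum_congr rfl (g := fun s =>
      w v ⟨Subgroup.zpowers v, b'⟩ * conj (w' v ⟨Subgroup.zpowers v, b⟩) *
        (blockPart b' (sect χ v) s * conj (blockPart b (sect ψ v) s)))
      (fun s _ => by ring), ← Finset.mul_sum,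
      sum_regular_blockPart_orth hM (mem_subBlocks.mp hb') (mem_subBlocks.mp hb) hne, mul_zero]
  · exact fun h => absurd hb h

/-! ### Counting pairs -/

theorem mem_cz_iff {u t : G} : t ∈ cz u ↔ t * u = u * t := by
  rw [cz_eq, Subgroup.mem_centralizer_singleton_iff]

variable (P) in
/-- `|C_P(u)| / |C_G(u)|`. -/
noncomputable def centRatio (u : G) : ℂ :=
  (Nat.card ↥(P ⊓ cz u) : ℂ) / (Nat.card (cz u) : ℂ)

theorem conj_mem_cz_iff {u t a : G} : a⁻¹ * t * a ∈ cz (a⁻¹ * u * a) ↔ t ∈ cz u := by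
  simp only [mem_cz_iff, mul_assoc, mul_inv_cancel_left, mul_right_inj]
  rw [← mul_assoc t, ← mul_assoc u, mul_left_inj]

theorem centRatio_conj {a : G} (ha : a ∈ P) (u : G) : centRatio P (a⁻¹ * u * a) = centRatio P u := by
  have e1 : Nat.card (cz u) = Nat.card (cz (a⁻¹ * u * a)) :=
    Nat.card_congr ((MulAut.conj a⁻¹).toEquiv.subtypeEquiv fun t => by
      show t ∈ cz u ↔ a⁻¹ * t * a⁻¹⁻¹ ∈ _
      rw [inv_inv, conj_mem_cz_iff])
  have e2 : Nat.card ↥(P ⊓ cz u) = Nat.card ↥(P ⊓ cz (a⁻¹ * u * a)) :=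
    Nat.card_congr ((MulAut.conj a⁻¹).toEquiv.subtypeEquiv fun t => by
      show t ∈ P ⊓ cz u ↔ a⁻¹ * t * a⁻¹⁻¹ ∈ P ⊓ _
      rw [inv_inv, Subgroup.mem_inf, Subgroup.mem_inf, conj_mem_cz_iff,
        Subgroup.mul_mem_cancel_right _ ha, Subgroup.mul_mem_cancel_left _ (inv_mem ha)])
  rw [centRatio, centRatio, e1, e2]

open Classical in
theorem sum_pairs_eq (hM : IsPModular p M) (hmax : IsMaximalBrauerPair p M B P e)
    (hinn : HasInnerMaps p M P e) (Φ : G → BrauerPairIdx G → ℂ)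
    (hconj : ∀ (x v : G) (a : BrauerPairIdx G), v ∈ a.1 → IsPBlock M a.2 →
      Φ (x * v * x⁻¹) (conjPair x a) = Φ v a)
    (hnone : ∀ (v : G) (b : Set (IrrCharacter (cz v))), (∃ k : ℕ, orderOf v = p ^ k) →
      IsPBlock M b → ¬ IsBrauerPairOf p M B (Subgroup.zpowers v) b →
        Φ v ⟨Subgroup.zpowers v, b⟩ = 0) :
    (Nat.card P : ℂ) * ∑ v : G with ∃ k : ℕ, orderOf v = p ^ k,
        ∑ b ∈ subBlocks M (cz v), Φ v ⟨Subgroup.zpowers v, b⟩ =
      (Nat.card G : ℂ) * ∑ u : ↥P, centRatio P (u : G) * Φ (u : G) (topPair p M P e (u : G)) := by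
  have hPe := hmax.1.1
  let g : G × ↥P → G × BrauerPairIdx G := fun i =>
    (i.1 * (i.2 : G) * i.1⁻¹, conjPair i.1 (topPair p M P e (i.2 : G)))
  have hblock : ∀ u : ↥P, IsPBlock M (topPair p M P e (u : G)).2 := fun u =>
    (SubpairLE.isBrauerPair (topPair_le hM hPe u.2) hPe).2
  have hpair : ∀ u : ↥P, IsBrauerPairOf p M B (topPair p M P e (u : G)).1
      (topPair p M P e (u : G)).2 := fun u =>
    (exists_conj_le_top_iff hM hmax).mp ⟨1, by rw [conjPair_one]; exact topPair_le hM hPe u.2⟩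
  -- the pairs are the images of the elements of `P`
  have hT : ∑ v : G with ∃ k : ℕ, orderOf v = p ^ k,
      ∑ b ∈ subBlocks M (cz v), Φ v ⟨Subgroup.zpowers v, b⟩ =
        ∑ c ∈ Finset.univ.image g, Φ c.1 c.2 := by
    rw [Finset.sum_sigma', ← Finset.sum_filter_of_ne (p := fun σ : (v : G) ×
      Set (IrrCharacter (cz v)) => IsBrauerPairOf p M B (Subgroup.zpowers σ.1) σ.2) fun σ hσ h => by
        by_contra hn
        obtain ⟨h1, h2⟩ := Finset.mem_sigma.mp hσ
        exact h (hnone _ _ (Finset.mem_filter.mp h1).2 (mem_subBlocks.mp h2) hn)]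
    refine Finset.sum_bij (fun σ _ => (σ.1, (⟨Subgroup.zpowers σ.1, σ.2⟩ : BrauerPairIdx G)))
      ?_ ?_ ?_ (fun _ _ => rfl)
    · rintro ⟨v, b⟩ hσ
      obtain ⟨-, hp'⟩ := Finset.mem_filter.mp hσ
      obtain ⟨x, hx⟩ := (exists_conj_le_top_iff hM hmax (a := ⟨Subgroup.zpowers v, b⟩)).mpr hp'
      have hxv : x * v * x⁻¹ ∈ P := PairLE.fst_le hx ⟨v, Subgroup.mem_zpowers v, rfl⟩
      refine Finset.mem_image.mpr ⟨(x⁻¹, ⟨x * v * x⁻¹, hxv⟩), Finset.mem_univ _, ?_⟩
      refine Prod.ext ?_ ?_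
      · simp [g, mul_assoc]
      · show conjPair x⁻¹ (topPair p M P e (x * v * x⁻¹)) = _
        rw [← eq_topPair hM hPe hxv (map_zpowers_conj x v) hx, conjPair_conjPair, inv_mul_cancel,
          conjPair_one]
    · rintro ⟨v, b⟩ _ ⟨v', b'⟩ _ h
      obtain ⟨rfl, h2⟩ := Prod.mk.inj h
      obtain rfl := eq_of_heq (Sigma.mk.inj h2).2
      rfl
    · rintro c hc
      obtain ⟨⟨x, u⟩, -, rfl⟩ := Finset.mem_image.mp hc
      obtain ⟨b, hb⟩ : ∃ b : Set (IrrCharacter (cz (x * (u : G) * x⁻¹))),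
          conjPair x (topPair p M P e (u : G)) =
            (⟨Subgroup.zpowers (x * (u : G) * x⁻¹), b⟩ : BrauerPairIdx G) := by
        have h1 : (conjPair x (topPair p M P e (u : G))).1 =
            Subgroup.zpowers (x * (u : G) * x⁻¹) := by
          show (topPair p M P e (u : G)).1.map _ = _
          rw [topPair_fst, map_zpowers_conj]
        have key : ∀ (a : BrauerPairIdx G) (Q : Subgroup G), a.1 = Q → ∃ b, a = ⟨Q, b⟩ := by
          rintro ⟨R, f⟩ Q rfl
          exact ⟨f, rfl⟩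
        exact key _ _ h1
      have hp' := isBrauerPairOf_conjPair x (hpair u)
      rw [hb] at hp'
      refine ⟨⟨x * (u : G) * x⁻¹, b⟩, ?_, Prod.ext rfl hb.symm⟩
      refine Finset.mem_filter.mpr ⟨Finset.mem_sigma.mpr ⟨Finset.mem_filter.mpr
        ⟨Finset.mem_univ _, ?_⟩, mem_subBlocks.mpr hp'.1.2⟩, hp'⟩
      obtain ⟨k, hk⟩ := exists_pow_orderOf_mem hM hPe.1 u
      exact ⟨k, by rw [← hk]; exact (MulAut.conj x).orderOf_eq (u : G)⟩
  rw [hT, Finset.mul_sum, Finset.sum_image' (fun i : G × ↥P =>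
    centRatio P (i.2 : G) * Φ (i.2 : G) (topPair p M P e (i.2 : G))) fun i _ => ?_]
  · rw [Fintype.sum_prod_type]
    dsimp only
    rw [Finset.sum_const, Finset.card_univ, nsmul_eq_mul,
      Nat.card_eq_fintype_card]
  -- one fibre
  obtain ⟨x₀, u₀⟩ := i
  let ψ : cz (u₀ : G) × ↥P → G × ↥P := fun t =>
    (x₀ * (t.1 : G) * (t.2 : G), t.2⁻¹ * u₀ * t.2)
  have hfib : Finset.univ.filter (fun j => g j = g (x₀, u₀)) = Finset.univ.image ψ := by
    ext ⟨x, u⟩
    simp only [Finset.mem_filter, Finset.mem_univ, true_and, Finset.mem_image]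
    constructor
    · intro h
      obtain ⟨h1, h2⟩ := Prod.mk.inj h
      have h2' : conjPair (x⁻¹ * x₀) (topPair p M P e (u₀ : G)) = topPair p M P e (u : G) := by
        rw [← conjPair_conjPair, ← h2, conjPair_conjPair, inv_mul_cancel, conjPair_one]
      have hc : Carries p M P e (x⁻¹ * x₀) (topPair p M P e (u₀ : G)).1 :=
        ⟨(topPair p M P e (u₀ : G)).2, topPair_le hM hPe u₀.2, by
          show PairLE p M (conjPair (x⁻¹ * x₀) (topPair p M P e (u₀ : G))) _
          rw [h2']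
          exact topPair_le hM hPe u.2⟩
      obtain ⟨a, ha, hay⟩ := hinn _ _ hc
      have h3 : x⁻¹ * x₀ * (u₀ : G) * (x⁻¹ * x₀)⁻¹ = (u : G) := by
        calc x⁻¹ * x₀ * (u₀ : G) * (x⁻¹ * x₀)⁻¹ = x⁻¹ * (x₀ * u₀ * x₀⁻¹) * x := by group
          _ = _ := by rw [← h1]; group
      have h4 := hay _ (mem_topPair (u₀ : G))
      rw [h3] at h4
      have hmem : x₀⁻¹ * x * a ∈ cz (u₀ : G) := by
        rw [mem_cz_iff]
        calc x₀⁻¹ * x * a * (u₀ : G) = x₀⁻¹ * x * (a * u₀ * a⁻¹) * a := by group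
          _ = x₀⁻¹ * x * (x⁻¹ * x₀ * (u₀ : G) * (x⁻¹ * x₀)⁻¹) * a := by rw [← h4, h3]
          _ = _ := by group
      refine ⟨(⟨_, hmem⟩, ⟨a, ha⟩⁻¹), Prod.ext ?_ (Subtype.ext ?_)⟩
      · show x₀ * (x₀⁻¹ * x * a) * a⁻¹ = x
        group
      · show a⁻¹⁻¹ * (u₀ : G) * a⁻¹ = u
        rw [inv_inv, h4]
    · rintro ⟨⟨c, a⟩, h⟩
      obtain ⟨rfl, rfl⟩ := Prod.mk.inj h
      have hc := mem_cz_iff.mp c.2
      refine Prod.ext ?_ ?_
      · show x₀ * (c : G) * (a : G) * ((a : G)⁻¹ * u₀ * a) * (x₀ * (c : G) * (a : G))⁻¹ = _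
        rw [show x₀ * (c : G) * (a : G) * ((a : G)⁻¹ * u₀ * a) * (x₀ * (c : G) * (a : G))⁻¹ =
          x₀ * ((c : G) * u₀ * (c : G)⁻¹) * x₀⁻¹ by group, hc, mul_inv_cancel_right]
      · show conjPair (x₀ * (c : G) * (a : G)) (topPair p M P e ((a : G)⁻¹ * u₀ * a)) =
          conjPair x₀ (topPair p M P e (u₀ : G))
        have h1 : conjPair (a : G)⁻¹ (topPair p M P e (u₀ : G)) =
            topPair p M P e ((a : G)⁻¹ * u₀ * a) := by
          refine eq_topPair hM hPe (mul_mem (mul_mem (inv_mem a.2) u₀.2) a.2) ?_ ?_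
          · show (topPair p M P e (u₀ : G)).1.map _ = _
            rw [topPair_fst, map_zpowers_conj, inv_inv]
          · have := subpairLE_conjPair (a : G)⁻¹ (topPair_le hM hPe u₀.2)
            rwa [conjPair_top (inv_mem a.2)] at this
        have hfix : conjPair (c : G) (topPair p M P e (u₀ : G)) = topPair p M P e (u₀ : G) := by
          have key : ∀ A : BrauerPairIdx G, (c : G) ∈ Subgroup.centralizer (A.1 : Set G) →
              conjPair (c : G) A = A := by
            rintro ⟨Q, f⟩ hcQ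
            rw [conjPair_of_mem_normalizer (Subgroup.centralizer_le_normalizer _ hcQ),
              conjSet_of_mem hcQ]
          exact key _ (by rw [topPair_fst]; exact c.2)
        rw [← h1, conjPair_conjPair, mul_inv_cancel_right, ← conjPair_conjPair, hfix]
  have hfibcard : (Finset.univ.image ψ).card * Nat.card ↥(P ⊓ cz (u₀ : G)) =
      Nat.card (cz (u₀ : G)) * Nat.card P := by
    rw [← Nat.card_prod, Nat.card_eq_fintype_card (α := cz (u₀ : G) × ↥P), ← Finset.card_univ,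
      Finset.card_eq_sum_card_image ψ Finset.univ, Finset.sum_const_nat]
    intro j hj
    obtain ⟨⟨c, a⟩, -, rfl⟩ := Finset.mem_image.mp hj
    rw [Nat.card_eq_fintype_card, ← Finset.card_univ]
    symm
    refine Finset.card_bij
      (fun t _ => ((⟨(c : G) * (t : G), mul_mem c.2 t.2.2⟩ : cz (u₀ : G)),
        (⟨(t : G), t.2.1⟩ : ↥P)⁻¹ * a)) ?_ ?_ ?_
    · intro t _
      have ht : (t : G) * (u₀ : G) = u₀ * t := mem_cz_iff.mp t.2.2
      refine Finset.mem_filter.mpr ⟨Finset.mem_univ _, Prod.ext ?_ (Subtype.ext ?_)⟩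
      · show x₀ * ((c : G) * t) * ((t : G)⁻¹ * a) = x₀ * (c : G) * a
        group
      · show ((t : G)⁻¹ * a)⁻¹ * (u₀ : G) * ((t : G)⁻¹ * a) = (a : G)⁻¹ * u₀ * a
        rw [mul_inv_rev, inv_inv]
        calc (a : G)⁻¹ * t * u₀ * ((t : G)⁻¹ * a) = (a : G)⁻¹ * ((t : G) * u₀) * (t : G)⁻¹ * a := by
              group
          _ = _ := by rw [ht]; group
    · intro t _ t' _ h
      exact Subtype.ext (mul_left_cancel (congrArg (fun z => ((z.1 : cz (u₀ : G)) : G)) h :))
    · rintro ⟨c', a'⟩ hb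
      obtain ⟨h1, h2⟩ := Prod.mk.inj (Finset.mem_filter.mp hb).2
      have h2' : (a' : G)⁻¹ * u₀ * a' = (a : G)⁻¹ * u₀ * a := congrArg Subtype.val h2
      have h1' : (c' : G) * a' = c * a := mul_left_cancel (a := x₀) (by
        rw [← mul_assoc, ← mul_assoc]; exact h1)
      refine ⟨⟨(a : G) * (a' : G)⁻¹, P.mul_mem a.2 (P.inv_mem a'.2), mem_cz_iff.mpr ?_⟩,
        Finset.mem_univ _, Prod.ext (Subtype.ext ?_) (Subtype.ext ?_)⟩
      · calc (a : G) * (a' : G)⁻¹ * u₀ = (a : G) * ((a' : G)⁻¹ * u₀ * a') * (a' : G)⁻¹ := by group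
          _ = _ := by rw [h2']; group
      · show (c : G) * ((a : G) * (a' : G)⁻¹) = c'
        rw [← mul_assoc, ← h1', mul_inv_cancel_right]
      · show ((a : G) * (a' : G)⁻¹)⁻¹ * a = a'
        group
  have hconst : ∀ j ∈ Finset.univ.image ψ,
      centRatio P (j.2 : G) * Φ (j.2 : G) (topPair p M P e (j.2 : G)) =
        centRatio P (u₀ : G) * Φ (g (x₀, u₀)).1 (g (x₀, u₀)).2 := by
    intro j hj
    have hj' : g j = g (x₀, u₀) := by
      have hj₂ := hj
      rw [← hfib] at hj₂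
      exact (Finset.mem_filter.mp hj₂).2
    obtain ⟨⟨c, a⟩, -, rfl⟩ := Finset.mem_image.mp hj
    rw [← hconj (ψ (c, a)).1 _ _ (mem_topPair _) (hblock _)]
    rw [show ((ψ (c, a)).2 : G) = (a : G)⁻¹ * u₀ * a from rfl, centRatio_conj a.2, ← hj']
    rfl
  rw [hfib, Finset.sum_congr rfl hconst, Finset.sum_const, nsmul_eq_mul]
  have hne : ((Nat.card (cz (u₀ : G)) : ℕ) : ℂ) ≠ 0 := Nat.cast_ne_zero.mpr Nat.card_pos.ne'
  have hcast := congrArg (fun n : ℕ => (n : ℂ)) hfibcard
  push_cast at hcast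
  rw [centRatio]
  field_simp
  linear_combination -(Φ (g (x₀, u₀)).1 (g (x₀, u₀)).2) * hcast

end CfsgLib.Blocks
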