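import Cfsg.Agent.Lib.Blocks.Osima

/-!
# Idempotents with zero Brauer image kill character values

If an idempotent of the group ring over the local ring commutes with `g` and has all coefficients
at the centralizer of the `p`-part of `g` in the local ideal, then `∑ z, f z * χ (z * g) = 0`
for every character `χ`.  The proof uses monomial representations of cyclic subgroups and
Higman's criterion for relative projectivity.
-/

set_option autoImplicit false
set_option linter.unusedSectionVars false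

namespace CfsgLib.Blocks

open Cfsg
open scoped ComplexConjugate CfsgLib.Char

variable {p : ℕ} {M : Ideal AlgInt} {G : Type*} [Group G] [Fintype G]

/-- The matrix of `a` in the monomial representation induced from the character `g ↦ ζ` of
`⟨g⟩`. -/
noncomputable def indMat (g : G) (ζ : ℂ) (a : G → ℂ) :
    Matrix (G ⧸ Subgroup.zpowers g) (G ⧸ Subgroup.zpowers g) ℂ :=
  Matrix.of fun i j =>
    ∑ k : Fin (orderOf g), a (Quotient.out i * g ^ (k : ℕ) * (Quotient.out j)⁻¹) * ζ ^ (k : ℕ)

theorem bijective_pow_mul_out (g : G) :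
    Function.Bijective fun aq : Fin (orderOf g) × (G ⧸ Subgroup.zpowers g) =>
      g ^ (aq.1 : ℕ) * (Quotient.out aq.2)⁻¹ := by
  classical
  have : Fintype (G ⧸ Subgroup.zpowers g) := Fintype.ofFinite _
  have hr : ∀ q : G ⧸ Subgroup.zpowers g, ((Quotient.out q : G) : G ⧸ Subgroup.zpowers g) = q :=
    Quotient.out_eq
  rw [Fintype.bijective_iff_injective_and_card]
  refine ⟨fun aq bs h => ?_, ?_⟩
  · obtain ⟨a, q⟩ := aq
    obtain ⟨b, s⟩ := bs
    have h2 : (Quotient.out q)⁻¹ * Quotient.out s = (g ^ (a : ℕ))⁻¹ * g ^ (b : ℕ) := by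
      simp only at h
      rw [eq_inv_mul_iff_mul_eq, ← mul_assoc, h, inv_mul_cancel_right]
    have hqs : q = s := by
      rw [← hr q, ← hr s, QuotientGroup.eq, h2]
      exact mul_mem (inv_mem (Subgroup.npow_mem_zpowers g _)) (Subgroup.npow_mem_zpowers g _)
    subst hqs
    have hab : g ^ (a : ℕ) = g ^ (b : ℕ) := mul_right_cancel h
    exact Prod.ext (Fin.ext (pow_injOn_Iio_orderOf a.2 b.2 hab)) rfl
  · rw [Fintype.card_prod, Fintype.card_fin, ← Nat.card_eq_fintype_card,
      ← Nat.card_eq_fintype_card (α := G), ← Nat.card_zpowers g, mul_comm]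
    exact (Subgroup.card_eq_card_quotient_mul_card_subgroup _).symm

theorem indMat_conv (g : G) {ζ : ℂ} (hζ : ζ ^ orderOf g = 1)
    [Fintype (G ⧸ Subgroup.zpowers g)] (a b : G → ℂ) :
    indMat g ζ (conv a b) = indMat g ζ a * indMat g ζ b := by
  classical
  set m := orderOf g with hm
  haveI : NeZero m := ⟨(orderOf_pos g).ne'⟩
  set r : G ⧸ Subgroup.zpowers g → G := Quotient.out
  have hpowadd : ∀ a b : Fin m, g ^ ((a + b : Fin m) : ℕ) = g ^ (a : ℕ) * g ^ (b : ℕ) :=
    fun a b => by rw [Fin.val_add, ← pow_add]; exact pow_mod_orderOf g _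
  have hζadd : ∀ a b : Fin m, ζ ^ ((a + b : Fin m) : ℕ) = ζ ^ (a : ℕ) * ζ ^ (b : ℕ) :=
    fun a b => by rw [Fin.val_add, ← pow_add, ← pow_eq_pow_mod _ hζ]
  ext i l
  simp only [indMat, Matrix.mul_apply, Matrix.of_apply, Finset.sum_mul_sum]
  calc ∑ c : Fin m, conv a b (r i * g ^ (c : ℕ) * (r l)⁻¹) * ζ ^ (c : ℕ)
      = ∑ c : Fin m, (∑ aq : Fin m × (G ⧸ Subgroup.zpowers g),
          a (r i * (g ^ (aq.1 : ℕ) * (r aq.2)⁻¹)) *
          b ((r i * (g ^ (aq.1 : ℕ) * (r aq.2)⁻¹))⁻¹ * (r i * g ^ (c : ℕ) * (r l)⁻¹))) *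
          ζ ^ (c : ℕ) := by
        refine Finset.sum_congr rfl fun c _ => ?_
        congr 1
        exact (Fintype.sum_bijective
          (fun aq : Fin m × (G ⧸ Subgroup.zpowers g) => r i * (g ^ (aq.1 : ℕ) * (r aq.2)⁻¹))
          ((Equiv.mulLeft (r i)).bijective.comp (bijective_pow_mul_out g)) _
          (fun y => a y * b (y⁻¹ * (r i * g ^ (c : ℕ) * (r l)⁻¹))) (fun _ => rfl)).symm
    _ = ∑ j, ∑ u : Fin m, ∑ v : Fin m, a (r i * g ^ (u : ℕ) * (r j)⁻¹) * ζ ^ (u : ℕ) *
          (b (r j * g ^ (v : ℕ) * (r l)⁻¹) * ζ ^ (v : ℕ)) := by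
        conv_rhs => rw [Finset.sum_comm]
        simp only [Finset.sum_mul, Fintype.sum_prod_type]
        rw [Finset.sum_comm]
        refine Finset.sum_congr rfl fun u _ => ?_
        conv_rhs => rw [Finset.sum_comm]
        refine (Fintype.sum_equiv (Equiv.addLeft u) _ _
          fun v => Finset.sum_congr rfl fun j _ => ?_).symm
        rw [Equiv.coe_addLeft, hζadd, hpowadd]
        have : (r i * (g ^ (u : ℕ) * (r j)⁻¹))⁻¹ *
            (r i * (g ^ (u : ℕ) * g ^ (v : ℕ)) * (r l)⁻¹) = r j * g ^ (v : ℕ) * (r l)⁻¹ := by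
          group
        rw [this, ← mul_assoc (r i)]
        ring

theorem indMat_sum {ι : Type*} (g : G) (ζ : ℂ) (s : Finset ι) (a : ι → G → ℂ) :
    indMat g ζ (∑ i ∈ s, a i) = ∑ i ∈ s, indMat g ζ (a i) := by
  ext i j
  simp only [indMat, Matrix.sum_apply, Matrix.of_apply, Finset.sum_apply, Finset.sum_mul]
  rw [Finset.sum_comm]

/-- The point mass at `u`. -/
noncomputable def pointMass (u : G) : G → ℂ := fun z => open Classical in if z = u then 1 else 0

theorem conv_pointMass_left (u : G) (a : G → ℂ) (z : G) : conv (pointMass u) a z = a (u⁻¹ * z) := by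
  classical
  simp [conv, pointMass]

theorem conv_pointMass_right (u : G) (a : G → ℂ) (z : G) : conv a (pointMass u) z = a (z * u⁻¹) := by
  classical
  rw [conv, Finset.sum_eq_single_of_mem (z * u⁻¹) (Finset.mem_univ _)]
  · simp [pointMass, mul_assoc]
  · intro x _ hx
    rw [pointMass, if_neg, mul_zero]
    intro h
    exact hx (by rw [← h]; group)

theorem conv_pointMass_pointMass (u v : G) : conv (pointMass u) (pointMass v) = pointMass (u * v) := by
  funext z
  rw [conv_pointMass_left]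
  simp only [pointMass]
  classical
  exact if_congr inv_mul_eq_iff_eq_mul rfl rfl

theorem indMat_pointMass_one (g : G) (ζ : ℂ) [DecidableEq (G ⧸ Subgroup.zpowers g)] :
    indMat g ζ (pointMass 1) = 1 := by
  classical
  ext i j
  have hr : ∀ q : G ⧸ Subgroup.zpowers g, ((Quotient.out q : G) : G ⧸ Subgroup.zpowers g) = q :=
    Quotient.out_eq
  have hk : ∀ k : Fin (orderOf g), Quotient.out i * g ^ (k : ℕ) * (Quotient.out j)⁻¹ = 1 ↔
      i = j ∧ k = ⟨0, orderOf_pos g⟩ := fun k => by
    rw [mul_inv_eq_one]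
    constructor
    · intro h
      have hij : i = j := by
        rw [← hr i, ← hr j, QuotientGroup.eq, ← h]
        simp [Subgroup.npow_mem_zpowers]
      subst hij
      exact ⟨rfl, Fin.ext (pow_injOn_Iio_orderOf k.2 (orderOf_pos g)
        (by show g ^ (k : ℕ) = g ^ 0; rw [mul_eq_left.mp h, pow_zero]))⟩
    · rintro ⟨rfl, rfl⟩
      simp
  simp only [indMat, Matrix.of_apply, pointMass, hk, Matrix.one_apply]
  by_cases h : i = j
  · subst h
    simp
  · simp [h]

theorem memLocalRing_indMat [M.IsPrime] (g : G) {ζ : ℂ} (hζ : MemLocalRing M ζ) {a : G → ℂ}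
    (ha : ∀ z, MemLocalRing M (a z)) (i j : G ⧸ Subgroup.zpowers g) :
    MemLocalRing M (indMat g ζ a i j) := by
  simp only [indMat, Matrix.of_apply]
  exact memLocalRing_sum _ _ fun k _ => memLocalRing_mul (ha _) (memLocalRing_pow hζ _)

theorem memLocalIdeal_indMat_sub [M.IsPrime] (g : G) {ζ : ℂ} (hζ : MemLocalRing M ζ) {a b : G → ℂ}
    (hab : ∀ z, MemLocalIdeal M (a z - b z)) (i j : G ⧸ Subgroup.zpowers g) :
    MemLocalIdeal M (indMat g ζ a i j - indMat g ζ b i j) := by
  simp only [indMat, Matrix.of_apply, ← Finset.sum_sub_distrib, ← sub_mul]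
  exact memLocalIdeal_sum _ _ fun k _ => memLocalIdeal_mul_right (hab _) (memLocalRing_pow hζ _)

theorem card_mul_trace_indMat (g : G) (ζ : ℂ) [Fintype (G ⧸ Subgroup.zpowers g)] (a : G → ℂ) :
    (orderOf g : ℂ) * (indMat g ζ a).trace =
      ∑ k : Fin (orderOf g), (∑ x : G, a (x * g ^ (k : ℕ) * x⁻¹)) * ζ ^ (k : ℕ) := by
  classical
  have hS : ∀ k : ℕ, ∑ x : G, a (x * g ^ k * x⁻¹) = (orderOf g : ℂ) *
      ∑ q : G ⧸ Subgroup.zpowers g, a (Quotient.out q * g ^ k * (Quotient.out q)⁻¹) := fun k => by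
    rw [← Fintype.sum_bijective _ ((Equiv.inv G).bijective.comp (bijective_pow_mul_out g)) _
      (fun x => a (x * g ^ k * x⁻¹)) (fun _ => rfl), Fintype.sum_prod_type]
    have hterm : ∀ (u : Fin (orderOf g)) (q : G ⧸ Subgroup.zpowers g),
        a ((g ^ (u : ℕ) * (Quotient.out q)⁻¹)⁻¹ * g ^ k * (g ^ (u : ℕ) * (Quotient.out q)⁻¹)⁻¹⁻¹)
          = a (Quotient.out q * g ^ k * (Quotient.out q)⁻¹) := fun u q => by
      congr 1
      have hc : (g ^ (u : ℕ))⁻¹ * g ^ k * g ^ (u : ℕ) = g ^ k := by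
        rw [mul_assoc, ← pow_add, add_comm, pow_add, inv_mul_cancel_left]
      calc _ = Quotient.out q * ((g ^ (u : ℕ))⁻¹ * g ^ k * g ^ (u : ℕ)) * (Quotient.out q)⁻¹ := by
            group
        _ = _ := by rw [hc]
    simp only [Function.comp_apply, Equiv.inv_apply, hterm]
    simp [Finset.card_univ]
  simp only [hS, indMat, Matrix.trace, Matrix.diag, Matrix.of_apply, Finset.mul_sum, Finset.sum_mul]
  rw [Finset.sum_comm]
  exact Finset.sum_congr rfl fun q _ => Finset.sum_congr rfl fun k _ => by ring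

/-- Vanishing of all monomial traces forces vanishing on every character. -/
theorem sum_mul_eq_zero_of_trace {a : G → ℂ}
    (h : ∀ (g : G) (ζ : ℂ), ζ ^ orderOf g = 1 →
      ∀ [Fintype (G ⧸ Subgroup.zpowers g)], (indMat g ζ a).trace = 0)
    {χ : G → ℂ} (hχ : IsClassFunction G χ) : ∑ z, a z * χ z = 0 := by
  classical
  have hzero : ∀ g : G, ∑ x : G, a (x * g * x⁻¹) = 0 := fun g => by
    have : Fintype (G ⧸ Subgroup.zpowers g) := Fintype.ofFinite _
    set o := orderOf g with ho_def
    have ho : 0 < o := orderOf_pos g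
    set ω : ℂ := Complex.exp (2 * Real.pi * Complex.I / o)
    have hω : IsPrimitiveRoot ω o := Complex.isPrimitiveRoot_exp o ho.ne'
    set T : Fin o → ℂ := fun k => ∑ x : G, a (x * g ^ (k : ℕ) * x⁻¹)
    have hG0 : ∀ j : ℕ, ∑ k : Fin o, T k * (ω ^ j) ^ (k : ℕ) = 0 := fun j => by
      rw [← card_mul_trace_indMat g (ω ^ j) a,
        h g _ (by rw [← pow_mul, mul_comm, pow_mul, hω.pow_eq_one, one_pow]), mul_zero]
    set i1 : Fin o := ⟨1 % o, Nat.mod_lt _ ho⟩
    have hsum : ∑ j ∈ Finset.range o, (ω ^ j) ^ (o - (i1 : ℕ)) * ∑ k : Fin o, T k * (ω ^ j) ^ (k : ℕ)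
        = (o : ℂ) * T i1 := by
      simp only [Finset.mul_sum]
      rw [Finset.sum_comm, Finset.sum_eq_single i1]
      · rw [show (o : ℂ) * T i1 = ∑ _j ∈ Finset.range o, T i1 by simp]
        refine Finset.sum_congr rfl fun j _ => ?_
        rw [mul_left_comm, ← pow_add, Nat.sub_add_cancel i1.2.le, ← pow_mul, mul_comm j, pow_mul,
          hω.pow_eq_one, one_pow, mul_one]
      · intro l _ hl
        have h1 : ω ^ (o - (i1 : ℕ) + (l : ℕ)) ≠ 1 := fun h => by
          obtain ⟨c, hc⟩ := (hω.pow_eq_one_iff_dvd _).mp h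
          apply hl
          apply Fin.ext
          have hk := i1.2
          have hl' := l.2
          rcases c with - | - | c
          · omega
          · omega
          · have : o * 2 ≤ o * (c + 1 + 1) := Nat.mul_le_mul_left o (by omega)
            omega
        rw [show ∑ j ∈ Finset.range o, (ω ^ j) ^ (o - (i1 : ℕ)) * (T l * (ω ^ j) ^ (l : ℕ))
            = T l * ∑ j ∈ Finset.range o, (ω ^ (o - (i1 : ℕ) + (l : ℕ))) ^ j by
          rw [Finset.mul_sum]
          refine Finset.sum_congr rfl fun j _ => ?_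
          rw [← pow_mul ω (o - (i1 : ℕ) + (l : ℕ)), mul_comm _ j, pow_mul, pow_add]
          ring, sum_geom_eq_zero (by rw [← pow_mul, mul_comm, pow_mul, hω.pow_eq_one, one_pow]) h1,
          mul_zero]
      · simp
    rw [Finset.sum_congr rfl fun j _ => by rw [hG0 j, mul_zero], Finset.sum_const_zero] at hsum
    have hT := (mul_eq_zero.mp hsum.symm).resolve_left (Nat.cast_ne_zero.mpr ho.ne')
    rw [← hT]
    simp only [T, i1, ho_def, pow_mod_orderOf, pow_one]
  have hcomm : ∑ x : G, ∑ z : G, a (x * z * x⁻¹) * χ z = (Nat.card G : ℂ) * ∑ z, a z * χ z := by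
    rw [Finset.sum_congr rfl fun x _ => (Fintype.sum_equiv (MulAut.conj x).toEquiv
      (fun z => a (x * z * x⁻¹) * χ z) (fun z => a z * χ z) fun z => by simp [hχ z x])]
    simp [Nat.card_eq_fintype_card]
  rw [Finset.sum_comm, Finset.sum_eq_zero fun z _ => by rw [← Finset.sum_mul, hzero z, zero_mul]]
    at hcomm
  exact (mul_eq_zero.mp hcomm.symm).resolve_left (Nat.cast_ne_zero.mpr Nat.card_pos.ne')

/-- An idempotent matrix over the local ring which is congruent to zero vanishes. -/
theorem eq_zero_of_idempotent_congr_zero (hM : IsPModular p M) {ι : Type*} [Fintype ι]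
    [DecidableEq ι] {F : Matrix ι ι ℂ} (hF : F * F = F) (h : ∀ i j, MemLocalIdeal M (F i j)) :
    F = 0 := by
  have := isPrime_of_isPModular hM
  set F' : Matrix ι ι (locRing M) :=
    Matrix.of fun i j => ⟨F i j, memLocalRing_of_memLocalIdeal (h i j)⟩
  have hF' : F'.map (Ideal.Quotient.mk (locIdeal M)) = 0 := by
    ext i j
    exact Ideal.Quotient.eq_zero_iff_mem.mpr (h i j)
  have hdet : (1 - F).det ≠ 0 := by
    have h1 : 1 - F = (locRing M).subtype.mapMatrix (1 - F') := by
      rw [map_sub, map_one]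
      rfl
    rw [h1, ← RingHom.map_det]
    intro h0
    have h2 := RingHom.map_det (Ideal.Quotient.mk (locIdeal M)) (1 - F')
    rw [show (1 - F').det = 0 from Subtype.ext h0, map_zero, map_sub, map_one,
      RingHom.mapMatrix_apply, hF', sub_zero, Matrix.det_one] at h2
    exact zero_ne_one h2
  have h0 : (1 - F) * F = 0 := by rw [sub_mul, one_mul, hF, sub_self]
  have := congrArg ((1 - F)⁻¹ * ·) h0
  simpa [← Matrix.mul_assoc, Matrix.nonsing_inv_mul _ (isUnit_iff_ne_zero.mpr hdet)] using this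

/-- Higman's criterion: the trace of `X` on the image of an idempotent which is relatively
projective with respect to `X ^ p` is zero. -/
theorem trace_eq_zero_of_relatively_projective (hM : IsPModular p M) {ι : Type*} [Fintype ι]
    [DecidableEq ι] {X X' F W : Matrix ι ι ℂ}
    (hX : ∀ i j, MemLocalRing M (X i j)) (hX' : ∀ i j, MemLocalRing M (X' i j))
    (hF : ∀ i j, MemLocalRing M (F i j)) (hW : ∀ i j, MemLocalRing M (W i j))
    (hXX' : X * X' = 1) (hX'X : X' * X = 1) (hFX : F * X = X * F) (hFF : F * F = F)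
    (hWp : X ^ p * W * X' ^ p = W)
    (hcongr : ∀ i j, MemLocalIdeal M ((∑ k ∈ Finset.range p, X ^ k * W * X' ^ k) i j - F i j)) :
    (F * X).trace = 0 := by
  have := isPrime_of_isPModular hM
  set μ : ℂ := Complex.exp (2 * Real.pi * Complex.I / p)
  have hμ : IsPrimitiveRoot μ p := Complex.isPrimitiveRoot_exp p hM.1.ne_zero
  have hμ1 : μ ≠ 1 := hμ.ne_one hM.1.one_lt
  have hFX' : F * X' = X' * F := by
    calc F * X' = X' * X * (F * X') := by rw [hX'X, one_mul]
      _ = X' * (F * X) * X' := by rw [hFX]; simp only [Matrix.mul_assoc]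
      _ = X' * F * (X * X') := by simp only [Matrix.mul_assoc]
      _ = X' * F := by rw [hXX', mul_one]
  have hcF : ∀ k : ℕ, F * X ^ k = X ^ k * F ∧ F * X' ^ k = X' ^ k * F := fun k =>
    ⟨((Commute.pow_right (hFX : Commute F X)) k).eq, ((Commute.pow_right (hFX' : Commute F X')) k).eq⟩
  set V := F * W * F
  set Φ := ∑ k ∈ Finset.range p, μ ^ k • (X ^ k * V * X' ^ k)
  have hVp : X ^ p * V * X' ^ p = V := by
    calc X ^ p * V * X' ^ p = (X ^ p * F) * W * (F * X' ^ p) := by
          simp only [V, Matrix.mul_assoc]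
      _ = F * (X ^ p * W * X' ^ p) * F := by
          rw [← (hcF p).1, (hcF p).2]; simp only [Matrix.mul_assoc]
      _ = V := by rw [hWp]
  have hshift : μ • (X * Φ * X') = Φ := by
    have h1 : μ • (X * Φ * X') = ∑ k ∈ Finset.range p, μ ^ (k + 1) • (X ^ (k + 1) * V * X' ^ (k + 1)) := by
      simp only [Φ, Finset.mul_sum, Finset.sum_mul, Finset.smul_sum, mul_smul_comm, smul_mul_assoc,
        smul_smul]
      refine Finset.sum_congr rfl fun k _ => ?_
      rw [pow_succ' μ, pow_succ' X, pow_succ X']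
      simp only [Matrix.mul_assoc]
    have h2 := Finset.sum_range_succ' (fun k => μ ^ k • (X ^ k * V * X' ^ k)) p
    have h3 := Finset.sum_range_succ (fun k => μ ^ k • (X ^ k * V * X' ^ k)) p
    rw [h3, hμ.pow_eq_one, hVp, pow_zero, pow_zero, pow_zero, one_mul, mul_one, one_smul] at h2
    rw [h1]
    exact (add_right_cancel h2).symm
  have hΦX : Φ * X = μ • (X * Φ) := by
    conv_lhs => rw [← hshift]
    rw [smul_mul_assoc, Matrix.mul_assoc _ X', hX'X, mul_one]
  have hFΦ : F * Φ = Φ := by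
    simp only [Φ, Finset.mul_sum, mul_smul_comm]
    refine Finset.sum_congr rfl fun k _ => ?_
    rw [← Matrix.mul_assoc, ← Matrix.mul_assoc, (hcF k).1]
    simp only [V, ← Matrix.mul_assoc]
    rw [Matrix.mul_assoc (X ^ k) F F, hFF]
  have hΦF : Φ * F = Φ := by
    simp only [Φ, Finset.sum_mul, smul_mul_assoc]
    refine Finset.sum_congr rfl fun k _ => ?_
    rw [Matrix.mul_assoc (X ^ k * V), ← (hcF k).2]
    simp only [V, Matrix.mul_assoc]
    rw [← Matrix.mul_assoc F F, hFF]
  set U := Φ + (1 - F)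
  set Y := X * F + (1 - F)
  set Y' := μ • (X * F) + (1 - F)
  have h1F : (1 - F) * (1 - F) = 1 - F := by
    rw [mul_sub, mul_one, sub_mul, one_mul, hFF, sub_self, sub_zero]
  have hUY : U * Y = Φ * X + (1 - F) := by
    simp only [U, Y, add_mul, mul_add, h1F]
    rw [← hFX, ← Matrix.mul_assoc Φ F X, hΦF, ← Matrix.mul_assoc (1 - F) F X]
    simp only [sub_mul, mul_sub, one_mul, mul_one, hFF, hΦF, sub_self, zero_mul, add_zero, zero_add]
  have hY'U : Y' * U = μ • (X * Φ) + (1 - F) := by
    simp only [U, Y', add_mul, mul_add, h1F, smul_mul_assoc, Matrix.mul_assoc, hFΦ]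
    simp only [sub_mul, mul_sub, one_mul, mul_one, hFF, hFΦ, sub_self, mul_zero, smul_zero,
      add_zero, zero_add]
  have hdet : U.det ≠ 0 := by
    have hμl : MemLocalRing M μ :=
      memLocalRing_of_isIntegral (IsIntegral.of_pow hM.1.pos (hμ.pow_eq_one ▸ isIntegral_one))
    set X₀ : Matrix ι ι (locRing M) := Matrix.of fun i j => ⟨X i j, hX i j⟩
    set X₀' : Matrix ι ι (locRing M) := Matrix.of fun i j => ⟨X' i j, hX' i j⟩
    set F₀ : Matrix ι ι (locRing M) := Matrix.of fun i j => ⟨F i j, hF i j⟩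
    set W₀ : Matrix ι ι (locRing M) := Matrix.of fun i j => ⟨W i j, hW i j⟩
    set U₀ : Matrix ι ι (locRing M) := (∑ k ∈ Finset.range p,
      (⟨μ, hμl⟩ : locRing M) ^ k • (X₀ ^ k * (F₀ * W₀ * F₀) * X₀' ^ k)) + (1 - F₀)
    set sub := (locRing M).subtype.mapMatrix (m := ι)
    have hinj : Function.Injective sub := Matrix.map_injective Subtype.val_injective
    have hsX : sub X₀ = X := rfl
    have hsX' : sub X₀' = X' := rfl
    have hsF : sub F₀ = F := rfl
    have hsW : sub W₀ = W := rfl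
    have hsmul : ∀ (c : locRing M) (A : Matrix ι ι (locRing M)), sub (c • A) = (c : ℂ) • sub A :=
      fun c A => rfl
    have hU₀ : sub U₀ = U := by
      simp only [U₀, map_add, map_sum, hsmul, map_mul, map_pow, map_sub, map_one, hsX, hsX', hsF, hsW]
      rfl
    rw [← hU₀]
    show ((locRing M).subtype.mapMatrix U₀).det ≠ 0
    rw [← RingHom.map_det]
    intro h0
    set φ := (Ideal.Quotient.mk (locIdeal M)).mapMatrix (m := ι)
    have hφX : φ X₀ * φ X₀' = 1 := by
      rw [← map_mul, show X₀ * X₀' = 1 from hinj (by rw [map_mul, map_one]; exact hXX'), map_one]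
    have hφμ : Ideal.Quotient.mk (locIdeal M) (⟨μ, hμl⟩ : locRing M) = 1 := by
      rw [← map_one (Ideal.Quotient.mk (locIdeal M)), Ideal.Quotient.eq]
      exact memLocalIdeal_root_sub_one hM (k := 1) (by rw [pow_one]; exact hμ.pow_eq_one)
    have hφsmul : ∀ (c : locRing M) (A : Matrix ι ι (locRing M)),
        φ (c • A) = Ideal.Quotient.mk (locIdeal M) c • φ A := fun c A => by
      ext i j
      exact map_mul (Ideal.Quotient.mk (locIdeal M)) c (A i j)
    have hsum : φ (∑ k ∈ Finset.range p, X₀ ^ k * W₀ * X₀' ^ k) = φ F₀ := by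
      ext i j
      refine Ideal.Quotient.eq.mpr ?_
      rw [mem_locIdeal]
      have hkey : ((((∑ k ∈ Finset.range p, X₀ ^ k * W₀ * X₀' ^ k) i j : locRing M)) : ℂ) =
          (∑ k ∈ Finset.range p, X ^ k * W * X' ^ k) i j := by
        have : sub (∑ k ∈ Finset.range p, X₀ ^ k * W₀ * X₀' ^ k) =
            ∑ k ∈ Finset.range p, X ^ k * W * X' ^ k := by
          simp only [map_sum, map_mul, map_pow, hsX, hsX', hsW]
        exact congrFun (congrFun this i) j
      push_cast
      rw [hkey]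
      exact hcongr i j
    have hF₀X : ∀ k : ℕ, φ F₀ * φ X₀ ^ k = φ X₀ ^ k * φ F₀ ∧ φ F₀ * φ X₀' ^ k = φ X₀' ^ k * φ F₀ :=
      fun k => by
        constructor
        · rw [← map_pow, ← map_mul, ← map_mul]
          congr 1
          exact hinj (by rw [map_mul, map_mul, map_pow]; exact (hcF k).1)
        · rw [← map_pow, ← map_mul, ← map_mul]
          congr 1
          exact hinj (by rw [map_mul, map_mul, map_pow]; exact (hcF k).2)
    have hFF₀ : φ F₀ * φ F₀ = φ F₀ := by
      rw [← map_mul]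
      congr 1
      exact hinj (by rw [map_mul]; exact hFF)
    have hφU : φ U₀ = 1 := by
      simp only [U₀, map_add, map_sum, hφsmul, map_pow, hφμ, one_pow, one_smul, map_mul, map_sub,
        map_one]
      rw [show ∑ k ∈ Finset.range p, φ X₀ ^ k * (φ F₀ * φ W₀ * φ F₀) * φ X₀' ^ k =
          φ F₀ * φ (∑ k ∈ Finset.range p, X₀ ^ k * W₀ * X₀' ^ k) * φ F₀ by
        simp only [map_sum, map_mul, map_pow, Finset.mul_sum, Finset.sum_mul]
        refine Finset.sum_congr rfl fun k _ => ?_
        calc φ X₀ ^ k * (φ F₀ * φ W₀ * φ F₀) * φ X₀' ^ k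
            = (φ X₀ ^ k * φ F₀) * φ W₀ * (φ F₀ * φ X₀' ^ k) := by simp only [Matrix.mul_assoc]
          _ = φ F₀ * (φ X₀ ^ k * φ W₀ * φ X₀' ^ k) * φ F₀ := by
              rw [← (hF₀X k).1, (hF₀X k).2]; simp only [Matrix.mul_assoc],
        hsum, hFF₀, hFF₀, add_sub_cancel]
    have h2 := RingHom.map_det (Ideal.Quotient.mk (locIdeal M)) U₀
    rw [show U₀.det = 0 from Subtype.ext h0, map_zero, RingHom.mapMatrix_apply] at h2
    rw [show U₀.map (Ideal.Quotient.mk (locIdeal M)) = 1 from hφU, Matrix.det_one] at h2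
    exact zero_ne_one h2
  have hu : IsUnit U.det := isUnit_iff_ne_zero.mpr hdet
  have htr : Y.trace = Y'.trace := by
    calc Y.trace = (U⁻¹ * (U * Y)).trace := by
          rw [← Matrix.mul_assoc, Matrix.nonsing_inv_mul _ hu, one_mul]
      _ = (U⁻¹ * (Y' * U)).trace := by rw [hUY, hY'U, hΦX]
      _ = (Y' * U * U⁻¹).trace := Matrix.trace_mul_comm _ _
      _ = Y'.trace := by rw [Matrix.mul_assoc, Matrix.mul_nonsing_inv _ hu, mul_one]
  simp only [Y, Y', Matrix.trace_add, Matrix.trace_smul, smul_eq_mul] at htr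
  have hz : (μ - 1) * (X * F).trace = 0 := by linear_combination -htr
  rw [hFX]
  exact (mul_eq_zero.mp hz).resolve_left (sub_ne_zero.mpr hμ1)

/-- A `p`-element commutes with everything commuting with a power of `g` of exponent prime to
`p`, when it is the `p`-part of `g`. -/
theorem commute_pPart_of_commute_zpow {x y z : G} (hp : p.Prime) (hxy : Commute x y) {k : ℕ}
    (hx : orderOf x = p ^ k) (hy : ¬ p ∣ orderOf y) {n : ℤ} (hn : ¬ (p : ℤ) ∣ n)
    (hz : Commute z ((x * y) ^ n)) : Commute z x := by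
  have h2 : Commute z (x ^ (n * orderOf y)) := by
    have := hz.pow_right (orderOf y)
    rwa [← zpow_natCast, ← zpow_mul, hxy.mul_zpow, mul_comm n (orderOf y : ℤ), zpow_mul y,
      zpow_natCast, pow_orderOf_eq_one, one_zpow, mul_one, mul_comm] at this
  have hcop : IsCoprime (n * orderOf y : ℤ) ((p ^ k : ℕ) : ℤ) := by
    push_cast
    have hpz : Prime (p : ℤ) := Nat.prime_iff_prime_int.mp hp
    refine IsCoprime.pow_right (((hpz.coprime_iff_not_dvd).mpr fun h => ?_).symm)
    rcases hpz.dvd_or_dvd h with h | h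
    · exact hn h
    · exact hy (Int.natCast_dvd_natCast.mp h)
  obtain ⟨u, v, huv⟩ := hcop
  have h3 := h2.zpow_right u
  rwa [← zpow_mul, show (n * orderOf y : ℤ) * u = 1 + -v * ((p ^ k : ℕ) : ℤ) by linarith,
    zpow_add, zpow_one, zpow_mul', zpow_natCast, ← hx, pow_orderOf_eq_one, one_zpow, mul_one] at h3

/-- The vanishing theorem. -/
theorem sum_mul_eq_zero_of_brauer_zero (hM : IsPModular p M) {x y : G} (hxy : Commute x y) {k : ℕ}
    (hx : orderOf x = p ^ k) (hy : ¬ p ∣ orderOf y) {f : G → ℂ}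
    (hfl : ∀ z, MemLocalRing M (f z)) (hff : conv f f = f)
    (hinv : ∀ z, f (x * y * z * (x * y)⁻¹) = f z)
    (hzero : ∀ z, Commute z x → MemLocalIdeal M (f z))
    {χ : G → ℂ} (hχ : IsClassFunction G χ) : ∑ z, f z * χ (z * (x * y)) = 0 := by
  classical
  have := isPrime_of_isPModular hM
  set g := x * y
  have hconv : ∀ z, conv f (pointMass g) z = f (z * g⁻¹) := fun z => conv_pointMass_right g f z
  rw [Fintype.sum_equiv (Equiv.mulRight g) (fun z => f z * χ (z * g))
    (fun z => conv f (pointMass g) z * χ z) fun z => by simp [hconv]]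
  refine sum_mul_eq_zero_of_trace (fun h ζ hζ _ => ?_) hχ
  rw [indMat_conv h hζ]
  have hζl : MemLocalRing M ζ :=
    memLocalRing_of_isIntegral (IsIntegral.of_pow (orderOf_pos h) (hζ ▸ isIntegral_one))
  set F := indMat h ζ f
  have hFF : F * F = F := by rw [← indMat_conv h hζ, hff]
  rcases Nat.eq_zero_or_pos k with hk | hk
  · subst hk
    rw [pow_zero, orderOf_eq_one_iff] at hx
    have : F = 0 := eq_zero_of_idempotent_congr_zero hM hFF fun i j => by
      have := memLocalIdeal_indMat_sub (M := M) h hζl (a := f) (b := 0)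
        (fun z => by simpa using hzero z (hx ▸ Commute.one_right z)) i j
      simpa [indMat, F] using this
    rw [this, zero_mul, Matrix.trace_zero]
  -- choice of representatives for the action of `⟨g⟩`
  letI : MulAction (Subgroup.zpowers g) G :=
    MulAction.compHom G ((MulAut.conj : G →* MulAut G).comp (Subgroup.zpowers g).subtype)
  set rep : G → G := fun z =>
    (Quotient.mk (MulAction.orbitRel (Subgroup.zpowers g) G) z).out
  have hrep : ∀ (n : ℤ) (z : G), rep (g ^ n * z * (g ^ n)⁻¹) = rep z := fun n z => by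
    simp only [rep]
    rw [Quotient.sound]
    exact ⟨⟨g ^ n, Subgroup.zpow_mem_zpowers g n⟩, rfl⟩
  have hrep' : ∀ z, ∃ n : ℤ, z = g ^ n * rep z * (g ^ n)⁻¹ := fun z => by
    obtain ⟨⟨u, hu⟩, h1⟩ :=
      Quotient.mk_out (s := MulAction.orbitRel (Subgroup.zpowers g) G) z
    obtain ⟨n, rfl⟩ := Subgroup.mem_zpowers_iff.mp hu
    refine ⟨-n, ?_⟩
    have h2 : g ^ n * z * (g ^ n)⁻¹ = rep z := h1
    rw [← h2, zpow_neg]
    group
  set w : G → ℂ := fun z =>
    if ¬ Commute z x ∧ ∃ j : ℤ, z = g ^ ((p : ℤ) * j) * rep z * (g ^ ((p : ℤ) * j))⁻¹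
    then f z else 0
  have hwl : ∀ z, MemLocalRing M (w z) := fun z => by
    simp only [w]
    split
    exacts [hfl z, memLocalRing_zero]
  have hinvz : ∀ (n : ℤ) (z : G), f (g ^ n * z * (g ^ n)⁻¹) = f z := fun n => by
    induction n using Int.induction_on with
    | zero => simp
    | succ i ih =>
      intro z
      rw [show g ^ ((i : ℤ) + 1) * z * (g ^ ((i : ℤ) + 1))⁻¹ =
        g * (g ^ (i : ℤ) * z * (g ^ (i : ℤ))⁻¹) * g⁻¹ by
          rw [add_comm, zpow_add, zpow_one]; group, hinv, ih]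
    | pred i ih =>
      intro z
      have h1 := hinv (g ^ (-(i : ℤ) - 1) * z * (g ^ (-(i : ℤ) - 1))⁻¹)
      rw [show g * (g ^ (-(i : ℤ) - 1) * z * (g ^ (-(i : ℤ) - 1))⁻¹) * g⁻¹ =
        g ^ (-(i : ℤ)) * z * (g ^ (-(i : ℤ)))⁻¹ by group, ih] at h1
      exact h1.symm
  have hgx : Commute g x := ((Commute.refl x).mul_left hxy.symm)
  have hcomm : ∀ (n : ℤ) (z : G), Commute (g ^ n * z * (g ^ n)⁻¹) x ↔ Commute z x := fun n z => by
    have hgn : Commute (g ^ n) x := hgx.zpow_left n
    refine ⟨fun h => ?_, fun h => (hgn.mul_left h).mul_left hgn.inv_left⟩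
    have := (hgn.inv_left.mul_left h).mul_left hgn
    simpa [mul_assoc] using this
  have hwp : ∀ z, w (g ^ (p : ℤ) * z * (g ^ (p : ℤ))⁻¹) = w z := fun z => by
    simp only [w]
    refine if_congr ?_ (hinvz p z) rfl
    rw [hcomm, hrep]
    refine and_congr Iff.rfl ⟨fun ⟨j, hj⟩ => ⟨j - 1, ?_⟩, fun ⟨j, hj⟩ => ⟨j + 1, ?_⟩⟩
    · calc z = (g ^ (p : ℤ))⁻¹ * (g ^ (p : ℤ) * z * (g ^ (p : ℤ))⁻¹) * g ^ (p : ℤ) := by group
        _ = _ := by rw [hj, show (p : ℤ) * (j - 1) = -(p : ℤ) + (p : ℤ) * j by ring, zpow_add]; group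
    · conv_lhs => rw [hj]
      rw [show (p : ℤ) * (j + 1) = (p : ℤ) + (p : ℤ) * j by ring, zpow_add]
      group
  set T : G → ℂ := fun z => ∑ i ∈ Finset.range p, w (g ^ (-(i : ℤ)) * z * (g ^ (-(i : ℤ)))⁻¹)
  have hT : ∀ z, MemLocalIdeal M (T z - f z) := fun z => by
    by_cases hzx : Commute z x
    · have hT0 : T z = 0 := Finset.sum_eq_zero fun i _ => by
        simp only [w]
        exact if_neg fun h => h.1 ((hcomm _ z).mpr hzx)
      rw [hT0, zero_sub]
      exact memLocalIdeal_neg (hzero z hzx)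
    · obtain ⟨n, hn⟩ := hrep' z
      have hTz : T z = f z := by
        have hp0 : (p : ℤ) ≠ 0 := by exact_mod_cast hM.1.ne_zero
        have hmod : ((n % (p : ℤ)).toNat : ℤ) = n % (p : ℤ) :=
          Int.toNat_of_nonneg (Int.emod_nonneg n hp0)
        simp only [T]
        rw [Finset.sum_eq_single_of_mem (n % (p : ℤ)).toNat]
        · simp only [w]
          refine (if_pos ⟨fun h => hzx ((hcomm _ z).mp h), n / (p : ℤ), ?_⟩).trans (hinvz _ z)
          rw [hrep, hmod]
          conv_lhs => rw [hn]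
          rw [show (p : ℤ) * (n / (p : ℤ)) = -(n % (p : ℤ)) + n by
            linarith [Int.mul_ediv_add_emod n (p : ℤ)], zpow_add]
          group
        · rw [Finset.mem_range]
          have h2 := Int.emod_lt_of_pos n (show (0 : ℤ) < p by exact_mod_cast hM.1.pos)
          omega
        · intro i hi hne
          simp only [w]
          refine if_neg ?_
          rintro ⟨-, j, hj⟩
          rw [hrep] at hj
          apply hzx
          generalize rep z = r at hn hj ⊢
          have hz0 : r = g ^ (-(i : ℤ) + n - (p : ℤ) * j) * r *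
              (g ^ (-(i : ℤ) + n - (p : ℤ) * j))⁻¹ := by
            rw [hn] at hj
            calc r = (g ^ ((p : ℤ) * j))⁻¹ *
                  (g ^ ((p : ℤ) * j) * r * (g ^ ((p : ℤ) * j))⁻¹) * g ^ ((p : ℤ) * j) := by group
              _ = _ := by rw [← hj]; group
          rw [hn]
          refine (hcomm n _).mpr (commute_pPart_of_commute_zpow hM.1 hxy hx hy
            (n := -(i : ℤ) + n - (p : ℤ) * j) ?_ ?_)
          · intro hdvd
            apply hne
            have h1 : n % (p : ℤ) = (i : ℤ) % (p : ℤ) := by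
              refine Int.emod_eq_emod_iff_emod_sub_eq_zero.mpr (Int.emod_eq_zero_of_dvd ?_)
              have : (p : ℤ) ∣ (-(i : ℤ) + n - (p : ℤ) * j) + (p : ℤ) * j :=
                dvd_add hdvd (dvd_mul_right _ _)
              simpa [neg_add_eq_sub] using this
            rw [Int.emod_eq_of_lt (a := (i : ℤ)) (by positivity)
              (by exact_mod_cast Finset.mem_range.mp hi)] at h1
            omega
          · show r * g ^ (-(i : ℤ) + n - (p : ℤ) * j) =
              g ^ (-(i : ℤ) + n - (p : ℤ) * j) * r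
            exact (mul_inv_eq_iff_eq_mul.mp hz0.symm).symm
      rw [hTz]
      exact memLocalIdeal_sub_self _
  set X := indMat h ζ (pointMass g)
  set X' := indMat h ζ (pointMass g⁻¹)
  have hpow : ∀ (u : G) (n : ℕ), indMat h ζ (pointMass u) ^ n = indMat h ζ (pointMass (u ^ n)) := by
    intro u n
    induction n with
    | zero => rw [pow_zero, pow_zero, indMat_pointMass_one]
    | succ n ih => rw [pow_succ, ih, ← indMat_conv h hζ, conv_pointMass_pointMass, pow_succ]
  have hsand : ∀ (n : ℕ) (a : G → ℂ), X ^ n * indMat h ζ a * X' ^ n =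
      indMat h ζ (fun z => a (g ^ (-(n : ℤ)) * z * (g ^ (-(n : ℤ)))⁻¹)) := fun n a => by
    rw [hpow, hpow, ← indMat_conv h hζ, ← indMat_conv h hζ]
    congr 1
    funext z
    rw [conv_pointMass_right, conv_pointMass_left]
    congr 1
    rw [inv_pow, zpow_neg, zpow_natCast]
    group
  have hδ : ∀ u z : G, MemLocalRing M (pointMass u z) := fun u z => by
    unfold pointMass
    split
    exacts [memLocalRing_one, memLocalRing_zero]
  refine trace_eq_zero_of_relatively_projective hM (X' := X') (W := indMat h ζ w)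
    (memLocalRing_indMat h hζl (hδ g)) (memLocalRing_indMat h hζl (hδ g⁻¹))
    (memLocalRing_indMat h hζl hfl) (memLocalRing_indMat h hζl hwl) ?_ ?_ ?_ hFF ?_ ?_
  · rw [← indMat_conv h hζ, conv_pointMass_pointMass, mul_inv_cancel, indMat_pointMass_one]
  · rw [← indMat_conv h hζ, conv_pointMass_pointMass, inv_mul_cancel, indMat_pointMass_one]
  · rw [← indMat_conv h hζ, ← indMat_conv h hζ]
    congr 1
    funext z
    rw [conv_pointMass_right, conv_pointMass_left, ← hinv (g⁻¹ * z)]
    congr 1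
    group
  · rw [hsand]
    congr 1
    funext z
    conv_lhs => rw [← hwp]
    congr 1
    group
  · intro i j
    rw [Finset.sum_congr rfl fun n _ => hsand n w, ← indMat_sum]
    refine memLocalIdeal_indMat_sub h hζl (fun z => ?_) i j
    rw [Finset.sum_apply]
    exact hT z

end CfsgLib.Blocks
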