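import Cfsg.Agent.Lib.Blocks.GroupRing
import Cfsg.Agent.Lib.Blocks.Vanishing

/-!
# Lifting idempotents of the group ring over the residue field

An idempotent of `k[G]` fixed by a set of group elements lifts to one of `O[G]` with the same
fixed points, unique up to conjugation.  The value of a class function `χ` on `e * x` for a lift
`e` of an idempotent commuting with `x` thus depends only on the idempotent; only its truncation
at the centralizer of the `p`-part of `x` matters.
-/

set_option autoImplicit false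
set_option linter.unusedSectionVars false

namespace CfsgLib.Blocks

open Cfsg Polynomial
open scoped ComplexConjugate
open CfsgLib.GrpRing

section Fitting

variable {K A : Type*} [Field K] [Ring A] [Algebra K A] [FiniteDimensional K A]

/-- Fitting's lemma for one element. -/
theorem exists_fitting_idempotent (s : A) :
    ∃ (q : K[X]) (n : ℕ), IsIdempotentElem (s * aeval s q) ∧ s ^ n * (s * aeval s q) = s ^ n := by
  have hint : IsIntegral K s := Algebra.IsIntegral.isIntegral s
  obtain ⟨ν, hν, hnd⟩ := exists_eq_pow_rootMultiplicity_mul_and_not_dvd (minpoly K s)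
    (minpoly.ne_zero hint) 0
  rw [C_0, sub_zero] at hν hnd
  set n := rootMultiplicity 0 (minpoly K s)
  obtain ⟨a, b, hab⟩ := IsCoprime.pow_left (m := n + 1) (((irreducible_X : Irreducible (X : K[X])).coprime_iff_not_dvd).mpr hnd)
  have hzero : aeval s (X ^ n * ν) = 0 := by rw [← hν, minpoly.aeval]
  have he : s * aeval s (a * X ^ n) = aeval s (a * X ^ (n + 1)) := by
    rw [show a * X ^ (n + 1) = X * (a * X ^ n) by ring]
    simp only [map_mul, map_pow, aeval_X]
  refine ⟨a * X ^ n, n, ?_, ?_⟩
  · rw [IsIdempotentElem, he, ← sub_eq_zero, ← map_mul, ← map_sub,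
      show a * X ^ (n + 1) * (a * X ^ (n + 1)) - a * X ^ (n + 1) =
        -(a * b * X) * (X ^ n * ν) from by linear_combination (a * X ^ (n + 1)) * hab,
      map_mul, hzero, mul_zero]
  · rw [he, ← sub_eq_zero, show s ^ n = aeval s (X ^ n : K[X]) by simp, ← map_mul, ← map_sub,
      show X ^ n * (a * X ^ (n + 1)) - X ^ n = -b * (X ^ n * ν) from by
        linear_combination X ^ n * hab, map_mul, hzero, mul_zero]

end Fitting

theorem aeval_mem_subalgebra {R A : Type*} [CommRing R] [Ring A] [Algebra R A]
    (S : Subalgebra R A) {a : A} (ha : a ∈ S) (q : R[X]) : aeval a q ∈ S :=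
  Algebra.adjoin_le (Set.singleton_subset_iff.mpr ha) (Polynomial.aeval_mem_adjoin_singleton R a)

variable {M : Ideal AlgInt} [M.IsPrime] {G : Type*} [Group G] [Fintype G]

variable (M) in
/-- The group ring over the local ring. -/
abbrev OG (G : Type*) := MonoidAlgebra (locRing M) G

variable (M) in
/-- The group ring over the residue field. -/
abbrev KG (G : Type*) := MonoidAlgebra (ResField M) G

/-- Reduction of coefficients. -/
noncomputable def red : OG M G →+* KG M G :=
  MonoidAlgebra.mapRingHom G (Ideal.Quotient.mk (locIdeal M))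

theorem coeff_red (a : OG M G) (g : G) :
    (red a).coeff g = Ideal.Quotient.mk (locIdeal M) (a.coeff g) :=
  MonoidAlgebra.coeff_mapRingHom _ _ _

theorem red_dlt (x : G) : red (M := M) (dlt (locRing M) x) = dlt (ResField M) x := by
  simp [red]

theorem red_mem_fixAlg {S : Set G} {a : OG M G} (ha : a ∈ fixAlg (locRing M) S) :
    red a ∈ fixAlg (ResField M) S := by
  refine mem_fixAlg.mpr fun s hs => ?_
  have h := (mem_fixAlg.mp ha s hs).map (red (M := M) (G := G))
  rwa [red_dlt] at h

/-- An element built from its coefficient function. -/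
noncomputable def ofFun {R : Type*} [CommRing R] (f : G → R) : MonoidAlgebra R G :=
  .ofCoeff (Finsupp.equivFunOnFinite.symm f)

theorem coeff_ofFun {R : Type*} [CommRing R] (f : G → R) (g : G) : (ofFun f).coeff g = f g := by
  simp [ofFun]

/-- The local ring is integrally closed in `ℂ`. -/
theorem memLocalRing_of_isIntegral_locRing {z : ℂ} (h : IsIntegral (locRing M) z) :
    MemLocalRing M z := by
  classical
  obtain ⟨f, hf, hz⟩ := h
  choose a b hb hab using fun i : ℕ => (f.coeff i).2
  set B : AlgInt := ∏ i ∈ Finset.range f.natDegree, b i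
  have hB : B ∉ M := Finset.prod_induction _ (· ∉ M) (fun _ _ => mul_notMem) one_notMem
    fun i _ => hb i
  have hint : IsIntegral AlgInt ((B : ℂ) * z) := by
    set c : ℕ → AlgInt := fun i =>
      a i * (∏ j ∈ (Finset.range f.natDegree).erase i, b j) * B ^ (f.natDegree - 1 - i)
    refine ⟨X ^ f.natDegree + ∑ i ∈ Finset.range f.natDegree, C (c i) * X ^ i,
      monic_X_pow_add ?_, ?_⟩
    · refine (degree_sum_le _ _).trans_lt ((Finset.sup_lt_iff ?_).mpr fun i hi => ?_)
      · exact WithBot.bot_lt_coe _
      · exact (degree_C_mul_X_pow_le _ _).trans_lt (by exact_mod_cast Finset.mem_range.mp hi)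
    · rw [eval₂_eq_sum_range, Finset.sum_range_succ, hf.coeff_natDegree, map_one, one_mul] at hz
      rw [eval₂_add, eval₂_X_pow, eval₂_finsetSum, mul_pow]
      have hterm : ∀ i ∈ Finset.range f.natDegree,
          eval₂ (algebraMap AlgInt ℂ) ((B : ℂ) * z) (C (c i) * X ^ i) =
            (B : ℂ) ^ f.natDegree * ((f.coeff i : ℂ) * z ^ i) := fun i hi => by
        rw [eval₂_mul, eval₂_C, eval₂_X_pow, ← hab i, mul_pow]
        have hne := coe_ne_zero_of_notMem (hb i)
        have hBe : (B : ℂ) = (b i : ℂ) *
            ((∏ j ∈ (Finset.range f.natDegree).erase i, b j : AlgInt) : ℂ) := by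
          exact_mod_cast (Finset.mul_prod_erase _ _ hi).symm
        have hn : f.natDegree = (f.natDegree - 1 - i) + 1 + i := by
          have := Finset.mem_range.mp hi
          omega
        conv_rhs => rw [hn, pow_add, pow_succ]
        show ((c i : AlgInt) : ℂ) * _ = _
        simp only [c]
        push_cast
        rw [hBe]
        field_simp
        push_cast
        ring
      rw [Finset.sum_congr rfl hterm, ← Finset.mul_sum, ← mul_add, add_comm]
      exact mul_eq_zero_of_right _ hz
  refine ⟨⟨_, isIntegral_trans _ hint⟩, B, hB, ?_⟩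
  exact mul_div_cancel_left₀ z (coe_ne_zero_of_notMem hB)

/-- A monic polynomial over the local ring divides a split one: it has all roots there. -/
theorem exists_roots_of_monic {f : (locRing M)[X]} (hf : f.Monic) :
    ∃ s : Multiset (locRing M), f = (s.map fun r => X - C r).prod := by
  set g := f.map (locRing M).subtype
  have hg : g.Monic := hf.map _
  have hroot : ∀ z ∈ g.roots, z ∈ locRing M := fun z hz => by
    refine mem_locRing.mpr (memLocalRing_of_isIntegral_locRing ⟨f, hf, ?_⟩)
    have := (mem_roots hg.ne_zero).mp hz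
    rw [IsRoot, eval_map] at this
    exact this
  refine ⟨g.roots.attach.map fun z => ⟨z.1, hroot z.1 z.2⟩,
    map_injective (locRing M).subtype Subtype.val_injective ?_⟩
  rw [← coe_mapRingHom, map_multiset_prod, Multiset.map_map, Multiset.map_map]
  show g = _
  conv_lhs => rw [(IsAlgClosed.splits g).eq_prod_roots_of_monic hg, ← g.roots.attach_map_val,
    Multiset.map_map]
  exact congrArg Multiset.prod (Multiset.map_congr rfl fun z _ => by simp)

/-- The residue field is algebraically closed. -/
instance instIsAlgClosedResField : IsAlgClosed (ResField M) := by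
  refine IsAlgClosed.of_exists_root _ fun q hq hirr => ?_
  obtain ⟨f, hfq, hdeg, hf⟩ := lifts_and_degree_eq_and_monic
    ((mem_lifts q).mpr (Polynomial.map_surjective _ Ideal.Quotient.mk_surjective q)) hq
  obtain ⟨s, rfl⟩ := exists_roots_of_monic hf
  rcases s.empty_or_exists_mem with rfl | ⟨r, hr⟩
  · refine absurd hirr.degree_pos ?_
    rw [← hdeg]
    simp
  · refine ⟨Ideal.Quotient.mk _ r, ?_⟩
    rw [← hfq, eval_map, eval₂_at_apply, eval_multiset_prod, Multiset.map_map,
      Multiset.prod_eq_zero (Multiset.mem_map.mpr ⟨r, hr, by simp⟩), map_zero]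

instance instFiniteKG : Module.Finite (ResField M) (KG M G) :=
  Module.Finite.of_basis (MonoidAlgebra.basis G (ResField M))

instance instFiniteOG : Module.Finite (locRing M) (OG M G) :=
  Module.Finite.of_basis (MonoidAlgebra.basis G (locRing M))

theorem coeff_mul_fintype {R : Type*} [CommRing R] (a b : MonoidAlgebra R G) (g : G) :
    (a * b).coeff g = ∑ h, a.coeff h * b.coeff (h⁻¹ * g) := by
  rw [MonoidAlgebra.coeff_mul_apply_left]
  exact Finsupp.sum_fintype _ _ fun h => by simp

/-- An element congruent to one is a unit. -/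
theorem isUnit_of_red_eq_one {v : OG M G} (hv : red v = 1) : IsUnit v := by
  classical
  have key : ∀ w : OG M G, red w = 1 → ∃ z, w * z = 1 := fun w hw => by
    set N : Matrix G G (locRing M) := Matrix.of fun g h => w.coeff (g * h⁻¹)
    have hN : IsUnit N.det := by
      rw [isUnit_iff_not_mem_locIdeal]
      intro h0
      have h2 := RingHom.map_det (Ideal.Quotient.mk (locIdeal M)) N
      rw [Ideal.Quotient.eq_zero_iff_mem.mpr h0, RingHom.mapMatrix_apply,
        show N.map (Ideal.Quotient.mk (locIdeal M)) = 1 from Matrix.ext fun g h => by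
          rw [Matrix.map_apply]
          show Ideal.Quotient.mk (locIdeal M) (w.coeff _) = _
          rw [← coeff_red, hw]
          simp [MonoidAlgebra.one_def, Finsupp.single_apply, Matrix.one_apply, mul_inv_eq_one,
            eq_comm],
        Matrix.det_one] at h2
      exact zero_ne_one h2
    refine ⟨ofFun (N⁻¹.mulVec fun g => (1 : OG M G).coeff g),
      MonoidAlgebra.ext (Finsupp.ext fun g => ?_)⟩
    have h3 : N.mulVec (N⁻¹.mulVec fun g => (1 : OG M G).coeff g) =
        fun g => (1 : OG M G).coeff g := by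
      rw [Matrix.mulVec_mulVec, Matrix.mul_nonsing_inv _ hN, Matrix.one_mulVec]
    rw [← congrFun h3 g, coeff_mul_fintype]
    refine Fintype.sum_equiv ((Equiv.inv G).trans (Equiv.mulRight g)) _ _ fun h => ?_
    simp [N, coeff_ofFun]
  obtain ⟨z, hz⟩ := key v hv
  have hzr : red z = 1 := by
    have := congrArg red hz
    rwa [map_mul, hv, one_mul, map_one] at this
  obtain ⟨z', hz'⟩ := key z hzr
  have hvz' : v = z' := by
    calc v = v * (z * z') := by rw [hz', mul_one]
      _ = z' := by rw [← mul_assoc, hz, one_mul]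
  exact ⟨⟨v, z, hz, by rw [hvz']; exact hz'⟩, rfl⟩

/-- An idempotent congruent to zero is zero. -/
theorem eq_zero_of_red_eq_zero {d : OG M G} (hd : IsIdempotentElem d) (h : red d = 0) : d = 0 := by
  refine (isUnit_of_red_eq_one (v := 1 - d) (by simp [h])).mul_right_eq_zero.mp ?_
  rw [sub_mul, one_mul, hd.eq, sub_self]

theorem exists_lift_fix {S : Set G} {a : KG M G} (ha : a ∈ fixAlg (ResField M) S) :
    ∃ b ∈ fixAlg (locRing M) S, red b = a := by
  refine ⟨ofFun fun g => Function.surjInv Ideal.Quotient.mk_surjective (a.coeff g),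
    mem_fixAlg_iff.mpr fun s hs g => ?_, MonoidAlgebra.ext (Finsupp.ext fun g => ?_)⟩
  · rw [coeff_ofFun, coeff_ofFun, mem_fixAlg_iff.mp ha s hs g]
  · rw [coeff_red, coeff_ofFun]
    exact Function.surjInv_eq Ideal.Quotient.mk_surjective _

/-- Lifting of idempotents, orthogonally to a given one. -/
theorem exists_lift_idempotent {S : Set G} {i : KG M G} (hi : IsIdempotentElem i)
    (hiS : i ∈ fixAlg (ResField M) S) {e₁ : OG M G} (he₁ : IsIdempotentElem e₁)
    (he₁S : e₁ ∈ fixAlg (locRing M) S) (h₁ : red e₁ * i = 0) (h₂ : i * red e₁ = 0) :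
    ∃ e ∈ fixAlg (locRing M) S, IsIdempotentElem e ∧ red e = i ∧ e * e₁ = 0 ∧ e₁ * e = 0 := by
  classical
  obtain ⟨a₀, ha₀, rfl⟩ := exists_lift_fix hiS
  set a : OG M G := (1 - e₁) * a₀ * (1 - e₁)
  have ha : a ∈ fixAlg (locRing M) S :=
    mul_mem (mul_mem (sub_mem (one_mem _) he₁S) ha₀) (sub_mem (one_mem _) he₁S)
  have hra : red a = red a₀ := by
    simp only [a, map_mul, map_sub, sub_mul, one_mul, mul_sub, mul_one, h₁, h₂, zero_mul,
      sub_zero]
  have hae : a * e₁ = 0 := by
    simp only [a, mul_assoc, sub_mul, one_mul, he₁.eq, sub_self, mul_zero]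
  have hea : e₁ * a = 0 := by
    simp only [a, ← mul_assoc, mul_sub, mul_one, he₁.eq, sub_self, zero_mul]
  obtain ⟨f, hf, hfa⟩ := Algebra.IsIntegral.isIntegral (R := locRing M) a
  rw [← aeval_def] at hfa
  obtain ⟨s, rfl⟩ := exists_roots_of_monic hf
  -- the roots in the ideal and the others
  set s₀ := s.filter (· ∈ locIdeal M)
  set s₁ := s.filter (fun r => ¬ r ∈ locIdeal M)
  set g : (locRing M)[X] := X * (s₀.map fun r => X - C r).prod
  set h : (locRing M)[X] := (s₁.map fun r => X - C r).prod
  have hcop : IsCoprime g h := by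
    have key : ∀ t : locRing M, t ∈ locIdeal M → IsCoprime (X - C t) h := fun t ht => by
      suffices ∀ u : Multiset (locRing M), (∀ r ∈ u, r ∉ locIdeal M) →
          IsCoprime (X - C t) (u.map fun r => X - C r).prod from
        this s₁ fun r hr => (Multiset.mem_filter.mp hr).2
      intro u hu
      induction u using Multiset.induction with
      | empty => simpa using isCoprime_one_right
      | cons r u ih =>
        rw [Multiset.map_cons, Multiset.prod_cons]
        refine IsCoprime.mul_right (isCoprime_X_sub_C_of_isUnit_sub ?_)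
          (ih fun x hx => hu x (Multiset.mem_cons_of_mem hx))
        rw [isUnit_iff_not_mem_locIdeal]
        intro hc
        exact hu r (Multiset.mem_cons_self r u) (by simpa using sub_mem ht hc)
    refine IsCoprime.mul_left (by simpa using key 0 (zero_mem _)) ?_
    suffices ∀ u : Multiset (locRing M), (∀ r ∈ u, r ∈ locIdeal M) →
        IsCoprime (u.map fun r => X - C r).prod h from
      this s₀ fun r hr => (Multiset.mem_filter.mp hr).2
    intro u hu
    induction u using Multiset.induction with
    | empty => simpa using isCoprime_one_left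
    | cons r u ih =>
      rw [Multiset.map_cons, Multiset.prod_cons]
      exact IsCoprime.mul_left (key r (hu r (Multiset.mem_cons_self r u)))
        (ih fun x hx => hu x (Multiset.mem_cons_of_mem hx))
  obtain ⟨x, y, hxy⟩ := hcop
  have hgh : aeval a (g * h) = 0 := by
    rw [show g * h = X * (s.map fun r => X - C r).prod by
      rw [← Multiset.filter_add_not (· ∈ locIdeal M) s, Multiset.map_add, Multiset.prod_add]
      ring, map_mul, hfa, mul_zero]
  set q : (locRing M)[X] := x * (s₀.map fun r => X - C r).prod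
  have hq : aeval a (x * g) = a * aeval a q := by
    rw [show x * g = X * q by ring, map_mul, aeval_X]
  have hyh : aeval a (x * g) + aeval a (y * h) = 1 := by rw [← map_add, hxy, map_one]
  refine ⟨aeval a (x * g), aeval_mem_subalgebra _ ha _, ?_, ?_, ?_, ?_⟩
  · rw [IsIdempotentElem, ← sub_eq_zero, ← map_mul, ← map_sub,
      show x * g * (x * g) - x * g = -(x * y) * (g * h) from by linear_combination (x * g) * hxy,
      map_mul, hgh, mul_zero]
  · -- the reduction
    set i' := red (aeval a (x * g))
    have hi' : red a * (1 - i') = 0 := by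
      have h3 : i' + red (aeval a (y * h)) = 1 := by rw [← map_add, hyh, map_one]
      rw [show (1 : KG M G) - i' = red (aeval a (y * h)) from sub_eq_of_eq_add' h3.symm,
        ← map_mul, show a * aeval a (y * h) = aeval a (y * (X * h)) from by
          rw [show y * (X * h) = X * (y * h) by ring, map_mul (aeval a) X, aeval_X],
        map_mul (aeval a), map_mul red]
      suffices h4 : red (aeval a (X * h)) = 0 by rw [h4, mul_zero]
      have hpow : ∀ n, 0 < n → red a ^ n = red a := fun n hn => by
        rw [hra]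
        obtain ⟨m, rfl⟩ := Nat.exists_eq_add_of_le' hn
        exact hi.pow_succ_eq m
      have hprod : ∀ u : Multiset (locRing M), (∀ r ∈ u, r ∈ locIdeal M) →
          red (aeval a (u.map fun r => X - C r).prod) = red a ^ Multiset.card u := by
        intro u hu
        induction u using Multiset.induction with
        | empty => simp
        | cons r u ih =>
          rw [Multiset.map_cons, Multiset.prod_cons, map_mul, map_mul,
            ih fun x hx => hu x (Multiset.mem_cons_of_mem hx), Multiset.card_cons, pow_succ',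
            map_sub, map_sub, aeval_X, aeval_C,
            show red (algebraMap (locRing M) (OG M G) r) = 0 from
              MonoidAlgebra.ext (Finsupp.ext fun g => by
                rw [coeff_red]
                by_cases hg : g = 1
                · subst hg
                  simpa [Ideal.Quotient.eq_zero_iff_mem] using hu r (Multiset.mem_cons_self r u)
                · simp [Ne.symm hg]), sub_zero]
      have h5 := congrArg red hgh
      rw [map_zero, show g * h = (s₀.map fun r => X - C r).prod * (X * h) by ring,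
        map_mul (aeval a), map_mul red, hprod s₀ fun r hr => (Multiset.mem_filter.mp hr).2,
        map_mul (aeval a) X, aeval_X, map_mul red a, ← mul_assoc, ← pow_succ,
        hpow _ (Nat.succ_pos _)] at h5
      rw [map_mul (aeval a) X, aeval_X, map_mul red a]
      exact h5
    have h6 : i' = red a * i' := by
      simp only [i', hq, map_mul, ← mul_assoc]
      rw [hra, hi.eq]
    rw [h6, ← hra]
    rw [mul_sub, mul_one, sub_eq_zero] at hi'
    exact hi'.symm
  · have hcq : Commute a (aeval a q) := (Subalgebra.mem_centralizer_iff _).mp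
      (aeval_mem_subalgebra (Subalgebra.centralizer (locRing M) {a})
        ((Subalgebra.mem_centralizer_iff _).mpr fun g hg => by rw [Set.mem_singleton_iff.mp hg]) q)
      a rfl
    rw [hq, hcq.eq, mul_assoc, hae, mul_zero]
  · rw [hq, ← mul_assoc, hea, zero_mul]

theorem exists_lift_idempotent' {S : Set G} {i : KG M G} (hi : IsIdempotentElem i)
    (hiS : i ∈ fixAlg (ResField M) S) :
    ∃ e ∈ fixAlg (locRing M) S, IsIdempotentElem e ∧ red e = i := by
  obtain ⟨e, he, hi', hr, -, -⟩ :=
    exists_lift_idempotent hi hiS IsIdempotentElem.zero (zero_mem _) (by simp) (by simp)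
  exact ⟨e, he, hi', hr⟩

/-! ### Traces -/

/-- The linear extension of a function on the group. -/
noncomputable def chiSum (χ : G → ℂ) (a : OG M G) : ℂ := ∑ g, (a.coeff g : ℂ) * χ g

theorem chiSum_add (χ : G → ℂ) (a b : OG M G) : chiSum χ (a + b) = chiSum χ a + chiSum χ b := by
  simp [chiSum, add_mul, Finset.sum_add_distrib]

theorem chiSum_mul (χ : G → ℂ) (a b : OG M G) :
    chiSum χ (a * b) = ∑ h, ∑ k, (a.coeff h : ℂ) * (b.coeff k : ℂ) * χ (h * k) := by
  simp only [chiSum, coeff_mul_fintype, AddSubmonoidClass.coe_finsetSum, MulMemClass.coe_mul,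
    Finset.sum_mul]
  rw [Finset.sum_comm]
  refine Finset.sum_congr rfl fun h _ => Fintype.sum_equiv (Equiv.mulLeft h⁻¹) _ _ fun g => ?_
  simp

theorem chiSum_mul_comm {χ : G → ℂ} (hχ : IsClassFunction G χ) (a b : OG M G) :
    chiSum χ (a * b) = chiSum χ (b * a) := by
  rw [chiSum_mul, chiSum_mul, Finset.sum_comm]
  refine Finset.sum_congr rfl fun k _ => Finset.sum_congr rfl fun h _ => ?_
  rw [mul_comm (a.coeff h : ℂ), ← hχ (h * k) k]
  congr 2
  group

theorem chiSum_mul_dlt (χ : G → ℂ) (a : OG M G) (x : G) :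
    chiSum χ (a * dlt (locRing M) x) = ∑ z, (a.coeff z : ℂ) * χ (z * x) := by
  refine Fintype.sum_equiv (Equiv.mulRight x⁻¹) _ _ fun g => ?_
  simp

/-- Equivalent idempotents have equal traces. -/
theorem chiSum_eq_of_equiv {χ : G → ℂ} (hχ : IsClassFunction G χ) {x : G} {e e' : OG M G}
    (he : IsIdempotentElem e) (he' : IsIdempotentElem e') (hex : e ∈ fixAlg (locRing M) {x})
    (hex' : e' ∈ fixAlg (locRing M) {x}) {c d : KG M G} (hc : c ∈ fixAlg (ResField M) {x})
    (hd : d ∈ fixAlg (ResField M) {x}) (hcd : c * d = red e) (hdc : d * c = red e') :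
    chiSum χ (e * dlt (locRing M) x) = chiSum χ (e' * dlt (locRing M) x) := by
  obtain ⟨a₀, ha₀, rfl⟩ := exists_lift_fix hc
  obtain ⟨b₀, hb₀, rfl⟩ := exists_lift_fix hd
  set a := e * a₀ * e'
  set b := e' * b₀ * e
  have haf : a ∈ fixAlg (locRing M) {x} := mul_mem (mul_mem hex ha₀) hex'
  have hbf : b ∈ fixAlg (locRing M) {x} := mul_mem (mul_mem hex' hb₀) hex
  have hii : red e * red e = red e := by rw [← map_mul, he.eq]
  have hii' : red e' * red e' = red e' := by rw [← map_mul, he'.eq]
  have hab : red (a * b) = red e := by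
    simp only [a, b, map_mul]
    rw [← hcd, ← hdc] at *
    calc red a₀ * red b₀ * red a₀ * (red b₀ * red a₀) * (red b₀ * red a₀ * red b₀ * (red a₀ * red b₀))
        = red a₀ * red b₀ * (red a₀ * red b₀) * (red a₀ * red b₀) * (red a₀ * red b₀) *
            (red a₀ * red b₀) := by simp only [mul_assoc]
      _ = _ := by rw [hii, hii, hii, hii]
  have hba : red (b * a) = red e' := by
    simp only [a, b, map_mul]
    rw [← hcd, ← hdc] at *
    calc red b₀ * red a₀ * red b₀ * (red a₀ * red b₀) * (red a₀ * red b₀ * red a₀ * (red b₀ * red a₀))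
        = red b₀ * red a₀ * (red b₀ * red a₀) * (red b₀ * red a₀) * (red b₀ * red a₀) *
            (red b₀ * red a₀) := by simp only [mul_assoc]
      _ = _ := by rw [hii', hii', hii', hii']
  set v := a * b + (1 - e)
  have hv : IsUnit v := isUnit_of_red_eq_one (by simp [v, hab])
  obtain ⟨v, hv'⟩ := hv
  have hvx : Commute (dlt (locRing M) x) (↑v⁻¹ : OG M G) := by
    refine Commute.units_inv_right ?_
    rw [hv']
    exact mem_fixAlg.mp (add_mem (mul_mem haf hbf) (sub_mem (one_mem _) hex)) x rfl
  set a' := (↑v⁻¹ : OG M G) * a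
  have hbe : b * e = b := by simp only [b, mul_assoc, he.eq]
  have hab' : a' * b = e := by
    have h1 : (v : OG M G) * e = a * b := by
      rw [hv', add_mul, sub_mul, one_mul, he.eq, sub_self, add_zero, mul_assoc, hbe]
    rw [mul_assoc, ← h1, Units.inv_mul_cancel_left]
  have hvr : red (↑v⁻¹ : OG M G) = 1 := by
    have h1 : red ((↑v⁻¹ : OG M G) * (v : OG M G)) = 1 := by rw [Units.inv_mul, map_one]
    rwa [map_mul, hv', show red (a * b + (1 - e)) = 1 by simp [hab], mul_one] at h1
  have hd' : e' - b * a' = 0 := by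
    refine eq_zero_of_red_eq_zero ?_ ?_
    · have h1 : e' * (b * a') = b * a' := by simp only [b, ← mul_assoc, he'.eq]
      have h2 : b * a' * e' = b * a' := by simp only [a', a, mul_assoc, he'.eq]
      have h3 : b * a' * (b * a') = b * a' := by
        rw [mul_assoc, ← mul_assoc a', hab', ← mul_assoc, hbe]
      rw [IsIdempotentElem, sub_mul, mul_sub, mul_sub, he'.eq, h1, h2, h3, sub_self, sub_zero]
    · rw [map_sub, map_mul red b a', show red a' = red (↑v⁻¹ : OG M G) * red a from map_mul _ _ _,
        hvr, one_mul, ← map_mul, hba, sub_self]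
  rw [sub_eq_zero] at hd'
  have ha'x : Commute (dlt (locRing M) x) a' := hvx.mul_right (mem_fixAlg.mp haf x rfl)
  rw [hd', ← hab']
  calc chiSum χ (a' * b * dlt (locRing M) x) = chiSum χ (b * dlt (locRing M) x * a') := by
        rw [mul_assoc a' b, chiSum_mul_comm hχ]
    _ = chiSum χ (b * a' * dlt (locRing M) x) := by rw [mul_assoc b _ a', mul_assoc b a', ha'x.eq]

/-- The trace of `χ` at `x` on an idempotent over the residue field commuting with `x`. -/
noncomputable def blkTrace (χ : G → ℂ) (x : G) (i : KG M G) : ℂ :=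
  open Classical in
  if h : ∃ e ∈ fixAlg (locRing M) {x}, IsIdempotentElem e ∧ red e = i then
    chiSum χ (h.choose * dlt (locRing M) x) else 0

theorem blkTrace_red {χ : G → ℂ} (hχ : IsClassFunction G χ) {x : G} {e : OG M G}
    (he : IsIdempotentElem e) (hex : e ∈ fixAlg (locRing M) {x}) :
    blkTrace χ x (red e) = chiSum χ (e * dlt (locRing M) x) := by
  have h : ∃ e' ∈ fixAlg (locRing M) {x}, IsIdempotentElem e' ∧ red e' = red e :=
    ⟨e, hex, he, rfl⟩
  rw [blkTrace, dif_pos h]
  obtain ⟨hx', hi', hr'⟩ := h.choose_spec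
  refine chiSum_eq_of_equiv hχ hi' he hx' hex (c := red e) (d := red e) (red_mem_fixAlg hex)
    (red_mem_fixAlg hex) ?_ ?_
  · rw [hr', ← map_mul, he.eq]
  · rw [← map_mul, he.eq]

theorem blkTrace_congr {χ : G → ℂ} (hχ : IsClassFunction G χ) {x : G} {i j c d : KG M G}
    (hi : IsIdempotentElem i) (hj : IsIdempotentElem j) (hix : i ∈ fixAlg (ResField M) {x})
    (hjx : j ∈ fixAlg (ResField M) {x}) (hc : c ∈ fixAlg (ResField M) {x})
    (hd : d ∈ fixAlg (ResField M) {x}) (hcd : c * d = i) (hdc : d * c = j) :
    blkTrace χ x i = blkTrace χ x j := by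
  obtain ⟨e, hex, he, rfl⟩ := exists_lift_idempotent' hi hix
  obtain ⟨e', hex', he', rfl⟩ := exists_lift_idempotent' hj hjx
  rw [blkTrace_red hχ he hex, blkTrace_red hχ he' hex']
  exact chiSum_eq_of_equiv hχ he he' hex hex' hc hd hcd hdc

theorem blkTrace_zero {χ : G → ℂ} (hχ : IsClassFunction G χ) (x : G) :
    blkTrace (M := M) χ x 0 = 0 := by
  rw [← map_zero (red (M := M) (G := G)), blkTrace_red hχ IsIdempotentElem.zero (zero_mem _)]
  simp [chiSum]

theorem blkTrace_add {χ : G → ℂ} (hχ : IsClassFunction G χ) {x : G} {i j : KG M G}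
    (hi : IsIdempotentElem i) (hj : IsIdempotentElem j) (hix : i ∈ fixAlg (ResField M) {x})
    (hjx : j ∈ fixAlg (ResField M) {x}) (hij : i * j = 0) (hji : j * i = 0) :
    blkTrace χ x (i + j) = blkTrace χ x i + blkTrace χ x j := by
  obtain ⟨e, hex, he, rfl⟩ := exists_lift_idempotent' hi hix
  obtain ⟨e', hex', he', rfl, h1, h2⟩ := exists_lift_idempotent hj hjx he hex hij hji
  have hs : IsIdempotentElem (e + e') := by
    rw [IsIdempotentElem, add_mul, mul_add, mul_add, he.eq, he'.eq, h1, h2, add_zero, zero_add]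
  rw [← map_add, blkTrace_red hχ hs (add_mem hex hex'), blkTrace_red hχ he hex,
    blkTrace_red hχ he' hex', add_mul, chiSum_add]

/-! ### Only the truncation at the centralizer of the `p`-part matters -/

variable {p : ℕ} {u r : G}

theorem fixAlg_pair_le_mul {R : Type*} [CommRing R] :
    fixAlg R ({u, r} : Set G) ≤ fixAlg R {u * r} := fun a ha =>
  mem_fixAlg.mpr fun s hs => by
    rw [Set.mem_singleton_iff.mp hs, ← dlt_mul]
    exact (mem_fixAlg.mp ha u (Or.inl rfl)).mul_left (mem_fixAlg.mp ha r (Or.inr rfl))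

theorem blkTrace_eq_zero_of_trunc (hM : IsPModular p M) (hur : Commute u r) {k : ℕ}
    (hu : orderOf u = p ^ k) (hr : ¬ p ∣ orderOf r) {χ : G → ℂ} (hχ : IsClassFunction G χ)
    {i : KG M G} (hi : IsIdempotentElem i) (hix : i ∈ fixAlg (ResField M) {u, r})
    (h0 : trunc (Subgroup.zpowers u) i = 0) : blkTrace χ (u * r) i = 0 := by
  obtain ⟨e, hex, he, rfl⟩ := exists_lift_idempotent' hi hix
  rw [blkTrace_red hχ he (fixAlg_pair_le_mul hex), chiSum_mul_dlt]
  refine sum_mul_eq_zero_of_brauer_zero hM hur hu hr (f := fun g => (e.coeff g : ℂ))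
    (fun z => (e.coeff z).2) ?_ (fun z => ?_) (fun z hz => ?_) hχ
  · funext z
    have h1 := congrArg (fun a : OG M G => (a.coeff z : ℂ)) he.eq
    simpa [conv, coeff_mul_fintype] using h1
  · exact congrArg Subtype.val (mem_fixAlg_iff.mp (fixAlg_pair_le_mul hex) _ rfl z)
  · have hzC : z ∈ Subgroup.centralizer (Subgroup.zpowers u : Set G) :=
      Subgroup.mem_centralizer_iff.mpr fun q hq => by
        obtain ⟨n, rfl⟩ := Subgroup.mem_zpowers_iff.mp hq
        exact (hz.symm.zpow_left n).eq
    have h1 := DFunLike.congr_fun (congrArg MonoidAlgebra.coeff h0) z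
    rw [coeff_trunc_of_mem _ hzC, coeff_red] at h1
    exact mem_locIdeal.mp (Ideal.Quotient.eq_zero_iff_mem.mp (by simpa using h1))

theorem blkTrace_eq_of_trunc_eq (hM : IsPModular p M) (hur : Commute u r) {k : ℕ}
    (hu : orderOf u = p ^ k) (hr : ¬ p ∣ orderOf r) {χ : G → ℂ} (hχ : IsClassFunction G χ)
    {i j : KG M G} (hi : IsIdempotentElem i) (hj : IsIdempotentElem j)
    (hix : i ∈ fixAlg (ResField M) {u, r}) (hjx : j ∈ fixAlg (ResField M) {u, r})
    (h0 : trunc (Subgroup.zpowers u) i = trunc (Subgroup.zpowers u) j) :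
    blkTrace χ (u * r) i = blkTrace χ (u * r) j := by
  classical
  have : Fact p.Prime := ⟨hM.1⟩
  have := charP_resField hM
  have hU : IsPGroup p (Subgroup.zpowers u) :=
    IsPGroup.of_card (n := k) (by rw [Nat.card_zpowers, hu])
  have hfu : ∀ {a : KG M G}, a ∈ fixAlg (ResField M) {u, r} →
      a ∈ fixAlg (ResField M) (Subgroup.zpowers u : Set G) := fun ha => by
    rw [fixAlg_zpowers]
    exact fixAlg_anti (by simp) ha
  set s := i * j * i
  have hsx : s ∈ fixAlg (ResField M) {u, r} := mul_mem (mul_mem hix hjx) hix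
  have his : i * s = s := by simp only [s, ← mul_assoc, hi.eq]
  have hsi : s * i = s := by simp only [s, mul_assoc, hi.eq]
  obtain ⟨q, n, he₁, hn⟩ := exists_fitting_idempotent (K := ResField M) s
  set t := aeval s q
  set e₁ := s * t
  have htx : t ∈ fixAlg (ResField M) {u, r} := aeval_mem_subalgebra _ hsx q
  have he₁x : e₁ ∈ fixAlg (ResField M) {u, r} := mul_mem hsx htx
  have hit : Commute i t := by
    have : t ∈ Subalgebra.centralizer (ResField M) ({i} : Set (KG M G)) :=
      aeval_mem_subalgebra _ ((Subalgebra.mem_centralizer_iff _).mpr fun g hg => by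
        rw [Set.mem_singleton_iff.mp hg, his, hsi]) q
    exact (Subalgebra.mem_centralizer_iff _).mp this i rfl
  have he₁i : e₁ * i = e₁ := by
    simp only [e₁]
    rw [mul_assoc, ← hit.eq, ← mul_assoc, hsi]
  have hie₁ : i * e₁ = e₁ := by simp only [e₁]; rw [← mul_assoc, his]
  set z := trunc (Subgroup.zpowers u) i
  have hz : IsIdempotentElem z := isIdempotentElem_trunc hU (hfu hix) hi
  have hzs : trunc (Subgroup.zpowers u) s = z := by
    rw [trunc_mul hU (hfu (mul_mem hix hjx)) (hfu hix), trunc_mul hU (hfu hix) (hfu hjx),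
      show trunc (Subgroup.zpowers u) j = z from h0.symm, hz.eq, hz.eq]
  have hzn : ∀ m, trunc (Subgroup.zpowers u) (s ^ m) * z = z := by
    intro m
    induction m with
    | zero => rw [pow_zero, trunc_one, one_mul]
    | succ m ih => rw [pow_succ, trunc_mul hU (hfu (pow_mem hsx m)) (hfu hsx), hzs, mul_assoc,
        hz.eq, ih]
  have hze₁ : trunc (Subgroup.zpowers u) e₁ = z := by
    have h1 : trunc (Subgroup.zpowers u) e₁ = z * trunc (Subgroup.zpowers u) e₁ := by
      rw [← trunc_mul hU (hfu hix) (hfu he₁x), hie₁]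
    have h2 : trunc (Subgroup.zpowers u) e₁ = trunc (Subgroup.zpowers u) e₁ * z := by
      rw [← trunc_mul hU (hfu he₁x) (hfu hix), he₁i]
    have h3 := congrArg (trunc (Subgroup.zpowers u)) hn
    rw [trunc_mul hU (hfu (pow_mem hsx n)) (hfu he₁x)] at h3
    have h4 : trunc (Subgroup.zpowers u) (s ^ n) * z * trunc (Subgroup.zpowers u) e₁ * z =
        trunc (Subgroup.zpowers u) (s ^ n) * z := by
      rw [mul_assoc _ z, ← h1, h3]
    rwa [hzn, ← h1, ← h2] at h4
  have hzt : z * trunc (Subgroup.zpowers u) t = z := by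
    rw [← hzs, ← trunc_mul hU (hfu hsx) (hfu htx), hzs]
    exact hze₁
  -- an equivalent idempotent below `j`
  set a := e₁ * j
  set b := j * i * t * e₁
  have hab : a * b = e₁ := by
    calc a * b = e₁ * (i * j * j * i) * t * e₁ := by
          simp only [a, b, ← mul_assoc, he₁i]
      _ = e₁ * s * t * e₁ := by rw [mul_assoc i j j, hj.eq]
      _ = _ := by rw [mul_assoc e₁ s t, he₁.eq, he₁.eq]
  set f₁ := b * a
  have hf₁ : IsIdempotentElem f₁ := by
    rw [IsIdempotentElem]
    show b * a * (b * a) = b * a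
    rw [mul_assoc b, ← mul_assoc a, hab, show e₁ * a = a by simp only [a, ← mul_assoc, he₁.eq]]
  have hjf₁ : j * f₁ = f₁ := by simp only [f₁, b, ← mul_assoc, hj.eq]
  have hf₁j : f₁ * j = f₁ := by simp only [f₁, a, mul_assoc, hj.eq]
  have hax : a ∈ fixAlg (ResField M) {u, r} := mul_mem he₁x hjx
  have hbx : b ∈ fixAlg (ResField M) {u, r} := mul_mem (mul_mem (mul_mem hjx hix) htx) he₁x
  have hzf₁ : trunc (Subgroup.zpowers u) f₁ = z := by
    rw [trunc_mul hU (hfu hbx) (hfu hax),
      trunc_mul hU (hfu (mul_mem (mul_mem hjx hix) htx)) (hfu he₁x),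
      trunc_mul hU (hfu (mul_mem hjx hix)) (hfu htx), trunc_mul hU (hfu hjx) (hfu hix),
      trunc_mul hU (hfu he₁x) (hfu hjx), hze₁, show trunc (Subgroup.zpowers u) j = z from h0.symm,
      show trunc (Subgroup.zpowers u) i = z from rfl, hz.eq, hzt, hz.eq, hz.eq]
  have hd₁ : IsIdempotentElem (i - e₁) := by
    rw [IsIdempotentElem, sub_mul, mul_sub, mul_sub, hi.eq, he₁.eq, hie₁, he₁i, sub_self, sub_zero]
  have hd₂ : IsIdempotentElem (j - f₁) := by
    rw [IsIdempotentElem, sub_mul, mul_sub, mul_sub, hj.eq, hf₁.eq, hjf₁, hf₁j, sub_self, sub_zero]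
  have hle := fixAlg_pair_le_mul (R := ResField M) (u := u) (r := r)
  have hzero₁ : blkTrace χ (u * r) (i - e₁) = 0 :=
    blkTrace_eq_zero_of_trunc hM hur hu hr hχ hd₁ (sub_mem hix he₁x)
      (by rw [map_sub, hze₁, sub_self])
  have hzero₂ : blkTrace χ (u * r) (j - f₁) = 0 :=
    blkTrace_eq_zero_of_trunc hM hur hu hr hχ hd₂ (sub_mem hjx (mul_mem hbx hax))
      (by rw [map_sub, hzf₁, sub_eq_zero]; exact h0.symm)
  rw [← add_sub_cancel e₁ i, blkTrace_add hχ he₁ hd₁ (hle he₁x) (hle (sub_mem hix he₁x))
      (by rw [mul_sub, he₁i, he₁.eq, sub_self]) (by rw [sub_mul, hie₁, he₁.eq, sub_self]),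
    ← add_sub_cancel f₁ j, blkTrace_add hχ hf₁ hd₂ (hle (mul_mem hbx hax))
      (hle (sub_mem hjx (mul_mem hbx hax)))
      (by rw [mul_sub, hf₁j, hf₁.eq, sub_self]) (by rw [sub_mul, hjf₁, hf₁.eq, sub_self]),
    hzero₁, hzero₂,
    blkTrace_congr hχ he₁ hf₁ (hle he₁x) (hle (mul_mem hbx hax)) (hle hax) (hle hbx) hab rfl]

end CfsgLib.Blocks
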