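import Cfsg.Agent.Lib.Blocks.GroupRing
import Cfsg.Agent.Lib.Blocks.IdempotentLift

/-!
# Fixed elements with zero truncation are sums of traces from maximal subgroups

An element of `K[G]` fixed by a `p`-group `Q` and by a `p'`-group `R` centralizing it, whose
coefficients at `C_G(Q)` vanish, is a sum of relative traces of elements fixed by `N` and `R`,
for the maximal subgroups `N` of `Q`.
-/

set_option autoImplicit false
set_option linter.unusedSectionVars false

namespace CfsgLib.GrpRing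

variable {p : ℕ} [hp : Fact p.Prime] {G : Type*} [Group G] [Fintype G] {Q : Subgroup G}

/-- The normal subgroups of index `p`. -/
def maxNormals (p : ℕ) (Q : Subgroup G) : Set (Subgroup G) :=
  {N | N ≤ Q ∧ Q ≤ Subgroup.normalizer (N : Set G) ∧ N.relIndex Q = p}

theorem exists_mem_maxNormals (hQ : IsPGroup p Q) {C : Subgroup G} (hC : C < Q) :
    ∃ N ∈ maxNormals p Q, C ≤ N := by
  obtain ⟨N, hCN, hN⟩ := (Set.toFinite {R : Subgroup G | R < Q}).exists_le_maximal
    (show C ∈ {R : Subgroup G | R < Q} from hC)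
  have hNQ : N < Q := hN.1
  have hnil : Group.IsNilpotent Q := hQ.isNilpotent
  have hlt : N.subgroupOf Q < ⊤ := lt_top_iff_ne_top.mpr fun he =>
    hNQ.not_ge (Subgroup.subgroupOf_eq_top.mp he)
  have hcoatom : IsCoatom (N.subgroupOf Q) := by
    refine ⟨hlt.ne, fun K hK => ?_⟩
    by_contra hne
    have h1 : K.map Q.subtype < Q := by
      refine lt_of_le_of_ne (Subgroup.map_subtype_le K) fun h => hne ?_
      refine Subgroup.map_injective Q.subtype_injective ?_
      rw [h, ← MonoidHom.range_eq_map, Subgroup.range_subtype]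
    have h2 : N ≤ K.map Q.subtype := fun x hx => ⟨⟨x, hNQ.le hx⟩, hK.le hx, rfl⟩
    have h3 := hN.2 h1 h2
    refine hK.not_ge fun x hx => ?_
    exact h3 ⟨x, hx, rfl⟩
  have hnormal : (N.subgroupOf Q).Normal :=
    Subgroup.NormalizerCondition.normal_of_coatom _ (Group.normalizerCondition_of_isNilpotent) hcoatom
  refine ⟨N, ⟨hNQ.le, fun x hx => ?_, ?_⟩, hCN⟩
  · refine Subgroup.mem_normalizer_iff.mpr fun y => ?_
    constructor
    · intro hy
      have := hnormal.conj_mem ⟨y, hNQ.le hy⟩ (Subgroup.mem_subgroupOf.mpr hy) ⟨x, hx⟩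
      simpa [Subgroup.mem_subgroupOf] using this
    · intro hy
      have hyQ : y ∈ Q := by
        have := Q.mul_mem (Q.mul_mem (Q.inv_mem hx) (hNQ.le hy)) hx
        simpa [mul_assoc] using this
      have := hnormal.conj_mem ⟨x * y * x⁻¹, hNQ.le hy⟩ (Subgroup.mem_subgroupOf.mpr hy)
        ⟨x⁻¹, inv_mem hx⟩
      simpa [Subgroup.mem_subgroupOf, mul_assoc] using this
  · show (N.subgroupOf Q).index = p
    obtain ⟨n, hn⟩ := IsPGroup.iff_card.mp hQ
    obtain ⟨k, hk⟩ := IsPGroup.iff_card.mp (hQ.to_subgroup (N.subgroupOf Q))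
    have hkn : k < n := by
      by_contra hle
      push Not at hle
      refine hlt.ne (Subgroup.eq_top_of_le_card _ ?_)
      rw [hk, hn]
      exact Nat.pow_le_pow_right hp.out.pos hle
    obtain ⟨K, hK, hKN⟩ := Sylow.exists_subgroup_card_pow_succ
      (show p ^ (k + 1) ∣ Nat.card Q from hn ▸ pow_dvd_pow p hkn) hk
    have hKtop : K = ⊤ := hcoatom.2 K (lt_of_le_of_ne hKN fun h => by
      rw [← h, hk] at hK
      exact (Nat.pow_lt_pow_right hp.out.one_lt (Nat.lt_succ_self k)).ne hK)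
    rw [hKtop, Subgroup.card_top, hn] at hK
    have h1 := (N.subgroupOf Q).card_mul_index
    rw [hk, hn, hK, pow_succ] at h1
    exact Nat.eq_of_mul_eq_mul_left (pow_pos hp.out.pos k) h1

theorem exists_notMem_of_maxNormals {N : Subgroup G} (hN : N ∈ maxNormals p Q) :
    ∃ s ∈ Q, s ∉ N := by
  by_contra hcon
  push Not at hcon
  have h1 := hN.2.2
  rw [Subgroup.relIndex_eq_one.mpr hcon] at h1
  exact hp.out.ne_one h1.symm

theorem pow_mem_of_maxNormals {N : Subgroup G} (hN : N ∈ maxNormals p Q) {s : G} (hs : s ∈ Q) :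
    s ^ p ∈ N := by
  have : (N.subgroupOf Q).Normal := Subgroup.normal_subgroupOf_of_le_normalizer hN.2.1
  have h1 : ((⟨s, hs⟩ : Q) : Q ⧸ N.subgroupOf Q) ^ p = 1 := by
    conv_lhs => rw [← hN.2.2, Subgroup.relIndex, Subgroup.index_eq_card]
    exact pow_card_eq_one'
  rw [← QuotientGroup.mk_pow, QuotientGroup.eq_one_iff, Subgroup.mem_subgroupOf] at h1
  simpa using h1

theorem coset_index {N : Subgroup G} (hN : N ∈ maxNormals p Q) {s : G} (hs : s ∈ Q) (hsN : s ∉ N)
    {t : G} (ht : t ∈ Q) :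
    ∃ j < p, (s ^ j)⁻¹ * t ∈ N ∧ ∀ k < p, (s ^ k)⁻¹ * t ∈ N → k = j := by
  have : (N.subgroupOf Q).Normal := Subgroup.normal_subgroupOf_of_le_normalizer hN.2.1
  set σ : Q ⧸ N.subgroupOf Q := ((⟨s, hs⟩ : Q) : Q ⧸ N.subgroupOf Q)
  have hcard : Nat.card (Q ⧸ N.subgroupOf Q) = p := by
    rw [← Subgroup.index_eq_card]; exact hN.2.2
  have hσ1 : σ ≠ 1 := fun h => hsN (by
    rw [QuotientGroup.eq_one_iff, Subgroup.mem_subgroupOf] at h
    exact h)
  have hord : orderOf σ = p := by
    have h1 : orderOf σ ∣ p := hcard ▸ orderOf_dvd_natCard σ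
    exact ((Nat.dvd_prime hp.out).mp h1).resolve_left (fun h => hσ1 (orderOf_eq_one_iff.mp h))
  have hmem : ((⟨t, ht⟩ : Q) : Q ⧸ N.subgroupOf Q) ∈ Subgroup.zpowers σ := by
    have htop : Subgroup.zpowers σ = ⊤ :=
      Subgroup.eq_top_of_card_eq _ (by rw [Nat.card_zpowers, hord, hcard])
    rw [htop]
    exact Subgroup.mem_top _
  obtain ⟨m, hm⟩ := (IsOfFinOrder.mem_powers_iff_mem_zpowers (isOfFinOrder_of_finite σ)).mpr hmem
  have hiff : ∀ k : ℕ,
      (s ^ k)⁻¹ * t ∈ N ↔ σ ^ k = ((⟨t, ht⟩ : Q) : Q ⧸ N.subgroupOf Q) := fun k => by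
    rw [← QuotientGroup.mk_pow, QuotientGroup.eq, Subgroup.mem_subgroupOf]
    simp
  have hm' : σ ^ m = ((⟨t, ht⟩ : Q) : Q ⧸ N.subgroupOf Q) := hm
  refine ⟨m % p, Nat.mod_lt _ hp.out.pos, (hiff _).mpr ?_, fun k hk hkt => ?_⟩
  · rw [← hm']
    conv_rhs => rw [← pow_mod_orderOf, hord]
  · rw [hiff, ← hm', pow_inj_mod, hord, Nat.mod_eq_of_lt hk] at hkt
    exact hkt

variable {K : Type*} [Field K] [CharP K p]

/-- The orbit decomposition. -/
theorem exists_trace_decomposition [Fintype (Subgroup G)] [DecidablePred (· ∈ maxNormals p Q)]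
    (hQ : IsPGroup p Q) {R : Subgroup G}
    (hRQ : R ≤ Subgroup.centralizer (Q : Set G)) (hR : ¬ p ∣ Nat.card R) {i : MonoidAlgebra K G}
    (hi : i ∈ fixAlg K ((Q : Set G) ∪ R)) (h0 : trunc Q i = 0) :
    ∃ (a : Subgroup G → MonoidAlgebra K G) (s : Subgroup G → G),
      (∀ N ∈ maxNormals p Q, s N ∈ Q ∧ s N ∉ N ∧ a N ∈ fixAlg K ((N : Set G) ∪ R) ∧
        ∑ k ∈ Finset.range p, conjAlg K (s N ^ k) (a N) ∈ fixAlg K ((Q : Set G) ∪ R)) ∧
      ∑ N with N ∈ maxNormals p Q, ∑ k ∈ Finset.range p, conjAlg K (s N ^ k) (a N) = i := by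
  classical
  have hiQ : ∀ t ∈ Q, ∀ g, i.coeff (t * g * t⁻¹) = i.coeff g := fun t ht =>
    mem_fixAlg_iff.mp hi t (Or.inl ht)
  have hiR : ∀ r ∈ R, ∀ g, i.coeff (r * g * r⁻¹) = i.coeff g := fun r hr =>
    mem_fixAlg_iff.mp hi r (Or.inr hr)
  -- the maximal subgroup attached to an element
  let Pc : G → Subgroup G → Prop := fun c N =>
    N ∈ maxNormals p Q ∧ ∀ x ∈ Q, x * c = c * x → x ∈ N
  have hPcQ : ∀ t ∈ Q, ∀ c, Pc (t * c * t⁻¹) = Pc c := by
    intro t ht c
    funext N
    refine propext (and_congr_right fun hN => ⟨fun h x hx hxc => ?_, fun h x hx hxc => ?_⟩)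
    · have h1 := h (t * x * t⁻¹) (mul_mem (mul_mem ht hx) (inv_mem ht)) (by
        calc t * x * t⁻¹ * (t * c * t⁻¹) = t * (x * c) * t⁻¹ := by group
          _ = _ := by rw [hxc]; group)
      exact (Subgroup.mem_normalizer_iff.mp (hN.2.1 ht) x).mpr h1
    · have h1 := h (t⁻¹ * x * t) (mul_mem (mul_mem (inv_mem ht) hx) ht) (by
        calc t⁻¹ * x * t * c = t⁻¹ * (x * (t * c * t⁻¹)) * t := by group
          _ = _ := by rw [hxc]; group)
      have h2 := (Subgroup.mem_normalizer_iff.mp (hN.2.1 ht) _).mp h1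
      simpa [mul_assoc] using h2
  have hPcR : ∀ r ∈ R, ∀ c, Pc (r * c * r⁻¹) = Pc c := by
    intro r hr c
    funext N
    refine propext (and_congr_right fun _ => forall₂_congr fun x hx => imp_congr ?_ Iff.rfl)
    have hxr : x * r = r * x := Subgroup.mem_centralizer_iff.mp (hRQ hr) x hx
    have hxr' : x * r⁻¹ = r⁻¹ * x := (Commute.inv_right (hxr : Commute x r)).eq
    constructor
    · intro h
      have h1 : x * (r * c * r⁻¹) = r * (x * c) * r⁻¹ := by
        simp only [← mul_assoc, hxr]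
      have h2 : r * c * r⁻¹ * x = r * (c * x) * r⁻¹ := by
        simp only [mul_assoc, hxr']
      rw [h1, h2] at h
      exact mul_left_cancel (mul_right_cancel h)
    · intro h
      calc x * (r * c * r⁻¹) = r * (x * c) * r⁻¹ := by simp only [← mul_assoc, hxr]
        _ = r * (c * x) * r⁻¹ := by rw [h]
        _ = _ := by simp only [mul_assoc, hxr']
  let pick : (Subgroup G → Prop) → Subgroup G := fun P => if h : ∃ N, P N then h.choose else ⊥
  have hpick : ∀ c, i.coeff c ≠ 0 → Pc c (pick (Pc c)) := fun c hc => by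
    have hex : ∃ N, Pc c N := by
      have hlt : Q ⊓ Subgroup.centralizer ({c} : Set G) < Q :=
        lt_of_le_of_ne inf_le_left fun h => hc (by
          have hcC : c ∈ Subgroup.centralizer (Q : Set G) := Subgroup.mem_centralizer_iff.mpr
            fun x hx => Subgroup.mem_centralizer_singleton_iff.mp (h.ge hx).2
          rw [← coeff_trunc_of_mem i hcC, h0]
          rfl)
      obtain ⟨N, hN, hle⟩ := exists_mem_maxNormals hQ hlt
      exact ⟨N, hN, fun x hx hxc => hle ⟨hx, Subgroup.mem_centralizer_singleton_iff.mpr hxc⟩⟩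
    simp only [pick, dif_pos hex]
    exact hex.choose_spec
  -- orbit representatives
  let act : MulAction Q G := MulAction.compHom G ((MulAut.conj : G →* MulAut G).comp Q.subtype)
  let rep : G → G := fun c => (Quotient.mk (MulAction.orbitRel Q G) c).out
  have hrep : ∀ t ∈ Q, ∀ c, rep (t * c * t⁻¹) = rep c := fun t ht c => by
    simp only [rep]
    rw [Quotient.sound]
    exact ⟨⟨t, ht⟩, rfl⟩
  have hrep' : ∀ c, ∃ t ∈ Q, c = t * rep c * t⁻¹ := fun c => by
    obtain ⟨⟨t, ht⟩, h1⟩ := Quotient.mk_out (s := MulAction.orbitRel Q G) c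
    refine ⟨t⁻¹, inv_mem ht, ?_⟩
    have h2 : t * c * t⁻¹ = rep c := h1
    rw [← h2]
    group
  choose sN hsQ hsN using fun N : maxNormals p Q => exists_notMem_of_maxNormals N.2
  let s : Subgroup G → G := fun N => if h : N ∈ maxNormals p Q then sN ⟨N, h⟩ else 1
  let part : Subgroup G → G → K := fun N c => if pick (Pc c) = N then i.coeff c else 0
  let half : Subgroup G → MonoidAlgebra K G := fun N => CfsgLib.Blocks.ofFun fun c =>
    if ∃ n ∈ N, c = n * rep c * n⁻¹ then part N c else 0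
  let avg : Subgroup G → MonoidAlgebra K G := fun N =>
    (Nat.card R : K)⁻¹ • ∑ r : R, conjAlg K (r : G) (half N)
  have hne : (Nat.card R : K) ≠ 0 := fun h => hR ((CharP.cast_eq_zero_iff _ p _).mp h)
  have hpartQ : ∀ N, ∀ t ∈ Q, ∀ c, part N (t * c * t⁻¹) = part N c := fun N t ht c => by
    simp only [part, hPcQ t ht, hiQ t ht]
  have hpartR : ∀ N, ∀ r ∈ R, ∀ c, part N (r * c * r⁻¹) = part N c := fun N r hr c => by
    simp only [part, hPcR r hr, hiR r hr]
  have hhalf : ∀ N ∈ maxNormals p Q, half N ∈ fixAlg K (N : Set G) := fun N hN =>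
    mem_fixAlg_iff.mpr fun n hn c => by
      simp only [half, CfsgLib.Blocks.coeff_ofFun]
      rw [hrep n (hN.1 hn), hpartQ N n (hN.1 hn)]
      refine if_congr ⟨fun ⟨m, hm, h⟩ => ⟨n⁻¹ * m, mul_mem (inv_mem hn) hm, ?_⟩,
        fun ⟨m, hm, h⟩ => ⟨n * m, mul_mem hn hm, ?_⟩⟩ rfl rfl
      · calc c = n⁻¹ * (n * c * n⁻¹) * n := by group
          _ = _ := by rw [h]; group
      · conv_lhs => rw [h]
        group
  have havg : ∀ N ∈ maxNormals p Q, avg N ∈ fixAlg K ((N : Set G) ∪ R) := by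
    intro N hN
    refine mem_fixAlg.mpr ?_
    rintro x (hx | hx)
    · refine Commute.smul_right (Commute.sum_right _ _ _ fun r _ => ?_) _
      refine mem_fixAlg.mp (conjAlg_mem (S := (N : Set G)) (fun t ht => ?_) (hhalf N hN)) x hx
      rw [mul_assoc, Subgroup.mem_centralizer_iff.mp (hRQ r.2) t (hN.1 ht), inv_mul_cancel_left]
      exact ht
    · refine commute_dlt_iff.mpr fun c => ?_
      have h1 : conjAlg K x (avg N) = avg N := by
        simp only [avg, map_smul, map_sum]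
        refine congrArg _ (Fintype.sum_equiv (Equiv.mulLeft ⟨x, hx⟩) _ _ fun r => ?_)
        rw [← conjAlg_mul]
        rfl
      conv_lhs => rw [← h1, coeff_conjAlg]
      congr 1
      group
  -- the trace of one piece
  have htr : ∀ N ∈ maxNormals p Q,
      ∑ k ∈ Finset.range p, conjAlg K (s N ^ k) (avg N) = CfsgLib.Blocks.ofFun (part N) := by
    intro N hN
    have hs : s N ∈ Q ∧ s N ∉ N := by
      simp only [s, dif_pos hN]
      exact ⟨hsQ ⟨N, hN⟩, hsN ⟨N, hN⟩⟩
    have h1 : ∑ k ∈ Finset.range p, conjAlg K (s N ^ k) (half N) =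
        CfsgLib.Blocks.ofFun (part N) := by
      refine MonoidAlgebra.ext (Finsupp.ext fun c => ?_)
      rw [MonoidAlgebra.coeff_sum, Finsupp.coe_finsetSum, Finset.sum_apply,
        CfsgLib.Blocks.coeff_ofFun]
      simp only [coeff_conjAlg, half, CfsgLib.Blocks.coeff_ofFun]
      have hk : ∀ k : ℕ, (s N ^ k)⁻¹ * c * s N ^ k =
          (s N ^ k)⁻¹ * c * (s N ^ k)⁻¹⁻¹ := fun k => by rw [inv_inv]
      simp only [hk, fun k : ℕ => hpartQ N _ (inv_mem (pow_mem hs.1 k)) c,
        fun k : ℕ => hrep _ (inv_mem (pow_mem hs.1 k)) c]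
      by_cases hzero : part N c = 0
      · simp [hzero]
      have hNc : pick (Pc c) = N ∧ i.coeff c ≠ 0 := by
        by_cases h : pick (Pc c) = N
        · exact ⟨h, by simpa [part, h] using hzero⟩
        · simp [part, h] at hzero
      have hPc : Pc c N := hNc.1 ▸ hpick c hNc.2
      obtain ⟨t, ht, hct⟩ := hrep' c
      obtain ⟨j, hj, hjt, huniq⟩ := coset_index hN hs.1 hs.2 ht
      rw [Finset.sum_eq_single_of_mem j (Finset.mem_range.mpr hj), if_pos]
      · refine ⟨_, hjt, ?_⟩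
        conv_lhs => rw [hct]
        group
      · intro k hk' hne'
        refine if_neg ?_
        rintro ⟨n, hn, h⟩
        refine hne' (huniq k (Finset.mem_range.mp hk') ?_)
        have h2 : t⁻¹ * s N ^ k * n * rep c = rep c * (t⁻¹ * s N ^ k * n) := by
          have e : c = s N ^ k * n * rep c * (s N ^ k * n)⁻¹ := by
            calc c = s N ^ k * ((s N ^ k)⁻¹ * c * (s N ^ k)⁻¹⁻¹) * (s N ^ k)⁻¹ := by group
              _ = _ := by rw [h]; group
          conv_rhs at e => rw [show s N ^ k * n = t * (t⁻¹ * s N ^ k * n) by group]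
          conv_lhs at e => rw [hct]
          generalize t⁻¹ * s N ^ k * n = w at e ⊢
          have e2 : t * rep c * t⁻¹ = t * (w * rep c * w⁻¹) * t⁻¹ := by
            rw [e]; group
          have e3 : rep c = w * rep c * w⁻¹ := mul_left_cancel (mul_right_cancel e2)
          conv_rhs => rw [e3]
          group
        have hrepN : ∀ x ∈ Q, x * rep c = rep c * x → x ∈ N := by
          have h3 : Pc (t * rep c * t⁻¹) N := hct ▸ hPc
          rw [hPcQ t ht] at h3
          exact h3.2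
        have h4 := hrepN _ (mul_mem (mul_mem (inv_mem ht) (pow_mem hs.1 k)) (hN.1 hn)) h2
        have h5 : t⁻¹ * s N ^ k ∈ N := by
          have := mul_mem h4 (inv_mem hn)
          simpa [mul_assoc] using this
        have h6 := (Subgroup.mem_normalizer_iff.mp (hN.2.1 ht) _).mp (inv_mem h5)
        have h7 := (Subgroup.mem_normalizer_iff.mp (inv_mem (hN.2.1 ht)) _).mp h6
        simpa [mul_assoc] using h7
    rw [show CfsgLib.Blocks.ofFun (part N) = (Nat.card R : K)⁻¹ •
        ∑ _r : R, CfsgLib.Blocks.ofFun (part N) by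
      rw [Finset.sum_const, Finset.card_univ, ← Nat.card_eq_fintype_card,
        ← Nat.cast_smul_eq_nsmul K, smul_smul, inv_mul_cancel₀ hne, one_smul]]
    simp only [avg, map_smul, map_sum, ← Finset.smul_sum]
    rw [Finset.sum_comm]
    refine congrArg _ (Finset.sum_congr rfl fun r _ => ?_)
    have hcomm : ∀ k : ℕ, conjAlg K (s N ^ k) (conjAlg K (r : G) (half N)) =
        conjAlg K (r : G) (conjAlg K (s N ^ k) (half N)) := fun k => by
      rw [← conjAlg_mul, ← conjAlg_mul,
        Subgroup.mem_centralizer_iff.mp (hRQ r.2) _ (pow_mem hs.1 k)]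
    simp only [hcomm]
    rw [← map_sum, h1]
    refine MonoidAlgebra.ext (Finsupp.ext fun c => ?_)
    rw [coeff_conjAlg, CfsgLib.Blocks.coeff_ofFun, CfsgLib.Blocks.coeff_ofFun,
      show (r : G)⁻¹ * c * (r : G) = (r : G)⁻¹ * c * (r : G)⁻¹⁻¹ by rw [inv_inv],
      hpartR N _ (inv_mem r.2)]
  refine ⟨avg, s, fun N hN => ⟨?_, ?_, havg N hN, ?_⟩, ?_⟩
  · simp only [s, dif_pos hN]; exact hsQ _
  · simp only [s, dif_pos hN]; exact hsN ⟨N, hN⟩
  · rw [htr N hN]
    refine mem_fixAlg_iff.mpr ?_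
    rintro x (hx | hx) c <;> rw [CfsgLib.Blocks.coeff_ofFun, CfsgLib.Blocks.coeff_ofFun]
    exacts [hpartQ N x hx c, hpartR N x hx c]
  · rw [Finset.sum_congr rfl fun N hN => htr N (Finset.mem_filter.mp hN).2]
    refine MonoidAlgebra.ext (Finsupp.ext fun c => ?_)
    rw [MonoidAlgebra.coeff_sum, Finsupp.coe_finsetSum, Finset.sum_apply]
    simp only [CfsgLib.Blocks.coeff_ofFun, part]
    by_cases hc : i.coeff c = 0
    · simp [hc]
    rw [Finset.sum_ite_eq, if_pos (Finset.mem_filter.mpr ⟨Finset.mem_univ _, (hpick c hc).1⟩)]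

end CfsgLib.GrpRing
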