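import Cfsg.Agent.Lib.Blocks.PairLocalization
import Cfsg.Agent.Lib.Blocks.PairConj
import Cfsg.Agent.Lib.Blocks.Corner
import Cfsg.Agent.Lib.Blocks.TraceDecomposition
import Cfsg.Agent.Lib.Char.Virtual

/-!
# Sums over subpairs weighted by a stable function are generalized characters

For a `p`-group `Q` and a `p'`-group `R` centralizing it, a class of weights `w` on the pairs
`(⟨u⟩, b)` which is invariant under conjugation and a generalized character below every pair, the
function `(u, r) ↦ ∑ b, w (u, b) · χ^b (u r)` is a generalized character of `Q × R`.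
-/

set_option autoImplicit false
set_option linter.unusedSectionVars false

namespace CfsgLib.Blocks

open Cfsg
open CfsgLib.GrpRing
open scoped CfsgLib.Char

variable {p : ℕ} {M : Ideal AlgInt} [M.IsPrime] {G : Type*} [Group G] [Fintype G]

variable (M) in
/-- The blocks of a subgroup, with any enumeration. -/
noncomputable def subBlocks (H : Subgroup G) : Finset (Set (IrrCharacter H)) :=
  letI := Fintype.ofFinite H
  blocks M H

theorem mem_subBlocks {H : Subgroup G} {b : Set (IrrCharacter H)} :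
    b ∈ subBlocks M H ↔ IsPBlock M b :=
  letI := Fintype.ofFinite H
  mem_blocks

theorem sum_blkK_subBlocks (H : Subgroup G) : ∑ b ∈ subBlocks M H, blkK M H b = 1 :=
  letI := Fintype.ofFinite H
  sum_blkK H

variable (p M) in
/-- Weights on pairs, invariant under conjugation and a generalized character below each pair. -/
structure IsPairWeight (w : G → BrauerPairIdx G → ℂ) : Prop where
  conj : ∀ (x u : G) (a : BrauerPairIdx G), u ∈ a.1 → w (x * u * x⁻¹) (conjPair x a) = w u a
  local_char : ∀ (Q : Subgroup G) (f : Set (IrrCharacter (Subgroup.centralizer (Q : Set G)))),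
    IsBrauerPair p M Q f →
      (∀ u ∈ Q, ∀ g : Set (IrrCharacter (Subgroup.centralizer (Subgroup.zpowers u : Set G))),
          SubpairLE p M (Subgroup.zpowers u) g Q f → w u ⟨Subgroup.zpowers u, g⟩ = 0) ∨
        ∃ φ : Q → ℂ, IsGeneralizedCharacter Q φ ∧ ∀ (u : Q)
          (g : Set (IrrCharacter (Subgroup.centralizer (Subgroup.zpowers (u : G) : Set G)))),
          SubpairLE p M (Subgroup.zpowers (u : G)) g Q f →
            w (u : G) ⟨Subgroup.zpowers (u : G), g⟩ = φ u

/-- The weighted sum at a subgroup `U`, an element `u` of it and a point `x`. -/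
noncomputable def starTerm (χ : G → ℂ) (w : G → BrauerPairIdx G → ℂ) (i : KG M G) (U : Subgroup G)
    (u x : G) : ℂ :=
  ∑ b ∈ subBlocks M (Subgroup.centralizer (U : Set G)),
    w u ⟨U, b⟩ * blkTrace χ x (trunc U i * blkK M (Subgroup.centralizer (U : Set G)) b)

/-- The weighted sum of the parts of `χ` on the idempotent `i` at `u * r`. -/
noncomputable def starPart (χ : G → ℂ) (w : G → BrauerPairIdx G → ℂ) (i : KG M G) (u r : G) : ℂ :=
  starTerm χ w i (Subgroup.zpowers u) u (u * r)

/-- The weighted sum as a function on `Q × R`. -/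
noncomputable def starProd (χ : G → ℂ) (w : G → BrauerPairIdx G → ℂ) (Q R : Subgroup G)
    (i : KG M G) : (↥Q × ↥R) → ℂ :=
  fun q => starPart χ w i (q.1 : G) (q.2 : G)

/-! ### Conjugation -/

theorem red_conjAlg (s : G) (a : OG M G) :
    red (conjAlg (locRing M) s a) = conjAlg (ResField M) s (red a) := by
  refine MonoidAlgebra.ext (Finsupp.ext fun g => ?_)
  rw [coeff_red, coeff_conjAlg, coeff_conjAlg, coeff_red]

theorem conjAlg_inv_conjAlg {R : Type*} [CommRing R] (s : G) (a : MonoidAlgebra R G) :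
    conjAlg R s⁻¹ (conjAlg R s a) = a := by
  rw [← conjAlg_mul, inv_mul_cancel, conjAlg_one]

theorem conjAlg_mem_singleton {R : Type*} [CommRing R] {s x : G} {a : MonoidAlgebra R G}
    (ha : a ∈ fixAlg R {x}) : conjAlg R s a ∈ fixAlg R {s * x * s⁻¹} :=
  conjAlg_mem (S := {x}) (fun t ht => by
    rw [Set.mem_singleton_iff.mp ht, Set.mem_singleton_iff]; group) ha

theorem chiSum_conjAlg {χ : G → ℂ} (hχ : IsClassFunction G χ) (s : G) (a : OG M G) :
    chiSum χ (conjAlg (locRing M) s a) = chiSum χ a := by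
  refine Fintype.sum_equiv (MulAut.conj s⁻¹).toEquiv _ _ fun g => ?_
  simp [coeff_conjAlg, ← hχ g s⁻¹]

theorem blkTrace_conjAlg {χ : G → ℂ} (hχ : IsClassFunction G χ) (s : G) {x : G} {i : KG M G}
    (hi : IsIdempotentElem i) (hix : i ∈ fixAlg (ResField M) {x}) :
    blkTrace χ (s * x * s⁻¹) (conjAlg (ResField M) s i) = blkTrace χ x i := by
  obtain ⟨e, hex, he, rfl⟩ := exists_lift_idempotent' hi hix
  rw [← red_conjAlg, blkTrace_red hχ (he.map _) (conjAlg_mem_singleton hex),
    blkTrace_red hχ he hex, ← conjAlg_dlt, ← map_mul, chiSum_conjAlg hχ]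

theorem conjAlg_trunc_map {R : Type*} [CommRing R] (s : G) (U : Subgroup G)
    (a : MonoidAlgebra R G) :
    conjAlg R s (trunc U a) = trunc (U.map (MulAut.conj s).toMonoidHom) (conjAlg R s a) := by
  refine MonoidAlgebra.ext (Finsupp.ext fun g => ?_)
  rw [coeff_conjAlg]
  by_cases hg : g ∈ Subgroup.centralizer ((U.map (MulAut.conj s).toMonoidHom : Subgroup G) : Set G)
  · rw [coeff_trunc_of_mem _ hg, coeff_conjAlg, coeff_trunc_of_mem]
    have h := centralizer_map_conj_iff U s (s⁻¹ * g * s)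
    rw [show s * (s⁻¹ * g * s) * s⁻¹ = g by group] at h
    exact h.mp hg
  · rw [coeff_trunc_of_notMem _ hg, coeff_trunc_of_notMem]
    intro hh
    have h := centralizer_map_conj_iff U s (s⁻¹ * g * s)
    rw [show s * (s⁻¹ * g * s) * s⁻¹ = g by group] at h
    exact hg (h.mpr hh)

/-- The data at a pair `u`, `r` of a commuting `p`-element and `p'`-element. -/
structure IsSectionPoint (p : ℕ) (u r : G) : Prop where
  comm : Commute u r
  pElem : ∃ k : ℕ, orderOf u = p ^ k
  regular : ¬ p ∣ orderOf r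

theorem IsSectionPoint.isPGroup (hM : IsPModular p M) {u r : G} (h : IsSectionPoint p u r) :
    IsPGroup p (Subgroup.zpowers u) := by
  have : Fact p.Prime := ⟨hM.1⟩
  obtain ⟨k, hk⟩ := h.pElem
  exact IsPGroup.of_card (n := k) (by rw [Nat.card_zpowers, hk])

theorem mem_centralizer_zpowers {u r : G} (h : Commute u r) :
    r ∈ Subgroup.centralizer (Subgroup.zpowers u : Set G) :=
  Subgroup.mem_centralizer_iff.mpr fun q hq => by
    obtain ⟨n, rfl⟩ := Subgroup.mem_zpowers_iff.mp hq
    exact (h.zpow_left n).eq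

/-- The idempotent whose trace appears in a term. -/
theorem part_idempotent (hM : IsPModular p M) {u r : G} (h : IsSectionPoint p u r) {i : KG M G}
    (hi : IsIdempotentElem i) (hiu : i ∈ fixAlg (ResField M) {u, r})
    {b : Set (IrrCharacter (Subgroup.centralizer (Subgroup.zpowers u : Set G)))}
    (hb : IsPBlock M b) :
    IsIdempotentElem (trunc (Subgroup.zpowers u) i *
        blkK M (Subgroup.centralizer (Subgroup.zpowers u : Set G)) b) ∧
      trunc (Subgroup.zpowers u) i * blkK M (Subgroup.centralizer (Subgroup.zpowers u : Set G)) b ∈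
        fixAlg (ResField M) {u, r} := by
  have : Fact p.Prime := ⟨hM.1⟩
  have := charP_resField hM
  have hiU : i ∈ fixAlg (ResField M) (Subgroup.zpowers u : Set G) := by
    rw [fixAlg_zpowers]; exact fixAlg_anti (by simp) hiu
  have hrC := mem_centralizer_zpowers h.comm
  refine ⟨?_, mul_mem (trunc_mem_fixAlg ?_ hiu) (mem_fixAlg.mpr ?_)⟩
  · have h1 := (isIdempotentElem_trunc (h.isPGroup hM) hiU hi).eq
    have h2 := (isIdempotentElem_blkK hb).eq
    have hc := (commute_blkK_trunc (Subgroup.zpowers u) b i).eq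
    rw [IsIdempotentElem, mul_assoc, ← mul_assoc (blkK M _ b), hc, mul_assoc, h2, ← mul_assoc, h1]
  · rintro s (rfl | rfl)
    · exact Subgroup.le_normalizer (Subgroup.mem_zpowers _)
    · exact Subgroup.centralizer_le_normalizer _ hrC
  · rintro s (rfl | rfl)
    · exact mem_fixAlg.mp (blkK_mem_fixAlg_self _ b) _ (Subgroup.mem_zpowers _)
    · exact mem_fixAlg.mp (blkK_mem_fixAlg _ b) _ hrC

theorem starTerm_conj (hM : IsPModular p M) {χ : G → ℂ} (hχ : IsClassFunction G χ)
    {w : G → BrauerPairIdx G → ℂ} (hw : IsPairWeight p M w) {u r : G} (h : IsSectionPoint p u r)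
    {i : KG M G} (hi : IsIdempotentElem i) (hiu : i ∈ fixAlg (ResField M) {u, r}) (s : G) :
    starPart χ w (conjAlg (ResField M) s i) (s * u * s⁻¹) (s * r * s⁻¹) = starPart χ w i u r := by
  classical
  have hmap : (Subgroup.zpowers u).map (MulAut.conj s).toMonoidHom =
      Subgroup.zpowers (s * u * s⁻¹) := by
    rw [MonoidHom.map_zpowers]; simp
  rw [starPart, starPart, ← hmap, show s * u * s⁻¹ * (s * r * s⁻¹) = s * (u * r) * s⁻¹ by group]
  set U := Subgroup.zpowers u
  have hC : ∀ g, s * g * s⁻¹ ∈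
      Subgroup.centralizer ((U.map (MulAut.conj s).toMonoidHom : Subgroup G) : Set G) ↔
      g ∈ Subgroup.centralizer (U : Set G) := centralizer_map_conj_iff U s
  have hC' : ∀ g, s⁻¹ * g * s⁻¹⁻¹ ∈ Subgroup.centralizer (U : Set G) ↔
      g ∈ Subgroup.centralizer ((U.map (MulAut.conj s).toMonoidHom : Subgroup G) : Set G) :=
    fun g => by rw [← hC]; simp [mul_assoc]
  refine (Finset.sum_bij'
    (fun b _ => conjSet s (Subgroup.centralizer (U : Set G)) _ b)
    (fun b _ => conjSet s⁻¹ _ (Subgroup.centralizer (U : Set G)) b)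
    (fun b hb => mem_subBlocks.mpr (isPBlock_conjSet hC (mem_subBlocks.mp hb)))
    (fun b hb => mem_subBlocks.mpr (isPBlock_conjSet hC' (mem_subBlocks.mp hb)))
    (fun b _ => by rw [conjSet_conjSet hC hC', inv_mul_cancel, conjSet_of_mem (one_mem _)])
    (fun b _ => by rw [conjSet_conjSet hC' hC, mul_inv_cancel, conjSet_of_mem (one_mem _)])
    fun b hb => ?_).symm
  obtain ⟨hid, hfix⟩ := part_idempotent hM h hi hiu (mem_subBlocks.mp hb)
  have hw' := hw.conj s u ⟨U, b⟩ (Subgroup.mem_zpowers u)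
  rw [show conjPair s ⟨U, b⟩ = (⟨U.map (MulAut.conj s).toMonoidHom,
    conjSet s (Subgroup.centralizer (U : Set G)) _ b⟩ : BrauerPairIdx G) from rfl] at hw'
  rw [← conjAlg_trunc_map, ← conjAlg_blkK hC, ← map_mul,
    blkTrace_conjAlg hχ s hid (fixAlg_pair_le_mul hfix), hw']

theorem starPart_add (hM : IsPModular p M) {χ : G → ℂ} (hχ : IsClassFunction G χ)
    (w : G → BrauerPairIdx G → ℂ) {u r : G} (h : IsSectionPoint p u r) {i j : KG M G}
    (hi : IsIdempotentElem i) (hj : IsIdempotentElem j) (hiu : i ∈ fixAlg (ResField M) {u, r})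
    (hju : j ∈ fixAlg (ResField M) {u, r}) (hij : i * j = 0) (hji : j * i = 0) :
    starPart χ w (i + j) u r = starPart χ w i u r + starPart χ w j u r := by
  have : Fact p.Prime := ⟨hM.1⟩
  have := charP_resField hM
  rw [starPart, starPart, starPart, starTerm, starTerm, starTerm, ← Finset.sum_add_distrib]
  refine Finset.sum_congr rfl fun b hb => ?_
  obtain ⟨hid, hfix⟩ := part_idempotent hM h hi hiu (mem_subBlocks.mp hb)
  obtain ⟨hjd, hjfix⟩ := part_idempotent hM h hj hju (mem_subBlocks.mp hb)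
  have hU : ∀ {a : KG M G}, a ∈ fixAlg (ResField M) {u, r} →
      a ∈ fixAlg (ResField M) (Subgroup.zpowers u : Set G) := fun ha => by
    rw [fixAlg_zpowers]; exact fixAlg_anti (by simp) ha
  have horth : ∀ {a c : KG M G}, a ∈ fixAlg (ResField M) {u, r} → c ∈ fixAlg (ResField M) {u, r} →
      a * c = 0 → trunc (Subgroup.zpowers u) a *
        blkK M (Subgroup.centralizer (Subgroup.zpowers u : Set G)) b *
        (trunc (Subgroup.zpowers u) c *
          blkK M (Subgroup.centralizer (Subgroup.zpowers u : Set G)) b) = 0 := by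
    intro a c ha hc hac
    rw [mul_assoc, ← mul_assoc (blkK M _ b), (commute_blkK_trunc (Subgroup.zpowers u) b c).eq,
      ← mul_assoc, ← mul_assoc, ← trunc_mul (h.isPGroup hM) (hU ha) (hU hc), hac, map_zero,
      zero_mul, zero_mul]
  rw [map_add, add_mul, blkTrace_add hχ hid hjd (fixAlg_pair_le_mul hfix)
    (fixAlg_pair_le_mul hjfix) (horth hiu hju hij) (horth hju hiu hji), mul_add]

theorem starPart_congr (hM : IsPModular p M) {χ : G → ℂ} (hχ : IsClassFunction G χ)
    (w : G → BrauerPairIdx G → ℂ) {u r : G} (h : IsSectionPoint p u r) {i j c d : KG M G}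
    (hi : IsIdempotentElem i) (hj : IsIdempotentElem j) (hiu : i ∈ fixAlg (ResField M) {u, r})
    (hju : j ∈ fixAlg (ResField M) {u, r}) (hc : c ∈ fixAlg (ResField M) {u, r})
    (hd : d ∈ fixAlg (ResField M) {u, r}) (hcd : c * d = i) (hdc : d * c = j) :
    starPart χ w i u r = starPart χ w j u r := by
  have : Fact p.Prime := ⟨hM.1⟩
  have := charP_resField hM
  refine Finset.sum_congr rfl fun b hb => ?_
  obtain ⟨hid, hfix⟩ := part_idempotent hM h hi hiu (mem_subBlocks.mp hb)
  obtain ⟨hjd, hjfix⟩ := part_idempotent hM h hj hju (mem_subBlocks.mp hb)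
  have hU : ∀ {a : KG M G}, a ∈ fixAlg (ResField M) {u, r} →
      a ∈ fixAlg (ResField M) (Subgroup.zpowers u : Set G) := fun ha => by
    rw [fixAlg_zpowers]; exact fixAlg_anti (by simp) ha
  have hfixU : ∀ {a : KG M G}, a ∈ fixAlg (ResField M) {u, r} →
      trunc (Subgroup.zpowers u) a *
        blkK M (Subgroup.centralizer (Subgroup.zpowers u : Set G)) b ∈
          fixAlg (ResField M) {u * r} := by
    intro a ha
    refine fixAlg_pair_le_mul (mul_mem (trunc_mem_fixAlg ?_ ha) (mem_fixAlg.mpr ?_))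
    · rintro s (rfl | rfl)
      · exact Subgroup.le_normalizer (Subgroup.mem_zpowers _)
      · exact Subgroup.centralizer_le_normalizer _ (mem_centralizer_zpowers h.comm)
    · rintro s (rfl | rfl)
      · exact mem_fixAlg.mp (blkK_mem_fixAlg_self _ b) _ (Subgroup.mem_zpowers _)
      · exact mem_fixAlg.mp (blkK_mem_fixAlg _ b) _ (mem_centralizer_zpowers h.comm)
  have hprod : ∀ {a c : KG M G}, a ∈ fixAlg (ResField M) {u, r} → c ∈ fixAlg (ResField M) {u, r} →
      trunc (Subgroup.zpowers u) a *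
        blkK M (Subgroup.centralizer (Subgroup.zpowers u : Set G)) b *
        (trunc (Subgroup.zpowers u) c *
          blkK M (Subgroup.centralizer (Subgroup.zpowers u : Set G)) b) =
      trunc (Subgroup.zpowers u) (a * c) *
          blkK M (Subgroup.centralizer (Subgroup.zpowers u : Set G)) b := by
    intro a c ha hc
    rw [mul_assoc, ← mul_assoc (blkK M _ b), (commute_blkK_trunc (Subgroup.zpowers u) b c).eq,
      mul_assoc (trunc (Subgroup.zpowers u) c), (isIdempotentElem_blkK (mem_subBlocks.mp hb)).eq,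
      ← mul_assoc, ← trunc_mul (h.isPGroup hM) (hU ha) (hU hc)]
  rw [blkTrace_congr hχ hid hjd (fixAlg_pair_le_mul hfix) (fixAlg_pair_le_mul hjfix) (hfixU hc)
    (hfixU hd) (by rw [hprod hc hd, hcd]) (by rw [hprod hd hc, hdc])]

theorem starPart_eq_zero_of_trunc {χ : G → ℂ} (hχ : IsClassFunction G χ)
    (w : G → BrauerPairIdx G → ℂ) {u r : G} {i : KG M G}
    (h : trunc (Subgroup.zpowers u) i = 0) : starPart χ w i u r = 0 :=
  Finset.sum_eq_zero fun b _ => by rw [h, zero_mul, blkTrace_zero hχ, mul_zero]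

theorem starPart_zero {χ : G → ℂ} (hχ : IsClassFunction G χ) (w : G → BrauerPairIdx G → ℂ)
    (u r : G) : starPart (M := M) χ w 0 u r = 0 :=
  starPart_eq_zero_of_trunc hχ w (map_zero _)

/-! ### A fixed idempotent gives a character -/

/-- A character twisted by a fixed idempotent. -/
theorem isCharacter_chiSum {χ : G → ℂ} (hχ : IsCharacter G χ) {H : Type*} [Group H] (φ : H →* G)
    {e : OG M G} (he : IsIdempotentElem e) (heφ : ∀ h, Commute (dlt (locRing M) (φ h)) e) :
    IsCharacter H (fun h => chiSum χ (e * dlt (locRing M) (φ h))) := by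
  classical
  obtain ⟨n, ρ, rfl⟩ := hχ
  set cast := MonoidAlgebra.mapRingHom (R := locRing M) (S := ℂ) G (locRing M).subtype
  set T := ρ.asAlgebraHom (cast e)
  have hT : IsIdempotentElem T := (he.map cast).map ρ.asAlgebraHom
  have hcast : ∀ g : G, ρ.asAlgebraHom (cast (dlt (locRing M) g)) = ρ g := fun g => by
    simp [cast, Representation.asAlgebraHom_single]
  have hTc : ∀ h, Commute (ρ (φ h)) T := fun h => by
    rw [← hcast]
    exact ((heφ h).map cast).map ρ.asAlgebraHom
  have htr : ∀ h, chiSum ρ.character (e * dlt (locRing M) (φ h)) =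
      LinearMap.trace ℂ _ (T * ρ (φ h)) := fun h => by
    rw [← hcast, ← map_mul, ← map_mul]
    generalize e * dlt (locRing M) (φ h) = y
    have hy : cast y = ∑ g, MonoidAlgebra.single g ((y.coeff g : locRing M) : ℂ) :=
      MonoidAlgebra.ext (Finsupp.ext fun g => by
        simp only [cast]
        rw [MonoidAlgebra.coeff_mapRingHom, MonoidAlgebra.coeff_sum, Finsupp.coe_finsetSum,
          Finset.sum_apply, Finset.sum_eq_single g]
        · simp
        · intro b _ hb; simp [hb]
        · simp)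
    rw [hy, map_sum, map_sum]
    refine Finset.sum_congr rfl fun g _ => ?_
    rw [Representation.asAlgebraHom_single, map_smul, smul_eq_mul]
    rfl
  set W := LinearMap.range T
  have hinv : ∀ h, ∀ v ∈ W, ρ (φ h) v ∈ W := by
    rintro h _ ⟨v, rfl⟩
    exact ⟨ρ (φ h) v, by rw [← Module.End.mul_apply, ← (hTc h).eq, Module.End.mul_apply]⟩
  let σ : Representation ℂ H W :=
    { toFun := fun h => (ρ (φ h)).restrict (hinv h)
      map_one' := LinearMap.ext fun v => Subtype.ext (by
        show ρ (φ 1) (v : Fin n → ℂ) = v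
        rw [map_one, map_one]; rfl)
      map_mul' := fun a b => LinearMap.ext fun v => Subtype.ext (by
        simp only [LinearMap.restrict_apply, map_mul, Module.End.mul_apply]) }
  have hσ : (fun h => chiSum ρ.character (e * dlt (locRing M) (φ h))) = σ.character := by
    funext h
    rw [htr]
    have hmem : ∀ v, (T * ρ (φ h)) v ∈ W := fun v => ⟨ρ (φ h) v, rfl⟩
    rw [← LinearMap.trace_restrict_eq_of_forall_mem W (T * ρ (φ h)) hmem]
    show _ = LinearMap.trace ℂ W ((ρ (φ h)).restrict (hinv h))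
    congr 1
    refine LinearMap.ext fun v => Subtype.ext ?_
    simp only [LinearMap.restrict_apply, Module.End.mul_apply]
    obtain ⟨z, hz⟩ := hinv h v v.2
    rw [← hz, ← Module.End.mul_apply, hT.eq]
  rw [hσ]
  exact Char.isCharacter_character σ

/-! ### The theorem -/

section Main

variable {Q R : Subgroup G}

theorem sectionPoint_of_mem (hM : IsPModular p M) (hQ : IsPGroup p Q)
    (hRQ : R ≤ Subgroup.centralizer (Q : Set G)) (hR : ¬ p ∣ Nat.card R) {u r : G} (hu : u ∈ Q)
    (hr : r ∈ R) : IsSectionPoint p u r where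
  comm := Subgroup.mem_centralizer_iff.mp (hRQ hr) u hu
  pElem := by
    have : Fact p.Prime := ⟨hM.1⟩
    obtain ⟨k, hk⟩ := IsPGroup.iff_orderOf.mp hQ ⟨u, hu⟩
    exact ⟨k, by rw [← hk, ← Subgroup.orderOf_coe]⟩
  regular := fun h => hR (h.trans (Subgroup.orderOf_dvd_natCard _ hr))

theorem fix_pair_of_mem {u r : G} (hu : u ∈ Q) (hr : r ∈ R) {i : KG M G}
    (hi : i ∈ fixAlg (ResField M) ((Q : Set G) ∪ R)) : i ∈ fixAlg (ResField M) {u, r} :=
  fixAlg_anti (S := ({u, r} : Set G)) (T := (Q : Set G) ∪ R)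
    (Set.insert_subset (Or.inl hu) (Set.singleton_subset_iff.mpr (Or.inr hr))) hi

/-- The sum over orthogonal components. -/
theorem starPart_sum (hM : IsPModular p M) {χ : G → ℂ} (hχ : IsClassFunction G χ)
    (w : G → BrauerPairIdx G → ℂ) {u r : G} (h : IsSectionPoint p u r) {S : Set G}
    (hS : ∀ a ∈ fixAlg (ResField M) S, a ∈ fixAlg (ResField M) {u, r})
    (s : Finset ↥(fixAlg (ResField M) S)) (hs : ∀ x ∈ s, IsIdempotentElem x)
    (ho : (s : Set ↥(fixAlg (ResField M) S)).Pairwise fun x y => x * y = 0) :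
    starPart χ w (((∑ x ∈ s, x : ↥(fixAlg (ResField M) S))) : KG M G) u r =
        ∑ x ∈ s, starPart χ w (x : KG M G) u r ∧ IsIdempotentElem (∑ x ∈ s, x) := by
  classical
  induction s using Finset.induction with
  | empty => exact ⟨by simpa using starPart_zero hχ w u r, by simpa using IsIdempotentElem.zero⟩
  | insert a t hat ih =>
    obtain ⟨h1, h2⟩ := ih (fun x hx => hs x (Finset.mem_insert_of_mem hx))
      (ho.mono (Finset.coe_subset.mpr (Finset.subset_insert a t)))
    have hao : a * ∑ x ∈ t, x = 0 := by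
      rw [Finset.mul_sum]
      exact Finset.sum_eq_zero fun x hx => ho (Finset.mem_coe.mpr (Finset.mem_insert_self a t))
        (Finset.mem_coe.mpr (Finset.mem_insert_of_mem hx)) fun h => hat (h ▸ hx)
    have hoa : (∑ x ∈ t, x) * a = 0 := by
      rw [Finset.sum_mul]
      exact Finset.sum_eq_zero fun x hx => ho (Finset.mem_coe.mpr (Finset.mem_insert_of_mem hx))
        (Finset.mem_coe.mpr (Finset.mem_insert_self a t)) fun h => hat (h ▸ hx)
    have ha := hs a (Finset.mem_insert_self a t)
    refine ⟨?_, ?_⟩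
    · rw [Finset.sum_insert hat, Finset.sum_insert hat, AddMemClass.coe_add,
        starPart_add hM hχ w h (i := (a : KG M G)) (j := ((∑ x ∈ t, x : ↥(fixAlg (ResField M) S)) : KG M G))
          (ha.map (fixAlg (ResField M) S).val) (h2.map (fixAlg (ResField M) S).val) (hS _ a.2) (hS _ (∑ x ∈ t, x).2)
          (congrArg Subtype.val hao) (congrArg Subtype.val hoa), h1]
    · rw [Finset.sum_insert hat, IsIdempotentElem, add_mul, mul_add, mul_add, ha.eq, h2.eq, hao,
        hoa, add_zero, zero_add]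

/-- The case of a primitive idempotent with nonzero truncation at `Q`. -/
theorem isGeneralized_starProd_local (hM : IsPModular p M) {χ : G → ℂ} (hχ : IsCharacter G χ)
    {w : G → BrauerPairIdx G → ℂ} (hw : IsPairWeight p M w) (hQ : IsPGroup p Q)
    (hRQ : R ≤ Subgroup.centralizer (Q : Set G)) (hR : ¬ p ∣ Nat.card R)
    {i : ↥(fixAlg (ResField M) ((Q : Set G) ∪ R))} (hi : Corner.IsPrim i)
    (hloc : trunc Q (i : KG M G) ≠ 0) :
    IsGeneralizedCharacter (↥Q × ↥R) (starProd χ w Q R (i : KG M G)) := by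
  classical
  have : Fact p.Prime := ⟨hM.1⟩
  have := charP_resField hM
  have hχc := Char.isClassFunction_of_isCharacter hχ
  have hiQ : (i : KG M G) ∈ fixAlg (ResField M) (Q : Set G) := fixAlg_anti Set.subset_union_left i.2
  have hii : IsIdempotentElem (i : KG M G) := hi.idem.map (fixAlg (ResField M) _).val
  obtain ⟨f, hf, hfne⟩ : ∃ f, IsPBlock M f ∧
      trunc Q (i : KG M G) * blkK M (Subgroup.centralizer (Q : Set G)) f ≠ 0 := by
    by_contra hcon
    push Not at hcon
    refine hloc ?_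
    rw [← mul_one (trunc Q (i : KG M G)),
      ← sum_blkK_subBlocks (Subgroup.centralizer (Q : Set G)), Finset.mul_sum]
    exact Finset.sum_eq_zero fun f hf => hcon f (mem_subBlocks.mp hf)
  obtain ⟨a, ha, haf, habad⟩ := exists_localized hM hQ hf hRQ hR
  -- the ideal of elements killing all pairs not below `(Q, f)`
  let L : ↥(fixAlg (ResField M) ((Q : Set G) ∪ R)) → Prop := fun y =>
    ∀ (U : Subgroup G) (g : Set (IrrCharacter (Subgroup.centralizer (U : Set G)))), U ≤ Q →
      IsPBlock M g → ¬ SubpairLE p M U g Q f →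
        trunc U (y : KG M G) * blkK M (Subgroup.centralizer (U : Set G)) g = 0
  have hfixU : ∀ {U : Subgroup G}, U ≤ Q → ∀ (y : ↥(fixAlg (ResField M) ((Q : Set G) ∪ R))),
      (y : KG M G) ∈ fixAlg (ResField M) (U : Set G) := fun hU y =>
    fixAlg_anti (fun x hx => Or.inl (hU hx)) y.2
  have hLmul : ∀ y z, L y → L (z * y) ∧ L (y * z) := by
    intro y z hy
    refine ⟨fun U g hU hg hbad => ?_, fun U g hU hg hbad => ?_⟩
    · rw [MulMemClass.coe_mul, trunc_mul (hQ.to_le hU) (hfixU hU z) (hfixU hU y), mul_assoc,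
        hy U g hU hg hbad, mul_zero]
    · rw [MulMemClass.coe_mul, trunc_mul (hQ.to_le hU) (hfixU hU y) (hfixU hU z), mul_assoc,
        ← (commute_blkK_trunc U g (z : KG M G)).eq, ← mul_assoc, hy U g hU hg hbad, zero_mul]
  set a' : ↥(fixAlg (ResField M) ((Q : Set G) ∪ R)) := i * ⟨a, ha⟩ * i
  have hLa' : L a' := (hLmul _ i ((hLmul ⟨a, ha⟩ i habad).1)).2
  have htrunc : trunc Q (a' : KG M G) =
      trunc Q (i : KG M G) * blkK M (Subgroup.centralizer (Q : Set G)) f := by
    simp only [a', MulMemClass.coe_mul]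
    rw [trunc_mul hQ (mul_mem hiQ (fixAlg_anti Set.subset_union_left ha)) hiQ,
      trunc_mul hQ hiQ (fixAlg_anti Set.subset_union_left ha), haf, mul_assoc,
      (commute_blkK_trunc Q f (i : KG M G)).eq, ← mul_assoc,
      (isIdempotentElem_trunc hQ hiQ hii).eq]
  have hfid : IsIdempotentElem
      (trunc Q (i : KG M G) * blkK M (Subgroup.centralizer (Q : Set G)) f) := by
    rw [IsIdempotentElem, mul_assoc, ← mul_assoc (blkK M _ f),
      (commute_blkK_trunc Q f (i : KG M G)).eq, mul_assoc, (isIdempotentElem_blkK hf).eq,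
      ← mul_assoc, (isIdempotentElem_trunc hQ hiQ hii).eq]
  have hLi : L i := by
    rcases hi.dichotomy (K := ResField M) (s := a') (by simp only [a', ← mul_assoc, hi.idem.eq])
      (by simp only [a', mul_assoc, hi.idem.eq]) with ⟨n, hn⟩ | ⟨t, -, -, ht, -⟩
    · exfalso
      refine hfne ?_
      have key : ∀ m, trunc Q ((a' ^ (m + 1) : ↥(fixAlg (ResField M) ((Q : Set G) ∪ R))) : KG M G) =
          (trunc Q (a' : KG M G)) ^ (m + 1) := by
        intro m
        induction m with
        | zero => simp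
        | succ m ih =>
          rw [pow_succ, MulMemClass.coe_mul, trunc_mul hQ
            (fixAlg_anti Set.subset_union_left (a' ^ (m + 1)).2)
            (fixAlg_anti Set.subset_union_left a'.2), ih, ← pow_succ]
      have h1 := key n
      rw [pow_succ, hn, zero_mul, htrunc, hfid.pow_succ_eq] at h1
      simpa using h1.symm
    · rw [← ht]
      exact (hLmul a' t hLa').1
  -- the values
  obtain ⟨e, he, hie, her⟩ := exists_lift_idempotent' hii i.2
  let φ : ↥Q × ↥R →* G :=
    { toFun := fun q => (q.1 : G) * (q.2 : G)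
      map_one' := by simp
      map_mul' := fun q q' => by
        have hc : (q'.1 : G) * (q.2 : G) = (q.2 : G) * (q'.1 : G) :=
          Subgroup.mem_centralizer_iff.mp (hRQ q.2.2) _ q'.1.2
        simp only [Prod.fst_mul, Prod.snd_mul, Subgroup.coe_mul, mul_assoc]
        rw [← mul_assoc (q'.1 : G), hc, mul_assoc] }
  have hφ : ∀ q, Commute (dlt (locRing M) (φ q)) e := fun q => by
    show Commute (dlt (locRing M) ((q.1 : G) * (q.2 : G))) e
    rw [← dlt_mul]
    exact (mem_fixAlg.mp he _ (Or.inl q.1.2)).mul_left (mem_fixAlg.mp he _ (Or.inr q.2.2))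
  have hchar := isCharacter_chiSum hχ φ hie hφ
  have hQf : IsBrauerPair p M Q f := ⟨hQ, hf⟩
  -- a single pair contributes at each point
  have hval : ∀ q : ↥Q × ↥R, ∃ g : Set (IrrCharacter
      (Subgroup.centralizer (Subgroup.zpowers (q.1 : G) : Set G))),
      SubpairLE p M (Subgroup.zpowers (q.1 : G)) g Q f ∧
      starProd χ w Q R (i : KG M G) q =
        w (q.1 : G) ⟨Subgroup.zpowers (q.1 : G), g⟩ * chiSum χ (e * dlt (locRing M) (φ q)) := by
    intro q
    have hUQ : Subgroup.zpowers (q.1 : G) ≤ Q := Subgroup.zpowers_le.mpr q.1.2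
    have hpt := sectionPoint_of_mem hM hQ hRQ hR q.1.2 q.2.2
    have hiu := fix_pair_of_mem (i := (i : KG M G)) q.1.2 q.2.2 i.2
    obtain ⟨g, hg, huniq⟩ := existsUnique_subpair hM hQf hUQ
    refine ⟨g, hg, ?_⟩
    have hgb := (SubpairLE.isBrauerPair hg hQf).2
    have hother : ∀ b ∈ subBlocks M (Subgroup.centralizer (Subgroup.zpowers (q.1 : G) : Set G)),
        b ≠ g → trunc (Subgroup.zpowers (q.1 : G)) (i : KG M G) *
          blkK M (Subgroup.centralizer (Subgroup.zpowers (q.1 : G) : Set G)) b = 0 :=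
      fun b hb hne => hLi _ b hUQ (mem_subBlocks.mp hb) fun hle => hne (huniq b hle)
    have hone : trunc (Subgroup.zpowers (q.1 : G)) (i : KG M G) *
        blkK M (Subgroup.centralizer (Subgroup.zpowers (q.1 : G) : Set G)) g =
          trunc (Subgroup.zpowers (q.1 : G)) (i : KG M G) := by
      conv_rhs => rw [← mul_one (trunc _ (i : KG M G)), ← sum_blkK_subBlocks
        (Subgroup.centralizer (Subgroup.zpowers (q.1 : G) : Set G)), Finset.mul_sum,
        Finset.sum_eq_single_of_mem g (mem_subBlocks.mpr hgb) hother]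
    rw [starProd, starPart, starTerm, Finset.sum_eq_single_of_mem g (mem_subBlocks.mpr hgb)
      fun b hb hne => by rw [hother b hb hne, blkTrace_zero hχc, mul_zero], hone]
    obtain ⟨k, hk⟩ := hpt.pElem
    have hnorm : ∀ s ∈ ({(q.1 : G), (q.2 : G)} : Set G),
        s ∈ Subgroup.normalizer (Subgroup.zpowers (q.1 : G) : Set G) := by
      rintro s (rfl | rfl)
      · exact Subgroup.le_normalizer (Subgroup.mem_zpowers _)
      · exact Subgroup.centralizer_le_normalizer _ (mem_centralizer_zpowers hpt.comm)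
    rw [← blkTrace_eq_of_trunc_eq hM hpt.comm hk hpt.regular hχc hii
      (isIdempotentElem_trunc (hpt.isPGroup hM) (hfixU hUQ i) hii) hiu
      (trunc_mem_fixAlg hnorm hiu) (trunc_idem _ _).symm, ← her,
      show (q.1 : G) * (q.2 : G) = φ q from rfl, blkTrace_red hχc hie (mem_fixAlg.mpr fun s hs => Set.mem_singleton_iff.mp hs ▸ hφ q)]
  rcases hw.local_char Q f hQf with hzero | ⟨ν, hν, hlam⟩
  · have : starProd χ w Q R (i : KG M G) = 0 := funext fun q => by
      obtain ⟨g, hg, hq⟩ := hval q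
      rw [hq, hzero _ q.1.2 g hg, zero_mul]
      rfl
    rw [this]
    exact Char.isGeneralized_zero
  · have : starProd χ w Q R (i : KG M G) = (fun q : ↥Q × ↥R => ν (MonoidHom.fst Q R q)) *
        fun q => chiSum χ (e * dlt (locRing M) (φ q)) := funext fun q => by
      obtain ⟨g, hg, hq⟩ := hval q
      rw [hq, hlam q.1 g hg]
      rfl
    rw [this]
    exact Char.isGeneralized_mul (Char.isGeneralized_comp _ hν)
      (Char.isGeneralized_of_isCharacter hchar)

/-- The main theorem. -/
theorem isGeneralized_starProd (hM : IsPModular p M) {χ : G → ℂ} (hχ : IsCharacter G χ)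
    {w : G → BrauerPairIdx G → ℂ} (hw : IsPairWeight p M w) (hQ : IsPGroup p Q)
    (hRQ : R ≤ Subgroup.centralizer (Q : Set G)) (hR : ¬ p ∣ Nat.card R) {i : KG M G}
    (hi : IsIdempotentElem i) (hiQ : i ∈ fixAlg (ResField M) ((Q : Set G) ∪ R)) :
    IsGeneralizedCharacter (↥Q × ↥R) (starProd χ w Q R i) := by
  classical
  have : Fact p.Prime := ⟨hM.1⟩
  have := charP_resField hM
  have hχc := Char.isClassFunction_of_isCharacter hχ
  have hp0 : p ≠ 0 := hM.1.ne_zero
  induction hn : Nat.card Q using Nat.strong_induction_on generalizing Q i with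
  | _ n ih =>
  subst hn
  -- reduce to primitive idempotents
  suffices hprim : ∀ j : ↥(fixAlg (ResField M) ((Q : Set G) ∪ R)), Corner.IsPrim j →
      IsGeneralizedCharacter (↥Q × ↥R) (starProd χ w Q R (j : KG M G)) by
    obtain ⟨s, hs, hso, hsum⟩ := Corner.exists_prim_decomp (K := ResField M)
      (i := (⟨i, hiQ⟩ : ↥(fixAlg (ResField M) ((Q : Set G) ∪ R)))) (Subtype.ext hi.eq)
    have : starProd χ w Q R i = ∑ j ∈ s, starProd χ w Q R (j : KG M G) := funext fun q => by
      rw [Finset.sum_apply]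
      simp only [starProd]
      conv_lhs => rw [show i = ((∑ j ∈ s, j : ↥(fixAlg (ResField M) ((Q : Set G) ∪ R))) : KG M G) by
        rw [hsum]]
      exact (starPart_sum hM hχc w (sectionPoint_of_mem hM hQ hRQ hR q.1.2 q.2.2)
        (fun a ha => fix_pair_of_mem q.1.2 q.2.2 ha) s (fun x hx => (hs x hx).idem) hso).1
    rw [this]
    exact Char.isGeneralized_sum _ _ fun j hj => hprim j (hs j hj)
  intro j hj
  by_cases hloc : trunc Q (j : KG M G) = 0
  swap
  · exact isGeneralized_starProd_local hM hχ hw hQ hRQ hR hj hloc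
  have hji : IsIdempotentElem (j : KG M G) := hj.idem.map (fixAlg (ResField M) _).val
  -- `j` is a trace from a maximal subgroup
  have : Fintype (Subgroup G) := Fintype.ofFinite _
  obtain ⟨a, sg, hspec, hsum⟩ := exists_trace_decomposition hQ hRQ hR j.2 hloc
  obtain ⟨N, hN, hTr⟩ : ∃ N ∈ maxNormals p Q,
      ∃ t : ↥(fixAlg (ResField M) ((Q : Set G) ∪ R)), ∀ (ht : ∑ k ∈ Finset.range p,
        conjAlg (ResField M) (sg N ^ k) (a N) ∈ fixAlg (ResField M) ((Q : Set G) ∪ R)),
        t * (j * ⟨_, ht⟩ * j) = j := by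
    by_contra hcon
    push Not at hcon
    let piece : Subgroup G → ↥(fixAlg (ResField M) ((Q : Set G) ∪ R)) := fun N =>
      if hN : N ∈ maxNormals p Q then j * ⟨_, (hspec N hN).2.2.2⟩ * j else 0
    have hcorner : ∀ N, j * piece N = piece N ∧ piece N * j = piece N := fun N => by
      simp only [piece]
      split_ifs
      · exact ⟨by simp only [← mul_assoc, hj.idem.eq], by simp only [mul_assoc, hj.idem.eq]⟩
      · simp
    have hnil : ∀ N, IsNilpotent (piece N) := fun N => by
      rcases hj.dichotomy (K := ResField M) (hcorner N).1 (hcorner N).2 with h | ⟨t, -, -, ht, -⟩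
      · exact h
      · by_cases hN : N ∈ maxNormals p Q
        · simp only [piece, dif_pos hN] at ht
          obtain ⟨ht', hne⟩ := hcon N hN t
          exact absurd ht hne
        · simp only [piece, dif_neg hN]
          exact IsNilpotent.zero
    have hall : ∀ u : Finset (Subgroup G),
        IsNilpotent (∑ N ∈ u, piece N) ∧ j * ∑ N ∈ u, piece N = ∑ N ∈ u, piece N ∧
          (∑ N ∈ u, piece N) * j = ∑ N ∈ u, piece N := by
      intro u
      induction u using Finset.induction with
      | empty => simp [IsNilpotent.zero]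
      | insert N u hu ih' =>
        rw [Finset.sum_insert hu]
        exact ⟨hj.isNilpotent_add (K := ResField M) (hcorner N).1 (hcorner N).2 ih'.2.1 ih'.2.2
          (hnil N) ih'.1, by rw [mul_add, (hcorner N).1, ih'.2.1],
          by rw [add_mul, (hcorner N).2, ih'.2.2]⟩
    obtain ⟨m, hm⟩ := (hall ({N | N ∈ maxNormals p Q} : Finset (Subgroup G))).1
    refine hj.ne_zero ?_
    rw [← hj.idem.pow_succ_eq m, pow_succ, show j ^ m = (∑ N ∈ ({N | N ∈ maxNormals p Q} :
      Finset (Subgroup G)), piece N) ^ m from ?_, hm, zero_mul]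
    congr 1
    refine Subtype.ext ?_
    rw [AddSubmonoidClass.coe_finsetSum]
    rw [show (j : KG M G) = (j : KG M G) * (j : KG M G) * (j : KG M G) by rw [hji.eq, hji.eq]]
    conv_lhs => enter [1, 2]; rw [← hsum]
    rw [Finset.mul_sum, Finset.sum_mul]
    refine Finset.sum_congr rfl fun N hN => ?_
    simp only [piece, dif_pos (Finset.mem_filter.mp hN).2, MulMemClass.coe_mul]
  obtain ⟨hsQ, hsN, haN, htrN⟩ := hspec N hN
  obtain ⟨t, ht⟩ := hTr
  specialize ht htrN
  set s := sg N with hsdef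
  -- the subalgebra fixed by `N` and `R`
  set S : Set G := (N : Set G) ∪ R
  have hconjS : ∀ {x : G}, x ∈ Q → ∀ {y : KG M G}, y ∈ fixAlg (ResField M) S →
      conjAlg (ResField M) x y ∈ fixAlg (ResField M) S := fun {x} hx {y} hy =>
    conjAlg_mem (S := S) (fun z hz => by
      rcases hz with hz | hz
      · left
        have := (Subgroup.mem_normalizer_iff.mp (inv_mem (hN.2.1 hx)) z).mp hz
        simpa using this
      · right
        rw [mul_assoc, ← Subgroup.mem_centralizer_iff.mp (hRQ hz) x hx, inv_mul_cancel_left]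
        exact hz) hy
  let σ : ↥(fixAlg (ResField M) S) ≃ₐ[ResField M] ↥(fixAlg (ResField M) S) :=
    { toFun := fun y => ⟨conjAlg (ResField M) s y, hconjS hsQ y.2⟩
      invFun := fun y => ⟨conjAlg (ResField M) s⁻¹ y, hconjS (inv_mem hsQ) y.2⟩
      left_inv := fun y => Subtype.ext (conjAlg_inv_conjAlg s _)
      right_inv := fun y => Subtype.ext (by
        show conjAlg (ResField M) s (conjAlg (ResField M) s⁻¹ (y : KG M G)) = y
        rw [← conjAlg_mul, mul_inv_cancel, conjAlg_one])
      map_mul' := fun y z => Subtype.ext (map_mul _ _ _)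
      map_add' := fun y z => Subtype.ext (map_add _ _ _)
      commutes' := fun c => Subtype.ext ((conjAlg (ResField M) s).commutes c) }
  have hσn : ∀ (k : ℕ) (y : ↥(fixAlg (ResField M) S)),
      (((⇑σ)^[k] y : ↥(fixAlg (ResField M) S)) : KG M G) = conjAlg (ResField M) (s ^ k) y := by
    intro k
    induction k with
    | zero => intro y; rw [pow_zero, conjAlg_one]; rfl
    | succ k ihk =>
      intro y
      rw [Function.iterate_succ_apply', pow_succ', conjAlg_mul, ← ihk]
      rfl
  have hσp : ∀ y, (⇑σ)^[p] y = y := fun y => Subtype.ext (by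
    rw [hσn]
    exact conjAlg_eq_self (mem_fixAlg.mp y.2 _ (Or.inl (pow_mem_of_maxNormals hN hsQ))))
  have hjQs : ∀ {y : KG M G}, y ∈ fixAlg (ResField M) ((Q : Set G) ∪ R) → ∀ {x : G}, x ∈ Q →
      conjAlg (ResField M) x y = y := fun hy x hx =>
    conjAlg_eq_self (mem_fixAlg.mp hy x (Or.inl hx))
  have hsubS : fixAlg (ResField M) ((Q : Set G) ∪ R) ≤ fixAlg (ResField M) S :=
    fixAlg_anti (Set.union_subset_union_left _ hN.1)
  set jS : ↥(fixAlg (ResField M) S) := ⟨j, hsubS j.2⟩
  have hjS : IsIdempotentElem jS := Subtype.ext hji.eq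
  have hσj : σ jS = jS := Subtype.ext (hjQs j.2 hsQ)
  set aS : ↥(fixAlg (ResField M) S) :=
    ⟨(t : KG M G) * j * a N * j, mul_mem (mul_mem (mul_mem (hsubS t.2) (hsubS j.2)) haN) (hsubS j.2)⟩
  have hja : jS = ∑ k ∈ Finset.range p, (⇑σ)^[k] aS := by
    refine Subtype.ext ?_
    rw [AddSubmonoidClass.coe_finsetSum, Finset.sum_congr rfl (g := fun k =>
      (t : KG M G) * j * conjAlg (ResField M) (s ^ k) (a N) * j) fun k _ => by
        rw [hσn]
        simp only [aS, map_mul, hjQs t.2 (pow_mem hsQ k), hjQs j.2 (pow_mem hsQ k)],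
      ← Finset.sum_mul, ← Finset.mul_sum]
    have h1 := congrArg Subtype.val ht
    simp only [MulMemClass.coe_mul] at h1
    rw [← mul_assoc, ← mul_assoc] at h1
    exact h1.symm
  -- values off `N` vanish
  have hoff : ∀ u ∈ Q, u ∉ N → ∀ r : G, starPart χ w (j : KG M G) u r = 0 := by
    intro u hu huN r
    refine starPart_eq_zero_of_trunc hχc w ?_
    refine MonoidAlgebra.ext (Finsupp.ext fun c => ?_)
    by_cases hc : c ∈ Subgroup.centralizer (Subgroup.zpowers u : Set G)
    swap
    · rw [coeff_trunc_of_notMem _ hc]; rfl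
    rw [coeff_trunc_of_mem _ hc,
      show (j : KG M G) = ((jS : ↥(fixAlg (ResField M) S)) : KG M G) from rfl, hja,
      AddSubmonoidClass.coe_finsetSum, MonoidAlgebra.coeff_sum, Finsupp.coe_finsetSum,
      Finset.sum_apply]
    simp only [hσn, coeff_conjAlg]
    obtain ⟨l, hl, hlN, hluniq⟩ := coset_index hN hsQ hsN hu
    have hcu : c * u = u * c :=
      (Subgroup.mem_centralizer_iff.mp hc u (Subgroup.mem_zpowers u)).symm
    set h : ℕ → ResField M := fun k => (aS : KG M G).coeff ((s ^ k)⁻¹ * c * s ^ k)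
    have hper : ∀ k, h (k + p) = h k := fun k => by
      have hn : (s ^ p)⁻¹ ∈ N := inv_mem (pow_mem_of_maxNormals hN hsQ)
      simp only [h]
      rw [← mem_fixAlg_iff.mp aS.2 _ (Or.inl hn) ((s ^ k)⁻¹ * c * s ^ k), pow_add]
      congr 1
      group
    have hshift : ∀ k, h (k + l) = h k := fun k => by
      obtain ⟨nn, hnn, hun⟩ : ∃ nn ∈ N, u = s ^ l * nn := ⟨_, hlN, by group⟩
      have hm : (s ^ k)⁻¹ * nn * (s ^ k)⁻¹⁻¹ ∈ N :=
        (Subgroup.mem_normalizer_iff.mp (hN.2.1 (inv_mem (pow_mem hsQ k))) nn).mp hnn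
      simp only [h]
      rw [← mem_fixAlg_iff.mp aS.2 _ (Or.inl hm) ((s ^ k)⁻¹ * c * s ^ k)]
      congr 1
      have e : (s ^ l)⁻¹ * c * s ^ l = nn * c * nn⁻¹ := by
        conv_lhs => rw [show c = u * c * u⁻¹ by rw [← hcu, mul_inv_cancel_right], hun]
        group
      calc (s ^ (k + l))⁻¹ * c * s ^ (k + l) = (s ^ k)⁻¹ * ((s ^ l)⁻¹ * c * s ^ l) * s ^ k := by
            rw [show k + l = l + k from add_comm _ _, pow_add]; group
        _ = _ := by rw [e]; group
    have hl0 : l ≠ 0 := fun h0 => huN (by simpa [h0] using hlN)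
    have hconst : ∀ k, k < p → h k = h 0 := fun k hk => by
      have hlp : (l : ZMod p) ≠ 0 := fun h0 => by
        rw [ZMod.natCast_eq_zero_iff] at h0
        exact hl0 (Nat.eq_zero_of_dvd_of_lt h0 hl)
      set m := ((k : ZMod p) * (l : ZMod p)⁻¹).val
      have hm : (m * l) % p = k := by
        have h1 : (((m * l : ℕ)) : ZMod p) = (k : ZMod p) := by
          push_cast
          simp [m, mul_assoc, inv_mul_cancel₀ hlp]
        rw [ZMod.natCast_eq_natCast_iff'] at h1
        rwa [Nat.mod_eq_of_lt hk] at h1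
      have hml : ∀ m : ℕ, h (m * l) = h 0 := fun m => by
        induction m with
        | zero => rw [zero_mul]
        | succ m ihm => rw [Nat.succ_mul, hshift, ihm]
      have hmp : ∀ q r : ℕ, h (r + q * p) = h r := fun q r => by
        induction q with
        | zero => rw [zero_mul, add_zero]
        | succ q ihq => rw [Nat.succ_mul, ← add_assoc, hper, ihq]
      rw [← hm, ← hml m]
      conv_rhs => rw [← Nat.mod_add_div (m * l) p, mul_comm p _, hmp]
    rw [Finset.sum_congr rfl (g := fun _ => h 0) fun k hk => hconst k (Finset.mem_range.mp hk),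
      Finset.sum_const, Finset.card_range, nsmul_eq_mul, CharP.cast_eq_zero, zero_mul]
    rfl
  -- the inner products with the irreducible characters
  have hNp : IsPGroup p N := hQ.to_le hN.1
  have hRN : R ≤ Subgroup.centralizer (N : Set G) := hRQ.trans (GrpRing.centralizer_anti hN.1)
  have hNcard : Nat.card N < Nat.card Q := lt_of_not_ge fun hge =>
    hsN ((Subgroup.eq_of_le_of_card_ge hN.1 hge).symm ▸ hsQ)
  have := Fintype.ofFinite (↥Q × ↥R)
  have := Fintype.ofFinite (↥N × ↥R)
  have hcls : IsClassFunction (↥Q × ↥R) (starProd χ w Q R (j : KG M G)) := by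
    intro q x
    have hpt := sectionPoint_of_mem hM hQ hRQ hR q.1.2 q.2.2
    have hc : (x.2 : G) * (x.1 : G) = (x.1 : G) * (x.2 : G) :=
      (Subgroup.mem_centralizer_iff.mp (hRQ x.2.2) _ x.1.2).symm
    have hcr : (x.1 : G) * (q.2 : G) = (q.2 : G) * (x.1 : G) :=
      Subgroup.mem_centralizer_iff.mp (hRQ q.2.2) _ x.1.2
    have hcu : (x.2 : G) * (q.1 : G) = (q.1 : G) * (x.2 : G) :=
      (Subgroup.mem_centralizer_iff.mp (hRQ x.2.2) _ q.1.2).symm
    have h1 := starTerm_conj hM hχc hw hpt hji (fix_pair_of_mem q.1.2 q.2.2 j.2) ((x.1 : G) * x.2)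
    rw [conjAlg_mul, conjAlg_eq_self (mem_fixAlg.mp j.2 _ (Or.inr x.2.2)), hjQs j.2 x.1.2] at h1
    have hy : (x.1 : G) * ((x.2 : G) * (q.2 : G) * (x.2 : G)⁻¹) =
        (x.2 : G) * (q.2 : G) * (x.2 : G)⁻¹ * (x.1 : G) :=
      Subgroup.mem_centralizer_iff.mp
        (hRQ (mul_mem (mul_mem x.2.2 q.2.2) (inv_mem x.2.2))) _ x.1.2
    have e1 : (x.1 : G) * x.2 * q.1 * ((x.1 : G) * x.2)⁻¹ = (x.1 : G) * q.1 * (x.1 : G)⁻¹ := by
      rw [mul_assoc _ (x.2 : G), hcu]; group
    have e2 : (x.1 : G) * x.2 * q.2 * ((x.1 : G) * x.2)⁻¹ = (x.2 : G) * q.2 * (x.2 : G)⁻¹ := by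
      calc _ = (x.1 : G) * ((x.2 : G) * q.2 * (x.2 : G)⁻¹) * (x.1 : G)⁻¹ := by group
        _ = _ := by rw [hy, mul_inv_cancel_right]
    rw [e1, e2] at h1
    simpa [starProd] using h1
  rw [Char.isGeneralized_iff_classInner hcls]
  intro θ
  let ι : ↥N × ↥R →* ↥Q × ↥R :=
    MonoidHom.prodMap (Subgroup.inclusion hN.1) (MonoidHom.id R)
  have hθgen : IsGeneralizedCharacter (↥N × ↥R) (fun q => (θ : ↥Q × ↥R → ℂ) (ι q)) :=
    Char.isGeneralized_comp ι (Char.isGeneralized_of_isIrr θ.2)
  have hcex : ∀ y : ↥(fixAlg (ResField M) S), ∃ m : ℤ, IsIdempotentElem y →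
      classInner (starProd χ w N R (y : KG M G)) (fun q => (θ : ↥Q × ↥R → ℂ) (ι q)) = (m : ℂ) :=
    fun y => by
      by_cases hy : IsIdempotentElem y
      · obtain ⟨m, hm⟩ := Char.exists_int_classInner
          (ih _ hNcard hNp hRN (i := (y : KG M G)) (hy.map (fixAlg (ResField M) S).val) y.2 rfl)
          hθgen
        exact ⟨m, fun _ => hm⟩
      · exact ⟨0, fun h => absurd h hy⟩
  choose cf hcf using hcex
  obtain ⟨comp, hcomp, hcompo, hcompsum⟩ := Corner.exists_prim_decomp (K := ResField M) hjS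
  have hdvd : (p : ℤ) ∣ ∑ x ∈ comp, cf x := by
    refine Corner.dvd_sum_components hσp hjS hσj hja comp hcomp hcompo hcompsum cf
      (fun x y hx hy hxy => ?_) fun x hx => ?_
    · obtain ⟨c, d, hcd, hdc⟩ := hxy
      refine Int.cast_injective (α := ℂ) ?_
      rw [← hcf x hx.idem, ← hcf y hy.idem]
      congr 1
      funext q
      refine starPart_congr hM hχc w (sectionPoint_of_mem hM hNp hRN hR q.1.2 q.2.2)
        (hx.idem.map (fixAlg (ResField M) S).val) (hy.idem.map (fixAlg (ResField M) S).val)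
        (fix_pair_of_mem q.1.2 q.2.2 x.2) (fix_pair_of_mem q.1.2 q.2.2 y.2)
        (fix_pair_of_mem q.1.2 q.2.2 c.2) (fix_pair_of_mem q.1.2 q.2.2 d.2)
        (congrArg Subtype.val hcd) (congrArg Subtype.val hdc)
    · refine Int.cast_injective (α := ℂ) ?_
      rw [← hcf (σ x) (hx.idem.map σ), ← hcf x hx.idem]
      simp only [classInner]
      congr 1
      have hnorm : ∀ z, z ∈ N ↔ s * z * s⁻¹ ∈ N := Subgroup.mem_normalizer_iff.mp (hN.2.1 hsQ)
      let e : ↥N × ↥R ≃ ↥N × ↥R :=
        { toFun := fun q => (⟨s * q.1 * s⁻¹, (hnorm _).mp q.1.2⟩, q.2)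
          invFun := fun q => (⟨s⁻¹ * q.1 * s, (hnorm _).mpr (by
            simp [mul_assoc])⟩, q.2)
          left_inv := fun q => Prod.ext (Subtype.ext (by simp [mul_assoc])) rfl
          right_inv := fun q => Prod.ext (Subtype.ext (by simp [mul_assoc])) rfl }
      refine (Fintype.sum_equiv e _ _ fun q => ?_).symm
      have hsr : s * (q.2 : G) * s⁻¹ = (q.2 : G) := by
        rw [Subgroup.mem_centralizer_iff.mp (hRQ q.2.2) s hsQ, mul_inv_cancel_right]
      have h1 := starTerm_conj hM hχc hw (sectionPoint_of_mem hM hNp hRN hR q.1.2 q.2.2)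
        (hx.idem.map (fixAlg (ResField M) S).val) (fix_pair_of_mem q.1.2 q.2.2 x.2) s
      rw [hsr] at h1
      have h2 : (θ : ↥Q × ↥R → ℂ) (ι (e q)) = (θ : ↥Q × ↥R → ℂ) (ι q) := by
        rw [show ι (e q) = ((⟨s, hsQ⟩, 1) : ↥Q × ↥R) * ι q * ((⟨s, hsQ⟩, 1) : ↥Q × ↥R)⁻¹ from
          Prod.ext (Subtype.ext rfl) (Subtype.ext (by simp [ι, e]))]
        exact irr_classFunction θ _ _
      show _ = starPart χ w (conjAlg (ResField M) s (x : KG M G)) ((e q).1 : G) ((e q).2 : G) * _
      rw [h2]
      congr 1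
      exact h1.symm
  obtain ⟨m, hm⟩ := hdvd
  refine ⟨m, ?_⟩
  -- restriction to `N × R`
  have hcard : Nat.card (↥Q × ↥R) = p * Nat.card (↥N × ↥R) := by
    rw [Nat.card_prod, Nat.card_prod, ← mul_assoc]
    congr 1
    have h1 := (N.subgroupOf Q).card_mul_index
    rw [show (N.subgroupOf Q).index = p from hN.2.2,
      Nat.card_congr (Subgroup.subgroupOfEquivOfLe hN.1).toEquiv] at h1
    rw [← h1, mul_comm]
  have hrestr : ∑ q : ↥Q × ↥R, starProd χ w Q R (j : KG M G) q *
      starRingEnd ℂ ((θ : ↥Q × ↥R → ℂ) q) = ∑ q : ↥N × ↥R, (∑ x ∈ comp,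
        starProd χ w N R (x : KG M G) q) * starRingEnd ℂ ((θ : ↥Q × ↥R → ℂ) (ι q)) := by
    refine (Fintype.sum_of_injective ι ?_ _ _ (fun q hq => ?_) fun q => ?_).symm
    · intro a b hab
      exact Prod.ext (Subgroup.inclusion_injective hN.1 (congrArg Prod.fst hab))
        (congrArg Prod.snd hab :)
    · have hqN : (q.1 : G) ∉ N := fun hh => hq ⟨(⟨q.1, hh⟩, q.2), rfl⟩
      rw [show starProd χ w Q R (j : KG M G) q = 0 from hoff _ q.1.2 hqN _, zero_mul]
    · congr 1
      have h1 := (starPart_sum hM hχc w (sectionPoint_of_mem hM hNp hRN hR q.1.2 q.2.2)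
        (fun a ha => fix_pair_of_mem q.1.2 q.2.2 ha) comp (fun x hx => (hcomp x hx).idem) hcompo).1
      rw [hcompsum] at h1
      exact h1.symm
  have hkey : ∑ x ∈ comp, (cf x : ℂ) = (Nat.card (↥N × ↥R) : ℂ)⁻¹ *
      ∑ q : ↥N × ↥R, (∑ x ∈ comp, starProd χ w N R (x : KG M G) q) *
        starRingEnd ℂ ((θ : ↥Q × ↥R → ℂ) (ι q)) := by
    rw [Finset.sum_congr rfl fun x hx => (hcf x (hcomp x hx).idem).symm]
    simp only [classInner, ← Finset.mul_sum, Finset.sum_mul]
    rw [Finset.sum_comm]
  rw [classInner, hrestr, hcard, Nat.cast_mul, mul_inv, mul_assoc, ← hkey, ← Int.cast_sum, hm,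
    Int.cast_mul, Int.cast_natCast, inv_mul_cancel_left₀ (Nat.cast_ne_zero.mpr hp0)]

end Main

end CfsgLib.Blocks
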