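import Cfsg.Agent.Lib.Blocks.Defect

/-!
# Classes of exact defect and blocks of that defect

The idempotent of a block of defect `d` evaluates, modulo the ideal, only on `p`-regular classes
of defect exactly `d` against the central characters of blocks of defect `d`.
-/

set_option autoImplicit false
set_option linter.unusedSectionVars false

namespace CfsgLib.Blocks

open Cfsg
open scoped ComplexConjugate CfsgLib.Char

variable {p : ℕ} {M : Ideal AlgInt} {G : Type*} [Group G] [Fintype G]

variable (hM : IsPModular p M) {B : Set (IrrCharacter G)}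
include hM

/-- The support of the idempotent lies in classes of defect at most the defect of the block. -/
theorem factorization_centralizer_le_of_blockCoeff (hB : IsPBlock M B) {g : G}
    (hg : ¬ MemLocalIdeal M (blockCoeff B g)) :
    (Nat.card (Subgroup.centralizer ({g} : Set G))).factorization p ≤ blockDefect p B := by
  have : Fact p.Prime := ⟨hM.1⟩
  obtain ⟨D, hD⟩ := exists_isDefectGroup hM hB
  obtain ⟨Q, hQ⟩ := exists_isSylowCent (p := p) g
  obtain ⟨x, hx⟩ := IsDefectGroup.exists_le_conj_of_support hM hB hD hg hQ.isPGroup hQ.1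
  have h := Subgroup.card_dvd_of_le hx
  rw [Subgroup.card_map_of_injective (MulAut.conj x).injective, hQ.2,
    IsDefectGroup.card_eq hM hB hD] at h
  exact (Nat.pow_dvd_pow_iff_le_right hM.1.one_lt).mp h

/-- A class on which the central character is a unit has defect at least that of the block. -/
theorem le_factorization_centralizer_of_centralChar (hB : IsPBlock M B) {χ : IrrCharacter G}
    (hχ : χ ∈ B) {g : G} (hg : ¬ MemLocalIdeal M (centralChar (χ : G → ℂ) g)) :
    blockDefect p B ≤ (Nat.card (Subgroup.centralizer ({g} : Set G))).factorization p := by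
  have : Fact p.Prime := ⟨hM.1⟩
  obtain ⟨D, hD⟩ := exists_isDefectGroup hM hB
  obtain ⟨y, hgy, hy⟩ := IsDefectGroup.exists_isConj_centralizing hM hB hD hχ hg
  have h := Subgroup.card_dvd_of_le hy
  rw [IsDefectGroup.card_eq hM hB hD, hM.1.pow_dvd_iff_le_factorization Nat.card_pos.ne'] at h
  have hidx : (Subgroup.centralizer ({g} : Set G)).index =
      (Subgroup.centralizer ({y} : Set G)).index := by
    rw [index_centralizer_eq_card, index_centralizer_eq_card]
    exact Nat.card_congr (Equiv.setCongr (Set.ext fun z =>
      ⟨fun hz => hgy.symm.trans hz, fun hz => hgy.trans hz⟩))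
  have hcard : Nat.card (Subgroup.centralizer ({g} : Set G)) =
      Nat.card (Subgroup.centralizer ({y} : Set G)) := by
    have h1 := card_centralizer_mul_index g
    have h2 := card_centralizer_mul_index y
    rw [← hidx, ← h1] at h2
    exact mul_right_cancel₀ (Subgroup.index_ne_zero_of_finite) h2.symm
  rwa [hcard]

/-- Modulo the ideal, the central character at the idempotent is computed on the regular classes
of exact defect. -/
theorem memLocalIdeal_indVec_sub_sum {d : ℕ} {B' : Set (IrrCharacter G)} (hB : IsPBlock M B)
    (hB' : IsPBlock M B') (hd : blockDefect p B = d) (hd' : blockDefect p B' = d)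
    {χ : IrrCharacter G} (hχ : χ ∈ B) (S : Finset (ConjClasses G))
    (hS : ∀ g : G, IsPRegular p g →
      (Nat.card (Subgroup.centralizer ({g} : Set G))).factorization p = d →
      ConjClasses.mk g ∈ S) :
    MemLocalIdeal M (indVec B' χ -
      ∑ c ∈ S, blockCoeff B' (Quotient.out c) * centralChar (χ : G → ℂ) (Quotient.out c)) := by
  classical
  have := isPrime_of_isPModular hM
  rw [← omega_blockCoeff, omega_eq_sum_classes χ (isClassFunction_blockCoeff B'),
    ← Finset.sum_compl_add_sum S, add_sub_cancel_right]
  refine memLocalIdeal_sum _ _ fun c hc => ?_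
  rw [Finset.mem_compl] at hc
  set g := Quotient.out c
  have hcg : ConjClasses.mk g = c := Quotient.out_eq c
  by_cases hr : IsPRegular p g
  · by_cases he : MemLocalIdeal M (blockCoeff B' g)
    · exact memLocalIdeal_mul_right he (memLocalRing_centralChar χ g)
    · refine memLocalIdeal_mul_left (IsPBlock.memLocalRing_blockCoeff hB' g) ?_
      by_contra hw
      refine hc (hcg ▸ hS g hr (le_antisymm ?_ ?_))
      · exact hd' ▸ factorization_centralizer_le_of_blockCoeff hM hB' he
      · exact hd ▸ le_factorization_centralizer_of_centralChar hM hB hχ hw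
  · rw [blockCoeff_eq_zero_of_not_regular hM (IsPBlock.isBlockUnion hB') hr, zero_mul]
    exact memLocalIdeal_zero

/-- The blocks of defect `d` are no more than the regular classes of defect `d`. -/
theorem card_blocks_of_defect_le (d : ℕ) (S : Finset (ConjClasses G))
    (hS : ∀ g : G, IsPRegular p g →
      (Nat.card (Subgroup.centralizer ({g} : Set G))).factorization p = d →
      ConjClasses.mk g ∈ S) :
    Nat.card {B : Set (IrrCharacter G) // IsPBlock M B ∧ blockDefect p B = d} ≤ S.card := by
  classical
  have := isPrime_of_isPModular hM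
  set I := {B : Set (IrrCharacter G) // IsPBlock M B ∧ blockDefect p B = d}
  have hne : ∀ B : I, ∃ χ, χ ∈ B.1 := fun B => IsPBlock.nonempty B.2.1
  choose r hr using hne
  set L : I → S → ResField M := fun B c => res M (centralChar (r B : G → ℂ) (Quotient.out c.1))
  have hkey : ∀ B B' : I, ∑ c : S, res M (blockCoeff B'.1 (Quotient.out c.1)) * L B c =
      if B = B' then 1 else 0 := by
    intro B B'
    have hl : ∀ c ∈ S, MemLocalRing M
        (blockCoeff B'.1 (Quotient.out c) * centralChar (r B : G → ℂ) (Quotient.out c)) :=
      fun c _ => memLocalRing_mul (IsPBlock.memLocalRing_blockCoeff B'.2.1 _)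
        (memLocalRing_centralChar _ _)
    have h := memLocalIdeal_indVec_sub_sum hM B.2.1 B'.2.1 B.2.2 B'.2.2 (hr B) S hS
    have hi : MemLocalRing M (indVec B'.1 (r B)) := by
      by_cases hin : r B ∈ B'.1
      · rw [indVec_of_mem hin]; exact memLocalRing_one
      · rw [indVec_of_notMem hin]; exact memLocalRing_zero
    have h' := (res_eq_iff hi (memLocalRing_sum _ _ hl)).mpr h
    rw [res_sum _ _ hl, ← Finset.sum_coe_sort S] at h'
    simp only [L, ← res_mul (IsPBlock.memLocalRing_blockCoeff B'.2.1 _)
      (memLocalRing_centralChar _ _)]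
    rw [← h']
    split_ifs with hBB
    · rw [indVec_of_mem (hBB ▸ hr B), res_one]
    · rw [indVec_of_notMem fun hin => hBB (Subtype.ext
        (IsPBlock.eq_of_mem_of_mem B.2.1 B'.2.1 (hr B) hin)), res_zero]
  have hli : LinearIndependent (ResField M) L := by
    refine Fintype.linearIndependent_iff.mpr fun a ha B' => ?_
    have h0 : ∑ c : S, res M (blockCoeff B'.1 (Quotient.out c.1)) * (∑ B, a B • L B) c = 0 := by
      rw [ha]; simp
    simp only [Finset.sum_apply, Pi.smul_apply, smul_eq_mul, Finset.mul_sum] at h0
    rw [Finset.sum_comm] at h0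
    simp only [mul_left_comm _ (a _), ← Finset.mul_sum, hkey, mul_ite, mul_one, mul_zero] at h0
    rwa [Finset.sum_eq_single B' (fun b _ hb => if_neg hb) (fun hn => absurd (Finset.mem_univ _) hn),
      if_pos rfl] at h0
  have : Nontrivial (ResField M) := Ideal.Quotient.nontrivial_iff.mpr fun h => by
    exact not_memLocalIdeal_one (M := M) ((Ideal.eq_top_iff_one _).mp h : (1 : locRing M) ∈ _)
  have := hli.fintype_card_le_finrank
  rwa [Module.finrank_fintype_fun_eq_card, Fintype.card_coe, ← Nat.card_eq_fintype_card] at this

end CfsgLib.Blocks
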