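import Cfsg.Agent.Lib.Blocks.PairVal
import Cfsg.Agent.Lib.Blocks.BlockNilpotent
import Cfsg.Agent.Lib.Blocks.CoreKernel
import Cfsg.Agent.Lib.Blocks.Rank
import Cfsg.Agent.Lib.Char.CMValue

/-!
# Nilpotent blocks

For a nilpotent block `B` with defect group `P` and a height zero character `χ` of `B` the weighted
sums `η * χ`, for the irreducible characters `η` of `P`, are the irreducible characters of `B`.
Orthonormality comes from the contributions of `χ`: times `|C_P u|` they are totally positive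
algebraic integers and they sum to `|P|`, so all of them are one.  They exhaust the block because
their combination by degrees is the regular part of `χ`, which is orthogonal to no member of `B`.
-/

set_option autoImplicit false
set_option linter.unusedSectionVars false

namespace CfsgLib.Blocks

open Cfsg
open CfsgLib.GrpRing
open scoped ComplexConjugate CfsgLib.Char

/-- Totally non-negative non-zero algebraic integers with every conjugate sum equal to their
number are all one. -/
theorem eq_one_of_sum_embedding {ι : Type*} (s : Finset ι) (a : ι → Char.QBar)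
    (hint : ∀ i ∈ s, IsIntegral ℤ (a i : ℂ)) (h0 : ∀ i ∈ s, a i ≠ 0)
    (hpos : ∀ i ∈ s, ∀ ψ : Char.QBar →ₐ[ℚ] ℂ, ∃ r : ℝ, 0 ≤ r ∧ ψ (a i) = r)
    (hsum : ∀ ψ : Char.QBar →ₐ[ℚ] ℂ, ∑ i ∈ s, ψ (a i) = s.card) : ∀ i ∈ s, a i = 1 := by
  classical
  obtain ⟨ψ, hψ⟩ := Char.exists_one_le_norm (y := ∏ i ∈ s, a i)
    (by push_cast; exact IsIntegral.prod _ hint) (Finset.prod_ne_zero_iff.mpr h0)
  choose r hr0 hr using fun (i : s) => hpos i i.2 ψ
  have hrp : ∀ i : s, 0 < r i := fun i => lt_of_le_of_ne (hr0 i) fun e =>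
    h0 i i.2 ((map_eq_zero ψ).mp (by rw [hr, ← e, Complex.ofReal_zero]))
  have hprod : (1 : ℝ) ≤ ∏ i : s, r i := by
    rw [map_prod, ← Finset.prod_coe_sort, norm_prod] at hψ
    refine hψ.trans_eq (Finset.prod_congr rfl fun i _ => ?_)
    rw [hr, Complex.norm_real, Real.norm_of_nonneg (hr0 i)]
  have h3 : 0 ≤ ∑ i : s, Real.log (r i) := by
    rw [← Real.log_prod fun i _ => (hrp i).ne']
    exact Real.log_nonneg hprod
  have h4 : ∑ i : s, r i = (s.card : ℝ) := by
    have h := hsum ψ
    rw [← Finset.sum_coe_sort, Finset.sum_congr rfl fun i _ => hr i] at h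
    exact_mod_cast h
  intro i hi
  refine (ψ.toRingHom.injective : Function.Injective ψ) ?_
  show ψ (a i) = ψ 1
  rw [map_one, hr ⟨i, hi⟩]
  by_contra hne
  have h5 : ∑ j : s, Real.log (r j) < ∑ j : s, (r j - 1) :=
    Finset.sum_lt_sum (fun j _ => Real.log_le_sub_one_of_pos (hrp j)) ⟨⟨i, hi⟩, Finset.mem_univ _,
      Real.log_lt_sub_one_of_pos (hrp _) fun h => hne (by rw [h]; simp)⟩
  rw [Finset.sum_sub_distrib, Finset.sum_const, Finset.card_univ, Fintype.card_coe, nsmul_one, h4,
    sub_self] at h5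
  exact absurd h3 (not_le.mpr h5)

section Defect

variable {p : ℕ} {M : Ideal AlgInt} {K : Type*} [Group K] [Fintype K]

/-- `p ^ d(b)` times the regular norm of a part in `b` is integral. -/
theorem isIntegral_pow_defect_classInner (hM : IsPModular p M) (b : Set (IrrCharacter K))
    {θ : K → ℂ} (hθ : ∀ η : IrrCharacter K, IsIntegral ℤ (classInner θ (η : K → ℂ))) :
    IsIntegral ℤ (((p ^ blockDefect p b : ℕ) : ℂ) *
      classInner (regPart p (blockPart b θ)) (blockPart b θ)) := by
  classical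
  set S : Finset (IrrCharacter K) := {η | η ∈ b}
  have hfexp : blockPart b θ =
      ∑ η ∈ S, classInner θ (η : K → ℂ) • (η : K → ℂ) := funext fun c => by
    rw [blockPart_eq_filter, Finset.sum_apply]
    exact Finset.sum_congr rfl fun η _ => rfl
  have hreg : regPart p (blockPart b θ) =
      ∑ η ∈ S, classInner θ (η : K → ℂ) • regPart p (η : K → ℂ) := funext fun c => by
    by_cases hc : IsPRegular p c
    · rw [regPart_of_regular hc, hfexp]
      simp [Finset.sum_apply, regPart_of_regular hc]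
    · rw [regPart_of_singular hc]
      simp [Finset.sum_apply, regPart_of_singular hc]
  rw [hreg, Char.classInner_sum_left, Finset.mul_sum]
  refine IsIntegral.sum _ fun η hη => ?_
  rw [Char.classInner_smul_left, hfexp, Char.classInner_sum_right, Finset.mul_sum, Finset.mul_sum]
  refine IsIntegral.sum _ fun η' _ => ?_
  rw [Char.classInner_smul_right]
  obtain ⟨k, hk⟩ := Char.exists_int_classInner (isGeneralized_smul_regPart (p := p) hM η)
    (Char.isGeneralized_of_isIrr η'.2)
  rw [Char.classInner_smul_left] at hk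
  have hle : (Nat.card K).factorization p - (charDegree (η : K → ℂ)).factorization p ≤
      blockDefect p b := by
    have := Nat.sInf_le (s := (fun χ : IrrCharacter K =>
      (charDegree (χ : K → ℂ)).factorization p) '' b) ⟨η, (Finset.mem_filter.mp hη).2, rfl⟩
    dsimp only at this
    rw [blockDefect]
    omega
  have e : ((p ^ blockDefect p b : ℕ) : ℂ) = ((p ^ (blockDefect p b - ((Nat.card K).factorization p -
      (charDegree (η : K → ℂ)).factorization p)) : ℕ) : ℂ) * (p : ℂ) ^
        ((Nat.card K).factorization p - (charDegree (η : K → ℂ)).factorization p) := by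
    push_cast
    rw [← pow_add, Nat.sub_add_cancel hle]
  have hint := (((isIntegral_algebraMap (R := ℤ) (A := ℂ)
    (x := ((p ^ (blockDefect p b - ((Nat.card K).factorization p -
      (charDegree (η : K → ℂ)).factorization p)) : ℕ) : ℤ) * k)).mul (hθ η)).mul
        ((hθ η').map (starRingEnd ℂ).toIntAlgHom))
  convert hint using 1
  rw [e]
  simp only [eq_intCast, Int.cast_mul, Int.cast_natCast, RingHom.toIntAlgHom_apply, ← hk]
  ring

end Defect

variable {p : ℕ} {M : Ideal AlgInt} [M.IsPrime] {G : Type*} [Group G] [Fintype G] {P : Subgroup G}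
  {e : Set (IrrCharacter (Subgroup.centralizer (P : Set G)))} {B : Set (IrrCharacter G)}

theorem hasInnerMaps_of_nilpotent (hM : IsPModular p M) (hmax : IsMaximalBrauerPair p M B P e)
    (hnil : IsNilpotentBlock p M B) : HasInnerMaps p M P e := by
  intro g Q hc
  have hF := isBlockFusionSystemOn_blockFusion hM hmax
  have h : conjHom Q g ∈ (blockFusion hM hmax.1.1).Hom Q :=
    (hF.2 Q _).mpr ⟨hc.le, g, fun u => rfl, hc.map_le, hc⟩
  rw [hom_eq_inner_of_nilpotent hM hF hnil] at h
  obtain ⟨-, a, ha, hay⟩ := h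
  exact ⟨a, ha, fun y hy => hay ⟨y, hy⟩⟩

theorem sect_values (χ : IrrCharacter G) (u : G) [Fintype (cz u)] :
    (∀ η : IrrCharacter (cz u),
      IsIntegral ℤ (classInner (sect (χ : G → ℂ) u) (η : cz u → ℂ))) ∧
    ∀ (b : Set (IrrCharacter (cz u))) (s : cz u),
      Char.IsCMValue (blockPart b (sect (χ : G → ℂ) u) s) := by
  have key : ∀ (K : Subgroup G) [Fintype K], K = Subgroup.centralizer ({u} : Set G) →
      (∀ η : IrrCharacter K, IsIntegral ℤ
        (classInner (fun c : K => (χ : G → ℂ) (u * (c : G))) (η : K → ℂ))) ∧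
      ∀ (b : Set (IrrCharacter K)) (s : K),
        Char.IsCMValue (blockPart b (fun c : K => (χ : G → ℂ) (u * (c : G))) s) := by
    intro K _ hK
    subst hK
    exact ⟨fun η => (classInner_translate χ η).1, fun b s => (blockPart_translate χ b s).2⟩
  exact key _ (cz_eq u)

theorem card_inf_cz_conj {a : G} (ha : a ∈ P) (u : G) :
    Nat.card ↥(P ⊓ cz (a⁻¹ * u * a)) = Nat.card ↥(P ⊓ cz u) :=
  (Nat.card_congr ((MulAut.conj a⁻¹).toEquiv.subtypeEquiv fun t => by
    show t ∈ P ⊓ cz u ↔ a⁻¹ * t * a⁻¹⁻¹ ∈ P ⊓ _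
    rw [inv_inv, Subgroup.mem_inf, Subgroup.mem_inf, conj_mem_cz_iff,
      Subgroup.mul_mem_cancel_right _ ha, Subgroup.mul_mem_cancel_left _ (inv_mem ha)])).symm

theorem exists_topBlock (hM : IsPModular p M) (hPe : IsBrauerPair p M P e) {u : G} (hu : u ∈ P) :
    ∃ b, topPair p M P e u = (⟨Subgroup.zpowers u, b⟩ : BrauerPairIdx G) ∧
      SubpairLE p M (Subgroup.zpowers u) b P e := by
  obtain ⟨b, hb⟩ := exists_le_top hM hPe (Subgroup.zpowers_le.mpr hu)
  exact ⟨b, (eq_topPair hM hPe hu rfl hb).symm, hb⟩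

theorem pow_blockDefect_eq (hM : IsPModular p M) (hmax : IsMaximalBrauerPair p M B P e)
    (hinn : HasInnerMaps p M P e) {u : G} {b : Set (IrrCharacter (cz u))}
    (hle : SubpairLE p M (Subgroup.zpowers u) b P e) :
    p ^ blockDefect p b = Nat.card ↥(P ⊓ cz u) := by
  obtain ⟨x, hx, hcard⟩ := exists_conj_centralizer_eq hM hmax hle
  obtain ⟨a, ha, hay⟩ := hinn _ _ hx
  rw [← hcard, map_zpowers_conj, hay u (Subgroup.mem_zpowers u), show a * u * a⁻¹ =
    a⁻¹⁻¹ * u * a⁻¹ by rw [inv_inv]]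
  exact card_inf_cz_conj (inv_mem ha) u

variable (p M P e) in
/-- `|C_P(u)|` times the contribution of `χ` at `u`. -/
noncomputable def contrib (χ : G → ℂ) (u : G) : ℂ :=
  centRatio P u * pairSum p M χ χ u (topPair p M P e u)

theorem contrib_eq (hM : IsPModular p M) (hmax : IsMaximalBrauerPair p M B P e)
    (hinn : HasInnerMaps p M P e) {χ : G → ℂ} (hχ : IsClassFunction G χ) {u : G}
    {b : Set (IrrCharacter (cz u))} [Fintype (cz u)]
    (htop : topPair p M P e u = (⟨Subgroup.zpowers u, b⟩ : BrauerPairIdx G))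
    (hle : SubpairLE p M (Subgroup.zpowers u) b P e) :
    contrib p M P e χ u = ((p ^ blockDefect p b : ℕ) : ℂ) *
      classInner (regPart p (blockPart b (sect χ u))) (blockPart b (sect χ u)) := by
  classical
  rw [contrib, htop, pairSum_eq hχ hχ u (SubpairLE.isBrauerPair hle hmax.1.1).2,
    pow_blockDefect_eq hM hmax hinn hle, centRatio, classInner, div_eq_mul_inv, mul_assoc]
  congr 2
  rw [Finset.sum_filter]
  refine Finset.sum_congr (by ext; simp) fun s _ => ?_
  by_cases hs : IsPRegular p s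
  · rw [if_pos hs, regPart_of_regular hs]
  · rw [if_neg hs, regPart_of_singular hs, zero_mul]

theorem contrib_facts (hM : IsPModular p M) (hmax : IsMaximalBrauerPair p M B P e)
    (hinn : HasInnerMaps p M P e) {χ : IrrCharacter G} (hχ : χ ∈ B)
    (h0 : blockHeight p B (χ : G → ℂ) = 0) (u : ↥P) :
    ∃ a : Char.QBar, (a : ℂ) = contrib p M P e (χ : G → ℂ) (u : G) ∧ IsIntegral ℤ (a : ℂ) ∧
      a ≠ 0 ∧ ∀ ψ : Char.QBar →ₐ[ℚ] ℂ, ∃ r : ℝ, 0 ≤ r ∧ ψ a = r := by
  classical
  obtain ⟨b, htop, hle⟩ := exists_topBlock hM hmax.1.1 u.2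
  obtain ⟨hint, hCM⟩ := sect_values χ (u : G)
  set f : cz (u : G) → ℂ := blockPart b (sect (χ : G → ℂ) (u : G))
  have hmem : ∀ s, f s * conj (f s) ∈ Char.QBar := fun s => ((hCM b s).mul (hCM b s).star).mem
  have hq : contrib p M P e (χ : G → ℂ) (u : G) =
      (((Nat.card ↥(P ⊓ cz (u : G)) : ℚ) / (Nat.card (cz (u : G)) : ℚ) : ℚ) : ℂ) *
        ∑ s : cz (u : G) with IsPRegular p s, f s * conj (f s) := by
    rw [contrib, htop, pairSum_eq (irr_classFunction χ) (irr_classFunction χ) _
      (SubpairLE.isBrauerPair hle hmax.1.1).2, centRatio]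
    push_cast
    rfl
  set a : Char.QBar := (((Nat.card ↥(P ⊓ cz (u : G)) : ℚ) / (Nat.card (cz (u : G)) : ℚ) : ℚ) :
    Char.QBar) * ∑ s : cz (u : G) with IsPRegular p s, ⟨_, hmem s⟩
  have ha : (a : ℂ) = contrib p M P e (χ : G → ℂ) (u : G) := by
    rw [hq]
    simp [a]
  refine ⟨a, ha, ?_, ?_, fun ψ => ?_⟩
  · rw [ha, contrib_eq hM hmax hinn (irr_classFunction χ) htop hle]
    exact isIntegral_pow_defect_classInner hM b hint
  · intro hz
    obtain ⟨s, hs, hne⟩ := exists_part_ne_zero_of_height_zero hM hmax hχ h0 (y := u) hle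
    rw [hz, ZeroMemClass.coe_zero, hq] at ha
    rcases mul_eq_zero.mp ha.symm with h | h
    · rw [Rat.cast_eq_zero, div_eq_zero_iff] at h
      rcases h with h | h <;> exact absurd (Nat.cast_eq_zero.mp h) Nat.card_pos.ne'
    · simp only [Complex.mul_conj, ← Complex.ofReal_sum, Complex.ofReal_eq_zero] at h
      exact hne (Complex.normSq_eq_zero.mp ((Finset.sum_eq_zero_iff_of_nonneg
        fun i _ => Complex.normSq_nonneg _).mp h s (Finset.mem_filter.mpr ⟨Finset.mem_univ _, hs⟩)))
  · choose r hr0 hr using fun s => (hCM b s).normSq_embedding (hmem s) ψ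
    refine ⟨((Nat.card ↥(P ⊓ cz (u : G)) : ℝ) / (Nat.card (cz (u : G)) : ℝ)) *
      ∑ s : cz (u : G) with IsPRegular p s, r s,
      mul_nonneg (by positivity) (Finset.sum_nonneg fun s _ => hr0 s), ?_⟩
    simp only [a, map_mul, map_sum, map_ratCast]
    push_cast
    congr 1
    exact Finset.sum_congr rfl fun s _ => hr s

/-- The inner product of weighted sums with weights from functions on `P`. -/
theorem classInner_starChar_pairVal [Fintype ↥P] (hM : IsPModular p M) (hmax : IsMaximalBrauerPair p M B P e)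
    (hinn : HasInnerMaps p M P e) {χ ψ : G → ℂ} (hχ : IsClassFunction G χ)
    (hψ : IsClassFunction G ψ) {f f' : G → ℂ} (hf : ∀ a ∈ P, ∀ y, f (a * y * a⁻¹) = f y)
    (hf' : ∀ a ∈ P, ∀ y, f' (a * y * a⁻¹) = f' y)
    (hgen : IsGeneralizedCharacter ↥P (fun y : ↥P => f y))
    (hgen' : IsGeneralizedCharacter ↥P (fun y : ↥P => f' y)) :
    classInner (starChar p M χ (pairVal p M e f)) (starChar p M ψ (pairVal p M e f')) =
      (Nat.card P : ℂ)⁻¹ * ∑ u : ↥P, f u * conj (f' u) *
        (centRatio P (u : G) * pairSum p M χ ψ (u : G) (topPair p M P e (u : G))) := by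
  classical
  have hw := isPairWeight_pairVal hM hmax hinn hf hgen
  have hw' := isPairWeight_pairVal hM hmax hinn hf' hgen'
  have h := sum_pairs_eq hM hmax hinn (fun v a => pairVal p M e f v a * conj (pairVal p M e f' v a) *
      pairSum p M χ ψ v a)
    (fun x v a hv ha => by rw [hw.1 x v a hv, hw'.1 x v a hv, pairSum_conj hχ hψ hv ha x])
    (fun v b _ _ hn => by
      rw [pairVal_of_none f v fun h => hn ((exists_conj_le_top_iff hM hmax
        (a := ⟨Subgroup.zpowers v, b⟩)).mp h), zero_mul, zero_mul])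
  rw [classInner_starChar hM hχ hψ]
  have hG : (Nat.card G : ℂ) ≠ 0 := Nat.cast_ne_zero.mpr Nat.card_pos.ne'
  have hP : (Nat.card P : ℂ) ≠ 0 := Nat.cast_ne_zero.mpr Nat.card_pos.ne'
  rw [inv_mul_eq_iff_eq_mul₀ hG]
  refine mul_left_cancel₀ hP ?_
  rw [h, mul_left_comm, mul_inv_cancel_left₀ hP]
  congr 1
  refine Finset.sum_congr (by ext; simp) fun u _ => ?_
  rw [pairVal_topPair hM hmax.1.1 hinn hf u.2, pairVal_topPair hM hmax.1.1 hinn hf' u.2]
  ring

/-! ### The characters of a nilpotent block -/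

theorem extendByZero_stable {η : ↥P → ℂ} (hη : IsClassFunction ↥P η) :
    ∀ a ∈ P, ∀ y, extendByZero P η (a * y * a⁻¹) = extendByZero P η y := by
  intro a ha y
  by_cases hy : y ∈ P
  · exact (extendByZero_apply P η (⟨a, ha⟩ * ⟨y, hy⟩ * ⟨a, ha⟩⁻¹)).trans
      ((hη _ _).trans (extendByZero_apply P η ⟨y, hy⟩).symm)
  · rw [extendByZero_eq_zero _ _ hy, extendByZero_eq_zero]
    rwa [Subgroup.mul_mem_cancel_right _ (inv_mem ha), Subgroup.mul_mem_cancel_left _ ha]

theorem starChar_pairVal_of_regular (hM : IsPModular p M) (hmax : IsMaximalBrauerPair p M B P e)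
    (f : G → ℂ) {χ : IrrCharacter G} (hχ : χ ∈ B) {g : G} (hg : IsPRegular p g) :
    starChar p M (χ : G → ℂ) (pairVal p M e f) g = f 1 * (χ : G → ℂ) g := by
  classical
  have h1 : ∃ k : ℕ, orderOf (1 : G) = p ^ k := ⟨0, by simp⟩
  let s : cz (1 : G) := ⟨g, mem_centralizer_zpowers (Commute.one_left g)⟩
  have hs : IsPRegular p s := by
    show ¬ p ∣ orderOf s
    rw [← Subgroup.orderOf_coe]
    exact hg
  have hθ := isClassFunction_sect (irr_classFunction χ) (1 : G)
  have h := starChar_section (M := M) hM.1 (irr_classFunction χ) (pairVal p M e f) h1 hs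
  rw [subBlocks_eq, Finset.sum_congr rfl (g := fun b => f 1 * blockPart b (sect (χ : G → ℂ) 1) s)
    (fun b hb => ?_), ← Finset.mul_sum, sum_blockPart hθ] at h
  · simpa [s, sect] using h
  · by_cases hp' : IsBrauerPairOf p M B (Subgroup.zpowers (1 : G)) b
    · rw [pairVal, dif_pos ((exists_conj_le_top_iff hM hmax
        (a := ⟨Subgroup.zpowers (1 : G), b⟩)).mpr hp'), mul_one, mul_inv_cancel]
    · rw [blockPart_sect_eq_zero hM hmax.1.2.1 hχ h1 (mem_blocks.mp hb) hp' hs, mul_zero, mul_zero]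

/-- The degree combination of the images is the regular part. -/
theorem sum_degree_mul_starChar (hM : IsPModular p M) (hmax : IsMaximalBrauerPair p M B P e)
    [Fintype ↥P] {χ : IrrCharacter G} (hχ : χ ∈ B) (g : G) :
    ∑ η : IrrCharacter ↥P, (η : ↥P → ℂ) 1 *
        starChar p M (χ : G → ℂ) (pairVal p M e (extendByZero P (η : ↥P → ℂ))) g =
      (Nat.card P : ℂ) * regPart p (χ : G → ℂ) g := by
  classical
  obtain ⟨u, r, h, rfl⟩ := exists_sectionPoint hM.1 g
  by_cases hg : IsPRegular p (u * r)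
  · rw [regPart_of_regular hg]
    simp only [starChar_pairVal_of_regular hM hmax _ hχ hg,
      fun η : IrrCharacter ↥P => show extendByZero P (η : ↥P → ℂ) 1 = (η : ↥P → ℂ) 1 from
        extendByZero_apply P (η : ↥P → ℂ) 1, ← mul_assoc, ← Finset.sum_mul]
    rw [Char.sum_degree_mul_irr, if_pos rfl]
  · rw [regPart_of_singular hg, mul_zero]
    have hu : u ≠ 1 := fun h1 => hg (by rw [h1, one_mul]; exact h.regular)
    simp only [starChar_eq hM.1 _ _ h, starPart_one (irr_classFunction χ) _ h, Finset.mul_sum]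
    rw [Finset.sum_comm]
    refine Finset.sum_eq_zero fun b _ => ?_
    simp only [← mul_assoc, ← Finset.sum_mul]
    refine mul_eq_zero_of_left ?_ _
    by_cases hx : ∃ x : G, PairLE p M (conjPair x ⟨Subgroup.zpowers u, b⟩) ⟨P, e⟩
    · have hmem : hx.choose * u * hx.choose⁻¹ ∈ P :=
        PairLE.fst_le hx.choose_spec ⟨u, Subgroup.mem_zpowers u, rfl⟩
      simp only [pairVal, dif_pos hx,
        fun η : IrrCharacter ↥P => show extendByZero P (η : ↥P → ℂ) (hx.choose * u * hx.choose⁻¹) =
          (η : ↥P → ℂ) ⟨_, hmem⟩ from extendByZero_apply P (η : ↥P → ℂ) ⟨_, hmem⟩]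
      rw [Char.sum_degree_mul_irr, if_neg]
      intro h1
      exact hu (conj_eq_one_iff.mp (congrArg Subtype.val h1))
    · simp only [pairVal_of_none _ u hx, mul_zero, Finset.sum_const_zero]

/-- The characters of a nilpotent block. -/
theorem nilpotent_block_characters (hM : IsPModular p M) (hmax : IsMaximalBrauerPair p M B P e)
    (hnil : IsNilpotentBlock p M B) :
    ∃ χ₀ ∈ B, ∃ Φ : B ≃ IrrCharacter ↥P, ∀ χ : B,
      blockHeight p B ((χ : IrrCharacter G) : G → ℂ) =
          (charDegree ((Φ χ : IrrCharacter ↥P) : ↥P → ℂ)).factorization p ∧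
        ∀ g : G, IsPRegular p g → ((χ : IrrCharacter G) : G → ℂ) g =
          ((Φ χ : IrrCharacter ↥P) : ↥P → ℂ) 1 * (χ₀ : G → ℂ) g := by
  classical
  have hB := hmax.1.2.1
  have hinn := hasInnerMaps_of_nilpotent hM hmax hnil
  obtain ⟨χ, hχ, h0⟩ := exists_blockHeight_eq_zero hM hB
  choose q hq hint hne hpos using contrib_facts hM hmax hinn hχ h0
  -- the contributions are one
  have htriv : starChar p M (χ : G → ℂ) (pairVal p M e (lamExt (1 : ↥P →* ℂˣ))) = (χ : G → ℂ) :=
    starW_eq_pairVal (p := p) (M := M) (e := e) (1 : ↥P →* ℂˣ) ▸ starChar_one hM hmax hχ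
  have hst1 : ∀ a ∈ P, ∀ y, lamExt (1 : ↥P →* ℂˣ) (a * y * a⁻¹) = lamExt (1 : ↥P →* ℂˣ) y := by
    intro a ha y
    have : a * y * a⁻¹ ∈ P ↔ y ∈ P := by
      rw [Subgroup.mul_mem_cancel_right _ (inv_mem ha), Subgroup.mul_mem_cancel_left _ ha]
    by_cases hy : y ∈ P
    · simp [lamExt, hy, this.mpr hy]
    · simp [lamExt, hy, this]
  have hgen1 : IsGeneralizedCharacter ↥P (fun y : ↥P => lamExt (1 : ↥P →* ℂˣ) (y : G)) := by
    convert Char.isGeneralized_of_isCharacter (Char.isCharacter_monoidHom (1 : ↥P →* ℂˣ)) using 1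
    funext y
    exact lamExt_of_mem _ y.2
  have hsum : ∑ u : ↥P, (q u : ℂ) = (Nat.card P : ℂ) := by
    have h := classInner_starChar_pairVal hM hmax hinn (irr_classFunction χ) (irr_classFunction χ)
      hst1 hst1 hgen1 hgen1
    rw [htriv, Char.classInner_irr_self χ.2, eq_comm,
      inv_mul_eq_iff_eq_mul₀ (Nat.cast_ne_zero.mpr Nat.card_pos.ne'), mul_one] at h
    rw [← h]
    refine Finset.sum_congr rfl fun u _ => ?_
    rw [hq u, contrib, lamExt_mul_conj _ u.2, one_mul]
  have hone : ∀ u : ↥P, q u = 1 := fun u => eq_one_of_sum_embedding Finset.univ q (fun i _ => hint i)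
    (fun i _ => hne i) (fun i _ => hpos i) (fun ψ => by
      have h : (∑ u : ↥P, q u) = ((Nat.card P : ℕ) : Char.QBar) := Subtype.ext (by
        push_cast
        rw [hsum])
      rw [← map_sum, h, map_natCast, Finset.card_univ, Nat.card_eq_fintype_card]) u (Finset.mem_univ u)
  -- the images
  have hgenη : ∀ η : IrrCharacter ↥P,
      IsGeneralizedCharacter ↥P (fun y : ↥P => extendByZero P (η : ↥P → ℂ) (y : G)) := fun η => by
    convert Char.isGeneralized_of_isIrr η.2 using 1
    funext y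
    exact extendByZero_apply P (η : ↥P → ℂ) y
  set im : IrrCharacter ↥P → G → ℂ :=
    fun η => starChar p M (χ : G → ℂ) (pairVal p M e (extendByZero P (η : ↥P → ℂ)))
  have horth : ∀ η η' : IrrCharacter ↥P,
      classInner (im η) (im η') = classInner (η : ↥P → ℂ) (η' : ↥P → ℂ) := fun η η' => by
    rw [classInner_starChar_pairVal hM hmax hinn (irr_classFunction χ) (irr_classFunction χ)
      (extendByZero_stable (irr_classFunction η)) (extendByZero_stable (irr_classFunction η'))
      (hgenη η) (hgenη η'), classInner]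
    congr 1
    refine Finset.sum_congr rfl fun u _ => ?_
    rw [show centRatio P (u : G) * pairSum p M (χ : G → ℂ) (χ : G → ℂ) (u : G)
        (topPair p M P e (u : G)) = 1 by rw [← contrib, ← hq u, hone u]; rfl, mul_one,
      extendByZero_apply, extendByZero_apply]
  have hval : ∀ (η : IrrCharacter ↥P) (g : G), IsPRegular p g →
      im η g = (η : ↥P → ℂ) 1 * (χ : G → ℂ) g := fun η g hg => by
    rw [show im η g = _ from starChar_pairVal_of_regular hM hmax _ hχ hg]
    congr 1
    exact extendByZero_apply P (η : ↥P → ℂ) 1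
  have himg : ∀ η : IrrCharacter ↥P, ∃ ψ : IrrCharacter G, (ψ : G → ℂ) = im η ∧ ψ ∈ B ∧
      charDegree (ψ : G → ℂ) = charDegree (η : ↥P → ℂ) * charDegree (χ : G → ℂ) := fun η => by
    have h1 := (horth η η).trans (Char.classInner_irr_self η.2)
    obtain ⟨ε, hε, ψ, hψ⟩ := Char.exists_of_norm_one (isGeneralized_starChar hM
      (Char.isCharacter_of_isIrr χ.2) (isPairWeight_pairVal hM hmax hinn
        (extendByZero_stable (irr_classFunction η)) (hgenη η))) h1
    have hdeg := congrFun hψ 1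
    rw [show starChar p M (χ : G → ℂ) (pairVal p M e (extendByZero P (η : ↥P → ℂ))) 1 = _ from
        hval η 1 (by simp [IsPRegular, hM.1.ne_one]), Pi.smul_apply, smul_eq_mul,
      (irr_degree_eq χ).1, (irr_degree_eq ψ).1, (irr_degree_eq η).1] at hdeg
    have hε1 : ε = 1 := by
      rcases hε with h | h
      · exact h
      · exfalso
        have h' : ((charDegree (η : ↥P → ℂ) * charDegree (χ : G → ℂ) + charDegree (ψ : G → ℂ) : ℕ)
            : ℂ) = 0 := by
          push_cast
          rw [hdeg, h]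
          ring
        have := (irr_degree_eq ψ).2
        have := Nat.cast_eq_zero.mp h'
        omega
    rw [hε1, one_smul] at hψ
    rw [hε1, one_mul] at hdeg
    refine ⟨ψ, hψ.symm, ?_, by exact_mod_cast hdeg.symm⟩
    by_contra hψB
    have h2 := classInner_starChar_outside hM hB hχ hψB
      (pairVal p M e (extendByZero P (η : ↥P → ℂ)))
    rw [hψ, Char.classInner_irr_self ψ.2] at h2
    exact one_ne_zero h2
  choose ψ hψ hψB hψdeg using himg
  have hinj : Function.Injective (fun η => (⟨ψ η, hψB η⟩ : B)) := by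
    intro η η' h
    by_contra hne
    have h1 := horth η η'
    rw [Char.classInner_irr_ne η.2 η'.2 fun he => hne (Subtype.ext he), ← hψ η, ← hψ η',
      show ψ η = ψ η' from congrArg Subtype.val h, Char.classInner_irr_self (ψ η').2] at h1
    exact one_ne_zero h1
  have hsurj : Function.Surjective (fun η => (⟨ψ η, hψB η⟩ : B)) := by
    rintro ⟨θ, hθ⟩
    by_contra hcon
    push Not at hcon
    have hfun : (∑ η : IrrCharacter ↥P, (η : ↥P → ℂ) 1 • (ψ η : G → ℂ)) =
        (Nat.card P : ℂ) • regPart p (χ : G → ℂ) := funext fun g => by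
      simp only [Finset.sum_apply, Pi.smul_apply, smul_eq_mul, hψ]
      exact sum_degree_mul_starChar hM hmax hχ g
    have h1 := congrArg (fun F => classInner F (θ : G → ℂ)) hfun
    simp only [Char.classInner_sum_left, Char.classInner_smul_left] at h1
    rw [Finset.sum_eq_zero fun η _ => by
      rw [Char.classInner_irr_ne (ψ η).2 θ.2 fun he => hcon η (Subtype.ext (Subtype.ext he)),
        mul_zero], eq_comm, mul_eq_zero, or_iff_right (Nat.cast_ne_zero.mpr Nat.card_pos.ne')] at h1
    refine not_memLocalIdeal_omega_dualReg hM hB hχ h0 hθ ?_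
    rw [omega_dualReg, classInner_regPart_comm, h1, mul_zero, zero_div]
    exact memLocalIdeal_zero
  refine ⟨χ, hχ, (Equiv.ofBijective _ ⟨hinj, hsurj⟩).symm, fun θ => ?_⟩
  obtain ⟨η, rfl⟩ := hsurj θ
  rw [show (Equiv.ofBijective _ ⟨hinj, hsurj⟩).symm (⟨ψ η, hψB η⟩ : B) = η from
    (Equiv.ofBijective _ ⟨hinj, hsurj⟩).symm_apply_apply η]
  refine ⟨?_, fun g hg => ?_⟩
  · have hle := Nat.sInf_le (s := (fun ξ : IrrCharacter G =>
      (charDegree (ξ : G → ℂ)).factorization p) '' B) ⟨χ, hχ, rfl⟩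
    rw [blockHeight] at h0
    dsimp only at hle
    rw [blockHeight, hψdeg, Nat.factorization_mul (irr_degree_eq η).2.ne' (irr_degree_eq χ).2.ne',
      Finsupp.add_apply]
    omega
  · show (ψ η : G → ℂ) g = _
    rw [hψ, hval η g hg]

theorem blockRank_eq_one_of_nilpotent (hM : IsPModular p M) (hnil : IsNilpotentBlock p M B) :
    blockRank p B = 1 ∧ ∃ χ₀ ∈ B, ∀ χ ∈ B, ∃ d : ℕ, ∀ x : G,
      pRegularPart p (χ : G → ℂ) x = (d : ℂ) * pRegularPart p (χ₀ : G → ℂ) x := by
  classical
  obtain ⟨D, hD⟩ := exists_isDefectGroup hM hnil.1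
  obtain ⟨f, hf⟩ := exists_pair_of_defectGroup hM hnil.1 hD
  obtain ⟨χ₀, hχ₀, Φ, hΦ⟩ :=
    nilpotent_block_characters hM (isMaximalBrauerPair_of_defectGroup hM hD hf) hnil
  have key : ∀ χ ∈ B, ∃ d : ℕ, ∀ x : G,
      pRegularPart p (χ : G → ℂ) x = (d : ℂ) * pRegularPart p (χ₀ : G → ℂ) x := by
    intro χ hχ
    refine ⟨charDegree ((Φ ⟨χ, hχ⟩ : IrrCharacter ↥D) : ↥D → ℂ), fun x => ?_⟩
    rw [pRegularPart_eq_regPart, pRegularPart_eq_regPart]
    by_cases hx : IsPRegular p x
    · rw [regPart_of_regular hx, regPart_of_regular hx, ← (irr_degree_eq _).1]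
      exact (hΦ ⟨χ, hχ⟩).2 x hx
    · rw [regPart_of_singular hx, regPart_of_singular hx, mul_zero]
  refine ⟨?_, χ₀, hχ₀, key⟩
  have hne : pRegularPart p (χ₀ : G → ℂ) ≠ 0 := fun h => by
    have h1 := congrFun h 1
    rw [pRegularPart_eq_regPart, regPart_of_regular (by simp [IsPRegular, hM.1.ne_one]),
      (irr_degree_eq χ₀).1, Pi.zero_apply, Nat.cast_eq_zero] at h1
    exact (irr_degree_eq χ₀).2.ne' h1
  rw [blockRank, show Submodule.span ℂ ((fun χ : IrrCharacter G => pRegularPart p (χ : G → ℂ)) '' B) =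
    ℂ ∙ pRegularPart p (χ₀ : G → ℂ) from le_antisymm (Submodule.span_le.mpr ?_)
      (Submodule.span_le.mpr (Set.singleton_subset_iff.mpr
        (Submodule.subset_span ⟨χ₀, hχ₀, rfl⟩))), finrank_span_singleton hne]
  rintro _ ⟨χ, hχ, rfl⟩
  obtain ⟨d, hd⟩ := key χ hχ
  exact Submodule.mem_span_singleton.mpr ⟨(d : ℂ), funext fun x => (hd x).symm⟩

end CfsgLib.Blocks
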