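import Cfsg.Agent.Lib.Blocks.NormalPBlocks

/-!
# Brauer's extended first main theorem

Blocks of a subgroup between `P C_G(P)` and `N_G(P)`, normal in the latter, inducing a block with
defect group `P` have defect group `P` and are conjugate under the normalizer.
-/

set_option autoImplicit false
set_option linter.unusedSectionVars false

namespace CfsgLib.Blocks

open Cfsg
open scoped ComplexConjugate CfsgLib.Char

variable {p : ℕ} {M : Ideal AlgInt} {G : Type*} [Group G] [Fintype G]

/-- Between `P` and its normalizer a block inducing a block of defect group `P` has defect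
group `P`. -/
theorem isDefectGroup_subgroupOf_of_induced (hM : IsPModular p M) {P K : Subgroup G} [Fintype K]
    (hPK : P ≤ K) (hKN : K ≤ Subgroup.normalizer (P : Set G)) {B : Set (IrrCharacter G)}
    (hP : IsDefectGroup p M B P) {b : Set (IrrCharacter K)} (h : IsInducedBlock M K b B) :
    IsDefectGroup p M b (P.subgroupOf K) := by
  haveI : (P.subgroupOf K).Normal := Subgroup.normal_subgroupOf_of_le_normalizer hKN
  obtain ⟨D, hD⟩ := exists_isDefectGroup hM h.1
  have hle : P.subgroupOf K ≤ D := IsDefectGroup.normal_le hM h.1 hD _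
    ((IsDefectGroup.isPGroup hM hP).of_equiv (Subgroup.subgroupOfEquivOfLe hPK).symm)
  obtain ⟨E, hE, hDE⟩ := IsInducedBlock.exists_defectGroup_le hM h hD
  obtain ⟨x, hx⟩ := IsDefectGroup.exists_conj_eq hM h.2.1 hP hE
  have h1 := Subgroup.card_le_of_le hDE
  rw [Subgroup.card_map_of_injective (Subgroup.subtype_injective _), hx, card_map_conj] at h1
  rw [Subgroup.eq_of_le_of_card_ge hle
    (h1.trans_eq (Nat.card_congr (Subgroup.subgroupOfEquivOfLe hPK).toEquiv).symm)]
  exact hD

/-- A class function supported on a subgroup: its central character is that of a constituent. -/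
theorem exists_omega_restrict (H : Subgroup G) [Fintype H] (χ : IrrCharacter G) :
    ∃ η : IrrCharacter H, ∀ w : G → ℂ, IsClassFunction G w → (∀ g, g ∉ H → w g = 0) →
      omega (χ : G → ℂ) w = omega (η : H → ℂ) (fun h : H => w (h : G)) := by
  classical
  obtain ⟨r, hr⟩ : ∃ r : H → ℂ, r = fun h : H => conj ((χ : G → ℂ) (h : G)) := ⟨_, rfl⟩
  have hrc : IsClassFunction H r := fun a b => by
    simp only [hr]
    exact congrArg conj (irr_classFunction χ (a : G) (b : G))
  obtain ⟨η, hη⟩ : ∃ η : IrrCharacter H, omega (η : H → ℂ) r ≠ 0 := by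
    by_contra hcon
    push Not at hcon
    have h0 : r = fun _ => 0 := eq_of_omega_eq hrc (fun _ _ => rfl) fun η => by
      rw [hcon η, omega]; simp
    have h1 := congrFun h0 1
    rw [hr] at h1
    exact Char.irr_degree_ne_zero χ.2 (by simpa using h1)
  refine ⟨η, fun w hw hsupp => ?_⟩
  obtain ⟨v, hv⟩ : ∃ v : H → ℂ, v = fun h : H => w (h : G) := ⟨_, rfl⟩
  rw [← hv]
  have hvc : IsClassFunction H v := fun a b => by
    simp only [hv]
    exact hw (a : G) (b : G)
  have hconv : conv v r = omega (χ : G → ℂ) w • r := by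
    funext z
    have h1 := sum_mul_irr_mul hw χ ((z : G)⁻¹)
    rw [← Fintype.sum_of_injective (fun k : H => (k : G)) Subtype.val_injective
      (fun k : H => v k * (χ : G → ℂ) ((k : G) * (z : G)⁻¹))] at h1
    · rw [irr_value_inv χ.2] at h1
      rw [Pi.smul_apply, smul_eq_mul, hr, ← h1]
      simp only [conv]
      refine Finset.sum_congr rfl fun k _ => ?_
      congr 1
      rw [← irr_value_inv χ.2, Subgroup.coe_mul, Subgroup.coe_inv, mul_inv_rev, inv_inv,
        ← irr_classFunction χ ((z : G)⁻¹ * (k : G)) (k : G)]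
      congr 1
      group
    · intro g hg
      rw [hsupp g fun hgH => hg ⟨⟨g, hgH⟩, rfl⟩, zero_mul]
    · intro k
      simp only [hv]
  have h2 := omega_conv η hvc hrc
  rw [hconv, omega_smul] at h2
  exact mul_right_cancel₀ hη h2

/-- Blocks of `H` inducing the same block with defect group `P` are conjugate under `N_G(P)`. -/
theorem exists_conjSet_eq_of_induced (hM : IsPModular p M) {P : Subgroup G}
    {B : Set (IrrCharacter G)} (hP : IsDefectGroup p M B P) {H : Subgroup G} [Fintype H]
    (hPH : P ≤ H) (hCH : Subgroup.centralizer (P : Set G) ≤ H)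
    (hHN : H ≤ Subgroup.normalizer (P : Set G))
    (hn : ∀ n ∈ Subgroup.normalizer (P : Set G), ∀ g, n * g * n⁻¹ ∈ H ↔ g ∈ H)
    {b b' : Set (IrrCharacter H)} (hb : IsInducedBlock M H b B) (hb' : IsInducedBlock M H b' B) :
    ∃ n ∈ Subgroup.normalizer (P : Set G), conjSet n H H b = b' := by
  classical
  haveI : M.IsPrime := isPrime_of_isPModular hM
  haveI : Fact p.Prime := ⟨hM.1⟩
  have hPp := IsDefectGroup.isPGroup hM hP
  obtain ⟨N, hN⟩ : ∃ N : Subgroup G, N = Subgroup.normalizer (P : Set G) := ⟨_, rfl⟩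
  subst hN
  haveI : Fintype (Subgroup.normalizer (P : Set G)) := Fintype.ofFinite _
  obtain ⟨Orb, hOrb⟩ : ∃ Orb : Set (IrrCharacter H) → Set (IrrCharacter H), ∀ c η,
      η ∈ Orb c ↔ ∃ n ∈ Subgroup.normalizer (P : Set G), η ∈ conjSet n H H c :=
    ⟨fun c => {η | ∃ n ∈ Subgroup.normalizer (P : Set G), η ∈ conjSet n H H c}, fun _ _ => Iff.rfl⟩
  have key : ∀ c : Set (IrrCharacter H), IsInducedBlock M H c B →
      ∃ (β : Set (IrrCharacter (Subgroup.normalizer (P : Set G))))
        (u : Subgroup.normalizer (P : Set G) → ℂ),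
        IsInducedBlock M (Subgroup.normalizer (P : Set G)) β B ∧
        IsClassFunction _ u ∧ (∀ (y : Subgroup.normalizer (P : Set G)), (y : G) ∉ H → u y = 0) ∧
        (∀ (h : H) (y : Subgroup.normalizer (P : Set G)), (y : G) = h →
          u y = blockCoeff (Orb c) h) ∧
        ∀ χ ∈ β, omega (χ : Subgroup.normalizer (P : Set G) → ℂ) u = 1 := by
    intro c hc
    have hOU : IsBlockUnion M (Orb c) := fun χ hχ ψ h => by
      obtain ⟨n, hnN, hm⟩ := (hOrb c χ).mp hχ
      exact (hOrb c ψ).mpr ⟨n, hnN,
        IsPBlock.mem_of_sameBlock (isPBlock_conjSet (hn n hnN) hc.1) hm h⟩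
    have hOinv : ∀ n ∈ Subgroup.normalizer (P : Set G), conjSet n H H (Orb c) = Orb c := by
      intro n hnN
      ext η
      rw [conjSet_eq_image (hn n hnN)]
      constructor
      · rintro ⟨ξ, hξ, rfl⟩
        obtain ⟨m, hm, hξm⟩ := (hOrb c ξ).mp hξ
        refine (hOrb c _).mpr ⟨n * m, mul_mem hnN hm, ?_⟩
        rw [← conjSet_conjSet (hn m hm) (hn n hnN)]
        exact conjIrr_mem_conjSet (hn n hnN) hξm
      · intro hη
        obtain ⟨m, hm, hηm⟩ := (hOrb c η).mp hη
        have h1 : η ∈ conjSet n H H (conjSet (n⁻¹ * m) H H c) := by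
          rw [conjSet_conjSet (hn _ (mul_mem (inv_mem hnN) hm)) (hn n hnN), mul_inv_cancel_left]
          exact hηm
        rw [conjSet_eq_image (hn n hnN)] at h1
        obtain ⟨ξ, hξ, rfl⟩ := h1
        exact ⟨ξ, (hOrb c ξ).mpr ⟨n⁻¹ * m, mul_mem (inv_mem hnN) hm, hξ⟩, rfl⟩
    obtain ⟨u, hu⟩ : ∃ u : Subgroup.normalizer (P : Set G) → ℂ,
        u = fun (y : Subgroup.normalizer (P : Set G)) => extendByZero H (blockCoeff (Orb c)) (y : G) := ⟨_, rfl⟩
    have huc : IsClassFunction _ u := fun a x => by
      have h := extendByZero_conjSet (hn _ x.2) (Orb c) (a : G)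
      rw [hOinv _ x.2] at h
      simpa [hu] using h
    have hul : ∀ y, MemLocalRing M (u y) := fun y => by
      simp only [hu]
      by_cases hy : (y : G) ∈ H
      · exact (extendByZero_apply H (blockCoeff (Orb c)) ⟨_, hy⟩).symm ▸
          memLocalRing_blockCoeff hOU _
      · exact (extendByZero_eq_zero H (blockCoeff (Orb c)) hy).symm ▸ memLocalRing_zero
    have huH : ∀ (h : H) (y : Subgroup.normalizer (P : Set G)), (y : G) = h →
        u y = blockCoeff (Orb c) h := fun h y hy => by
      simp only [hu, hy]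
      exact extendByZero_apply H _ h
    have hu0 : ∀ (y : Subgroup.normalizer (P : Set G)), (y : G) ∉ H → u y = 0 := fun y hy => by
      simp only [hu]
      exact extendByZero_eq_zero H _ hy
    -- restriction to `H` inside the normalizer
    haveI : Fintype (H.subgroupOf (Subgroup.normalizer (P : Set G))) := Fintype.ofFinite _
    obtain ⟨ξ₀, hξ₀⟩ := IsPBlock.nonempty hc.1
    have hne : ∃ y, u y ≠ 0 := by
      by_contra hcon
      push Not at hcon
      have h0 : blockCoeff (Orb c) = fun _ => 0 :=
        funext fun h => (huH h ⟨h, hHN h.2⟩ rfl).symm.trans (hcon _)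
      have h1 := omega_blockCoeff (Orb c) ξ₀
      rw [indVec_of_mem ((hOrb c ξ₀).mpr ⟨1, one_mem _, by
        rw [conjSet_of_mem (one_mem H)]; exact hξ₀⟩), h0] at h1
      simp [omega] at h1
    have huu : conv u u = u := by
      funext y
      have h := congrFun (conv_extendByZero H (blockCoeff (Orb c)) (blockCoeff (Orb c))) (y : G)
      rw [conv_blockCoeff_self] at h
      refine Eq.trans ?_ (h.trans (by simp only [hu]))
      simp only [conv]
      refine Fintype.sum_of_injective (fun z : Subgroup.normalizer (P : Set G) => (z : G))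
        Subtype.val_injective _ _ (fun g hg => ?_) fun z => by simp [hu]
      rw [extendByZero_eq_zero H _ fun hgH => hg ⟨⟨g, hHN hgH⟩, rfl⟩, zero_mul]
    obtain ⟨χ, hχ⟩ : ∃ χ : IrrCharacter (Subgroup.normalizer (P : Set G)),
        omega (χ : Subgroup.normalizer (P : Set G) → ℂ) u = 1 := by
      by_contra hcon
      push Not at hcon
      have h0 : u = fun _ => 0 := eq_of_omega_eq huc (fun _ _ => rfl) fun χ => by
        rw [(omega_idem_zero_or_one huc huu χ).resolve_right (hcon χ), omega]
        simp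
      obtain ⟨y, hy⟩ := hne
      exact hy (congrFun h0 y)
    have hall : ∀ ψ ∈ blockOf M (χ : Subgroup.normalizer (P : Set G) → ℂ),
        omega (ψ : Subgroup.normalizer (P : Set G) → ℂ) u = 1 := fun ψ hψ => by
      refine (omega_idem_zero_or_one huc huu ψ).resolve_left fun h0 => ?_
      have h2 := sub_mem_localIdeal_of_sameBlock hψ huc hul
      rw [hχ, h0, sub_zero] at h2
      exact not_memLocalIdeal_one h2
    refine ⟨_, u, ⟨isPBlock_blockOf χ, hc.2.1, fun ψ hψ χG hχG g => ?_⟩, huc, hu0, huH, hall⟩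
    obtain ⟨η, hη⟩ := exists_omega_restrict (H.subgroupOf (Subgroup.normalizer (P : Set G))) ψ
    obtain ⟨e, he⟩ : ∃ e : H.subgroupOf (Subgroup.normalizer (P : Set G)) ≃* H,
      e = Subgroup.subgroupOfEquivOfLe hHN := ⟨_, rfl⟩
    obtain ⟨η', hη'⟩ : ∃ η' : IrrCharacter H, (η' : H → ℂ) = (η : _ → ℂ) ∘ e.symm :=
      ⟨⟨_, isIrrCharacter_comp_of_surjective η.2 e.symm.toMonoidHom e.symm.surjective⟩, rfl⟩
    have hres : ∀ w : Subgroup.normalizer (P : Set G) → ℂ, IsClassFunction _ w →
        (∀ (y : Subgroup.normalizer (P : Set G)), (y : G) ∉ H → w y = 0) →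
        omega (ψ : Subgroup.normalizer (P : Set G) → ℂ) w =
          omega (η' : H → ℂ) (fun h : H => w ⟨h, hHN h.2⟩) := by
      intro w hw hw0
      rw [hη w hw fun y hy => hw0 y fun h => hy (Subgroup.mem_subgroupOf.mpr h)]
      simp only [omega, hη', Function.comp_apply, map_one]
      congr 1
      refine Fintype.sum_equiv e.toEquiv _ _ fun h => ?_
      subst he
      simp only [MulEquiv.toEquiv_eq_coe, MulEquiv.coe_toEquiv, MulEquiv.symm_apply_apply]
      congr 1
    -- the constituent lies in the orbit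
    have hη'O : η' ∈ Orb c := by
      by_contra hno
      have h1 := hall ψ hψ
      rw [hres u huc hu0, show (fun h : H => u ⟨h, hHN h.2⟩) = blockCoeff (Orb c) from
        funext fun h => huH h _ rfl, omega_blockCoeff, indVec_of_notMem hno] at h1
      exact zero_ne_one h1
    obtain ⟨n, hnN, hηn⟩ := (hOrb c η').mp hη'O
    rw [conjSet_eq_image (hn n hnN)] at hηn
    obtain ⟨ξ, hξ, hξη⟩ := hηn
    have hξB := hc.2.2 ξ hξ χG hχG g
    -- conjugation does not change the induced central character
    have hconj : inducedCentralChar H (η' : H → ℂ) g = inducedCentralChar H (ξ : H → ℂ) g := by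
      rw [inducedCentralChar_eq_omega, inducedCentralChar_eq_omega, omega, omega, ← hξη]
      rw [conjIrr_apply (hn n hnN) ξ (c := 1) (c' := 1) (by simp)]
      congr 1
      refine (Fintype.sum_equiv (conjIso (hn n hnN)).toEquiv _ _ fun h => ?_).symm
      simp only [MulEquiv.toEquiv_eq_coe, MulEquiv.coe_toEquiv]
      rw [conjIrr_apply (hn n hnN) ξ (c := h) (c' := conjIso (hn n hnN) h) rfl]
      congr 1
      exact (isClassFunction_classInd g (h : G) n).symm
    -- truncation to `C(P)`
    obtain ⟨w, hw⟩ : ∃ w : Subgroup.normalizer (P : Set G) → ℂ,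
        w = brauerFun P (Subgroup.normalizer (P : Set G)) (classInd g) := ⟨_, rfl⟩
    have hwc : IsClassFunction _ w :=
      hw ▸ isClassFunction_brauerFun le_rfl (isClassFunction_classInd g)
    have htrunc : ∀ (K : Subgroup G) [Fintype K], P ≤ K → K ≤ Subgroup.normalizer (P : Set G) →
        ∀ θ : IrrCharacter K, MemLocalIdeal M
          (inducedCentralChar K (θ : K → ℂ) g - omega (θ : K → ℂ) (brauerFun P K (classInd g))) := by
      intro K _ hPK hKN θ
      haveI : (P.subgroupOf K).Normal := Subgroup.normal_subgroupOf_of_le_normalizer hKN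
      haveI : Fintype (ConjClasses K) := Fintype.ofFinite _
      have hc1 : IsClassFunction K (fun k : K => classInd g (k : G)) := fun a x => by
        exact isClassFunction_classInd g (a : G) (x : G)
      rw [inducedCentralChar_eq_omega, omega_eq_sum_classes θ hc1,
        omega_eq_sum_classes θ (isClassFunction_brauerFun hKN (isClassFunction_classInd g)),
        ← Finset.sum_sub_distrib]
      refine memLocalIdeal_sum _ _ fun k _ => ?_
      rw [← sub_mul]
      by_cases hk : ((Quotient.out k : K) : G) ∈ Subgroup.centralizer (P : Set G)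
      · rw [brauerFun_of_mem hk, sub_self, zero_mul]
        exact memLocalIdeal_zero
      · refine memLocalIdeal_mul_left (memLocalRing_sub (memLocalRing_classInd g _)
          (memLocalRing_brauerFun (memLocalRing_classInd g) _))
          (memLocalIdeal_centralChar_of_not_centralizing hM (P.subgroupOf K)
            (hPp.of_equiv (Subgroup.subgroupOfEquivOfLe hPK).symm) θ fun hcent => hk ?_)
        intro q hq
        exact congrArg Subtype.val (Subgroup.mem_centralizer_iff.mp hcent ⟨q, hPK hq⟩ hq)
    have h1 := htrunc (Subgroup.normalizer (P : Set G)) Subgroup.le_normalizer le_rfl ψ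
    have h2 := htrunc H hPH hHN η'
    have heq : omega (ψ : Subgroup.normalizer (P : Set G) → ℂ)
          (brauerFun P (Subgroup.normalizer (P : Set G)) (classInd g)) =
        omega (η' : H → ℂ) (brauerFun P H (classInd g)) := by
      rw [hres _ (hw ▸ hwc) fun y hy => brauerFun_of_notMem fun h => hy (hCH h)]
      rfl
    rw [heq] at h1
    have h3 := memLocalIdeal_sub_trans h1 (memLocalIdeal_sub_comm h2)
    rw [hconj] at h3
    exact memLocalIdeal_sub_trans h3 hξB
  obtain ⟨β, u, hβ, huc, hu0, huH, hβu⟩ := key b hb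
  obtain ⟨β', u', hβ', huc', hu0', huH', hβu'⟩ := key b' hb'
  have hββ : β = β' := inducing_block_unique hM hPp
    (isDefectGroup_subgroupOf_of_induced hM Subgroup.le_normalizer le_rfl hP hβ) hβ hβ'
  obtain ⟨χ, hχ⟩ := IsPBlock.nonempty hβ.1
  have h1 := hβu χ hχ
  have h1' := hβu' χ (hββ ▸ hχ)
  haveI : Fintype (H.subgroupOf (Subgroup.normalizer (P : Set G))) := Fintype.ofFinite _
  obtain ⟨η, hη⟩ := exists_omega_restrict (H.subgroupOf (Subgroup.normalizer (P : Set G))) χ
  obtain ⟨η', hη'⟩ : ∃ η' : IrrCharacter H,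
      (η' : H → ℂ) = (η : _ → ℂ) ∘ (Subgroup.subgroupOfEquivOfLe hHN).symm :=
    ⟨⟨_, isIrrCharacter_comp_of_surjective η.2 (Subgroup.subgroupOfEquivOfLe hHN).symm.toMonoidHom
      (Subgroup.subgroupOfEquivOfLe hHN).symm.surjective⟩, rfl⟩
  have hmem : ∀ (c : Set (IrrCharacter H)) (w : Subgroup.normalizer (P : Set G) → ℂ),
      IsClassFunction _ w → (∀ (y : Subgroup.normalizer (P : Set G)), (y : G) ∉ H → w y = 0) →
      (∀ (h : H) (y : Subgroup.normalizer (P : Set G)), (y : G) = h →
        w y = blockCoeff (Orb c) h) →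
      omega (χ : Subgroup.normalizer (P : Set G) → ℂ) w = 1 → η' ∈ Orb c := by
    intro c w hw hw0 hwH hw1
    by_contra hno
    rw [hη w hw fun y hy => hw0 y fun h => hy (Subgroup.mem_subgroupOf.mpr h)] at hw1
    have h3 := omega_blockCoeff (Orb c) η'
    rw [indVec_of_notMem hno] at h3
    refine zero_ne_one (h3.symm.trans (Eq.trans ?_ hw1))
    simp only [omega, hη', Function.comp_apply, map_one]
    congr 1
    refine Fintype.sum_equiv (Subgroup.subgroupOfEquivOfLe hHN).symm.toEquiv _ _ fun h => ?_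
    simp only [MulEquiv.toEquiv_eq_coe, MulEquiv.coe_toEquiv]
    congr 1
    exact (hwH h _ rfl).symm
  obtain ⟨n, hnN, hn1⟩ := (hOrb b η').mp (hmem b u huc hu0 huH h1)
  obtain ⟨m, hmN, hm1⟩ := (hOrb b' η').mp (hmem b' u' huc' hu0' huH' h1')
  have heq : conjSet n H H b = conjSet m H H b' := IsPBlock.eq_of_mem_of_mem
    (isPBlock_conjSet (hn n hnN) hb.1) (isPBlock_conjSet (hn m hmN) hb'.1) hn1 hm1
  refine ⟨m⁻¹ * n, mul_mem (inv_mem hmN) hnN, ?_⟩
  rw [← conjSet_conjSet (hn n hnN) (hn _ (inv_mem hmN)), heq,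
    conjSet_conjSet (hn m hmN) (hn _ (inv_mem hmN)), inv_mul_cancel, conjSet_of_mem (one_mem H)]

end CfsgLib.Blocks
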