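import Cfsg.Agent.Lib.Blocks.InducingBlocks
import Cfsg.Agent.Lib.Blocks.ExtendedFirst
import Cfsg.Agent.Lib.Blocks.BlockSaturation

/-!
# The first main theorem read through congruences on the centralizer of the defect group
-/

set_option autoImplicit false
set_option linter.unusedSectionVars false

namespace CfsgLib.Blocks

open Cfsg
open scoped ComplexConjugate CfsgLib.Char

variable {p : ℕ} {M : Ideal AlgInt} {G : Type*} [Group G] [Fintype G]

/-- Blocks with congruent idempotents are equal. -/
theorem eq_of_blockCoeff_congr [M.IsPrime] {B B' : Set (IrrCharacter G)} (hB : IsPBlock M B)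
    (hB' : IsPBlock M B') (h : ∀ g, MemLocalIdeal M (blockCoeff B g - blockCoeff B' g)) :
    B = B' := by
  classical
  obtain ⟨χ, hχ⟩ := IsPBlock.nonempty hB
  refine IsPBlock.eq_of_mem_of_mem hB hB' hχ ?_
  by_contra hn
  have e : MemLocalIdeal M (indVec B χ - indVec B' χ) := by
    rw [← omega_blockCoeff, ← omega_blockCoeff,
      omega_eq_sum_classes χ (isClassFunction_blockCoeff B),
      omega_eq_sum_classes χ (isClassFunction_blockCoeff B'), ← Finset.sum_sub_distrib]
    refine memLocalIdeal_sum _ _ fun c _ => ?_
    rw [← sub_mul]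
    exact memLocalIdeal_mul_right (h _) (memLocalRing_centralChar χ _)
  rw [indVec_of_mem hχ, indVec_of_notMem hn, sub_zero] at e
  exact not_memLocalIdeal_one e

/-- For a normal `p`-subgroup, being the defect group is a matter of the defect. -/
theorem isDefectGroup_iff_defect_of_normal (hM : IsPModular p M) (A : Subgroup G) [A.Normal]
    (hA : IsPGroup p A) {b : Set (IrrCharacter G)} (hb : IsPBlock M b) :
    IsDefectGroup p M b A ↔ p ^ blockDefect p b = Nat.card A := by
  constructor
  · exact fun h => (IsDefectGroup.card_eq hM hb h).symm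
  · intro h
    obtain ⟨D, hD⟩ := exists_isDefectGroup hM hb
    have hle : A ≤ D := IsDefectGroup.normal_le hM hb hD _ hA
    rw [Subgroup.eq_of_le_of_card_ge hle ((IsDefectGroup.card_eq hM hb hD).trans h).le]
    exact hD

variable [Fact p.Prime] {P : Subgroup G}

/-- Every block with defect group `P` comes with the block of `N_G(P)` congruent to it on
`C_G(P)`. -/
theorem exists_normalizer_congr (hM : IsPModular p M) (hP : IsPGroup p P)
    [Fintype (Subgroup.normalizer (P : Set G))] {B : Set (IrrCharacter G)} (hB : IsPBlock M B)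
    (hBP : IsDefectGroup p M B P) :
    ∃ b : Set (IrrCharacter (Subgroup.normalizer (P : Set G))),
      p ^ blockDefect p b = Nat.card P ∧
      IsInducedBlock M (Subgroup.normalizer (P : Set G)) b B ∧
      ∀ y : Subgroup.normalizer (P : Set G), (y : G) ∈ Subgroup.centralizer (P : Set G) →
        MemLocalIdeal M (blockCoeff B (y : G) - blockCoeff b y) := by
  classical
  have := isPrime_of_isPModular hM
  have hPN : P ≤ Subgroup.normalizer (P : Set G) := Subgroup.le_normalizer
  have hCN : Subgroup.centralizer (P : Set G) ≤ Subgroup.normalizer (P : Set G) :=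
    Subgroup.centralizer_le_normalizer _
  obtain ⟨b, ⟨hb, hbd, hind⟩, -⟩ := (first_main_theorem hM hP).2 B hB hBP
  refine ⟨b, ?_, hind, fun y hy => ?_⟩
  · rw [← IsDefectGroup.card_eq hM hb hbd]
    exact Nat.card_congr (Subgroup.subgroupOfEquivOfLe hPN).toEquiv
  have hU : {ξ : IrrCharacter (Subgroup.normalizer (P : Set G)) |
      IsInducedBlock M (Subgroup.normalizer (P : Set G)) (blockOf M (ξ : _ → ℂ)) B} = b := by
    ext ξ
    constructor
    · intro hξ
      have := inducing_block_unique hM hP hbd hind hξ
      rw [this]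
      exact mem_blockOf_self ξ
    · intro hξ
      show IsInducedBlock M _ _ B
      rw [← IsPBlock.eq_blockOf hb hξ]
      exact hind
  have h := memLocalIdeal_brauerFun_sub_inducing hM hP hPN hCN le_rfl hB y
  rwa [brauerFun_of_mem (f := blockCoeff B) hy, hU] at h

/-- Every block of `N_G(P)` with defect `P` is congruent on `C_G(P)` to a block with defect group
`P`. -/
theorem exists_block_congr (hM : IsPModular p M) (hP : IsPGroup p P)
    [Fintype (Subgroup.normalizer (P : Set G))]
    {b : Set (IrrCharacter (Subgroup.normalizer (P : Set G)))} (hb : IsPBlock M b)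
    (hbd : p ^ blockDefect p b = Nat.card P) :
    ∃ B : Set (IrrCharacter G), IsPBlock M B ∧ IsDefectGroup p M B P ∧
      ∀ y : Subgroup.normalizer (P : Set G), (y : G) ∈ Subgroup.centralizer (P : Set G) →
        MemLocalIdeal M (blockCoeff B (y : G) - blockCoeff b y) := by
  classical
  have := isPrime_of_isPModular hM
  have hPN : P ≤ Subgroup.normalizer (P : Set G) := Subgroup.le_normalizer
  have : (P.subgroupOf (Subgroup.normalizer (P : Set G))).Normal := Subgroup.normal_in_normalizer
  have hbD : IsDefectGroup p M b (P.subgroupOf (Subgroup.normalizer (P : Set G))) :=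
    (isDefectGroup_iff_defect_of_normal hM (P.subgroupOf (Subgroup.normalizer (P : Set G)))
      (hP.comap_of_injective _ (Subgroup.subtype_injective _)) hb).mpr
      (hbd.trans (Nat.card_congr (Subgroup.subgroupOfEquivOfLe hPN).toEquiv).symm)
  obtain ⟨B, hB, hBP, hind⟩ := (first_main_theorem hM hP).1 b hb hbD
  obtain ⟨b₁, hd₁, hind₁, hc₁⟩ := exists_normalizer_congr hM hP hB hBP
  have h1 := inducing_block_unique hM hP hbD hind hind₁
  exact ⟨B, hB, hBP, h1 ▸ hc₁⟩

/-- Blocks with defect group `P` congruent on `C_G(P)` are equal. -/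
theorem eq_of_congr_centralizer (hM : IsPModular p M) (hP : IsPGroup p P)
    {B B' : Set (IrrCharacter G)} (hB : IsPBlock M B) (hB' : IsPBlock M B')
    (hBP : IsDefectGroup p M B P) (hBP' : IsDefectGroup p M B' P)
    (h : ∀ x ∈ Subgroup.centralizer (P : Set G),
      MemLocalIdeal M (blockCoeff B x - blockCoeff B' x)) : B = B' := by
  classical
  have := isPrime_of_isPModular hM
  have : Fintype (Subgroup.normalizer (P : Set G)) := Fintype.ofFinite _
  obtain ⟨b, -, hind, hc⟩ := exists_normalizer_congr hM hP hB hBP
  obtain ⟨b', -, hind', hc'⟩ := exists_normalizer_congr hM hP hB' hBP'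
  have hn : (P.subgroupOf (Subgroup.normalizer (P : Set G))).Normal :=
    Subgroup.normal_in_normalizer
  have he : b = b' := by
    refine eq_of_blockCoeff_congr hind.1 hind'.1 fun y => ?_
    by_cases hy : (y : G) ∈ Subgroup.centralizer (P : Set G)
    · exact memLocalIdeal_sub_trans (memLocalIdeal_sub_comm (hc y hy))
        (memLocalIdeal_sub_trans (h _ hy) (hc' y hy))
    · have hy' : y ∉ Subgroup.centralizer
          ((P.subgroupOf (Subgroup.normalizer (P : Set G))) : Set (Subgroup.normalizer (P : Set G))) :=
        fun hc => hy fun q hq => congrArg Subtype.val (hc ⟨q, Subgroup.le_normalizer hq⟩ hq)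
      have hpg : IsPGroup p (P.subgroupOf (Subgroup.normalizer (P : Set G))) :=
        hP.comap_of_injective _ (Subgroup.subtype_injective _)
      exact memLocalIdeal_sub (blockCoeff_mem_localIdeal_of_not_centralizing hM _ hpg hind.1 hy')
        (blockCoeff_mem_localIdeal_of_not_centralizing hM _ hpg hind'.1 hy')
  exact IsInducedBlock.unique hind (he ▸ hind')

end CfsgLib.Blocks
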