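import Cfsg.Agent.Lib.Blocks.MainSecond

/-!
# Central characters of induced functions, constituents of induced blocks
-/

set_option autoImplicit false
set_option linter.unusedSectionVars false

namespace CfsgLib.Blocks

open Cfsg
open scoped ComplexConjugate CfsgLib.Char

variable {p : ℕ} {M : Ideal AlgInt} {G : Type*} [Group G] [Fintype G]

/-- A sum over conjugation is the centralizer order times the sum over the class. -/
theorem sum_conjugates_eq (F : G → ℂ) (g : G) :
    ∑ x : G, F (x⁻¹ * g * x) =
      (Nat.card (Subgroup.centralizer ({g} : Set G)) : ℂ) * ∑ h, classInd g h * F h := by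
  classical
  rw [← Finset.sum_fiberwise Finset.univ (fun x => x⁻¹ * g * x), Finset.mul_sum]
  refine Finset.sum_congr rfl fun h _ => ?_
  rw [Finset.sum_congr rfl (g := fun _ => F h) fun x hx => by rw [(Finset.mem_filter.mp hx).2],
    Finset.sum_const, nsmul_eq_mul, classInd]
  by_cases hc : IsConj g h
  · rw [if_pos hc, one_mul]
    obtain ⟨c, hc⟩ := isConj_iff.mp hc
    congr 2
    rw [← Fintype.card_subtype, ← Nat.card_eq_fintype_card]
    refine (Nat.card_congr (Equiv.subtypeEquiv (Equiv.mulRight c⁻¹) fun z => ?_)).symm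
    rw [Subgroup.mem_centralizer_singleton_iff, Equiv.coe_mulRight, ← hc]
    beta_reduce
    constructor
    · intro hz
      calc (z * c⁻¹)⁻¹ * g * (z * c⁻¹) = c * (z⁻¹ * (g * z)) * c⁻¹ := by group
        _ = c * (z⁻¹ * (z * g)) * c⁻¹ := by rw [hz]
        _ = _ := by group
    · intro hz
      calc z * g = z * c⁻¹ * (c * g * c⁻¹) * c := by group
        _ = z * c⁻¹ * ((z * c⁻¹)⁻¹ * g * (z * c⁻¹)) * c := by rw [hz]
        _ = g * z := by group
  · rw [if_neg hc, zero_mul, mul_zero, Finset.card_eq_zero.mpr, Nat.cast_zero, zero_mul]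
    refine Finset.filter_eq_empty_iff.mpr fun x _ hx => hc (isConj_iff.mpr ⟨x⁻¹, ?_⟩)
    rw [inv_inv, hx]

theorem centralChar_indFun (H : Subgroup G) [Fintype H] (ξ : H → ℂ) (g : G) :
    centralChar (indFun H ξ) g = inducedCentralChar H ξ g := by
  have h1 : indFun H ξ 1 = (Nat.card H : ℂ)⁻¹ * ((Nat.card G : ℂ) * ξ 1) := by
    rw [indFun]
    congr 1
    rw [Finset.sum_congr rfl (g := fun _ => ξ 1) fun x _ => by
      rw [mul_one, inv_mul_cancel, ← Subgroup.coe_one H, extendByZero_apply], Finset.sum_const,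
      nsmul_eq_mul, Finset.card_univ, Nat.card_eq_fintype_card]
  have hg : indFun H ξ g = (Nat.card H : ℂ)⁻¹ *
      ((Nat.card (Subgroup.centralizer ({g} : Set G)) : ℂ) * ∑ k : H, classInd g (k : G) * ξ k) := by
    rw [indFun, sum_conjugates_eq, Finset.sum_congr rfl fun h _ => mul_comm (classInd g h) _,
      sum_extendByZero_mul]
    congr 2
    exact Finset.sum_congr rfl fun k _ => mul_comm _ _
  rw [centralChar, h1, hg, inducedCentralChar_eq_omega, omega,
    ← card_centralizer_mul_index g, Nat.cast_mul]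
  have hC : (Nat.card (Subgroup.centralizer ({g} : Set G)) : ℂ) ≠ 0 := Nat.cast_ne_zero.mpr Nat.card_pos.ne'
  have hH : (Nat.card H : ℂ) ≠ 0 := Nat.cast_ne_zero.mpr Nat.card_pos.ne'
  have hi : ((Subgroup.centralizer ({g} : Set G)).index : ℂ) ≠ 0 :=
    Nat.cast_ne_zero.mpr Subgroup.index_ne_zero_of_finite
  field_simp

/-- A subgroup character inducing an irreducible character gives block induction. -/
theorem isInducedBlock_of_indFun (hM : IsPModular p M) (H : Subgroup G) [Fintype H]
    (ξ : IrrCharacter H) (hind : IsIrrCharacter G (indFun H (ξ : H → ℂ))) :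
    IsInducedBlock M H (blockOf M (ξ : H → ℂ)) (blockOf M (indFun H (ξ : H → ℂ))) := by
  have := isPrime_of_isPModular hM
  refine ⟨isPBlock_blockOf ξ, isPBlock_blockOf (⟨_, hind⟩ : IrrCharacter G), fun ξ' hξ' χ hχ g => ?_⟩
  have h1 : MemLocalIdeal M
      (inducedCentralChar H (ξ' : H → ℂ) g - inducedCentralChar H (ξ : H → ℂ) g) := by
    rw [inducedCentralChar_eq_omega, inducedCentralChar_eq_omega]
    exact sub_mem_localIdeal_of_sameBlock (SameBlock.symm hξ')
      (fun k a => by
        simp only [Subgroup.coe_mul, Subgroup.coe_inv, isClassFunction_classInd g (k : G) (a : G)])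
      fun k => memLocalRing_classInd g _
  have h2 := (hχ : SameBlock M (indFun H (ξ : H → ℂ)) (χ : G → ℂ)) g
  rw [centralChar_indFun] at h2
  exact memLocalIdeal_sub_trans h1 h2

/-- Every member of a block is a constituent of the restriction of a member of the induced block. -/
theorem exists_constituent_of_isInducedBlock (hM : IsPModular p M) {H : Subgroup G} [Fintype H]
    {b : Set (IrrCharacter H)} {B : Set (IrrCharacter G)} (hind : IsInducedBlock M H b B)
    {ξ : IrrCharacter H} (hξ : ξ ∈ b) :
    ∃ χ ∈ B, classInner (fun h : H => (χ : G → ℂ) h) (ξ : H → ℂ) ≠ 0 := by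
  classical
  have := isPrime_of_isPModular hM
  by_contra hno
  push Not at hno
  obtain ⟨χ, hχ⟩ := IsPBlock.nonempty hind.2.1
  have h := IsInducedBlock.omega_congr hind hξ hχ (isClassFunction_blockCoeff B)
    (IsPBlock.memLocalRing_blockCoeff hind.2.1)
  have h0 : omega (ξ : H → ℂ) (fun h : H => blockCoeff B (h : G)) = 0 := by
    rw [omega, div_eq_zero_iff]
    left
    calc ∑ h : H, blockCoeff B (h : G) * (ξ : H → ℂ) h
        = ∑ η : IrrCharacter G with η ∈ B, ∑ h : H, (Nat.card G : ℂ)⁻¹ *
            ((η : G → ℂ) 1 * (conj ((η : G → ℂ) (h : G)) * (ξ : H → ℂ) h)) := by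
          rw [Finset.sum_comm]
          refine Finset.sum_congr rfl fun h _ => ?_
          rw [blockCoeff, sum_mem_eq_filter, Finset.mul_sum, Finset.sum_mul]
          exact Finset.sum_congr rfl fun η _ => by ring
      _ = 0 := Finset.sum_eq_zero fun η hη => by
          have hz := congrArg conj (hno η (Finset.mem_filter.mp hη).2)
          rw [Char.classInner_conj_symm, map_zero, classInner, mul_eq_zero] at hz
          have hz' := hz.resolve_left (inv_ne_zero (Nat.cast_ne_zero.mpr Nat.card_pos.ne'))
          rw [← Finset.mul_sum, ← Finset.mul_sum, show ∑ h : H, conj ((η : G → ℂ) (h : G)) * (ξ : H → ℂ) h = 0 from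
            (Finset.sum_congr rfl fun h _ => mul_comm _ _).trans hz', mul_zero, mul_zero]
  rw [h0, omega_blockCoeff, indVec_of_mem hχ, zero_sub] at h
  exact not_memLocalIdeal_one (by simpa using memLocalIdeal_neg h)

end CfsgLib.Blocks
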