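import Cfsg.Agent.Lib.Blocks.Covering
import Cfsg.Agent.Lib.Blocks.Stable
import Cfsg.Agent.Lib.Blocks.Defect
import Cfsg.Agent.Lib.Blocks.Induced
import Cfsg.Agent.Lib.Char.Counting

/-!
# The Fong–Reynolds correspondence

`N` is normal in `G`, `b` a block of `N`, `T` its stabilizer. Induction from `T` gives a bijection
between the irreducible characters of `T` over `b` and those of `G` over `b`, respecting blocks,
defect groups and heights.
-/

set_option autoImplicit false
set_option linter.unusedSectionVars false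

namespace CfsgLib.Blocks

open Cfsg
open scoped ComplexConjugate CfsgLib.Char

variable {p : ℕ} {M : Ideal AlgInt} {G : Type*} [Group G] [Fintype G]

/-- The induced class function as a sum over cosets, in the local ring. -/
theorem memLocalRing_indFun [M.IsPrime] (T : Subgroup G) [Fintype T] {f : T → ℂ}
    (hf : IsClassFunction T f) (hl : ∀ t, MemLocalRing M (f t)) (g : G) :
    MemLocalRing M (indFun T f g) := by
  classical
  set h : G → ℂ := fun x => extendByZero T f (x⁻¹ * g * x) with hh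
  have hext : ∀ y, MemLocalRing M (extendByZero T f y) := fun y => by
    by_cases hy : y ∈ T
    · rw [show y = ((⟨y, hy⟩ : T) : G) from rfl, extendByZero_apply]; exact hl _
    · rw [extendByZero_eq_zero T f hy]; exact memLocalRing_zero
  have hinv : ∀ (x : G) (t : T), h (x * t) = h x := fun x t => by
    simp only [hh]
    rw [show (x * t)⁻¹ * g * (x * t) = (t : G)⁻¹ * (x⁻¹ * g * x) * t by group]
    by_cases hy : x⁻¹ * g * x ∈ T
    · rw [show x⁻¹ * g * x = ((⟨_, hy⟩ : T) : G) from rfl, ← Subgroup.coe_inv, ← Subgroup.coe_mul,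
        ← Subgroup.coe_mul, extendByZero_apply, extendByZero_apply]
      have e := hf ⟨_, hy⟩ t⁻¹
      rw [inv_inv] at e
      exact e
    · rw [extendByZero_eq_zero T f hy, extendByZero_eq_zero T f fun h' => hy (by
        have h'' := T.mul_mem (T.mul_mem t.2 h') (T.inv_mem t.2)
        simpa [mul_assoc] using h'')]
  have key : indFun T f g = ∑ q : G ⧸ T, h q.out := by
    have hT : (Nat.card T : ℂ) ≠ 0 := Nat.cast_ne_zero.mpr Nat.card_pos.ne'
    let e₀ : (G ⧸ T) × T → G := fun z => z.1.out * z.2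
    have hbij : Function.Bijective e₀ := by
      refine ⟨fun z z' h => ?_, fun x => ?_⟩
      · have h1 := congrArg (QuotientGroup.mk (s := T)) h
        simp only [e₀, QuotientGroup.mk_mul_of_mem _ z.2.2, QuotientGroup.mk_mul_of_mem _ z'.2.2,
          QuotientGroup.out_eq'] at h1
        have h2 : (z.1.out * z.2 : G) = z'.1.out * z'.2 := h
        rw [h1] at h2
        exact Prod.ext h1 (Subtype.ext (mul_left_cancel h2))
      · exact ⟨(QuotientGroup.mk x, ⟨(QuotientGroup.mk x : G ⧸ T).out⁻¹ * x,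
          QuotientGroup.eq.mp (QuotientGroup.out_eq' _)⟩), mul_inv_cancel_left _ _⟩
    rw [indFun, ← (Equiv.ofBijective e₀ hbij).sum_comp, Fintype.sum_prod_type, Finset.mul_sum]
    refine Finset.sum_congr rfl fun q _ => ?_
    have e : ∀ t : T, Equiv.ofBijective e₀ hbij (q, t) = q.out * t := fun t => rfl
    rw [Finset.sum_congr rfl (g := fun _ => h q.out) fun t _ => by rw [e]; exact hinv q.out t,
      Finset.sum_const, Finset.card_univ, nsmul_eq_mul, ← Nat.card_eq_fintype_card, ← mul_assoc,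
      inv_mul_cancel₀ hT, one_mul]
  rw [key]
  exact memLocalRing_sum _ _ fun q _ => hext _

/-- The central character of an induced irreducible character on a class function. -/
theorem omega_indFun (T : Subgroup G) [Fintype T] (ψ : IrrCharacter T) {χ : IrrCharacter G}
    (hχ : (χ : G → ℂ) = indFun T (ψ : T → ℂ)) {f : G → ℂ} (hf : IsClassFunction G f) :
    omega (χ : G → ℂ) f = omega (ψ : T → ℂ) (fun t : T => f t) := by
  classical
  haveI : Fintype (ConjClasses G) := Fintype.ofFinite _
  have key : ∀ g, omega (χ : G → ℂ) (classInd g) =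
      omega (ψ : T → ℂ) (fun t : T => classInd g (t : G)) := fun g => by
    rw [omega_classInd, ← inducedCentralChar_eq_omega_classInd, hχ, centralChar_indFun]
  have e : (fun t : T => f t) =
      ∑ c : ConjClasses G, f (Quotient.out c) • fun t : T => classInd (Quotient.out c) (t : G) := by
    funext t
    have h := congrFun (eq_sum_classInd hf) (t : G)
    simpa [Finset.sum_apply] using h
  conv_lhs => rw [eq_sum_classInd hf]
  rw [e, omega_sum, omega_sum]
  exact Finset.sum_congr rfl fun c _ => by rw [omega_smul, omega_smul, key]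

/-- The central character of an induced class function. -/
theorem omega_of_indFun (T : Subgroup G) [Fintype T] (χ : IrrCharacter G) (f : T → ℂ) :
    omega (χ : G → ℂ) (indFun T f) =
      (T.index : ℂ) * (∑ t : T, f t * (χ : G → ℂ) t) / (χ : G → ℂ) 1 := by
  have hG : (Nat.card G : ℂ) ≠ 0 := Nat.cast_ne_zero.mpr Nat.card_pos.ne'
  have hT : (Nat.card T : ℂ) ≠ 0 := Nat.cast_ne_zero.mpr Nat.card_pos.ne'
  have hc : IsClassFunction G fun g => conj ((χ : G → ℂ) g) := fun a x => by
    simp only [irr_classFunction χ a x]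
  have h := Char.frobenius_reciprocity T f hc
  simp only [classInner, Complex.conj_conj] at h
  rw [omega]
  congr 1
  rw [← T.card_mul_index, Nat.cast_mul] at h
  rw [← T.card_mul_index, Nat.cast_mul] at hG
  have hi : (T.index : ℂ) ≠ 0 := (mul_ne_zero_iff.mp hG).2
  field_simp at h
  linear_combination h

section Over

variable {N : Subgroup G} [hN : N.Normal] [Fintype N] {T : Subgroup G} [Fintype T] (hNT : N ≤ T)

/-- Restriction from `T` to `N`. -/
def lowFun (ψ : T → ℂ) : N → ℂ := fun n => ψ ⟨(n : G), hNT n.2⟩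

/-- `ψ` lies over a member of `b`. -/
def IsOver (b : Set (IrrCharacter N)) (ψ : T → ℂ) : Prop :=
  ∃ θ ∈ b, classInner (lowFun hNT ψ) (θ : N → ℂ) ≠ 0

/-- The idempotent of `b` on `T`. -/
noncomputable def blockOnT (T : Subgroup G) (b : Set (IrrCharacter N)) : T → ℂ :=
  fun t => extendByZero N (blockCoeff b) (t : G)

theorem conjBy_lowFun {ψ : T → ℂ} (hψ : IsClassFunction T ψ) {g : G} (hg : g ∈ T) :
    Char.conjBy N (lowFun hNT ψ) g = lowFun hNT ψ := by
  funext n
  rw [Char.conjBy_apply]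
  exact hψ ⟨(n : G), hNT n.2⟩ ⟨g, hg⟩

variable [M.IsPrime] {b : Set (IrrCharacter N)} (hb : IsPBlock M b)
  (hT : ∀ g : G, g ∈ T ↔ ∀ θ ∈ b, ∀ θ' : IrrCharacter N,
    (∀ n : N, (θ' : N → ℂ) n = (θ : N → ℂ) ⟨g * n * g⁻¹, hN.conj_mem n n.2 g⟩) → θ' ∈ b)
include hb hT

theorem conjI_mem_of_mem {g : G} (hg : g ∈ T) {θ : IrrCharacter N} (hθ : θ ∈ b) :
    conjI g θ ∈ b :=
  (hT g).mp hg θ hθ _ fun n => by rw [coe_conjI, Char.conjBy_apply]

theorem mem_of_conjI_mem {g : G} {θ : IrrCharacter N} (hθ : θ ∈ b) (h : conjI g θ ∈ b) : g ∈ T :=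
  (hT g).mpr fun θ₂ hθ₂ θ' hθ' => by
    rw [show θ' = conjI g θ₂ from Subtype.ext (funext fun n => by
      rw [hθ', coe_conjI, Char.conjBy_apply])]
    exact IsPBlock.mem_of_sameBlock hb h (sameBlock_inflate _ _ (IsPBlock.sameBlock hb hθ hθ₂))

theorem conjI_mem_iff {g : G} (hg : g ∈ T) (θ : IrrCharacter N) : conjI g θ ∈ b ↔ θ ∈ b := by
  refine ⟨fun h => ?_, fun h => conjI_mem_of_mem hb hT hg h⟩
  have h1 := conjI_mem_of_mem hb hT (inv_mem hg) h
  rwa [← conjI_mul, mul_inv_cancel, conjI_one] at h1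

theorem blockCoeff_conj_of_mem {x : G} (hx : x ∈ T) (n : N) :
    blockCoeff b ⟨x * n * x⁻¹, hN.conj_mem n n.2 x⟩ = blockCoeff b n := by
  classical
  simp only [blockCoeff, sum_mem_eq_filter]
  congr 1
  refine Finset.sum_bij' (fun ψ _ => conjI x ψ) (fun ψ _ => conjI x⁻¹ ψ)
    (fun ψ h => by simpa [conjI_mem_iff hb hT hx] using h)
    (fun ψ h => by simpa [conjI_mem_iff hb hT (inv_mem hx)] using h)
    (fun ψ _ => by rw [← conjI_mul, mul_inv_cancel, conjI_one])
    (fun ψ _ => by rw [← conjI_mul, inv_mul_cancel, conjI_one]) fun ψ _ => ?_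
  rw [coe_conjI, Char.conjBy_apply_one]
  rfl

theorem isClassFunction_blockOnT : IsClassFunction T (blockOnT T b) := by
  intro g x
  simp only [blockOnT, Subgroup.coe_mul, Subgroup.coe_inv]
  by_cases hg : (g : G) ∈ N
  · rw [show (g : G) = ((⟨(g : G), hg⟩ : N) : G) from rfl,
      show (x : G) * ((⟨(g : G), hg⟩ : N) : G) * (x : G)⁻¹ =
        ((⟨(x : G) * (g : G) * (x : G)⁻¹, hN.conj_mem _ hg _⟩ : N) : G) from rfl,
      extendByZero_apply, extendByZero_apply]
    exact blockCoeff_conj_of_mem hb hT x.2 ⟨(g : G), hg⟩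
  · rw [extendByZero_eq_zero N _ hg, extendByZero_eq_zero N _ fun h => hg (by
      simpa [mul_assoc] using hN.conj_mem _ h (x : G)⁻¹)]

theorem memLocalRing_blockOnT (t : T) : MemLocalRing M (blockOnT T b t) := by
  simp only [blockOnT]
  by_cases hg : (t : G) ∈ N
  · rw [show (t : G) = ((⟨(t : G), hg⟩ : N) : G) from rfl, extendByZero_apply]
    exact IsPBlock.memLocalRing_blockCoeff hb _
  · rw [extendByZero_eq_zero N _ hg]; exact memLocalRing_zero

include hNT in
theorem omega_blockOnT_of_constituent {ψ : IrrCharacter T} {θ : IrrCharacter N}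
    (h : classInner (lowFun hNT (ψ : T → ℂ)) (θ : N → ℂ) ≠ 0) :
    omega (ψ : T → ℂ) (blockOnT T b) = indVec b θ := by
  classical
  let N' : Subgroup T := N.subgroupOf T
  let e : N' ≃* N := Subgroup.subgroupOfEquivOfLe hNT
  let θ' : IrrCharacter N' :=
    ⟨fun n => (θ : N → ℂ) (e n), Char.isIrrCharacter_comp_mulEquiv e θ.2⟩
  have hcon : classInner (fun n : N' => (ψ : T → ℂ) n) (θ' : N' → ℂ) ≠ 0 := fun h' => h (by
    rw [← Char.classInner_comp_mulEquiv e]; exact h')
  rw [omega_eq_of_constituent hcon (isClassFunction_blockOnT hb hT) fun t ht =>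
    extendByZero_eq_zero N _ fun hc => ht (Subgroup.mem_subgroupOf.mpr hc), ← omega_blockCoeff b θ]
  simp only [omega]
  congr 1
  · refine Fintype.sum_equiv e.toEquiv _ _ fun n => ?_
    rw [show blockOnT T b (n : T) = blockCoeff b (e n) from extendByZero_apply N _ (e n)]
    rfl

/-- A character over `b` has all its constituents in `b`. -/
theorem mem_of_isOver {ψ : IrrCharacter T} (h : IsOver hNT b (ψ : T → ℂ)) {θ : IrrCharacter N}
    (hθ : classInner (lowFun hNT (ψ : T → ℂ)) (θ : N → ℂ) ≠ 0) : θ ∈ b := by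
  obtain ⟨θ₀, hθ₀, h₀⟩ := h
  by_contra hne
  have e1 := omega_blockOnT_of_constituent hNT hb hT h₀
  rw [omega_blockOnT_of_constituent hNT hb hT hθ, indVec_of_notMem hne, indVec_of_mem hθ₀] at e1
  exact zero_ne_one e1

theorem omega_blockOnT (ψ : IrrCharacter T) :
    omega (ψ : T → ℂ) (blockOnT T b) = open Classical in
      if IsOver hNT b (ψ : T → ℂ) then 1 else 0 := by
  classical
  have hcl : IsCharacter N (lowFun hNT (ψ : T → ℂ)) :=
    Char.isCharacter_comp (Subgroup.inclusion hNT) (Char.isCharacter_of_isIrr ψ.2)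
  obtain ⟨θ, hθ⟩ : ∃ θ : IrrCharacter N, classInner (lowFun hNT (ψ : T → ℂ)) (θ : N → ℂ) ≠ 0 := by
    by_contra hno
    push Not at hno
    have h := congrFun (Char.classFunction_expansion
      (Char.isClassFunction_of_isCharacter hcl)) 1
    simp only [hno, zero_smul, Finset.sum_const_zero, Pi.zero_apply] at h
    exact Char.irr_degree_ne_zero ψ.2 h
  rw [omega_blockOnT_of_constituent hNT hb hT hθ]
  split_ifs with h
  · exact indVec_of_mem (mem_of_isOver hNT hb hT h hθ)
  · exact indVec_of_notMem fun hm => h ⟨θ, hm, hθ⟩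

/-- Characters of a block of `T` lie all over `b` or none does. -/
theorem isOver_of_sameBlock {ψ ψ' : IrrCharacter T} (h : IsOver hNT b (ψ : T → ℂ))
    (hs : SameBlock M (ψ : T → ℂ) (ψ' : T → ℂ)) : IsOver hNT b (ψ' : T → ℂ) := by
  classical
  by_contra hne
  have h1 := sub_mem_localIdeal_of_sameBlock hs (isClassFunction_blockOnT hb hT)
    (memLocalRing_blockOnT hb hT)
  rw [omega_blockOnT hNT hb hT, omega_blockOnT hNT hb hT, if_pos h, if_neg hne, sub_zero] at h1
  exact not_memLocalIdeal_one h1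

/-- Below an induced character, the members of `b` occur as below the inducing one. -/
theorem classInner_indFun_low {ψ : IrrCharacter T} (h : IsOver hNT b (ψ : T → ℂ))
    {θ : IrrCharacter N} (hθ : θ ∈ b) :
    classInner (fun n : N => indFun T (ψ : T → ℂ) n) (θ : N → ℂ) =
      classInner (lowFun hNT (ψ : T → ℂ)) (θ : N → ℂ) := by
  classical
  set a := lowFun hNT (ψ : T → ℂ) with ha
  have hval : ∀ n : N, indFun T (ψ : T → ℂ) (n : G) =
      (Nat.card T : ℂ)⁻¹ * ∑ x : G, Char.conjBy N a x n := fun n => by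
    simp only [indFun]
    congr 1
    refine Fintype.sum_equiv (Equiv.inv G) _ _ fun x => ?_
    rw [Equiv.inv_apply, Char.conjBy_apply, ha, lowFun,
      show x⁻¹ * (n : G) * x = ((⟨x⁻¹ * (n : G) * x, hNT (by
        simpa using hN.conj_mem _ n.2 x⁻¹)⟩ : T) : G) from rfl, extendByZero_apply]
    exact congrArg _ (Subtype.ext (by simp))
  have hsum : classInner (fun n : N => indFun T (ψ : T → ℂ) n) (θ : N → ℂ) =
      (Nat.card T : ℂ)⁻¹ * ∑ x : G, classInner (Char.conjBy N a x) (θ : N → ℂ) := by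
    simp only [classInner, hval, Finset.mul_sum, Finset.sum_mul]
    rw [Finset.sum_comm]
    exact Finset.sum_congr rfl fun x _ => Finset.sum_congr rfl fun n _ => by ring
  have hterm : ∀ x : G, classInner (Char.conjBy N a x) (θ : N → ℂ) =
      if x ∈ T then classInner a (θ : N → ℂ) else 0 := fun x => by
    have e : classInner (Char.conjBy N a x) (θ : N → ℂ) =
        classInner a (Char.conjBy N (θ : N → ℂ) x⁻¹) := by
      conv_lhs => rw [show (θ : N → ℂ) = Char.conjBy N (Char.conjBy N (θ : N → ℂ) x⁻¹) x by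
        rw [← Char.conjBy_mul, inv_mul_cancel, Char.conjBy_one]]
      exact Char.classInner_conjBy N _ _ x
    split_ifs with hx
    · rw [ha, conjBy_lowFun hNT (irr_classFunction ψ) hx]
    · rw [e, ← coe_conjI]
      by_contra hne
      exact hx (inv_inv x ▸ inv_mem (mem_of_conjI_mem hb hT hθ (mem_of_isOver hNT hb hT h hne)))
  rw [hsum, Finset.sum_congr rfl fun x _ => hterm x, ← Finset.sum_filter, Finset.sum_const,
    nsmul_eq_mul, ← Fintype.card_subtype, ← Nat.card_eq_fintype_card,
    inv_mul_cancel_left₀ (Nat.cast_ne_zero.mpr Nat.card_pos.ne')]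

/-- The only constituent over `b` of an induced character restricted to `T` is the inducing one. -/
theorem classInner_indFun_res {ψ ξ : IrrCharacter T} (hψ : IsOver hNT b (ψ : T → ℂ))
    (hξ : IsOver hNT b (ξ : T → ℂ)) :
    classInner (fun t : T => indFun T (ψ : T → ℂ) t) (ξ : T → ℂ) = open Classical in
      if ψ = ξ then 1 else 0 := by
  classical
  set r : T → ℂ := fun t => indFun T (ψ : T → ℂ) t with hr
  have hrc : IsCharacter T r := Char.isCharacter_restrict T
    (Char.isCharacter_indFun T (Char.isCharacter_of_isIrr ψ.2))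
  obtain ⟨m, hm⟩ := Char.exists_multiplicities hrc
  have hcoef : ∀ ζ : IrrCharacter T, classInner r (ζ : T → ℂ) = (m ζ : ℂ) := fun ζ => by
    rw [hm, Char.classInner_sum_smul_irr]
  have hlown : ∀ (ζ : IrrCharacter T) (θ : IrrCharacter N),
      ∃ k : ℕ, classInner (lowFun hNT (ζ : T → ℂ)) (θ : N → ℂ) = k := fun ζ θ =>
    Char.exists_nat_classInner (Char.isCharacter_comp (Subgroup.inclusion hNT)
      (Char.isCharacter_of_isIrr ζ.2)) (Char.isCharacter_of_isIrr θ.2)
  choose k hk using hlown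
  have hkey : ∀ θ ∈ b, ∑ ζ, m ζ * k ζ θ = k ψ θ := fun θ hθ => by
    have h := classInner_indFun_low hNT hb hT hψ hθ
    rw [show (fun n : N => indFun T (ψ : T → ℂ) n) =
      ∑ ζ : IrrCharacter T, (m ζ : ℂ) • lowFun hNT (ζ : T → ℂ) from funext fun n => by
        have h' := congrFun hm ⟨(n : G), hNT n.2⟩
        simp only [hr, Finset.sum_apply, Pi.smul_apply] at h' ⊢
        exact h', Char.classInner_sum_left] at h
    simp only [Char.classInner_smul_left, hk] at h
    exact_mod_cast h
  have hmψ : 1 ≤ m ψ := by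
    rw [Nat.one_le_iff_ne_zero]
    intro h0
    have h1 := hcoef ψ
    rw [h0, Nat.cast_zero, hr, ← Char.frobenius_reciprocity' T (ψ : T → ℂ)
      (Char.isClassFunction_indFun T _)] at h1
    have h2 := congrFun (Char.eq_zero_of_classInner_self h1) 1
    rw [Char.indFun_one, Pi.zero_apply] at h2
    exact mul_ne_zero (Nat.cast_ne_zero.mpr Subgroup.index_ne_zero_of_finite)
      (Char.irr_degree_ne_zero ψ.2) h2
  obtain ⟨θ, hθ, hθξ⟩ := hξ
  rw [hk, Nat.cast_ne_zero] at hθξ
  rw [hcoef]
  split_ifs with heq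
  · subst heq
    norm_cast
    have h := hkey θ hθ
    have h2 : m ψ * k ψ θ ≤ ∑ ζ, m ζ * k ζ θ :=
      Finset.single_le_sum (f := fun ζ => m ζ * k ζ θ) (fun ζ _ => Nat.zero_le _)
        (Finset.mem_univ ψ)
    rw [h] at h2
    exact le_antisymm (Nat.le_of_mul_le_mul_right (h2.trans_eq (one_mul _).symm)
      (Nat.pos_of_ne_zero hθξ)) hmψ
  · norm_cast
    by_contra hne
    have h := hkey θ hθ
    have h2 : m ψ * k ψ θ + m ξ * k ξ θ ≤ ∑ ζ, m ζ * k ζ θ := by
      rw [← Finset.sum_pair heq (f := fun ζ => m ζ * k ζ θ)]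
      exact Finset.sum_le_sum_of_subset (Finset.subset_univ _)
    have h3 : k ψ θ ≤ m ψ * k ψ θ := Nat.le_mul_of_pos_left _ hmψ
    have h4 : 0 < m ξ * k ξ θ := Nat.mul_pos (Nat.pos_of_ne_zero hne) (Nat.pos_of_ne_zero hθξ)
    omega

/-- Induction preserves irreducibility over `b`. -/
theorem isIrr_indFun {ψ : IrrCharacter T} (hψ : IsOver hNT b (ψ : T → ℂ)) :
    IsIrrCharacter G (indFun T (ψ : T → ℂ)) := by
  refine Char.isIrr_of_norm_one (Char.isCharacter_indFun T (Char.isCharacter_of_isIrr ψ.2)) ?_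
  rw [Char.frobenius_reciprocity' T (ψ : T → ℂ) (Char.isClassFunction_indFun T _),
    classInner_indFun_res hNT hb hT hψ hψ, if_pos rfl]

/-- Every character of `G` over `b` is induced from one of `T` over `b`. -/
theorem exists_indFun_eq {χ : IrrCharacter G} {θ : IrrCharacter N} (hθ : θ ∈ b)
    (h : classInner (fun n : N => (χ : G → ℂ) n) (θ : N → ℂ) ≠ 0) :
    ∃ ψ : IrrCharacter T, IsOver hNT b (ψ : T → ℂ) ∧ (χ : G → ℂ) = indFun T (ψ : T → ℂ) := by
  classical
  have hr : IsClassFunction T fun t : T => (χ : G → ℂ) t := fun a x =>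
    irr_classFunction χ (a : G) (x : G)
  have hexp := Char.classFunction_expansion hr
  rw [show (fun n : N => (χ : G → ℂ) n) = ∑ ξ : IrrCharacter T,
      classInner (fun t : T => (χ : G → ℂ) t) (ξ : T → ℂ) • lowFun hNT (ξ : T → ℂ) from
    funext fun n => by
      have h' := congrFun hexp ⟨(n : G), hNT n.2⟩
      simp only [Finset.sum_apply, Pi.smul_apply] at h' ⊢
      exact h', Char.classInner_sum_left] at h
  obtain ⟨ψ, -, hψ⟩ := Finset.exists_ne_zero_of_sum_ne_zero h
  rw [Char.classInner_smul_left] at hψ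
  have hov : IsOver hNT b (ψ : T → ℂ) := ⟨θ, hθ, right_ne_zero_of_mul hψ⟩
  refine ⟨ψ, hov, ?_⟩
  have h2 := left_ne_zero_of_mul hψ
  rw [← Char.frobenius_reciprocity' T (ψ : T → ℂ) (irr_classFunction χ),
    Char.classInner_irr χ.2 (isIrr_indFun hNT hb hT hov)] at h2
  by_contra hne
  rw [if_neg hne] at h2
  exact h2 rfl

/-- Induced characters in one block come from characters in one block. -/
theorem sameBlock_of_indFun {ψ ψ' : IrrCharacter T} (h : IsOver hNT b (ψ : T → ℂ))
    (h' : IsOver hNT b (ψ' : T → ℂ))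
    (hs : SameBlock M (indFun T (ψ : T → ℂ)) (indFun T (ψ' : T → ℂ))) :
    SameBlock M (ψ : T → ℂ) (ψ' : T → ℂ) := by
  classical
  intro g
  set f : T → ℂ := conv (classInd g) (blockOnT T b) with hf
  have hfc : IsClassFunction T f :=
    isClassFunction_conv (isClassFunction_classInd g) (isClassFunction_blockOnT hb hT)
  have hfl : ∀ t, MemLocalRing M (f t) := fun t => memLocalRing_sum _ _ fun y _ =>
    memLocalRing_mul (memLocalRing_classInd g y) (memLocalRing_blockOnT hb hT _)
  have key : ∀ φ : IrrCharacter T, IsOver hNT b (φ : T → ℂ) →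
      ∀ χ : IrrCharacter G, (χ : G → ℂ) = indFun T (φ : T → ℂ) →
        omega (χ : G → ℂ) (indFun T f) = centralChar (φ : T → ℂ) g := by
    intro φ hφ χ hχ
    have hφ1 : (φ : T → ℂ) 1 ≠ 0 := Char.irr_degree_ne_zero φ.2
    have hi : (T.index : ℂ) ≠ 0 := Nat.cast_ne_zero.mpr Subgroup.index_ne_zero_of_finite
    have hexp := Char.classFunction_expansion (f := fun t : T => (χ : G → ℂ) t)
      fun a x => irr_classFunction χ (a : G) (x : G)
    have hs : ∑ t : T, f t * (χ : G → ℂ) t = (φ : T → ℂ) 1 * centralChar (φ : T → ℂ) g := by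
      calc ∑ t : T, f t * (χ : G → ℂ) t
          = ∑ ξ : IrrCharacter T, classInner (fun t : T => (χ : G → ℂ) t) (ξ : T → ℂ) *
              ((ξ : T → ℂ) 1 * omega (ξ : T → ℂ) f) := by
            rw [Finset.sum_congr rfl fun t _ => by rw [congrFun hexp t, Finset.sum_apply,
              Finset.mul_sum], Finset.sum_comm]
            refine Finset.sum_congr rfl fun ξ _ => ?_
            rw [omega, mul_div_cancel₀ _ (Char.irr_degree_ne_zero ξ.2), Finset.mul_sum]
            exact Finset.sum_congr rfl fun t _ => by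
              rw [Pi.smul_apply, smul_eq_mul]; ring
        _ = (φ : T → ℂ) 1 * centralChar (φ : T → ℂ) g := by
            rw [Finset.sum_eq_single φ, hf, omega_conv φ (isClassFunction_classInd g)
              (isClassFunction_blockOnT hb hT), omega_classInd, omega_blockOnT hNT hb hT, if_pos hφ,
              mul_one, hχ, classInner_indFun_res hNT hb hT hφ hφ, if_pos rfl, one_mul]
            · intro ξ _ hne
              rw [hf, omega_conv ξ (isClassFunction_classInd g) (isClassFunction_blockOnT hb hT),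
                omega_blockOnT hNT hb hT]
              by_cases hξ : IsOver hNT b (ξ : T → ℂ)
              · rw [hχ, classInner_indFun_res hNT hb hT hφ hξ, if_neg (Ne.symm hne), zero_mul]
              · rw [if_neg hξ, mul_zero, mul_zero, mul_zero]
            · exact fun h => absurd (Finset.mem_univ _) h
    rw [omega_of_indFun, hs, hχ, Char.indFun_one, mul_div_mul_left _ _ hi,
      mul_div_cancel_left₀ _ hφ1]
  have h1 := sub_mem_localIdeal_of_sameBlock (χ := ⟨_, isIrr_indFun hNT hb hT h⟩)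
    (ψ := ⟨_, isIrr_indFun hNT hb hT h'⟩) hs (Char.isClassFunction_indFun T f)
    (memLocalRing_indFun T hfc hfl)
  rwa [key ψ h ⟨_, isIrr_indFun hNT hb hT h⟩ rfl, key ψ' h' ⟨_, isIrr_indFun hNT hb hT h'⟩ rfl] at h1

/-- The block induced by a block of `T` over `b` consists of the induced characters. -/
theorem mem_blockOf_indFun_iff (hM : IsPModular p M) {ψ₀ : IrrCharacter T}
    (h₀ : IsOver hNT b (ψ₀ : T → ℂ)) (χ : IrrCharacter G) :
    χ ∈ blockOf M (indFun T (ψ₀ : T → ℂ)) ↔
      ∃ ψ ∈ blockOf M (ψ₀ : T → ℂ), (χ : G → ℂ) = indFun T (ψ : T → ℂ) := by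
  classical
  let χ₀ : IrrCharacter G := ⟨_, isIrr_indFun hNT hb hT h₀⟩
  constructor
  · intro hχ
    obtain ⟨θ₀, hθ₀, hc₀⟩ := h₀
    have h₀' : IsOver hNT b (ψ₀ : T → ℂ) := ⟨θ₀, hθ₀, hc₀⟩
    have hconχ₀ : classInner (fun n : N => (χ₀ : G → ℂ) n) (θ₀ : N → ℂ) ≠ 0 := by
      rw [show (fun n : N => (χ₀ : G → ℂ) n) = fun n : N => indFun T (ψ₀ : T → ℂ) n from rfl,
        classInner_indFun_low hNT hb hT h₀' hθ₀]
      exact hc₀
    have hcong : ∀ v : G → ℂ, IsClassFunction G v → (∀ g, MemLocalRing M (v g)) →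
        (∀ g, g ∉ N → v g = 0) →
        MemLocalIdeal M (omega (χ : G → ℂ) v - omega (θ₀ : N → ℂ) (fun n : N => v n)) :=
      fun v hv hl hs => omega_congr_of_covering (isPBlock_blockOf χ₀) hb (mem_blockOf_self χ₀) hθ₀
        hconχ₀ hχ hθ₀ hv hl hs
    obtain ⟨θ₁, hθ₁⟩ := Char.exists_constituent N (Char.isCharacter_of_isIrr χ.2)
      (Char.irr_degree_ne_zero χ.2)
    obtain ⟨g, hg⟩ := exists_conjI_mem_of_congr hb hθ₀ hcong hθ₁
    have hcon : classInner (fun n : N => (χ : G → ℂ) n) (conjI g θ₁ : N → ℂ) ≠ 0 := by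
      rw [coe_conjI, ← Char.conjBy_restrict N (irr_classFunction χ) g, Char.classInner_conjBy]
      exact hθ₁
    obtain ⟨ψ, hψ, e⟩ := exists_indFun_eq hNT hb hT hg hcon
    refine ⟨ψ, sameBlock_of_indFun hNT hb hT h₀' hψ ?_, e⟩
    rw [← e]
    exact hχ
  · rintro ⟨ψ, hψ, e⟩
    show SameBlock M (indFun T (ψ₀ : T → ℂ)) (χ : G → ℂ)
    have h1 := (isInducedBlock_of_indFun hM T ψ₀ (isIrr_indFun hNT hb hT h₀)).2.2 ψ hψ χ₀
      (mem_blockOf_self χ₀)
    intro g
    have h2 := h1 g
    rw [← centralChar_indFun, ← e] at h2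
    exact memLocalIdeal_sub_comm h2

end Over

end CfsgLib.Blocks
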