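import Cfsg.Agent.Lib.Blocks.FongReynolds

/-!
# Defect groups and heights in the Fong–Reynolds correspondence

Stated for a block of a subgroup all of whose members induce irreducibly onto the members of a
block of the group.
-/

set_option autoImplicit false
set_option linter.unusedSectionVars false

namespace CfsgLib.Blocks

open Cfsg
open scoped ComplexConjugate CfsgLib.Char

variable {p : ℕ} {M : Ideal AlgInt} {G : Type*} [Group G] [Fintype G] {T : Subgroup G} [Fintype T]
  {B' : Set (IrrCharacter T)} {B : Set (IrrCharacter G)} (hM : IsPModular p M) (hB' : IsPBlock M B')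
  (hB : IsPBlock M B)
  (hmem : ∀ χ : IrrCharacter G, χ ∈ B ↔ ∃ ψ ∈ B', (χ : G → ℂ) = indFun T (ψ : T → ℂ))
  (hirr : ∀ ψ ∈ B', IsIrrCharacter G (indFun T (ψ : T → ℂ)))
include hM hB' hmem hirr

theorem factorization_charDegree_indFun (ψ : IrrCharacter T) :
    (charDegree (indFun T (ψ : T → ℂ))).factorization p =
      T.index.factorization p + (charDegree (ψ : T → ℂ)).factorization p := by
  have h : charDegree (indFun T (ψ : T → ℂ)) = T.index * charDegree (ψ : T → ℂ) := by
    conv_lhs => rw [charDegree, Char.indFun_one, (irr_degree_eq ψ).1, ← Nat.cast_mul,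
      Complex.natCast_re, Nat.floor_natCast]
  rw [h, Nat.factorization_mul Subgroup.index_ne_zero_of_finite (irr_degree_eq ψ).2.ne']
  rfl

theorem sInf_indFun_block :
    sInf ((fun χ : IrrCharacter G => (charDegree (χ : G → ℂ)).factorization p) '' B) =
      T.index.factorization p +
        sInf ((fun ψ : IrrCharacter T => (charDegree (ψ : T → ℂ)).factorization p) '' B') := by
  have := isPrime_of_isPModular hM
  obtain ⟨ψ₀, hψ₀, e₀⟩ := Nat.sInf_mem
    ((IsPBlock.nonempty hB').image fun ψ : IrrCharacter T => (charDegree (ψ : T → ℂ)).factorization p)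
  simp only at e₀
  refine le_antisymm (Nat.sInf_le ⟨⟨_, hirr ψ₀ hψ₀⟩, (hmem _).mpr ⟨ψ₀, hψ₀, rfl⟩, ?_⟩)
    (le_csInf ⟨_, ⟨_, hirr ψ₀ hψ₀⟩, (hmem _).mpr ⟨ψ₀, hψ₀, rfl⟩, rfl⟩ ?_)
  · simp only [factorization_charDegree_indFun hM hB' hmem hirr, e₀]
  · rintro _ ⟨χ, hχ, rfl⟩
    obtain ⟨ψ, hψ, e⟩ := (hmem χ).mp hχ
    simp only [e, factorization_charDegree_indFun hM hB' hmem hirr]
    exact Nat.add_le_add_left (Nat.sInf_le (Set.mem_image_of_mem
      (fun ψ : IrrCharacter T => (charDegree (ψ : T → ℂ)).factorization p) hψ)) _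

theorem blockDefect_indFun_block : blockDefect p B = blockDefect p B' := by
  rw [blockDefect, blockDefect, sInf_indFun_block hM hB' hmem hirr, ← T.card_mul_index,
    Nat.factorization_mul Nat.card_pos.ne' Subgroup.index_ne_zero_of_finite, Finsupp.add_apply]
  omega

theorem blockHeight_indFun_block (ψ : IrrCharacter T) :
    blockHeight p B (indFun T (ψ : T → ℂ)) = blockHeight p B' (ψ : T → ℂ) := by
  rw [blockHeight, blockHeight, sInf_indFun_block hM hB' hmem hirr,
    factorization_charDegree_indFun hM hB' hmem hirr]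
  omega

include hB in
theorem isDefectGroup_map_indFun_block {D : Subgroup T} (hD : IsDefectGroup p M B' D) :
    IsDefectGroup p M B (D.map T.subtype) := by
  classical
  have := isPrime_of_isPModular hM
  haveI := Fact.mk hM.1
  obtain ⟨g, hg, P, hP⟩ := hD
  have hD : IsDefectGroup p M B' D := ⟨g, hg, P, hP⟩
  set D' := D.map T.subtype with hD'
  have hDp : IsPGroup p D' := (IsDefectGroup.isPGroup hM hD).map _
  have hgC : (g : G) ∈ Subgroup.centralizer (D' : Set G) := by
    refine Subgroup.mem_centralizer_iff.mpr fun y hy => ?_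
    obtain ⟨d, hd, rfl⟩ := hy
    rw [SetLike.mem_coe, hP] at hd
    obtain ⟨d', -, rfl⟩ := hd
    exact congrArg Subtype.val (Subgroup.mem_centralizer_singleton_iff.mp d'.2)
  set e' := blockCoeff B' with he'
  have hconv : conv e' (fun t : T => blockCoeff B (t : G)) = e' := by
    have hc : IsClassFunction T fun t : T => blockCoeff B (t : G) := fun a x =>
      isClassFunction_blockCoeff B (a : G) (x : G)
    refine eq_of_omega_eq (isClassFunction_conv (isClassFunction_blockCoeff B') hc)
      (isClassFunction_blockCoeff B') fun ξ => ?_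
    rw [omega_conv ξ (isClassFunction_blockCoeff B') hc, omega_blockCoeff]
    by_cases hξ : ξ ∈ B'
    · rw [← omega_indFun T ξ (χ := ⟨_, hirr ξ hξ⟩) rfl (isClassFunction_blockCoeff B),
        omega_blockCoeff, indVec_of_mem ((hmem ⟨_, hirr ξ hξ⟩).mpr ⟨ξ, hξ, rfl⟩), mul_one]
    · rw [indVec_of_notMem hξ, zero_mul]
  have hsupp : ∃ c ∈ Subgroup.centralizer (D' : Set G), ¬ MemLocalIdeal M (blockCoeff B c) := by
    by_contra hno
    push Not at hno
    apply hg.2.1
    have hext : ∀ y : G, MemLocalRing M (extendByZero T e' y) := fun y => by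
      by_cases hy : y ∈ T
      · rw [show y = ((⟨y, hy⟩ : T) : G) from rfl, extendByZero_apply]
        exact IsPBlock.memLocalRing_blockCoeff hB' _
      · rw [extendByZero_eq_zero T e' hy]; exact memLocalRing_zero
    have h := restrict_conv_congr hM hDp hext (IsPBlock.memLocalRing_blockCoeff hB)
      (fun x hx y => by
        have hxT : x ∈ T := Subgroup.map_subtype_le D hx
        by_cases hy : y ∈ T
        · rw [show y = ((⟨y, hy⟩ : T) : G) from rfl,
            show x * ((⟨y, hy⟩ : T) : G) * x⁻¹ =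
              ((⟨x * y * x⁻¹, T.mul_mem (T.mul_mem hxT hy) (T.inv_mem hxT)⟩ : T) : G) from rfl,
            extendByZero_apply, extendByZero_apply]
          exact isClassFunction_blockCoeff B' ⟨y, hy⟩ ⟨x, hxT⟩
        · rw [extendByZero_eq_zero T e' hy, extendByZero_eq_zero T e' fun h' => hy (by
            simpa [mul_assoc] using T.mul_mem (T.mul_mem (T.inv_mem hxT) h') hxT)])
      (fun x _ y => isClassFunction_blockCoeff B y x) ⟨(g : G), hgC⟩
    have e1 : conv (extendByZero T e') (blockCoeff B) (g : G) = e' g := by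
      rw [conv, sum_extendByZero_mul]
      exact congrFun hconv g
    rw [e1] at h
    refine (memLocalIdeal_iff_of_sub h).mpr ?_
    exact memLocalIdeal_sum _ _ fun y _ => memLocalIdeal_mul_left (hext _)
      (hno _ (y⁻¹ * (⟨(g : G), hgC⟩ : Subgroup.centralizer (D' : Set G))).2)
  obtain ⟨c, hc, hcu⟩ := hsupp
  obtain ⟨D₀, hD₀⟩ := exists_isDefectGroup hM hB
  obtain ⟨x, hx⟩ := IsDefectGroup.exists_le_conj_of_support hM hB hD₀ hcu hDp
    fun y hy => Subgroup.mem_centralizer_singleton_iff.mpr (Subgroup.mem_centralizer_iff.mp hc y hy)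
  have e : D' = D₀.map (MulAut.conj x).toMonoidHom := by
    refine Subgroup.eq_of_le_of_card_ge hx (le_of_eq ?_)
    rw [card_map_conj, hD', Subgroup.card_map_of_injective T.subtype_injective,
      IsDefectGroup.card_eq hM hB hD₀, IsDefectGroup.card_eq hM hB' hD,
      blockDefect_indFun_block hM hB' hmem hirr]
  rw [e]
  exact IsDefectGroup.conj hM hD₀ x

end CfsgLib.Blocks
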