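import Cfsg.Agent.Lib.Blocks.CoreKernel
import Cfsg.Agent.Lib.Blocks.BlockFusion

/-!
# The block of a subgroup below a Brauer pair

For a subgroup `K` containing `D` and `C_G(D)` a pair `(D, e)` singles out one block of `K`; when
`(D, e)` has maximal order that block has defect group `D` and `K` fuses the maximal pairs above it.
-/

set_option autoImplicit false
set_option linter.unusedSectionVars false

namespace CfsgLib.Blocks

open Cfsg
open scoped ComplexConjugate CfsgLib.Char

variable {p : ℕ} {M : Ideal AlgInt} [M.IsPrime] {G : Type*} [Group G] [Fintype G]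

/-- The block `b` of `K` lies under the pair `(D, e)`. -/
def IsLocalBlock (M : Ideal AlgInt) [M.IsPrime] (K D : Subgroup G)
    (e : Set (IrrCharacter (Subgroup.centralizer (D : Set G)))) (b : Set (IrrCharacter K)) : Prop :=
  IsPBlock M b ∧ ∀ ξ ∈ e, res M (brauerOmega D (subgroupBlockCoeff K b)
    (ξ : Subgroup.centralizer (D : Set G) → ℂ)) = 1

variable {K D : Subgroup G}

theorem isStableFun_subgroupBlockCoeff_of_le (hDK : D ≤ K)
    (hCK : Subgroup.centralizer (D : Set G) ≤ K) {b : Set (IrrCharacter K)} (hb : IsPBlock M b) :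
    IsStableFun M D (subgroupBlockCoeff K b) := by
  classical
  have : Fintype K := Fintype.ofFinite K
  have key : ∀ x ∈ K, ∀ g, subgroupBlockCoeff K b (x * g * x⁻¹) = subgroupBlockCoeff K b g := by
    intro x hx g
    conv_lhs => rw [← conjSet_of_mem hx b]
    exact subgroupBlockCoeff_conjSet (conj_mem_iff_of_mem hx) b g
  refine ⟨fun g => ?_, fun x hx => key x (hDK hx), fun x hx => key x (hCK hx)⟩
  rw [subgroupBlockCoeff_eq]
  by_cases hg : g ∈ K
  · exact (extendByZero_apply _ (blockCoeff b) ⟨g, hg⟩).symm ▸ IsPBlock.memLocalRing_blockCoeff hb _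
  · exact (extendByZero_eq_zero _ (blockCoeff b) hg).symm ▸ memLocalRing_zero

theorem existsUnique_localBlock (hM : IsPModular p M) (hDK : D ≤ K)
    (hCK : Subgroup.centralizer (D : Set G) ≤ K)
    {e : Set (IrrCharacter (Subgroup.centralizer (D : Set G)))} (he : IsBrauerPair p M D e) :
    ∃! b : Set (IrrCharacter K), IsLocalBlock M K D e b := by
  classical
  have : Fintype K := Fintype.ofFinite K
  obtain ⟨ξ, hξ⟩ := IsPBlock.nonempty he.2
  have hst : ∀ f ∈ blocks M K, IsStableFun M D (subgroupBlockCoeff K f) := fun f hf =>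
    isStableFun_subgroupBlockCoeff_of_le hDK hCK (mem_blocks.mp hf)
  obtain ⟨f, ⟨hf, hf1⟩, huniq⟩ := existsUnique_eq_one (blocks M K)
    (fun f => res M (brauerOmega D (subgroupBlockCoeff K f)
      (ξ : Subgroup.centralizer (D : Set G) → ℂ)))
    (fun f hf => res_brauerOmega_idem hM he.1 (hst f hf) (conv_subgroupBlockCoeff_self K f) ξ)
    (fun f hf f' hf' hne => by
      rw [← res_brauerOmega_conv hM he.1 (hst f hf) (hst f' hf') ξ,
        conv_subgroupBlockCoeff_ne (mem_blocks.mp hf) (mem_blocks.mp hf') hne,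
        res_brauerOmega_zero])
    (by
      rw [← res_brauerOmega_sum (blocks M K) hst ξ, res_brauerOmega_congr (IsStableFun.sum _ hst)
        (isStableFun_deltaOne D) ξ fun c hc => ?_, res_brauerOmega_deltaOne]
      obtain ⟨k, rfl⟩ : ∃ k : K, (k : G) = c := ⟨⟨c, hCK hc⟩, rfl⟩
      rw [show ∑ b ∈ blocks M K, subgroupBlockCoeff K b (k : G) = deltaOne (k : G) from ?_]
      · exact memLocalIdeal_sub_self _
      simp only [subgroupBlockCoeff_eq, extendByZero_apply]
      rw [sum_blockCoeff_blocks, deltaOne_apply, deltaOne_apply]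
      simp)
  refine ⟨f, ⟨mem_blocks.mp hf, fun η hη => ?_⟩, fun f' h' => huniq f' ⟨mem_blocks.mpr h'.1, h'.2 ξ hξ⟩⟩
  rw [← res_brauerOmega_sameBlock (hst f hf) (IsPBlock.sameBlock he.2 hξ hη), hf1]

theorem isLocalBlock_conj {x : G} {K' D' : Subgroup G} (hK : ∀ g, x * g * x⁻¹ ∈ K' ↔ g ∈ K)
    (hD : D' = D.map (MulAut.conj x).toMonoidHom)
    {e : Set (IrrCharacter (Subgroup.centralizer (D : Set G)))} {b : Set (IrrCharacter K)}
    (h : IsLocalBlock M K D e b) :
    IsLocalBlock M K' D'
      (conjSet x (Subgroup.centralizer (D : Set G)) (Subgroup.centralizer (D' : Set G)) e)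
      (conjSet x K K' b) := by
  classical
  have hC := centralizer_conj_iff hD
  refine ⟨isPBlock_conjSet hK h.1, ?_⟩
  rw [conjSet_eq_image hC]
  rintro _ ⟨ξ, hξ, rfl⟩
  rw [brauerOmega_conj hC (β := subgroupBlockCoeff K b) (subgroupBlockCoeff_conjSet hK b) ξ]
  exact h.2 ξ hξ

variable {A : Subgroup K}

theorem exists_upBlock_eq (hA : Subgroup.centralizer ((A.map K.subtype : Subgroup G) : Set G) ≤ K)
    {e : Set (IrrCharacter (Subgroup.centralizer ((A.map K.subtype : Subgroup G) : Set G)))}
    (he : IsPBlock M e) :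
    ∃ f : Set (IrrCharacter (Subgroup.centralizer (A : Set K))), IsPBlock M f ∧ upBlock A hA f = e := by
  classical
  refine ⟨irrEquiv (centEquiv A hA).symm '' e, isPBlock_image_irrEquiv _ he, ?_⟩
  rw [upBlock, Set.image_image]
  refine Eq.trans ?_ (Set.image_id e)
  congr 1

theorem isBrauerPairOf_iff_isLocalBlock (hA : Subgroup.centralizer ((A.map K.subtype : Subgroup G) : Set G) ≤ K)
    (hAp : IsPGroup p A) {f : Set (IrrCharacter (Subgroup.centralizer (A : Set K)))} (hf : IsPBlock M f)
    {b : Set (IrrCharacter K)} :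
    IsBrauerPairOf p M b A f ↔ IsLocalBlock M K (A.map K.subtype) (upBlock A hA f) b := by
  classical
  have : Fintype K := Fintype.ofFinite K
  have hval : ∀ ξ : IrrCharacter (Subgroup.centralizer (A : Set K)),
      brauerOmega (A.map K.subtype) (subgroupBlockCoeff K b)
        (irrEquiv (centEquiv A hA) ξ :
          Subgroup.centralizer ((A.map K.subtype : Subgroup G) : Set G) → ℂ) =
      brauerOmega A (blockCoeff b) (ξ : Subgroup.centralizer (A : Set K) → ℂ) := fun ξ =>
    brauerOmega_upBlock hA (fun z => by rw [subgroupBlockCoeff_eq, extendByZero_apply]) ξ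
  constructor
  · intro h
    refine ⟨h.2.1, ?_⟩
    rintro _ ⟨ξ, hξ, rfl⟩
    rw [hval]
    exact IsBrauerPairOf.res_eq_one h hξ
  · intro h
    obtain ⟨ξ, hξ⟩ := IsPBlock.nonempty hf
    refine isBrauerPairOf_of_res h.1 ⟨hAp, hf⟩ hξ ?_
    rw [← hval]
    exact h.2 _ ⟨ξ, hξ, rfl⟩

theorem upBlock_injective (hA : Subgroup.centralizer ((A.map K.subtype : Subgroup G) : Set G) ≤ K) :
    Function.Injective (upBlock A hA) :=
  Set.image_injective.mpr (irrEquiv _).injective

theorem conjSet_upBlock [Fintype K] {A' : Subgroup K} (x : K)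
    (hA : Subgroup.centralizer ((A.map K.subtype : Subgroup G) : Set G) ≤ K)
    (hA' : Subgroup.centralizer ((A'.map K.subtype : Subgroup G) : Set G) ≤ K)
    (hx : A = A'.map (MulAut.conj x).toMonoidHom)
    (f' : Set (IrrCharacter (Subgroup.centralizer (A' : Set K)))) :
    A.map K.subtype = (A'.map K.subtype).map (MulAut.conj (x : G)).toMonoidHom ∧
    conjSet (x : G) (Subgroup.centralizer ((A'.map K.subtype : Subgroup G) : Set G))
        (Subgroup.centralizer ((A.map K.subtype : Subgroup G) : Set G)) (upBlock A' hA' f') =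
      upBlock A hA (conjSet x (Subgroup.centralizer (A' : Set K)) (Subgroup.centralizer (A : Set K)) f') := by
  have hm : A.map K.subtype = (A'.map K.subtype).map (MulAut.conj (x : G)).toMonoidHom := by
    rw [hx, Subgroup.map_map, Subgroup.map_map]
    congr 1
  refine ⟨hm, ?_⟩
  have h1 := centralizer_conj_iff hm
  have h2 := centralizer_conj_iff hx
  rw [conjSet_eq_image h1, conjSet_eq_image h2, upBlock, upBlock, Set.image_image, Set.image_image]
  congr 1

/-- A pair with the same subgroup as one above it is equal to it. -/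
theorem pair_eq_of_le (hM : IsPModular p M) {a b : BrauerPairIdx G}
    (hle : Relation.ReflTransGen (NormalSubpairRel p M) a b) (hb : IsBrauerPair p M b.1 b.2)
    (h : a.1 = b.1) : a = b := by
  obtain ⟨P, e⟩ := b
  obtain ⟨Q, f⟩ := a
  dsimp only at h
  subst h
  rw [(existsUnique_subpair hM hb le_rfl).unique (show SubpairLE p M Q f Q e from hle)
    Relation.ReflTransGen.refl]

variable {B : Set (IrrCharacter G)}

theorem localBlock_induced (hM : IsPModular p M) [Fintype K] {b : Set (IrrCharacter K)}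
    {e : Set (IrrCharacter (Subgroup.centralizer (D : Set G)))}
    (hDK : D ≤ K) (hCK : Subgroup.centralizer (D : Set G) ≤ K) (hpair : IsBrauerPairOf p M B D e)
    (hloc : IsLocalBlock M K D e b) (hdef : InducedBlockDefined M K b) :
    IsInducedBlock M K b B := by
  classical
  obtain ⟨A, rfl⟩ : ∃ A : Subgroup K, A.map K.subtype = D := ⟨_, Subgroup.map_subgroupOf_eq_of_le hDK⟩
  have hAp : IsPGroup p A := hpair.1.1.of_equiv
    (A.equivMapOfInjective K.subtype K.subtype_injective).symm
  obtain ⟨f, hf, rfl⟩ := exists_upBlock_eq hCK hpair.1.2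
  obtain ⟨B', hB'⟩ := hdef
  have h := isBrauerPairOf_upBlock hM hB' hCK ((isBrauerPairOf_iff_isLocalBlock hCK hAp hf).mpr hloc)
  exact (existsUnique_isBrauerPairOf hM hpair.1).unique h hpair ▸ hB'

/-- The local block below a pair of maximal order: its defect, and fusion of such pairs. -/
theorem localBlock_maximal (hM : IsPModular p M) {Δ : Subgroup G} (hΔ : IsDefectGroup p M B Δ)
    [Fintype K] {b : Set (IrrCharacter K)}
    {e : Set (IrrCharacter (Subgroup.centralizer (D : Set G)))}
    (hDK : D ≤ K) (hCK : Subgroup.centralizer (D : Set G) ≤ K) (hpair : IsBrauerPairOf p M B D e)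
    (hcard : Nat.card D = Nat.card Δ)
    (hloc : IsLocalBlock M K D e b) (hind : IsInducedBlock M K b B) :
    blockDefect p b = blockDefect p B ∧
      ∀ (D' : Subgroup G) (e' : Set (IrrCharacter (Subgroup.centralizer (D' : Set G)))),
        D' ≤ K → Subgroup.centralizer (D' : Set G) ≤ K → IsBrauerPair p M D' e' →
        Nat.card D' = Nat.card D → IsLocalBlock M K D' e' b →
        ∃ x ∈ K, D = D'.map (MulAut.conj x).toMonoidHom ∧
          conjSet x (Subgroup.centralizer (D' : Set G)) (Subgroup.centralizer (D : Set G)) e' = e := by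
  classical
  have : Fact p.Prime := ⟨hM.1⟩
  obtain ⟨A, rfl⟩ : ∃ A : Subgroup K, A.map K.subtype = D := ⟨_, Subgroup.map_subgroupOf_eq_of_le hDK⟩
  have hAp : IsPGroup p A := hpair.1.1.of_equiv
    (A.equivMapOfInjective K.subtype K.subtype_injective).symm
  obtain ⟨f, hf, rfl⟩ := exists_upBlock_eq hCK hpair.1.2
  have hAf := (isBrauerPairOf_iff_isLocalBlock hCK hAp hf).mpr hloc
  have hcardA : Nat.card A = Nat.card Δ :=
    (Subgroup.card_map_of_injective K.subtype_injective).symm.trans hcard
  obtain ⟨⟨R, g⟩, hR, hle⟩ := exists_maximal_pair_above hM hAf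
  have hAR : A ≤ R := SubpairLE.le hle
  have hCR : Subgroup.centralizer ((R.map K.subtype : Subgroup G) : Set G) ≤ K :=
    centralizer_map_le_of_le R (Subgroup.map_mono hAR) hCK
  obtain ⟨⟨S, g'⟩, hS, hle'⟩ := exists_maximal_pair_above hM (isBrauerPairOf_upBlock hM hind hCR hR.1)
  obtain ⟨y, hy⟩ := IsDefectGroup.exists_conj_eq hM hind.2.1 hΔ (isDefectGroup_of_maximal hM hS)
  have hRcard : Nat.card R ≤ Nat.card A := by
    rw [hcardA, ← Subgroup.card_map_of_injective (K := R) K.subtype_injective,
      ← card_map_conj Δ y, ← hy]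
    exact Subgroup.card_le_of_le (SubpairLE.le hle')
  have hRA : A = R := Subgroup.eq_of_le_of_card_ge hAR hRcard
  have hmax : IsMaximalBrauerPair p M b A f := by
    have := pair_eq_of_le hM hle hR.1.1 hRA
    rw [← this] at hR
    exact hR
  refine ⟨?_, fun D' e' hD'K hC'K he' hcard' hloc' => ?_⟩
  · have h1 := IsDefectGroup.card_eq hM hind.1 (isDefectGroup_of_maximal hM hmax)
    have h2 := IsDefectGroup.card_eq hM hind.2.1 hΔ
    exact Nat.pow_right_injective hM.1.two_le (h1.symm.trans (hcardA.trans h2))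
  obtain ⟨A', rfl⟩ : ∃ A' : Subgroup K, A'.map K.subtype = D' := ⟨_, Subgroup.map_subgroupOf_eq_of_le hD'K⟩
  have hA'p : IsPGroup p A' := he'.1.of_equiv
    (A'.equivMapOfInjective K.subtype K.subtype_injective).symm
  obtain ⟨f', hf', rfl⟩ := exists_upBlock_eq hC'K he'.2
  have hAf' := (isBrauerPairOf_iff_isLocalBlock hC'K hA'p hf').mpr hloc'
  obtain ⟨x, hx⟩ := exists_conjPair_le_maximal hM hmax hAf'
  have hxA : A'.map (MulAut.conj x).toMonoidHom = A := by
    refine Subgroup.eq_of_le_of_card_ge (SubpairLE.le (Q := (conjPair x ⟨A', f'⟩).1) (P := A) hx) ?_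
    rw [Subgroup.card_map_of_injective K.subtype_injective,
      Subgroup.card_map_of_injective K.subtype_injective] at hcard'
    exact (card_map_conj A' x).symm ▸ hcard'.ge
  have heq := pair_eq_of_le hM hx hmax.1.1 hxA
  obtain ⟨hm, hc⟩ := conjSet_upBlock x hCK hC'K hxA.symm f'
  refine ⟨x, x.2, hm, ?_⟩
  rw [hc]
  congr 1
  subst hxA
  exact eq_of_heq (Sigma.mk.inj heq).2

end CfsgLib.Blocks
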