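import Cfsg.Agent.Lib.Blocks.BrauerHom
import Cfsg.Agent.Lib.Blocks.MainSecond
import Mathlib.Algebra.MonoidAlgebra.Basic
import Mathlib.LinearAlgebra.FiniteSpan
import Mathlib.Algebra.Module.ZMod
import Mathlib.GroupTheory.Nilpotent

/-!
# Green's theorem: a defect group is an intersection of two Sylow subgroups

The core is a statement on a central idempotent `e` of a group algebra in characteristic `p`
supported on elements with centralizers of order prime to `p`: some element of the support
generates a free double coset of a given `p`-subgroup.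
-/

set_option autoImplicit false
set_option linter.unusedSectionVars false

namespace CfsgLib.Blocks.Green

variable {H : Type*} [Group H] [Fintype H] {F : Type*} [Field F]

open MonoidAlgebra (single)

theorem sum_coset {A : Type*} [AddCommMonoid A] (K : Subgroup H) [Fintype K] [Fintype (H ⧸ K)]
    (f : H → A) : ∑ g, f g = ∑ q : H ⧸ K, ∑ k : K, f (Quotient.out q * (k : H)) := by
  rw [← Fintype.sum_prod_type']
  refine (Fintype.sum_bijective (fun qk : (H ⧸ K) × K => Quotient.out qk.1 * (qk.2 : H)) ⟨?_, ?_⟩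
    _ _ fun _ => rfl).symm
  · rintro ⟨q, k⟩ ⟨q', k'⟩ h
    simp only at h
    have hq : q = q' := by
      rw [← QuotientGroup.out_eq' q, ← QuotientGroup.out_eq' q', QuotientGroup.eq,
        show (Quotient.out q)⁻¹ * Quotient.out q' = (k : H) * (k' : H)⁻¹ by
          rw [inv_mul_eq_iff_eq_mul, ← mul_assoc, h, mul_inv_cancel_right]]
      exact mul_mem k.2 (inv_mem k'.2)
    subst hq
    exact Prod.ext rfl (Subtype.ext (mul_left_cancel h))
  · intro g
    refine ⟨((g : H ⧸ K), ⟨(Quotient.out (g : H ⧸ K))⁻¹ * g, ?_⟩), by simp⟩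
    exact QuotientGroup.eq.mp (QuotientGroup.out_eq' (g : H ⧸ K))

theorem sum_single_coeff (a : MonoidAlgebra F H) : ∑ u, single u (a.coeff u) = a := by
  classical
  ext x
  simp [MonoidAlgebra.coeff_sum, Finsupp.finset_sum_apply, Finsupp.single_apply]

theorem coeff_mul (a b : MonoidAlgebra F H) (x : H) :
    (a * b).coeff x = ∑ u, a.coeff u * b.coeff (u⁻¹ * x) := by
  conv_lhs => rw [← sum_single_coeff a, Finset.sum_mul]
  simp [MonoidAlgebra.coeff_sum, Finsupp.finset_sum_apply]

/-- The sum of the elements of a subgroup. -/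
noncomputable def hat (R : Subgroup H) [Fintype R] : MonoidAlgebra F H :=
  ∑ s : R, single (s : H) 1

theorem coeff_hat_mul_mul_hat (R : Subgroup H) [Fintype R] (b : MonoidAlgebra F H) (x : H) :
    (hat R * b * hat R).coeff x = ∑ s : R, ∑ t : R, b.coeff ((s : H) * x * (t : H)⁻¹) := by
  simp only [hat, Finset.sum_mul, Finset.mul_sum, MonoidAlgebra.coeff_sum,
    Finsupp.finset_sum_apply]
  rw [Finset.sum_comm]
  refine Fintype.sum_equiv (Equiv.inv R) _ _ fun s => Finset.sum_congr rfl fun t _ => ?_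
  simp [mul_assoc]

variable {p : ℕ} [Fact p.Prime]


variable [CharP F p]

theorem coeff_hat_eq_zero_of_not_free {R : Subgroup H} [Fintype R] (hR : IsPGroup p R)
    (b : MonoidAlgebra F H) {x r : H} (hr : r ∈ R) (hxr : x⁻¹ * r * x ∈ R) (hr1 : r ≠ 1) :
    (hat R * b * hat R).coeff x = 0 := by
  classical
  obtain ⟨z, hz⟩ : ∃ z : R, z = ⟨r, hr⟩ := ⟨_, rfl⟩
  have hz1 : z ≠ 1 := fun h => hr1 (by rw [hz] at h; exact congrArg Subtype.val h)
  have : Fintype (R ⧸ Subgroup.zpowers z) := Fintype.ofFinite _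
  rw [coeff_hat_mul_mul_hat, sum_coset (Subgroup.zpowers z)]
  refine Finset.sum_eq_zero fun q _ => ?_
  have hconst : ∀ k : Subgroup.zpowers z,
      ∑ t : R, b.coeff (((Quotient.out q * (k : R) : R) : H) * x * (t : H)⁻¹) =
        ∑ t : R, b.coeff (((Quotient.out q : R) : H) * x * (t : H)⁻¹) := by
    intro k
    obtain ⟨i, hi⟩ := Subgroup.mem_zpowers_iff.mp k.2
    have hk : (((k : R)) : H) = r ^ i := by rw [← hi, hz]; simp
    have hm : (x⁻¹ * r * x) ^ i ∈ R := zpow_mem hxr i
    refine (Fintype.sum_equiv (Equiv.mulRight (⟨_, hm⟩ : R)) _ _ fun t => ?_).symm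
    congr 1
    have e : (x⁻¹ * r * x) ^ i = x⁻¹ * r ^ i * x := by
      have h := map_zpow (MulAut.conj x⁻¹ : MulAut H) r i
      simp only [MulAut.conj_apply, inv_inv] at h
      exact h.symm
    simp only [Equiv.coe_mulRight, Subgroup.coe_mul, hk, e, mul_inv_rev]
    group
  rw [Finset.sum_congr rfl fun k _ => hconst k, Finset.sum_const, Finset.card_univ,
    nsmul_eq_mul]
  have hp : (p : F) = 0 := CharP.cast_eq_zero F p
  obtain ⟨n, hn⟩ := IsPGroup.iff_orderOf.mp hR z
  rw [Fintype.card_zpowers, hn]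
  rcases n with - | n
  · exact absurd (orderOf_eq_one_iff.mp (by rw [hn, pow_zero])) hz1
  · rw [Nat.cast_pow, hp, zero_pow (Nat.succ_ne_zero n), zero_mul]

theorem exists_fixed_ne_zero {A : Type*} [AddCommGroup A] [Module (ZMod p) A] {Q : Type*}
    [Group Q] [Finite Q] (hQ : IsPGroup p Q) (act : Q → A →+ A) (hone : act 1 = AddMonoidHom.id A)
    (hmul : ∀ q q' w, act (q * q') w = act q (act q' w)) (K : AddSubgroup A) {e : A} (he : e ≠ 0)
    (heK : ∀ q, act q e ∈ K) : ∃ w ∈ K, w ≠ 0 ∧ ∀ q, act q w = w := by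
  obtain ⟨S, hS⟩ : ∃ S : Submodule (ZMod p) A,
      S = Submodule.span (ZMod p) (Set.range fun q => act q e) := ⟨_, rfl⟩
  have hSK : ∀ w ∈ S, w ∈ K := by
    subst hS
    intro w hw
    induction hw using Submodule.span_induction with
    | mem w hw => obtain ⟨q, rfl⟩ := hw; exact heK q
    | zero => exact zero_mem K
    | add v w _ _ hv hw => exact add_mem hv hw
    | smul c v _ hv => exact ZMod.smul_mem hv c
  have hSfin : Finite ↥S := by
    subst hS
    have : Module.Finite (ZMod p) ↥(Submodule.span (ZMod p) (Set.range fun q => act q e)) :=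
      Module.Finite.span_of_finite _ (Set.finite_range _)
    exact Module.finite_of_finite (ZMod p)
  have hstab : ∀ q, ∀ w ∈ S, act q w ∈ S := by
    intro q w hw
    subst hS
    induction hw using Submodule.span_induction with
    | mem w hw =>
      obtain ⟨t, rfl⟩ := hw
      exact Submodule.subset_span ⟨q * t, hmul q t e⟩
    | zero => rw [map_zero]; exact zero_mem _
    | add v w _ _ hv hw => rw [map_add]; exact add_mem hv hw
    | smul c v _ hv => rw [ZMod.map_smul]; exact Submodule.smul_mem _ _ hv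
  letI : MulAction Q ↥S :=
    { smul := fun q w => ⟨act q w, hstab q w w.2⟩
      one_smul := fun w => Subtype.ext (by
        show act 1 (w : A) = w
        rw [hone]; rfl)
      mul_smul := fun q q' w => Subtype.ext (hmul q q' w) }
  have heS : e ∈ S := by
    subst hS
    exact Submodule.subset_span ⟨1, by simp [hone]⟩
  have hpS : p ∣ Nat.card ↥S := by
    have h1 : addOrderOf (⟨e, heS⟩ : ↥S) = p := by
      refine addOrderOf_eq_prime (Subtype.ext ?_) fun h => he (congrArg Subtype.val h)
      show p • e = 0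
      rw [← Nat.cast_smul_eq_nsmul (ZMod p), ZMod.natCast_self, zero_smul]
    exact (dvd_of_eq h1.symm).trans (addOrderOf_dvd_natCard _)
  have h0 : (0 : ↥S) ∈ MulAction.fixedPoints Q ↥S := fun q => Subtype.ext (map_zero (act q))
  obtain ⟨w, hw, hw'⟩ := hQ.exists_fixed_point_of_prime_dvd_card_of_fixed_point ↥S hpS h0
  exact ⟨w, hSK w w.2, fun h => hw' (Subtype.ext h.symm), fun q => congrArg Subtype.val (hw q)⟩

theorem single_mul_hat_comm {e : MonoidAlgebra F H}
    (hcen : ∀ g : H, single g 1 * e = e * single g 1) (w : MonoidAlgebra F H) : w * e = e * w := by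
  conv_lhs => rw [← sum_single_coeff w, Finset.sum_mul]
  conv_rhs => rw [← sum_single_coeff w, Finset.mul_sum]
  refine Finset.sum_congr rfl fun u _ => ?_
  have : single u (w.coeff u) = (w.coeff u) • single u (1 : F) := by simp
  rw [this, smul_mul_assoc, mul_smul_comm, hcen]

/-- The core of Green's theorem. -/
theorem exists_free_of_idempotent {R : Subgroup H} (hR : IsPGroup p R) {e : MonoidAlgebra F H}
    (hcen : ∀ g : H, single g 1 * e = e * single g 1) (hee : e * e = e) (hne : e ≠ 0)
    (hsupp : ∀ x, e.coeff x ≠ 0 → ¬ p ∣ Nat.card (Subgroup.centralizer ({x} : Set H))) :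
    ∃ x : H, e.coeff x ≠ 0 ∧ ∀ r ∈ R, x⁻¹ * r * x ∈ R → r = 1 := by
  classical
  by_contra hcon
  push Not at hcon
  have : Fintype R := Fintype.ofFinite _
  have : Fintype (H ⧸ R) := Fintype.ofFinite _
  have : Fintype (ConjClasses H) := Fintype.ofFinite _
  -- `e` is a trace from the trivial subgroup
  have hclass : ∀ g x : H, e.coeff (g * x * g⁻¹) = e.coeff x := by
    intro g x
    have h := congrArg (fun a : MonoidAlgebra F H => a.coeff (g * x)) (hcen g)
    simpa using h.symm
  obtain ⟨a, ha⟩ : ∃ a : MonoidAlgebra F H, a = ∑ c : ConjClasses H, single (Quotient.out c)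
      (e.coeff (Quotient.out c) *
        (Nat.card (Subgroup.centralizer ({Quotient.out c} : Set H)) : F)⁻¹) := ⟨_, rfl⟩
  have htr : ∑ g : H, single g⁻¹ 1 * a * single g 1 = e := by
    ext x
    simp only [ha, Finset.mul_sum, Finset.sum_mul, MonoidAlgebra.single_mul_single, one_mul,
      mul_one, MonoidAlgebra.coeff_sum, Finsupp.finset_sum_apply, MonoidAlgebra.coeff_single,
      Finsupp.single_apply]
    rw [Finset.sum_comm]
    obtain ⟨c₀, hc₀⟩ : ∃ c₀, c₀ = ConjClasses.mk x := ⟨_, rfl⟩
    have hmk : ∀ c : ConjClasses H, ConjClasses.mk (Quotient.out c) = c := Quotient.out_eq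
    rw [Finset.sum_eq_single_of_mem c₀ (Finset.mem_univ _)]
    · obtain ⟨o, ho⟩ : ∃ o, o = Quotient.out c₀ := ⟨_, rfl⟩
      rw [← ho]
      have hox : IsConj o x := ConjClasses.mk_eq_mk_iff_isConj.mp (by rw [ho, hmk, hc₀])
      obtain ⟨u, hu⟩ := isConj_iff.mp hox
      have hcard : (Finset.univ.filter fun g : H => g⁻¹ * o * g = x).card =
          Nat.card (Subgroup.centralizer ({o} : Set H)) := by
        rw [Nat.card_eq_fintype_card, Fintype.card_subtype]
        refine Finset.card_bij' (fun g _ => g * u) (fun z _ => z * u⁻¹) ?_ ?_ ?_ ?_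
        · intro g hg
          simp only [Finset.mem_filter, Finset.mem_univ, true_and,
            Subgroup.mem_centralizer_singleton_iff] at hg ⊢
          calc g * u * o = g * (u * o * u⁻¹) * u := by group
            _ = o * (g * u) := by rw [hu, ← hg]; group
        · intro z hz
          simp only [Finset.mem_filter, Finset.mem_univ, true_and,
            Subgroup.mem_centralizer_singleton_iff] at hz ⊢
          calc (z * u⁻¹)⁻¹ * o * (z * u⁻¹) = u * (z⁻¹ * (o * z)) * u⁻¹ := by group
            _ = u * o * u⁻¹ := by rw [← hz, inv_mul_cancel_left]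
            _ = x := hu
        · intro g _; group
        · intro z _; group
      rw [← Finset.sum_filter, Finset.sum_const, hcard, nsmul_eq_mul,
        show e.coeff x = e.coeff o by rw [← hu, hclass]]
      by_cases h0 : e.coeff o = 0
      · simp [h0]
      · have hn : (Nat.card (Subgroup.centralizer ({o} : Set H)) : F) ≠ 0 := fun h =>
          hsupp o h0 ((CharP.cast_eq_zero_iff F p _).mp h)
        rw [mul_comm, mul_assoc, inv_mul_cancel₀ hn, mul_one]
    · intro c _ hc
      refine Finset.sum_eq_zero fun g _ => if_neg fun h => hc ?_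
      rw [hc₀, ← hmk c, ConjClasses.mk_eq_mk_iff_isConj]
      exact isConj_iff.mpr ⟨g⁻¹, by rw [inv_inv]; exact h⟩
  -- a fixed vector in the orbit span of `e`
  have hpzero : ∀ w : MonoidAlgebra F H, p • w = 0 := fun w => by
    rw [← Nat.cast_smul_eq_nsmul F p w, CharP.cast_eq_zero, zero_smul]
  let act : R × R → MonoidAlgebra F H →+ MonoidAlgebra F H := fun q =>
    (AddMonoidHom.mulRight (single ((q.2 : H))⁻¹ 1)).comp (AddMonoidHom.mulLeft (single (q.1 : H) 1))
  have hact : ∀ q w, act q w = single (q.1 : H) 1 * w * single ((q.2 : H))⁻¹ 1 := fun _ _ => rfl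
  let K : AddSubgroup (MonoidAlgebra F H) :=
    { carrier := {w | e * w = w ∧
        ∀ x : H, (∀ r ∈ R, x⁻¹ * r * x ∈ R → r = 1) → w.coeff x = 0}
      zero_mem' := ⟨mul_zero _, fun _ _ => by simp⟩
      add_mem' := fun {v w} hv hw => ⟨by rw [mul_add, hv.1, hw.1], fun x hx => by
        simp [hv.2 x hx, hw.2 x hx]⟩
      neg_mem' := fun {v} hv => ⟨by rw [mul_neg, hv.1], fun x hx => by simp [hv.2 x hx]⟩ }
  have heK : ∀ t, act t e ∈ K := by
    intro t
    refine ⟨?_, fun x hx => ?_⟩
    · simp only [hact]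
      rw [← mul_assoc, ← mul_assoc, ← hcen, mul_assoc _ e e, hee]
    · simp only [hact]
      rw [MonoidAlgebra.coeff_mul_single_apply, MonoidAlgebra.coeff_single_mul_apply]
      simp only [inv_inv, one_mul, mul_one]
      by_contra h0
      obtain ⟨r, hr, hxr, hr1⟩ := hcon _ h0
      have hx1 : (t.1 : H) * r * (t.1 : H)⁻¹ ∈ R := mul_mem (mul_mem t.1.2 hr) (inv_mem t.1.2)
      have hx2 : x⁻¹ * ((t.1 : H) * r * (t.1 : H)⁻¹) * x ∈ R := by
        convert mul_mem (mul_mem t.2.2 hxr) (inv_mem t.2.2) using 1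
        group
      exact hr1 (conj_eq_one_iff.mp (hx _ hx1 hx2))
  have hQ : IsPGroup p (R × R) := by
    obtain ⟨n, hn⟩ := IsPGroup.iff_card.mp hR
    exact IsPGroup.of_card (n := n + n) (by rw [Nat.card_prod, hn, pow_add])
  obtain ⟨v, ⟨hwe, hwfree⟩, hw0, hwfix⟩ :=
    @exists_fixed_ne_zero p _ (MonoidAlgebra F H) _ (AddCommGroup.zmodModule hpzero) (R × R) _ _ hQ act
      (AddMonoidHom.ext fun w => by simp [hact, ← MonoidAlgebra.one_def])
      (fun q q' w => by
        simp only [hact, Prod.fst_mul, Prod.snd_mul, Subgroup.coe_mul, mul_inv_rev]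
        rw [show single ((q.1 : H) * (q'.1 : H)) (1 : F) = single (q.1 : H) 1 * single (q'.1 : H) 1
            by simp,
          show single ((q'.2 : H)⁻¹ * (q.2 : H)⁻¹) (1 : F) =
            single (q'.2 : H)⁻¹ 1 * single (q.2 : H)⁻¹ 1 by simp]
        simp only [mul_assoc]) K e hne heK
  have hleft : ∀ s : R, single (s : H) 1 * v = v := fun s => by
    simpa [hact, ← MonoidAlgebra.one_def] using hwfix (s, 1)
  have hright : ∀ s : R, v * single (s : H) 1 = v := fun s => by
    simpa [hact, ← MonoidAlgebra.one_def] using hwfix (1, s⁻¹)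
  obtain ⟨o, ho⟩ : ∃ o : H ⧸ R → H, o = Quotient.out := ⟨_, rfl⟩
  obtain ⟨Z, hZ⟩ : ∃ Z : MonoidAlgebra F H,
      Z = ∑ q : H ⧸ R, single (o q)⁻¹ 1 * a * single (o q) 1 := ⟨_, rfl⟩
  have hsplit : ∀ (q : H ⧸ R) (k : R), single (o q * (k : H))⁻¹ 1 * a * single (o q * (k : H)) 1 =
      single ((k : H))⁻¹ 1 * (single (o q)⁻¹ 1 * a * single (o q) 1) * single (k : H) 1 := by
    intro q k
    rw [mul_inv_rev, show single ((k : H)⁻¹ * (o q)⁻¹) (1 : F) =
        single (k : H)⁻¹ 1 * single (o q)⁻¹ 1 by simp,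
      show single (o q * (k : H)) (1 : F) = single (o q) 1 * single (k : H) 1 by simp]
    simp only [mul_assoc]
  rw [sum_coset R] at htr
  simp only [← ho, hsplit] at htr
  have hA : v = hat R * (Z * v) := by
    conv_lhs => rw [← hwe, ← htr]
    simp only [hat, hZ, Finset.sum_mul, Finset.mul_sum]
    rw [Finset.sum_comm]
    conv_rhs => rw [Finset.sum_comm]
    refine Fintype.sum_equiv (Equiv.inv R) _ _ fun k => Finset.sum_congr rfl fun q _ => ?_
    rw [Equiv.inv_apply, Subgroup.coe_inv]
    conv_lhs => rw [mul_assoc _ (single (k : H) 1) v, hleft k]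
    rw [mul_assoc]
  have hB : v = v * Z * hat R := by
    conv_lhs => rw [← hwe, ← single_mul_hat_comm hcen v, ← htr]
    simp only [hat, hZ, Finset.sum_mul, Finset.mul_sum]
    conv_lhs => rw [Finset.sum_comm]
    refine Finset.sum_congr rfl fun k _ => Finset.sum_congr rfl fun q _ => ?_
    rw [show (k : H)⁻¹ = ((k⁻¹ : R) : H) from rfl, ← mul_assoc, ← mul_assoc, hright]
  have hsand : v = hat R * (Z * v * Z) * hat R := by
    conv_lhs => rw [hB, hA]
    simp only [mul_assoc]
  refine hw0 ?_
  ext x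
  rw [MonoidAlgebra.coeff_zero, Finsupp.zero_apply]
  by_cases hx : ∀ r ∈ R, x⁻¹ * r * x ∈ R → r = 1
  · exact hwfree x hx
  · push Not at hx
    obtain ⟨r, hr, hxr, hr1⟩ := hx
    rw [hsand]
    exact coeff_hat_eq_zero_of_not_free hR _ hr hxr hr1

end CfsgLib.Blocks.Green

namespace CfsgLib.Blocks

open Cfsg
open MonoidAlgebra (single)
open scoped ComplexConjugate CfsgLib.Char

variable {p : ℕ} {M : Ideal AlgInt} {G : Type*} [Group G] [Fintype G]

/-- **Green**: a defect group is the intersection of a Sylow subgroup above it with a conjugate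
under a regular element whose centralizer has the defect group as Sylow subgroup. -/
theorem IsDefectGroup.exists_inter_conj (hM : IsPModular p M) {B : Set (IrrCharacter G)}
    (hB : IsPBlock M B) {D : Subgroup G} (hD : IsDefectGroup p M B D) {P : Subgroup G}
    (hP : IsPGroup p P) (hDP : D ≤ P) : ∃ x : G, IsPRegular p x ∧ IsSylowCent p x D ∧
      P ⊓ P.map (MulAut.conj x).toMonoidHom = D := by
  classical
  haveI : Fact p.Prime := ⟨hM.1⟩
  haveI : M.IsPrime := isPrime_of_isPModular hM
  haveI : CharP (ResField M) p := charP_resField hM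
  have hDp : IsPGroup p D := IsDefectGroup.isPGroup hM hD
  obtain ⟨g, hg, hsyl⟩ := isDefectGroup_iff.mp hD
  obtain ⟨N, hN⟩ : ∃ N : Subgroup G, N = Subgroup.normalizer (D : Set G) := ⟨_, rfl⟩
  have hDN : D ≤ N := hN ▸ Subgroup.le_normalizer
  have hCN : Subgroup.centralizer (D : Set G) ≤ N := hN ▸ Subgroup.centralizer_le_normalizer _
  haveI hDn : (D.subgroupOf N).Normal := by subst hN; exact Subgroup.normal_in_normalizer
  haveI : Fintype N := Fintype.ofFinite _
  obtain ⟨f, hf⟩ : ∃ f : N → ℂ, f = brauerFun D N (blockCoeff B) := ⟨_, rfl⟩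
  have hec := isClassFunction_blockCoeff B
  have hel := IsPBlock.memLocalRing_blockCoeff hB
  have hfc : IsClassFunction N f := hf ▸ isClassFunction_brauerFun hN.le hec
  have hfl : ∀ y, MemLocalRing M (f y) := fun y => hf ▸ memLocalRing_brauerFun hel y
  -- the support of `f`
  have hcent : ∀ y : N, ¬ MemLocalIdeal M (f y) → (y : G) ∈ Subgroup.centralizer (D : Set G) ∧
      IsPRegular p (y : G) ∧ ∀ Q : Subgroup G, IsPGroup p Q →
        Q ≤ Subgroup.centralizer ({(y : G)} : Set G) → Nat.card Q ≤ Nat.card D := by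
    intro y hy
    have hyC : (y : G) ∈ Subgroup.centralizer (D : Set G) := by
      by_contra h
      exact hy (by rw [hf, brauerFun_of_notMem h]; exact memLocalIdeal_zero)
    rw [hf, brauerFun_of_mem hyC] at hy
    refine ⟨hyC, ?_, fun Q hQ hQy => ?_⟩
    · by_contra h
      exact hy (blockCoeff_eq_zero_of_not_regular hM (IsPBlock.isBlockUnion hB) h ▸
        memLocalIdeal_zero)
    · obtain ⟨c, hc⟩ := IsDefectGroup.exists_le_conj_of_support hM hB hD hy hQ hQy
      exact (Subgroup.card_le_of_le hc).trans_eq (card_map_conj _ _)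
  -- the algebra
  obtain ⟨fh, hfh⟩ : ∃ fh : MonoidAlgebra (ResField M) N,
      fh = ∑ y : N, single y (res M (f y)) := ⟨_, rfl⟩
  have hfhc : ∀ y, fh.coeff y = res M (f y) := fun y => by
    simp [hfh, MonoidAlgebra.coeff_sum, Finsupp.finsetSum_apply, Finsupp.single_apply]
  have hfidem : fh * fh = fh := by
    ext y
    rw [Green.coeff_mul, hfhc]
    simp only [hfhc]
    have h := brauerFun_conv_congr hM (H := N) hDp hCN hec hec hel hel y
    rw [conv_blockCoeff_self, ← hf] at h
    simp only [CfsgLib.Blocks.conv] at h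
    rw [(res_eq_iff (hfl y) (memLocalRing_sum _ _ fun x _ =>
        memLocalRing_mul (hfl _) (hfl _))).mpr h,
      res_sum _ _ fun x _ => memLocalRing_mul (hfl _) (hfl _)]
    exact Finset.sum_congr rfl fun x _ => (res_mul (hfl _) (hfl _)).symm
  have hfcen : ∀ n : N, single n (1 : ResField M) * fh = fh * single n 1 := by
    intro n
    ext y
    rw [MonoidAlgebra.coeff_single_mul_apply, MonoidAlgebra.coeff_mul_single_apply, hfhc, hfhc,
      one_mul, mul_one, ← hfc (n⁻¹ * y) n]
    congr 2
    group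
  obtain ⟨π, hπ⟩ : ∃ π : N →* N ⧸ D.subgroupOf N, π = QuotientGroup.mk' (D.subgroupOf N) :=
    ⟨_, rfl⟩
  have hπs : Function.Surjective π := hπ ▸ QuotientGroup.mk'_surjective _
  have hker : ∀ y, π y = 1 ↔ (y : G) ∈ D := fun y => by
    rw [hπ]; exact (QuotientGroup.eq_one_iff y).trans Subgroup.mem_subgroupOf
  haveI : Fintype (N ⧸ D.subgroupOf N) := Fintype.ofFinite _
  obtain ⟨eh, heh⟩ : ∃ eh, eh = MonoidAlgebra.mapDomainRingHom (ResField M) π fh := ⟨_, rfl⟩
  have hehc : ∀ q, eh.coeff q = res M (∑ y : N, if π y = q then f y else 0) := by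
    intro q
    rw [res_sum _ _ fun y _ => by split <;> [exact hfl y; exact memLocalRing_zero], heh, hfh,
      map_sum, MonoidAlgebra.coeff_sum, Finsupp.finsetSum_apply]
    refine Finset.sum_congr rfl fun y _ => ?_
    rw [MonoidAlgebra.mapDomainRingHom_apply, MonoidAlgebra.mapDomain_single,
      MonoidAlgebra.coeff_single, Finsupp.single_apply]
    split <;> simp [res_zero]
  -- support and centralizers in the quotient
  have hsupp : ∀ q, eh.coeff q ≠ 0 →
      ¬ p ∣ Nat.card (Subgroup.centralizer ({q} : Set (N ⧸ D.subgroupOf N))) := by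
    intro q hq hdvd
    refine hq ((hehc q).trans (res_eq_zero ?_))
    obtain ⟨⟨z, hzq⟩, hz⟩ := exists_prime_orderOf_dvd_card' p hdvd
    rw [Subgroup.orderOf_mk] at hz
    rw [Subgroup.mem_centralizer_singleton_iff] at hzq
    obtain ⟨Q, hQ⟩ : ∃ Q : Subgroup N, Q = (Subgroup.zpowers z).comap π := ⟨_, rfl⟩
    have hDQ : D.subgroupOf N ≤ Q := fun y hy => by
      rw [hQ, Subgroup.mem_comap, (hker y).mpr hy]; exact one_mem _
    have hQcard : Nat.card Q = p * Nat.card D := by
      have h1 := Subgroup.card_mul_index ((D.subgroupOf N).subgroupOf Q)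
      rw [Nat.card_congr (Subgroup.subgroupOfEquivOfLe hDQ).toEquiv,
        Nat.card_congr (Subgroup.subgroupOfEquivOfLe hDN).toEquiv,
        ← Subgroup.relIndex] at h1
      have h2 : (D.subgroupOf N).relIndex Q = p := by
        have hk : π.ker = D.subgroupOf N := by rw [hπ, QuotientGroup.ker_mk']
        rw [← hk, ← MonoidHom.comap_bot π, hQ, Subgroup.relIndex_comap,
          Subgroup.map_comap_eq_self_of_surjective hπs, Subgroup.relIndex_bot_left,
          Nat.card_zpowers, hz]
      rw [h2] at h1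
      rw [← h1, mul_comm]
    have hQp : IsPGroup p Q := by
      obtain ⟨k, hk⟩ := IsPGroup.iff_card.mp hDp
      exact IsPGroup.of_card (n := k + 1) (by rw [hQcard, hk, pow_succ']; )
    letI : MulAction Q N := MulAction.compHom N ((MulAut.conj : N →* MulAut N).comp Q.subtype)
    suffices hfix : ∀ y, y ∈ MulAction.fixedPoints Q N →
        MemLocalIdeal M (if π y = q then f y else 0) by
      rw [← sub_add_cancel (∑ y : N, if π y = q then f y else 0)
        (∑ y : N with y ∈ MulAction.fixedPoints Q N, if π y = q then f y else 0)]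
      refine memLocalIdeal_add (memLocalIdeal_sum_sub_fixed (α := N) hM hQp
        (f := fun y => if π y = q then f y else 0) (fun y => ?_) (fun u y => ?_))
        (memLocalIdeal_sum _ _ fun y hy => hfix y (Finset.mem_filter.mp hy).2)
      · split
        exacts [hfl y, memLocalRing_zero]
      · show (if π ((u : N) * y * (u : N)⁻¹) = q then f ((u : N) * y * (u : N)⁻¹) else 0) = _
        rw [hfc y u]
        refine if_congr ?_ rfl rfl
        have hu : π u ∈ Subgroup.zpowers z := by
          have := u.2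
          simpa [hQ] using this
        have hcomm : Commute (π u) q := by
          obtain ⟨i, hi⟩ := Subgroup.mem_zpowers_iff.mp hu
          rw [← hi]
          exact Commute.zpow_left hzq i
        rw [map_mul, map_mul, map_inv]
        constructor
        · intro h
          calc π y = (π u)⁻¹ * (π u * π y * (π u)⁻¹) * π u := by group
            _ = (π u)⁻¹ * (q * π u) := by rw [h, mul_assoc]
            _ = q := by rw [← hcomm.eq, inv_mul_cancel_left]
        · intro h
          rw [h, hcomm.eq, mul_inv_cancel_right]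
    intro y hy
    split
    · by_contra h0
      have hle : Q.map N.subtype ≤ Subgroup.centralizer ({(y : G)} : Set G) := by
        rintro _ ⟨u, hu, rfl⟩
        have h1 : u * y * u⁻¹ = y := hy ⟨u, hu⟩
        exact Subgroup.mem_centralizer_singleton_iff.mpr
          (congrArg Subtype.val (mul_inv_eq_iff_eq_mul.mp h1))
      have h2 := (hcent y h0).2.2 (Q.map N.subtype) (hQp.map _) hle
      rw [Subgroup.card_map_of_injective (Subgroup.subtype_injective _), hQcard] at h2
      have := Nat.le_of_mul_le_mul_right (h2.trans_eq (one_mul _).symm) Nat.card_pos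
      exact absurd this (not_le.mpr hM.1.one_lt)
    · exact memLocalIdeal_zero
  have hgC : g ∈ Subgroup.centralizer (D : Set G) := Subgroup.mem_centralizer_iff.mpr fun d hd =>
    Subgroup.mem_centralizer_singleton_iff.mp (hsyl.1 hd)
  obtain ⟨gN, hgN⟩ : ∃ gN : N, gN = ⟨g, hCN hgC⟩ := ⟨_, rfl⟩
  have hgreg := IsDefectClass.isPRegular hM hB hg
  have hfg : f gN = blockCoeff B g := by
    rw [hf, brauerFun_of_mem (by rw [hgN]; exact hgC), hgN]
  have hne : eh ≠ 0 := by
    intro h0
    have h1 : eh.coeff (π gN) = 0 := by rw [h0]; simp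
    rw [hehc] at h1
    rw [res_eq_zero_iff (memLocalRing_sum _ _ fun y _ => by
      split <;> [exact hfl y; exact memLocalRing_zero])] at h1
    refine hg.2.1 (hfg ▸ ?_)
    have h2 : MemLocalIdeal M (∑ y : N, ((if π y = π gN then f y else 0) -
        if y = gN then f y else 0)) := by
      refine memLocalIdeal_sum _ _ fun y _ => ?_
      by_cases hy : y = gN
      · rw [if_pos (by rw [hy]), if_pos hy, sub_self]; exact memLocalIdeal_zero
      rw [if_neg hy, sub_zero]
      split
      · rename_i hπy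
        by_contra hfy
        obtain ⟨hyC, hyreg, -⟩ := hcent y hfy
        refine hy (Subtype.ext ?_)
        have hd : g⁻¹ * (y : G) ∈ D := by
          have := (hker (gN⁻¹ * y)).mp (by rw [map_mul, map_inv, hπy, inv_mul_cancel])
          simpa [hgN] using this
        have hcomm : Commute g (g⁻¹ * (y : G)) :=
          (Subgroup.mem_centralizer_iff.mp hgC _ hd).symm
        obtain ⟨k, hk⟩ := IsPGroup.iff_orderOf.mp hDp ⟨_, hd⟩
        rw [Subgroup.orderOf_mk] at hk
        have hord : orderOf (g * (g⁻¹ * (y : G))) = orderOf g * orderOf (g⁻¹ * (y : G)) :=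
          hcomm.orderOf_mul_eq_mul_orderOf_of_coprime (by
            rw [hk]
            exact Nat.Coprime.pow_right k (hM.1.coprime_iff_not_dvd.mpr hgreg).symm)
        rw [mul_inv_cancel_left, hk] at hord
        rcases k with - | k
        · rw [pow_zero, orderOf_eq_one_iff, inv_mul_eq_one] at hk
          rw [← hk, hgN]
        · exact absurd (hord ▸ (dvd_pow_self p (Nat.succ_ne_zero k)).mul_left _) hyreg
      · exact memLocalIdeal_zero
    rw [Finset.sum_sub_distrib, Finset.sum_ite_eq' Finset.univ gN f, if_pos (Finset.mem_univ _)]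
      at h2
    have h3 := memLocalIdeal_sub h1 h2
    rwa [sub_sub_cancel] at h3
  have hehcen : ∀ q : N ⧸ D.subgroupOf N,
      single q (1 : ResField M) * eh = eh * single q 1 := by
    intro q
    obtain ⟨n, rfl⟩ := hπs q
    have h := congrArg (MonoidAlgebra.mapDomainRingHom (ResField M) π) (hfcen n)
    rwa [map_mul, map_mul, MonoidAlgebra.mapDomainRingHom_apply, MonoidAlgebra.mapDomain_single,
      ← heh] at h
  obtain ⟨R, hR⟩ : ∃ R : Subgroup (N ⧸ D.subgroupOf N), R = (P.subgroupOf N).map π := ⟨_, rfl⟩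
  have hRp : IsPGroup p R := hR ▸
    ((hP.comap_of_injective N.subtype (Subgroup.subtype_injective _)).map π)
  obtain ⟨q, hq, hfree⟩ := Green.exists_free_of_idempotent hRp hehcen
    (by rw [heh, ← map_mul, hfidem]) hne hsupp
  obtain ⟨x, hxq, hfx⟩ : ∃ x : N, π x = q ∧ ¬ MemLocalIdeal M (f x) := by
    by_contra h
    push Not at h
    refine hq ((hehc q).trans (res_eq_zero ?_))
    refine memLocalIdeal_sum _ _ fun y _ => ?_
    split
    exacts [h y ‹_›, memLocalIdeal_zero]
  obtain ⟨hxC, hxreg, hxmax⟩ := hcent x hfx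
  have hDx : D ≤ Subgroup.centralizer ({(x : G)} : Set G) := fun d hd =>
    Subgroup.mem_centralizer_singleton_iff.mpr (Subgroup.mem_centralizer_iff.mp hxC d hd)
  refine ⟨x, hxreg, ⟨hDx, ?_⟩, ?_⟩
  · obtain ⟨Q, hQ⟩ := exists_isSylowCent (p := p) (x : G)
    obtain ⟨d, hd⟩ := IsPGroup.iff_card.mp hDp
    have h1 := hxmax Q hQ.isPGroup hQ.1
    rw [hQ.2, hd] at h1
    have h2 : p ^ d ∣ Nat.card (Subgroup.centralizer ({(x : G)} : Set G)) :=
      hd ▸ Subgroup.card_dvd_of_le hDx
    have h3 := (hM.1.pow_dvd_iff_le_factorization Nat.card_pos.ne').mp h2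
    rw [hd, le_antisymm h3 ((Nat.pow_le_pow_iff_right hM.1.one_lt).mp h1)]
  -- the intersection
  obtain ⟨I, hI⟩ : ∃ I, I = P ⊓ P.map (MulAut.conj (x : G)).toMonoidHom := ⟨_, rfl⟩
  rw [← hI]
  have hDI : D ≤ I := by
    rw [hI]
    refine le_inf hDP fun d hd => ?_
    refine ⟨d, hDP hd, ?_⟩
    show (x : G) * d * (x : G)⁻¹ = d
    rw [← Subgroup.mem_centralizer_singleton_iff.mp (hDx hd), mul_inv_cancel_right]
  by_contra hne'
  have hlt : D < I := lt_of_le_of_ne hDI fun h => hne' h.symm
  have hIp : IsPGroup p I := hP.to_le (hI ▸ inf_le_left)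
  haveI := hIp.isNilpotent
  have hlt' : D.subgroupOf I < ⊤ := lt_top_iff_ne_top.mpr fun h =>
    hlt.not_ge (Subgroup.subgroupOf_eq_top.mp h)
  obtain ⟨n, hn, hnD⟩ :=
    SetLike.exists_of_lt (Group.normalizerCondition_of_isNilpotent _ hlt')
  rw [Subgroup.mem_subgroupOf] at hnD
  have hnN : (n : G) ∈ N := by
    rw [hN, Subgroup.mem_normalizer_iff]
    intro d
    refine ⟨fun hd => ?_, fun hd => ?_⟩
    · exact (Subgroup.mem_normalizer_iff.mp hn ⟨d, hDI hd⟩).mp hd
    · have hdI : d ∈ I := by
        have := I.mul_mem (I.mul_mem (I.inv_mem n.2) (hDI hd)) n.2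
        simpa [mul_assoc] using this
      exact (Subgroup.mem_normalizer_iff.mp hn ⟨d, hdI⟩).mpr hd
  have hnI := n.2
  simp only [hI, Subgroup.mem_inf, Subgroup.mem_map] at hnI
  obtain ⟨hnP, w, hwP, hw⟩ := hnI
  have hwN : w ∈ N := by
    have e : w = (x : G)⁻¹ * n * x := by
      rw [← hw]; simp [mul_assoc]
    rw [e]
    exact N.mul_mem (N.mul_mem (N.inv_mem x.2) hnN) x.2
  have h1 : π ⟨n, hnN⟩ = 1 := by
    refine hfree _ (hR ▸ ⟨⟨n, hnN⟩, hnP, rfl⟩) (hR ▸ ⟨⟨w, hwN⟩, hwP, ?_⟩)
    rw [← hxq, ← map_inv, ← map_mul, ← map_mul]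
    congr 1
    refine Subtype.ext ?_
    show w = (x : G)⁻¹ * n * x
    rw [← hw]; simp [mul_assoc]
  exact hnD ((hker _).mp h1)

end CfsgLib.Blocks
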