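import Mathlib

/-!
# Fixed elements and the truncation map in a group ring

For a subgroup `U` of `G` the truncation `trunc U` keeps the coefficients at elements centralizing
`U`; for a `p`-subgroup and a coefficient ring of characteristic `p` it is multiplicative on the
elements fixed by `U`.
-/

set_option autoImplicit false
set_option linter.unusedSectionVars false

namespace CfsgLib.GrpRing

open MulAction

variable {R : Type*} [CommRing R] {G : Type*} [Group G]

/-- The basis element of `x`. -/
noncomputable abbrev dlt (R : Type*) [CommRing R] {G : Type*} [Group G] (x : G) :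
    MonoidAlgebra R G :=
  MonoidAlgebra.single x (1 : R)

theorem dlt_mul (x y : G) : dlt R x * dlt R y = dlt R (x * y) := by simp

theorem dlt_one : dlt R (1 : G) = 1 := rfl

theorem coeff_dlt_mul (x : G) (a : MonoidAlgebra R G) (g : G) :
    (dlt R x * a).coeff g = a.coeff (x⁻¹ * g) := by simp

theorem coeff_mul_dlt (x : G) (a : MonoidAlgebra R G) (g : G) :
    (a * dlt R x).coeff g = a.coeff (g * x⁻¹) := by simp

theorem commute_dlt_iff {x : G} {a : MonoidAlgebra R G} :
    Commute (dlt R x) a ↔ ∀ g, a.coeff (x * g * x⁻¹) = a.coeff g := by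
  constructor
  · intro h g
    have h2 := DFunLike.congr_fun (congrArg MonoidAlgebra.coeff h.eq) (x * g)
    rw [coeff_dlt_mul, coeff_mul_dlt, inv_mul_cancel_left] at h2
    exact h2.symm
  · intro h
    refine MonoidAlgebra.ext (Finsupp.ext fun g => ?_)
    rw [coeff_dlt_mul, coeff_mul_dlt, ← h (x⁻¹ * g), mul_inv_cancel_left]

variable (R) in
/-- The elements commuting with all members of `S`. -/
noncomputable def fixAlg (S : Set G) : Subalgebra R (MonoidAlgebra R G) :=
  Subalgebra.centralizer R (dlt R '' S)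

theorem mem_fixAlg {S : Set G} {a : MonoidAlgebra R G} :
    a ∈ fixAlg R S ↔ ∀ s ∈ S, Commute (dlt R s) a := by
  rw [fixAlg, Subalgebra.mem_centralizer_iff, Set.forall_mem_image]
  exact Iff.rfl

theorem mem_fixAlg_iff {S : Set G} {a : MonoidAlgebra R G} :
    a ∈ fixAlg R S ↔ ∀ s ∈ S, ∀ g, a.coeff (s * g * s⁻¹) = a.coeff g :=
  mem_fixAlg.trans (forall₂_congr fun _ _ => commute_dlt_iff)

theorem fixAlg_anti {S T : Set G} (h : S ⊆ T) : fixAlg R T ≤ fixAlg R S := fun _ ha =>
  mem_fixAlg.mpr fun s hs => mem_fixAlg.mp ha s (h hs)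

theorem fixAlg_closure (S : Set G) : fixAlg R (Subgroup.closure S : Set G) = fixAlg R S := by
  refine le_antisymm (fixAlg_anti Subgroup.subset_closure) fun a ha => mem_fixAlg.mpr fun s hs => ?_
  induction hs using Subgroup.closure_induction with
  | mem x hx => exact mem_fixAlg.mp ha x hx
  | one => rw [dlt_one]; exact Commute.one_left a
  | mul x y _ _ hx hy => rw [← dlt_mul]; exact hx.mul_left hy
  | inv x _ hx =>
    refine commute_dlt_iff.mpr fun g => ?_
    conv_rhs => rw [show g = x * (x⁻¹ * g * x⁻¹⁻¹) * x⁻¹ by group]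
    exact (commute_dlt_iff.mp hx _).symm

theorem fixAlg_zpowers (u : G) : fixAlg R (Subgroup.zpowers u : Set G) = fixAlg R {u} := by
  rw [Subgroup.zpowers_eq_closure, fixAlg_closure]

variable (R) in
/-- Conjugation by `x`. -/
noncomputable def conjAlg (x : G) : MonoidAlgebra R G ≃ₐ[R] MonoidAlgebra R G :=
  MonoidAlgebra.domCongr R R (MulAut.conj x)

theorem coeff_conjAlg (x : G) (a : MonoidAlgebra R G) (g : G) :
    (conjAlg R x a).coeff g = a.coeff (x⁻¹ * g * x) := by
  have h : g = MulAut.conj x (x⁻¹ * g * x) := by simp [mul_assoc]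
  conv_lhs => rw [h]
  simp [conjAlg]
  congr 1
  group

theorem conjAlg_mul (x y : G) (a : MonoidAlgebra R G) :
    conjAlg R (x * y) a = conjAlg R x (conjAlg R y a) := by
  refine MonoidAlgebra.ext (Finsupp.ext fun g => ?_)
  simp only [coeff_conjAlg, mul_inv_rev, mul_assoc]

theorem conjAlg_one (a : MonoidAlgebra R G) : conjAlg R (1 : G) a = a := by
  refine MonoidAlgebra.ext (Finsupp.ext fun g => ?_)
  simp [coeff_conjAlg]

theorem conjAlg_dlt (x s : G) : conjAlg R x (dlt R s) = dlt R (x * s * x⁻¹) := by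
  simp [conjAlg]

theorem conjAlg_eq_self {x : G} {a : MonoidAlgebra R G} (h : Commute (dlt R x) a) :
    conjAlg R x a = a := by
  refine MonoidAlgebra.ext (Finsupp.ext fun g => ?_)
  rw [coeff_conjAlg, ← commute_dlt_iff.mp h (x⁻¹ * g * x)]
  congr 1
  group

theorem conjAlg_mem {x : G} {S T : Set G} (hST : ∀ t ∈ T, x⁻¹ * t * x ∈ S)
    {a : MonoidAlgebra R G} (ha : a ∈ fixAlg R S) : conjAlg R x a ∈ fixAlg R T := by
  refine mem_fixAlg.mpr fun t ht => ?_
  have h := (mem_fixAlg.mp ha _ (hST t ht)).map (conjAlg R x)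
  rwa [conjAlg_dlt, show x * (x⁻¹ * t * x) * x⁻¹ = t by group] at h

/-! ### Truncation -/

open Classical in
/-- Keep the coefficients at the elements centralizing `U`. -/
noncomputable def trunc (U : Subgroup G) : MonoidAlgebra R G →ₗ[R] MonoidAlgebra R G where
  toFun a := .ofCoeff (a.coeff.filter fun g => g ∈ Subgroup.centralizer (U : Set G))
  map_add' a b := MonoidAlgebra.ext (by simp [Finsupp.filter_add])
  map_smul' c a := MonoidAlgebra.ext (by simp [Finsupp.filter_smul])

theorem coeff_trunc_of_mem {U : Subgroup G} {g : G} (a : MonoidAlgebra R G)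
    (hg : g ∈ Subgroup.centralizer (U : Set G)) : (trunc U a).coeff g = a.coeff g := by
  classical
  simp [trunc, hg]

theorem coeff_trunc_of_notMem {U : Subgroup G} {g : G} (a : MonoidAlgebra R G)
    (hg : g ∉ Subgroup.centralizer (U : Set G)) : (trunc U a).coeff g = 0 := by
  classical
  simp [trunc, hg]

theorem trunc_eq_self {U : Subgroup G} {a : MonoidAlgebra R G}
    (h : ∀ g, g ∉ Subgroup.centralizer (U : Set G) → a.coeff g = 0) : trunc U a = a := by
  refine MonoidAlgebra.ext (Finsupp.ext fun g => ?_)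
  by_cases hg : g ∈ Subgroup.centralizer (U : Set G)
  · exact coeff_trunc_of_mem a hg
  · rw [coeff_trunc_of_notMem a hg, h g hg]

theorem centralizer_anti {U W : Subgroup G} (h : U ≤ W) :
    Subgroup.centralizer (W : Set G) ≤ Subgroup.centralizer (U : Set G) :=
  Subgroup.centralizer_le (SetLike.coe_subset_coe.mpr h)

theorem trunc_trunc {U W : Subgroup G} (h : U ≤ W) (a : MonoidAlgebra R G) :
    trunc W (trunc U a) = trunc W a := by
  refine MonoidAlgebra.ext (Finsupp.ext fun g => ?_)
  by_cases hg : g ∈ Subgroup.centralizer (W : Set G)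
  · rw [coeff_trunc_of_mem _ hg, coeff_trunc_of_mem _ hg,
      coeff_trunc_of_mem _ (centralizer_anti h hg)]
  · rw [coeff_trunc_of_notMem _ hg, coeff_trunc_of_notMem _ hg]

theorem trunc_idem (U : Subgroup G) (a : MonoidAlgebra R G) : trunc U (trunc U a) = trunc U a :=
  trunc_trunc le_rfl a

theorem trunc_one (U : Subgroup G) : trunc U (1 : MonoidAlgebra R G) = 1 := by
  classical
  refine trunc_eq_self fun g hg => ?_
  have h1 : g ≠ 1 := fun h => hg (h ▸ one_mem _)
  simp [MonoidAlgebra.one_def, Ne.symm h1]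

theorem conj_mem_centralizer_iff {U : Subgroup G} {x : G}
    (hx : x ∈ Subgroup.normalizer (U : Set G)) (g : G) :
    x⁻¹ * g * x ∈ Subgroup.centralizer (U : Set G) ↔ g ∈ Subgroup.centralizer (U : Set G) := by
  simp only [Subgroup.mem_centralizer_iff, SetLike.mem_coe]
  constructor
  · intro h u hu
    have h2 := h (x⁻¹ * u * x)
      (by simpa using (Subgroup.mem_normalizer_iff.mp (inv_mem hx) u).mp hu)
    have h3 : x⁻¹ * (u * g) * x = x⁻¹ * (g * u) * x := by
      simpa [mul_assoc] using h2
    simpa [mul_assoc] using congrArg (fun z => x * z * x⁻¹) h3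
  · intro h u hu
    have h2 := h (x * u * x⁻¹) ((Subgroup.mem_normalizer_iff.mp hx u).mp hu)
    calc u * (x⁻¹ * g * x) = x⁻¹ * (x * u * x⁻¹ * g) * x := by group
      _ = _ := by rw [h2]; group

theorem conjAlg_trunc {U : Subgroup G} {x : G} (hx : x ∈ Subgroup.normalizer (U : Set G))
    (a : MonoidAlgebra R G) : conjAlg R x (trunc U a) = trunc U (conjAlg R x a) := by
  refine MonoidAlgebra.ext (Finsupp.ext fun g => ?_)
  rw [coeff_conjAlg]
  by_cases hg : g ∈ Subgroup.centralizer (U : Set G)
  · rw [coeff_trunc_of_mem _ hg, coeff_conjAlg,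
      coeff_trunc_of_mem _ ((conj_mem_centralizer_iff hx g).mpr hg)]
  · rw [coeff_trunc_of_notMem _ hg,
      coeff_trunc_of_notMem _ fun h => hg ((conj_mem_centralizer_iff hx g).mp h)]

theorem trunc_mem_fixAlg {U : Subgroup G} {S : Set G}
    (hS : ∀ s ∈ S, s ∈ Subgroup.normalizer (U : Set G)) {a : MonoidAlgebra R G}
    (ha : a ∈ fixAlg R S) : trunc U a ∈ fixAlg R S := by
  refine mem_fixAlg_iff.mpr fun s hs g => ?_
  have h := DFunLike.congr_fun
    (congrArg MonoidAlgebra.coeff (conjAlg_trunc (hS s hs) a)) (s * g * s⁻¹)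
  rw [conjAlg_eq_self (mem_fixAlg.mp ha s hs), coeff_conjAlg,
    show s⁻¹ * (s * g * s⁻¹) * s = g by group] at h
  exact h.symm

/-- An element supported on `S` commutes with the elements fixed by `S`. -/
theorem commute_of_support {S : Set G} {a b : MonoidAlgebra R G}
    (hb : ∀ g, g ∉ S → b.coeff g = 0) (ha : a ∈ fixAlg R S) : Commute a b := by
  classical
  have hsum : b = ∑ g ∈ b.coeff.support, b.coeff g • dlt R g := by
    refine MonoidAlgebra.ext (Finsupp.ext fun h => ?_)
    rw [MonoidAlgebra.coeff_sum, Finsupp.coe_finsetSum, Finset.sum_apply]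
    simp [Finsupp.single_apply]
  rw [hsum]
  refine Commute.sum_right _ _ _ fun g hg => Commute.smul_right ?_ _
  exact (mem_fixAlg.mp ha g (by_contra fun h => (Finsupp.mem_support_iff.mp hg) (hb g h))).symm

/-! ### Characteristic `p` -/

variable {p : ℕ} [hp : Fact p.Prime] [CharP R p]

/-- An invariant sum over a set with an action of a `p`-group is the sum over the fixed points. -/
theorem sum_eq_sum_fixed {Q α : Type*} [Group Q] [MulAction Q α] [Fintype α]
    [DecidablePred (· ∈ fixedPoints Q α)] (hQ : IsPGroup p Q) {f : α → R}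
    (hinv : ∀ (q : Q) (a : α), f (q • a) = f a) :
    ∑ a, f a = ∑ a with a ∈ fixedPoints Q α, f a := by
  classical
  rw [← sub_eq_zero, Finset.sum_filter, ← Finset.sum_sub_distrib]
  set h : α → R := fun a => f a - if a ∈ fixedPoints Q α then f a else 0
  have hh : ∀ (q : Q) (a : α), h (q • a) = h a := fun q a => by
    by_cases ha : a ∈ fixedPoints Q α
    · simp only [h, ha q]
    · have hqa : q • a ∉ fixedPoints Q α := fun hc => ha (by
        have h2 : q • a = a := Eq.symm (by simpa using hc q⁻¹)
        exact h2 ▸ hc)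
      simp only [h, hinv, if_neg ha, if_neg hqa]
  have : Fintype (Quotient (orbitRel Q α)) := Fintype.ofFinite _
  rw [← Finset.sum_fiberwise Finset.univ (Quotient.mk (orbitRel Q α))]
  refine Finset.sum_eq_zero fun ω _ => ?_
  induction ω using Quotient.inductionOn with
  | h a =>
    set s : Finset α :=
      {b | Quotient.mk (orbitRel Q α) b = Quotient.mk (orbitRel Q α) a} with hs
    have hmem : ∀ b, b ∈ s ↔ b ∈ orbit Q a := fun b => by
      rw [hs, Finset.mem_filter, Quotient.eq, orbitRel_apply]
      exact and_iff_right (Finset.mem_univ b)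
    show ∑ b ∈ s, h b = 0
    have hconst : ∀ b ∈ s, h b = h a := fun b hb => by
      obtain ⟨q, rfl⟩ := (hmem b).mp hb
      exact hh q a
    rw [Finset.sum_congr rfl hconst, Finset.sum_const, nsmul_eq_mul]
    by_cases ha : a ∈ fixedPoints Q α
    · rw [show h a = 0 from by simp only [h, if_pos ha, sub_self], mul_zero]
    · obtain ⟨n, hn⟩ := hQ.card_orbit a
      have hcard : s.card = Nat.card (orbit Q a) := by
        rw [← Nat.card_eq_finsetCard s]
        exact Nat.card_congr (Equiv.subtypeEquivRight hmem)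
      rcases n with - | n
      · rw [pow_zero] at hn
        have hsub : Subsingleton (orbit Q a) := (Nat.card_eq_one_iff_unique.mp hn).1
        exact absurd (fun q => congrArg Subtype.val
          (Subsingleton.elim (⟨q • a, mem_orbit a q⟩ : orbit Q a) ⟨a, mem_orbit_self a⟩)) ha
      · rw [hcard, hn, Nat.cast_pow, CharP.cast_eq_zero R p, zero_pow n.succ_ne_zero, zero_mul]

/-- The truncation is multiplicative on fixed elements. -/
theorem trunc_mul [Fintype G] {U : Subgroup G} (hU : IsPGroup p U) {a b : MonoidAlgebra R G}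
    (ha : a ∈ fixAlg R (U : Set G)) (hb : b ∈ fixAlg R (U : Set G)) :
    trunc U (a * b) = trunc U a * trunc U b := by
  classical
  have hmul : ∀ x y : MonoidAlgebra R G, ∀ c,
      (x * y).coeff c = ∑ h, x.coeff h * y.coeff (h⁻¹ * c) := fun x y c => by
    rw [MonoidAlgebra.coeff_mul_apply_left]
    exact Finsupp.sum_fintype _ _ fun h => by simp
  refine MonoidAlgebra.ext (Finsupp.ext fun c => ?_)
  by_cases hc : c ∈ Subgroup.centralizer (U : Set G)
  · rw [coeff_trunc_of_mem _ hc, hmul, hmul]
    let act : MulAction U G := MulAction.compHom G ((MulAut.conj : G →* MulAut G).comp U.subtype)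
    have hsm : ∀ (q : U) (h : G), q • h = (q : G) * h * (q : G)⁻¹ := fun _ _ => rfl
    have hfix : ∀ y : G, y ∈ fixedPoints U G ↔ y ∈ Subgroup.centralizer (U : Set G) := fun y => by
      rw [Subgroup.mem_centralizer_iff]
      exact ⟨fun H q hq => mul_inv_eq_iff_eq_mul.mp (H ⟨q, hq⟩),
        fun H q => mul_inv_eq_iff_eq_mul.mpr (H q q.2)⟩
    rw [sum_eq_sum_fixed (Q := U) hU (f := fun h => a.coeff h * b.coeff (h⁻¹ * c)) fun q h => by
      have e : (q • h)⁻¹ * c = (q : G) * (h⁻¹ * c) * (q : G)⁻¹ := by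
        rw [hsm]
        calc ((q : G) * h * (q : G)⁻¹)⁻¹ * c = (q : G) * h⁻¹ * ((q : G)⁻¹ * c) := by group
          _ = _ := by
            rw [Subgroup.mem_centralizer_iff.mp hc _ (inv_mem q.2)]
            group
      rw [e, hsm, mem_fixAlg_iff.mp ha _ q.2, mem_fixAlg_iff.mp hb _ q.2]]
    rw [Finset.sum_filter]
    refine Finset.sum_congr rfl fun h _ => ?_
    by_cases hh : h ∈ Subgroup.centralizer (U : Set G)
    · rw [if_pos ((hfix h).mpr hh), coeff_trunc_of_mem _ hh,
        coeff_trunc_of_mem _ (mul_mem (inv_mem hh) hc)]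
    · rw [if_neg fun h' => hh ((hfix h).mp h'), coeff_trunc_of_notMem _ hh, zero_mul]
  · rw [coeff_trunc_of_notMem _ hc, hmul]
    refine (Finset.sum_eq_zero fun h _ => ?_).symm
    by_cases hh : h ∈ Subgroup.centralizer (U : Set G)
    · rw [coeff_trunc_of_notMem b fun h' => hc (by simpa using mul_mem hh h'), mul_zero]
    · rw [coeff_trunc_of_notMem a hh, zero_mul]

theorem isIdempotentElem_trunc [Fintype G] {U : Subgroup G} (hU : IsPGroup p U)
    {a : MonoidAlgebra R G} (ha : a ∈ fixAlg R (U : Set G)) (hi : IsIdempotentElem a) :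
    IsIdempotentElem (trunc U a) := by
  rw [IsIdempotentElem, ← trunc_mul hU ha ha, hi.eq]

end CfsgLib.GrpRing
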