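import Cfsg.Agent.Lib.Blocks.StarAction
import Cfsg.Agent.Lib.Char.AbelianQuotient

/-!
# Divisibility of the numbers of characters of given height

The linear characters of the defect group trivial on the focal subgroup act on the characters of
given height of a block.  A stabilizer is trivial at every element whose subsection gives a
non-zero part: at every element for height zero, at the central elements in general.
-/

set_option autoImplicit false
set_option linter.unusedSectionVars false

namespace CfsgLib.Blocks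

open Cfsg
open CfsgLib.GrpRing
open scoped ComplexConjugate CfsgLib.Char

variable {p : ℕ} {M : Ideal AlgInt} [M.IsPrime] {G : Type*} [Group G] [Fintype G] {P : Subgroup G}
  {e : Set (IrrCharacter (Subgroup.centralizer (P : Set G)))} {B : Set (IrrCharacter G)}
  {F : FusionSystem P}

theorem exists_pow_orderOf_mem (hM : IsPModular p M) (hP : IsPGroup p P) (y : ↥P) :
    ∃ k : ℕ, orderOf (y : G) = p ^ k := by
  have : Fact p.Prime := ⟨hM.1⟩
  obtain ⟨k, hk⟩ := IsPGroup.iff_orderOf.mp hP y
  exact ⟨k, by rw [← hk, Subgroup.orderOf_coe]⟩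

theorem lam_eq_one_of_fixed (hM : IsPModular p M) (hF : IsBlockFusionSystemOn p M B P e F)
    {lam : ↥P →* ℂˣ} (hlam : ∀ n ∈ F.focalSubgroup.subgroupOf P, lam n = 1) {χ : IrrCharacter G}
    (hfix : starChar p M (χ : G → ℂ) (starW p M e lam) = (χ : G → ℂ)) {y : ↥P}
    {b : Set (IrrCharacter (cz (y : G)))}
    (hle : SubpairLE p M (Subgroup.zpowers (y : G)) b P e)
    (hne : ∃ s : cz (y : G), ¬ p ∣ orderOf s ∧ blockPart b (sect (χ : G → ℂ) (y : G)) s ≠ 0) :
    lam y = 1 := by
  classical
  obtain ⟨s, hs, hne⟩ := hne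
  have hy := exists_pow_orderOf_mem hM hF.1.1.1.1 y
  have hb : IsPBlock M b := (SubpairLE.isBrauerPair hle hF.1.1.1).2
  have h := blockPart_weighted hM hb (θ := sect (χ : G → ℂ) (y : G)) (g := sect (χ : G → ℂ) (y : G))
    (fun b' => starW p M e lam (y : G) ⟨Subgroup.zpowers (y : G), b'⟩) (fun t ht => by
      rw [← subBlocks_eq, ← starChar_section hM.1 (irr_classFunction χ) _ hy ht, hfix]
      rfl) hs
  have hw : starW p M e lam (y : G) ⟨Subgroup.zpowers (y : G), b⟩ = (lam y : ℂ) := by
    rw [starW_of_le hF hlam (x := 1) (Subgroup.mem_zpowers _) (by rw [conjPair_one]; exact hle),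
      one_mul, inv_one, mul_one, lamExt_of_mem lam y.2]
  rw [hw] at h
  have h' : ((lam y : ℂ) - 1) * blockPart b (sect (χ : G → ℂ) (y : G)) s = 0 := by
    linear_combination -h
  exact Units.ext (sub_eq_zero.mp ((mul_eq_zero.mp h').resolve_right hne))

theorem exists_part_ne_zero_of_height_zero (hM : IsPModular p M)
    (hmax : IsMaximalBrauerPair p M B P e) {χ : IrrCharacter G} (hχ : χ ∈ B)
    (h0 : blockHeight p B (χ : G → ℂ) = 0) {y : ↥P} {b : Set (IrrCharacter (cz (y : G)))}
    (hle : SubpairLE p M (Subgroup.zpowers (y : G)) b P e) :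
    ∃ s : cz (y : G), ¬ p ∣ orderOf s ∧ blockPart b (sect (χ : G → ℂ) (y : G)) s ≠ 0 := by
  have hy := exists_pow_orderOf_mem hM hmax.1.1.1 y
  have hind : IsInducedBlock M (cz (y : G)) b B :=
    (isBrauerPairOf_iff_induced hM hy (SubpairLE.isBrauerPair hle hmax.1.1).2).mp
      ((SubpairLE.isBrauerPairOf_iff hM hle hmax.1.2.1).mp hmax.1)
  have key : ∀ (K : Subgroup G), K = Subgroup.centralizer ({(y : G)} : Set G) →
      ∀ b : Set (IrrCharacter K), IsInducedBlock M K b B → ∃ s : K, ¬ p ∣ orderOf s ∧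
        blockPart b (fun c : K => (χ : G → ℂ) ((y : G) * (c : G))) s ≠ 0 := by
    rintro K rfl b hb
    classical
    exact exists_blockPart_ne_zero_of_height_zero hM hy hχ h0 hb
  exact key _ (cz_eq _) b hind

theorem exists_part_ne_zero_of_center (hM : IsPModular p M)
    (hmax : IsMaximalBrauerPair p M B P e) {χ : IrrCharacter G} (hχ : χ ∈ B) {y : ↥P}
    (hyZ : (y : G) ∈ Subgroup.centralizer (P : Set G)) {b : Set (IrrCharacter (cz (y : G)))}
    (hle : SubpairLE p M (Subgroup.zpowers (y : G)) b P e) :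
    ∃ s : cz (y : G), ¬ p ∣ orderOf s ∧ blockPart b (sect (χ : G → ℂ) (y : G)) s ≠ 0 := by
  classical
  have : Fact p.Prime := ⟨hM.1⟩
  have hy := exists_pow_orderOf_mem hM hmax.1.1.1 y
  have hb : IsPBlock M b := (SubpairLE.isBrauerPair hle hmax.1.1).2
  have hind : IsInducedBlock M (cz (y : G)) b B := (isBrauerPairOf_iff_induced hM hy hb).mp
      ((SubpairLE.isBrauerPairOf_iff hM hle hmax.1.2.1).mp hmax.1)
  have hPC : P ⊓ cz (y : G) = P := inf_eq_left.mpr fun q hq => by
    rw [cz_eq, Subgroup.mem_centralizer_singleton_iff]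
    exact Subgroup.mem_centralizer_iff.mp hyZ q hq
  have h1 := (card_centralizerIn_le hM hmax.1.1 hle).1
  rw [hPC, IsDefectGroup.card_eq hM hmax.1.2.1 (isDefectGroup_of_maximal hM hmax)] at h1
  obtain ⟨D, hD⟩ := exists_isDefectGroup hM hb
  obtain ⟨E, hE, hDE⟩ := IsInducedBlock.exists_defectGroup_le hM hind hD
  have h2 := Subgroup.card_le_of_le hDE
  rw [Subgroup.card_map_of_injective Subtype.val_injective, IsDefectGroup.card_eq hM hb hD,
    IsDefectGroup.card_eq hM hmax.1.2.1 hE] at h2
  have hd : blockDefect p b = blockDefect p B :=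
    le_antisymm ((Nat.pow_le_pow_iff_right hM.1.one_lt).mp h2)
      ((Nat.pow_le_pow_iff_right hM.1.one_lt).mp h1)
  have key : ∀ (K : Subgroup G), K = Subgroup.centralizer ({(y : G)} : Set G) →
      ∀ b : Set (IrrCharacter K), IsInducedBlock M K b B → blockDefect p b = blockDefect p B →
        ∃ s : K, ¬ p ∣ orderOf s ∧
          blockPart b (fun c : K => (χ : G → ℂ) ((y : G) * (c : G))) s ≠ 0 := by
    rintro K rfl b hb hd
    have h := diagSum_ne_zero hM hy hχ hb hd
    rw [diagSum] at h
    obtain ⟨s, hs, hne⟩ := Finset.exists_ne_zero_of_sum_ne_zero h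
    exact ⟨s, (Finset.mem_filter.mp hs).2, left_ne_zero_of_mul hne⟩
  exact key _ (cz_eq _) b hind hd

/-! ### Counting -/

/-- The linear characters trivial on `N`, as a subgroup. -/
def linSub {H : Type*} [Group H] (N : Subgroup H) : Subgroup (H →* ℂˣ) where
  carrier := {β | ∀ n ∈ N, β n = 1}
  one_mem' := fun _ _ => rfl
  mul_mem' := fun {a b} ha hb n hn => by rw [MonoidHom.mul_apply, ha n hn, hb n hn, mul_one]
  inv_mem' := fun {a} ha n hn => by rw [MonoidHom.inv_apply, ha n hn, inv_one]

theorem card_linSub {H : Type*} [Group H] [Finite H] (N : Subgroup H)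
    (hab : ∀ x y : H, x * y * x⁻¹ * y⁻¹ ∈ N) : Nat.card (linSub N) = N.index := by
  classical
  have := Fintype.ofFinite H
  have : N.Normal := ⟨fun n hn g => by
    have h := mul_mem (hab g n) hn
    rwa [inv_mul_cancel_right] at h⟩
  have : Finite (H →* ℂˣ) := Finite.of_equiv _ (Char.linearEquiv (G := H))
  have := Fintype.ofFinite (Char.LinTriv N)
  rw [← (Char.sum_linTriv N hab).1, ← Nat.card_eq_fintype_card]
  rfl

theorem relIndex_dvd_card (hM : IsPModular p M) (hF : IsBlockFusionSystemOn p M B P e F) (h : ℕ)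
    (Y : Subgroup ↥P)
    (hY : ∀ χ : IrrCharacter G, χ ∈ B → blockHeight p B (χ : G → ℂ) = h → ∀ y ∈ Y,
      ∀ b : Set (IrrCharacter (cz ((y : ↥P) : G))),
        SubpairLE p M (Subgroup.zpowers ((y : ↥P) : G)) b P e →
          ∃ s : cz ((y : ↥P) : G), ¬ p ∣ orderOf s ∧
            blockPart b (sect (χ : G → ℂ) ((y : ↥P) : G)) s ≠ 0) :
    (F.focalSubgroup.subgroupOf P).relIndex Y ∣
      Nat.card {χ : IrrCharacter G // χ ∈ B ∧ blockHeight p B (χ : G → ℂ) = h} := by
  classical
  set N := F.focalSubgroup.subgroupOf P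
  set S := {χ : IrrCharacter G // χ ∈ B ∧ blockHeight p B (χ : G → ℂ) = h}
  set A := linSub N
  have hN : N.Normal := focal_normal F
  have hst : ∀ (a : A) (χ : S), ∃ ψ : S, ((ψ.1 : IrrCharacter G) : G → ℂ) =
      starChar p M (χ.1 : G → ℂ) (starW p M e (a : ↥P →* ℂˣ)) := fun a χ => by
    obtain ⟨ψ, h1, h2, h3⟩ := exists_starIrr hM hF a.2 χ.2.1
    exact ⟨⟨ψ, h2, h3.trans χ.2.2⟩, h1⟩
  choose act hact using hst
  let _ : MulAction A S :=
    { smul := act
      one_smul := fun χ => Subtype.ext (Subtype.ext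
        ((hact 1 χ).trans (starChar_one hM hF.1 χ.2.1)))
      mul_smul := fun a b χ => Subtype.ext (Subtype.ext ((hact (a * b) χ).trans
        ((starChar_comp hM (irr_classFunction χ.1) (irr_classFunction (act b χ).1) _ _
          (hact b χ)).symm.trans (hact a (act b χ)).symm))) }
  set K : Subgroup A := (linSub (N ⊔ Y)).subgroupOf A
  have hstab : ∀ χ : S, MulAction.stabilizer A χ ≤ K := fun χ a ha => by
    have hfix : starChar p M (χ.1 : G → ℂ) (starW p M e (a : ↥P →* ℂˣ)) = (χ.1 : G → ℂ) := by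
      have h1 : act a χ = χ := ha
      rw [← hact a χ, h1]
    show ∀ n ∈ N ⊔ Y, (a : ↥P →* ℂˣ) n = 1
    suffices hle : N ⊔ Y ≤ (a : ↥P →* ℂˣ).ker from fun n hn => hle hn
    refine sup_le (fun n hn => a.2 n hn) fun y hy => ?_
    obtain ⟨b, hb⟩ := exists_le_top hM hF.1.1.1 (Subgroup.zpowers_le.mpr y.2)
    exact lam_eq_one_of_fixed hM hF a.2 hfix hb (hY χ.1 χ.2.1 χ.2.2 y hy b hb)
  have hKle : linSub (N ⊔ Y) ≤ A := fun β hβ n hn => hβ n (Subgroup.mem_sup_left hn)
  have hidx : K.index = N.relIndex Y := by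
    have h1 := K.card_mul_index
    rw [Nat.card_congr (Subgroup.subgroupOfEquivOfLe hKle).toEquiv,
      card_linSub (N ⊔ Y) fun x y => Subgroup.mem_sup_left (focal_comm F x y),
      card_linSub N (focal_comm F),
      ← Subgroup.relIndex_mul_index (le_sup_left : N ≤ N ⊔ Y), mul_comm] at h1
    rw [Nat.eq_of_mul_eq_mul_right (Nat.pos_of_ne_zero Subgroup.index_ne_zero_of_finite) h1,
      sup_comm, Subgroup.relIndex_sup_right]
  have : Finite S := inferInstance
  have := Fintype.ofFinite (MulAction.orbitRel.Quotient A S)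
  rw [← hidx, Nat.card_congr (MulAction.selfEquivSigmaOrbits A S), Nat.card_sigma]
  refine Finset.dvd_sum fun ω _ => ?_
  rw [Nat.card_congr (MulAction.orbitEquivQuotientStabilizer A ω.out), ← Subgroup.index_eq_card]
  exact Subgroup.index_dvd_of_le (hstab _)

/-- The index of the focal subgroup divides the number of height zero characters. -/
theorem focal_index_dvd_card_height_zero (hM : IsPModular p M)
    (hF : IsBlockFusionSystemOn p M B P e F) :
    (F.focalSubgroup.subgroupOf P).index ∣
      Nat.card {χ : IrrCharacter G // χ ∈ B ∧ blockHeight p B (χ : G → ℂ) = 0} := by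
  rw [← Subgroup.relIndex_top_right]
  exact relIndex_dvd_card hM hF 0 ⊤ fun χ hχ h0 y _ b hb =>
    exists_part_ne_zero_of_height_zero hM hF.1 hχ h0 hb

/-- The index of the focal subgroup in the centre divides the number of characters of each
height. -/
theorem center_index_dvd_card_height (hM : IsPModular p M)
    (hF : IsBlockFusionSystemOn p M B P e F) (h : ℕ) :
    ((P ⊓ Subgroup.centralizer (P : Set G) ⊓ F.focalSubgroup).subgroupOf
        (P ⊓ Subgroup.centralizer (P : Set G))).index ∣
      Nat.card {χ : IrrCharacter G // χ ∈ B ∧ blockHeight p B (χ : G → ℂ) = h} := by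
  have hd := relIndex_dvd_card hM hF h ((P ⊓ Subgroup.centralizer (P : Set G)).subgroupOf P)
    fun χ hχ _ y hy b hb =>
      exists_part_ne_zero_of_center hM hF.1 hχ (Subgroup.mem_subgroupOf.mp hy).2 hb
  rw [Subgroup.relIndex_subgroupOf inf_le_left] at hd
  rwa [← Subgroup.relIndex, inf_comm (P ⊓ Subgroup.centralizer (P : Set G)),
    Subgroup.inf_relIndex_right]

end CfsgLib.Blocks
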