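import Cfsg.Agent.Lib.Blocks.Osima

/-!
# Blocks are determined by the central characters on p-regular classes
-/

set_option autoImplicit false
set_option linter.unusedSectionVars false

namespace CfsgLib.Blocks

open Cfsg
open scoped ComplexConjugate CfsgLib.Char

variable {p : ℕ} {M : Ideal AlgInt} {G : Type*} [Group G] [Fintype G]

/-- Two irreducible characters with congruent central characters on the `p`-regular classes lie in
the same block. -/
theorem sameBlock_of_regular_congr (hM : IsPModular p M) {χ ψ : IrrCharacter G}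
    (h : ∀ g : G, IsPRegular p g →
      MemLocalIdeal M (centralChar (χ : G → ℂ) g - centralChar (ψ : G → ℂ) g)) :
    SameBlock M (χ : G → ℂ) (ψ : G → ℂ) := by
  classical
  have := isPrime_of_isPModular hM
  set B := blockOf M (ψ : G → ℂ)
  have hB : IsPBlock M B := isPBlock_blockOf ψ
  have hU : IsBlockUnion M B := IsPBlock.isBlockUnion hB
  have key : MemLocalIdeal M (indVec B χ - indVec B ψ) := by
    rw [← omega_blockCoeff, ← omega_blockCoeff,
      omega_eq_sum_classes χ (isClassFunction_blockCoeff B),
      omega_eq_sum_classes ψ (isClassFunction_blockCoeff B), ← Finset.sum_sub_distrib]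
    refine memLocalIdeal_sum _ _ fun c _ => ?_
    rw [← mul_sub]
    by_cases hr : IsPRegular p (Quotient.out c)
    · exact memLocalIdeal_mul_left (IsPBlock.memLocalRing_blockCoeff hB _) (h _ hr)
    · rw [blockCoeff_eq_zero_of_not_regular hM hU hr, zero_mul]
      exact memLocalIdeal_zero
  by_contra hn
  rw [indVec_of_notMem (show χ ∉ B from fun hm => hn (SameBlock.symm hm)), indVec_of_mem (mem_blockOf_self ψ)] at key
  refine not_memLocalIdeal_one (M := M) ?_
  simpa using memLocalIdeal_neg key

/-- Membership in the principal block only needs the `p`-regular classes. -/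
theorem mem_principalBlock_of_regular (hM : IsPModular p M) {χ : IrrCharacter G}
    (h : ∀ g : G, IsPRegular p g → MemLocalIdeal M
      (centralChar (χ : G → ℂ) g - ((Subgroup.centralizer ({g} : Set G)).index : ℂ))) :
    χ ∈ principalBlock M G := by
  have := isPrime_of_isPModular hM
  rw [principalBlock_eq]
  refine SameBlock.symm (sameBlock_of_regular_congr hM fun g hg => ?_)
  have e : centralChar (trivIrr G : G → ℂ) g =
      ((Subgroup.centralizer ({g} : Set G)).index : ℂ) := by
    simp [centralChar, trivIrr]
  rw [e]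
  exact h g hg

/-- If `G = H C` then the index of `C` is its relative index in `H`. -/
theorem index_eq_relIndex_of_mul {G : Type*} [Group G] (H C : Subgroup G)
    (h : ∀ g : G, ∃ a ∈ H, ∃ c ∈ C, g = a * c) : C.index = C.relIndex H := by
  have : MulAction.IsPretransitive H (G ⧸ C) := by
    refine ⟨fun x y => ?_⟩
    obtain ⟨a, rfl⟩ := QuotientGroup.mk_surjective x
    obtain ⟨b, rfl⟩ := QuotientGroup.mk_surjective y
    obtain ⟨u, hu, c, hc, ha⟩ := h a
    obtain ⟨v, hv, d, hd, hb⟩ := h b
    refine ⟨⟨v, hv⟩ * ⟨u, hu⟩⁻¹, ?_⟩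
    rw [ha, hb]
    show ((↑((v * u⁻¹) * (u * c))) : G ⧸ C) = ↑(v * d)
    rw [QuotientGroup.eq, show (v * u⁻¹ * (u * c))⁻¹ * (v * d) = c⁻¹ * d by group]
    exact C.mul_mem (C.inv_mem hc) hd
  have hst : MulAction.stabilizer H ((1 : G) : G ⧸ C) = C.subgroupOf H := by
    ext a
    rw [MulAction.mem_stabilizer_iff, Subgroup.mem_subgroupOf]
    show ((↑((a : G) * 1)) : G ⧸ C) = ↑(1 : G) ↔ _
    rw [QuotientGroup.eq]
    simp
  rw [Subgroup.relIndex, ← hst, MulAction.index_stabilizer_of_transitive]
  rfl

end CfsgLib.Blocks
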