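import Cfsg.Agent.Lib.Blocks.Osima
import Cfsg.Agent.Lib.Char.Burnside
import Cfsg.Agent.Lib.Char.Counting
import Cfsg.Agent.Lib.Layer.Radical
import Cfsg.Agent.Lib.ZJ.RealElements

/-!
Elements with a conjugacy class of prime power size, after Kazarin, by principal blocks.

If `O_p(G) = 1`, an element with `p`-power class size lies in an abelian subgroup generated by
the central elements of the cores `O_q(G)`.
-/

set_option autoImplicit false
set_option linter.style.haveILetI false
set_option linter.unusedSectionVars false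

namespace CfsgLib.Blocks.Kazarin

open Cfsg CfsgLib
open scoped ComplexConjugate CfsgLib.Char

variable {G : Type*} [Group G] [Finite G]

theorem isIntegral_algebraMap_natCast (m : ℕ) : IsIntegral ℤ (m : ℂ) := by
  have h := isIntegral_algebraMap (R := ℤ) (A := ℂ) (x := (m : ℤ))
  rwa [map_natCast] at h

theorem relIndex_normal_dvd_index (C N : Subgroup G) [N.Normal] : C.relIndex N ∣ C.index := by
  have h1 := Subgroup.relIndex_mul_relIndex (C ⊓ N) N (C ⊔ N) inf_le_right le_sup_right
  have h2 := Subgroup.relIndex_mul_relIndex (C ⊓ N) C (C ⊔ N) inf_le_left le_sup_left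
  rw [Subgroup.inf_relIndex_right, Subgroup.relIndex_sup_right] at h1
  rw [Subgroup.inf_relIndex_left] at h2
  have h3 : C.relIndex N = C.relIndex (C ⊔ N) :=
    Nat.eq_of_mul_eq_mul_right (Nat.pos_of_ne_zero Subgroup.FiniteIndex.index_ne_zero)
      (h1.trans (h2.symm.trans (mul_comm _ _)))
  rw [h3]
  exact Subgroup.relIndex_dvd_index_of_le le_sup_left

theorem centralizer_subgroupOf {K : Subgroup G} {y : G} (hy : y ∈ K) :
    Subgroup.centralizer ({(⟨y, hy⟩ : K)} : Set K) =
      (Subgroup.centralizer ({y} : Set G)).subgroupOf K := by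
  ext u
  simp [Subgroup.mem_centralizer_singleton_iff, Subgroup.mem_subgroupOf, Subtype.ext_iff]

omit [Finite G] in
/-- A character with a scalar value at a normally generating element is linear. -/
theorem degree_one_of_scalar [Fintype G] {n : ℕ} (ρ : Representation ℂ G (Fin n → ℂ))
    [hρ : ρ.IsIrreducible] {y : G} (hy : ∃ ω : ℂ, ρ y = ω • LinearMap.id)
    (hgen : Subgroup.normalClosure ({y} : Set G) = ⊤) : n = 1 := by
  classical
  have hconj : ∀ g ∈ Group.conjugatesOfSet ({y} : Set G), ∃ ω : ℂ, ρ g = ω • LinearMap.id := by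
    intro g hg
    obtain ⟨a, ha, hc⟩ := Group.mem_conjugatesOfSet_iff.mp hg
    rw [Set.mem_singleton_iff] at ha
    subst ha
    obtain ⟨c, rfl⟩ := isConj_iff.mp hc
    obtain ⟨ω, hω⟩ := hy
    refine ⟨ω, ?_⟩
    rw [map_mul, map_mul, hω, mul_smul_comm, smul_mul_assoc]
    congr 1
    show ρ c * 1 * ρ c⁻¹ = _
    rw [mul_one, ← map_mul, mul_inv_cancel, map_one]
    rfl
  have hall : ∀ g : G, ∃ ω : ℂ, ρ g = ω • LinearMap.id := by
    intro g
    have hg : g ∈ Subgroup.closure (Group.conjugatesOfSet ({y} : Set G)) := by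
      show g ∈ Subgroup.normalClosure ({y} : Set G)
      rw [hgen]; exact Subgroup.mem_top g
    induction hg using Subgroup.closure_induction with
    | mem g hg => exact hconj g hg
    | one => exact ⟨1, by rw [map_one, one_smul]; rfl⟩
    | mul a b _ _ ha hb =>
      obtain ⟨u, hu⟩ := ha
      obtain ⟨v, hv⟩ := hb
      exact ⟨u * v, by rw [map_mul, hu, hv]; ext; simp; ring⟩
    | inv a _ ha =>
      obtain ⟨u, hu⟩ := ha
      refine ⟨u⁻¹, ?_⟩
      have h1 : ρ a⁻¹ * ρ a = 1 := by rw [← map_mul, inv_mul_cancel, map_one]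
      rw [hu] at h1
      have h2 : u • ρ a⁻¹ = 1 := by
        rw [← h1, mul_smul_comm]; congr 1
      rcases eq_or_ne u 0 with h0 | h0
      · rw [h0, zero_smul] at h2
        haveI : Subsingleton (Module.End ℂ (Fin n → ℂ)) := subsingleton_of_zero_eq_one h2
        exact Subsingleton.elim _ _
      · calc ρ a⁻¹ = u⁻¹ • (u • ρ a⁻¹) := by rw [inv_smul_smul₀ h0]
          _ = _ := by rw [h2]; rfl
  have hsq : ∀ g : G, ρ.character g * conj (ρ.character g) = ((n : ℂ) * n) := by
    intro g
    have h := (Char.norm_character_eq_iff ρ g).mpr (hall g)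
    rw [Module.finrank_fin_fun] at h
    rw [Complex.mul_conj, Complex.normSq_eq_norm_sq, h]
    push_cast; ring
  have h1 := Char.classInner_irr_self (φ := ρ.character) ⟨n, ρ, hρ, rfl⟩
  rw [classInner] at h1
  rw [Finset.sum_congr rfl fun g _ => hsq g, Finset.sum_const, Finset.card_univ, nsmul_eq_mul,
    Fintype.card_eq_nat_card, ← mul_assoc,
    inv_mul_cancel₀ (Nat.cast_ne_zero.mpr Nat.card_pos.ne'), one_mul] at h1
  exact Nat.eq_one_of_mul_eq_one_right (m := n) (by exact_mod_cast h1)

/-- The abelianization of a group normally generated by a `q`-element is a `q`-group. -/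
theorem index_commutator_dvd {y : G} {m : ℕ} (hy : y ^ m = 1)
    (hgen : Subgroup.normalClosure ({y} : Set G) = ⊤) : (commutator G).index ∣ m := by
  have htop : (⊤ : Subgroup (Abelianization G)) = Subgroup.zpowers (Abelianization.of y) := by
    refine (eq_top_iff.mpr ?_).symm
    have hle : Subgroup.normalClosure ({y} : Set G) ≤
        (Subgroup.zpowers (Abelianization.of y)).comap Abelianization.of := by
      refine Subgroup.normalClosure_le_normal ?_
      simp
    intro a _
    obtain ⟨g, rfl⟩ := QuotientGroup.mk'_surjective (commutator G) a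
    exact hle (hgen ▸ Subgroup.mem_top g)
  show Nat.card (Abelianization G) ∣ m
  rw [← Subgroup.card_top, htop, Nat.card_zpowers]
  exact orderOf_dvd_of_pow_eq_one (by rw [← map_pow, hy, map_one])

/-- A group normally generated by a `q`-element with `p`-power class has a `p`-group as its
derived subgroup. -/
theorem commutator_isPGroup {p q : ℕ} (hp : p.Prime) (hq : q.Prime) (hpq : q ≠ p) {y : G} {k : ℕ}
    (hy : y ^ q ^ k = 1) {a : ℕ}
    (hcl : (Subgroup.centralizer ({y} : Set G)).index = p ^ a)
    (hgen : Subgroup.normalClosure ({y} : Set G) = ⊤) : IsPGroup p (commutator G) := by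
  classical
  haveI := Fact.mk hp
  haveI : Fintype G := Fintype.ofFinite G
  refine IsPGroup.iff_orderOf.mpr fun g => ?_
  refine ⟨_, Nat.eq_prime_pow_of_unique_prime_dvd (orderOf_pos g).ne' fun {r} hr hdvd => ?_⟩
  by_contra hrp
  obtain ⟨M, hM⟩ : ∃ M : Ideal AlgInt, IsPModular r M := by
    have hne : Ideal.span {((r : ℕ) : AlgInt)} ≠ ⊤ := by
      intro h
      rw [Ideal.span_singleton_eq_top, isUnit_iff_exists] at h
      obtain ⟨b, hb, -⟩ := h
      have hb' : ((r : ℕ) : ℂ) * (b : ℂ) = 1 := by
        have := congrArg Subtype.val hb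
        simpa using this
      have hint : IsIntegral ℤ ((1 : ℕ) / (r : ℂ)) := by
        rw [show ((1 : ℕ) : ℂ) / (r : ℂ) = (b : ℂ) by
          rw [div_eq_iff (Nat.cast_ne_zero.mpr hr.ne_zero), Nat.cast_one, ← hb']; ring]
        exact b.2
      exact hr.ne_one (Nat.dvd_one.mp (Char.dvd_of_isIntegral_div hr.ne_zero hint))
    obtain ⟨M, hM, hle⟩ := Ideal.exists_le_maximal _ hne
    exact ⟨M, hr, hM, hle (Ideal.mem_span_singleton_self _)⟩
  haveI := isPrime_of_isPModular hM
  have hpM : ¬ MemLocalIdeal M ((p ^ a : ℕ) : ℂ) := by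
    rw [memLocalIdeal_natCast_iff hM]
    exact fun h => hrp ((Nat.prime_dvd_prime_iff_eq hr hp).mp (hr.dvd_of_dvd_pow h))
  set S : Finset (IrrCharacter G) := (Set.toFinite (principalBlock M G)).toFinset with hS
  -- characters of degree prime to `p` in the block are linear
  have hlin : ∀ χ ∈ S, ¬ p ∣ charDegree (χ : G → ℂ) → (χ : G → ℂ) 1 = 1 := by
    intro χ hχ hdeg
    obtain ⟨n, ρ, hρ, e⟩ := χ.2
    have hn : (χ : G → ℂ) 1 = (n : ℂ) := by
      rw [← e, Representation.char_one, Module.finrank_fin_fun]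
    have hd : charDegree (χ : G → ℂ) = n := by
      have := (irr_degree_eq χ).1
      rw [hn] at this
      exact_mod_cast this.symm
    rw [hd] at hdeg
    have hcop : Nat.Coprime (Module.finrank ℂ (Fin n → ℂ))
        (Subgroup.centralizer ({y} : Set G)).index := by
      rw [hcl, Module.finrank_fin_fun]
      exact ((hp.coprime_iff_not_dvd).mpr hdeg).symm.pow_right a
    rcases Char.burnside_zero_or_scalar ρ y hcop with h | h
    · exfalso
      have hb : SameBlock M (fun _ => (1 : ℂ)) (χ : G → ℂ) :=
        mem_blockOf_iff.mp ((Set.Finite.mem_toFinset _).mp hχ)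
      have := hb y
      rw [centralChar, centralChar, ← e, h] at this
      simp only [mul_zero, zero_div, sub_zero, mul_one, div_one, hcl] at this
      exact hpM this
    · have h1 := degree_one_of_scalar ρ ((Char.norm_character_eq_iff ρ y).mp h) hgen
      rw [hn, h1, Nat.cast_one]
  -- the linear characters of the block form a group
  let K : Subgroup (G →* ℂˣ) :=
    { carrier := {β | SameBlock M (fun _ => (1 : ℂ)) (fun u => (β u : ℂ))}
      one_mem' := fun u => by
        show MemLocalIdeal M (centralChar (fun _ => (1 : ℂ)) u -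
          centralChar (fun u => (((1 : G →* ℂˣ) u : ℂˣ) : ℂ)) u)
        simp only [MonoidHom.one_apply, Units.val_one]
        exact memLocalIdeal_sub_self _
      mul_mem' := fun {β γ} hβ hγ u => by
        have h1 := hβ u
        have h2 := hγ u
        simp only [centralChar, map_one, Units.val_one, mul_one, div_one] at h1 h2 ⊢
        have hint : MemLocalRing M ((β u : ℂ)) := memLocalRing_of_isIntegral
          (Char.isIntegral_value (Char.isCharacter_monoidHom β) u)
        have h3 := memLocalIdeal_add h1 (memLocalIdeal_mul_left hint h2)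
        simp only [MonoidHom.mul_apply, Units.val_mul]
        convert h3 using 1
        ring
      inv_mem' := fun {β} hβ u => by
        have h1 := hβ u
        simp only [centralChar, map_one, Units.val_one, mul_one, div_one] at h1 ⊢
        have hint : MemLocalRing M (((β⁻¹) u : ℂˣ) : ℂ) := memLocalRing_of_isIntegral
          (Char.isIntegral_value (Char.isCharacter_monoidHom β⁻¹) u)
        have h3 := memLocalIdeal_neg (memLocalIdeal_mul_left hint h1)
        convert h3 using 1
        have h4 : (((β⁻¹) u : ℂˣ) : ℂ) * (β u : ℂ) = 1 := by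
          rw [← Units.val_mul, MonoidHom.inv_apply, inv_mul_cancel, Units.val_one]
        linear_combination
          (-((Subgroup.centralizer ({u} : Set G)).index : ℂ)) * h4 }
  set T : Finset (IrrCharacter G) := S.filter fun χ => ¬ p ∣ charDegree (χ : G → ℂ) with hT
  have hcard : T.card = Nat.card K := by
    rw [← Nat.card_eq_finsetCard]
    refine Nat.card_congr (show {χ : IrrCharacter G // χ ∈ T} ≃ K from
      { toFun := fun (χ : {χ : IrrCharacter G // χ ∈ T}) => ⟨Char.linearEquiv ⟨χ.1, hlin χ.1 (Finset.mem_filter.mp χ.2).1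
          (Finset.mem_filter.mp χ.2).2⟩, mem_blockOf_iff.mp
            ((Set.Finite.mem_toFinset _).mp (Finset.mem_filter.mp χ.2).1)⟩
        invFun := fun β => ⟨(Char.linearEquiv.symm β.1).1, Finset.mem_filter.mpr
          ⟨(Set.Finite.mem_toFinset _).mpr (mem_blockOf_iff.mpr β.2), fun h => ?_⟩⟩
        left_inv := fun χ => Subtype.ext (Subtype.ext rfl)
        right_inv := fun β => Subtype.ext (MonoidHom.ext fun u => Units.ext rfl) })
    have h1 := (irr_degree_eq (Char.linearEquiv.symm β.1).1).1
    rw [(Char.linearEquiv.symm β.1).2] at h1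
    have h2 : charDegree ((Char.linearEquiv.symm β.1).1 : G → ℂ) = 1 := by exact_mod_cast h1.symm
    exact hp.not_dvd_one (h2 ▸ h)
  have hnd : ¬ p ∣ T.card := by
    rw [hcard]
    intro h
    have h1 : Nat.card K ∣ (commutator G).index := by
      refine (Subgroup.card_subgroup_dvd_card K).trans (dvd_of_eq ?_)
      rw [Nat.card_congr Abelianization.lift, Char.card_hom_units]
      rfl
    have h2 := h.trans (h1.trans (index_commutator_dvd hy hgen))
    exact hpq ((Nat.prime_dvd_prime_iff_eq hp hq).mp (hp.dvd_of_dvd_pow h2)).symm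
  refine hnd ?_
  -- weak block orthogonality at the singular element
  have hsing : ¬ IsPRegular r (g : G) := fun h => h (by rwa [Subgroup.orderOf_coe])
  have hB : IsBlockUnion M (S : Set (IrrCharacter G)) := by
    rw [hS, Set.Finite.coe_toFinset]
    exact IsPBlock.isBlockUnion isPBlock_principalBlock
  have hsum := sum_block_mul_conj_eq_zero hM hB (x := (1 : G))
    (fun h => hr.not_dvd_one (by rwa [orderOf_one] at h)) hsing
  rw [← Finset.sum_filter_not_add_sum_filter S (fun χ : IrrCharacter G => p ∣ charDegree (χ : G → ℂ))] at hsum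
  have hT1 : ∀ χ ∈ T, (χ : G → ℂ) 1 * conj ((χ : G → ℂ) (g : G)) = 1 := by
    intro χ hχ
    have h1 := hlin χ (Finset.mem_filter.mp hχ).1 (Finset.mem_filter.mp hχ).2
    have h2 : Char.linearEquiv ⟨χ, h1⟩ (g : G) = 1 :=
      (Abelianization.commutator_subset_ker (Char.linearEquiv ⟨χ, h1⟩)) g.2
    have h3 : (χ : G → ℂ) (g : G) = 1 := by
      have := congrArg (fun u : ℂˣ => (u : ℂ)) h2
      exact this
    rw [h1, h3, map_one, one_mul]
  rw [Finset.sum_congr rfl hT1, Finset.sum_const, nsmul_one] at hsum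
  set R := ∑ χ ∈ S.filter fun χ : IrrCharacter G => p ∣ charDegree (χ : G → ℂ),
    ((charDegree (χ : G → ℂ) / p : ℕ) : ℂ) * conj ((χ : G → ℂ) (g : G)) with hR
  have hR' : ∑ χ ∈ S.filter (fun χ : IrrCharacter G => p ∣ charDegree (χ : G → ℂ)),
      (χ : G → ℂ) 1 * conj ((χ : G → ℂ) (g : G)) = (p : ℂ) * R := by
    rw [hR, Finset.mul_sum]
    refine Finset.sum_congr rfl fun χ hχ => ?_
    rw [(irr_degree_eq χ).1, ← mul_assoc, ← Nat.cast_mul,
      Nat.mul_div_cancel' (Finset.mem_filter.mp hχ).2]
  rw [hR'] at hsum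
  have hint : IsIntegral ℤ R := IsIntegral.sum _ fun χ _ =>
    (isIntegral_algebraMap_natCast (charDegree (χ : G → ℂ) / p)).mul (irr_conj_isIntegral χ.2 _)
  refine Char.dvd_of_isIntegral_div hp.ne_zero ?_
  have e : (T.card : ℂ) / (p : ℂ) = -R := by
    rw [div_eq_iff (Nat.cast_ne_zero.mpr hp.ne_zero)]
    linear_combination hsum
  rw [e]
  exact hint.neg

/-- The case of a `p`-element. -/
theorem mem_pCore_self {p : ℕ} [Fact p.Prime] {y : G} {k : ℕ} (hy : orderOf y = p ^ k) {a : ℕ}
    (hcl : (Subgroup.centralizer ({y} : Set G)).index = p ^ a) : y ∈ Cfsg.pCore p G := by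
  have hp : p.Prime := Fact.out
  set C := Subgroup.centralizer ({y} : Set G) with hC
  have hyC : y ∈ C := Subgroup.mem_centralizer_singleton_iff.mpr rfl
  set Q : Sylow p C := default with hQ
  -- `y` is central in `C`, so lies in every Sylow subgroup of `C`
  have hyQ : (⟨y, hyC⟩ : C) ∈ (Q : Subgroup C) := by
    have hn : (Subgroup.zpowers (⟨y, hyC⟩ : C)).Normal := by
      refine ⟨fun u hu c => ?_⟩
      obtain ⟨j, rfl⟩ := hu
      have hcy : Commute c (⟨y, hyC⟩ : C) :=
        Subtype.ext (Subgroup.mem_centralizer_singleton_iff.mp c.2).symm |>.symm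
      rw [(hcy.zpow_right j).eq, mul_inv_cancel_right]
      exact Subgroup.zpow_mem _ (Subgroup.mem_zpowers _) j
    have hpg : IsPGroup p (Subgroup.zpowers (⟨y, hyC⟩ : C)) :=
      IsPGroup.of_card (n := k) (by rw [Nat.card_zpowers, Subgroup.orderOf_mk, hy])
    exact hpg.le_sylow_of_normal Q (Subgroup.mem_zpowers _)
  obtain ⟨P, hP⟩ := (Q.2.map C.subtype).exists_le_sylow
  have hyP : y ∈ (P : Subgroup G) := hP ⟨⟨y, hyC⟩, hyQ, rfl⟩
  -- the index of `C` is the index of `P ⊓ C` in `P`
  have hrel : C.index ∣ C.relIndex (P : Subgroup G) := by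
    obtain ⟨n, hn⟩ := IsPGroup.iff_card.mp P.2
    have hle : C.relIndex (P : Subgroup G) ∣ p ^ n := hn ▸ Subgroup.index_dvd_card _
    obtain ⟨j, -, hj⟩ := (Nat.dvd_prime_pow hp).mp hle
    rw [hcl, hj]
    refine Nat.pow_dvd_pow p ?_
    have hpart : (Nat.card G).factorization p = n := by
      have := Sylow.card_eq_multiplicity P
      rw [hn] at this
      exact (Nat.pow_right_injective hp.two_le this).symm
    have hG : (Nat.card G).factorization p = (Nat.card C).factorization p + a := by
      rw [← Subgroup.card_mul_index C, hcl,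
        Nat.factorization_mul Nat.card_pos.ne' (pow_ne_zero _ hp.ne_zero)]
      simp [hp.factorization_pow]
    have hmul := Subgroup.card_mul_index (C.subgroupOf (P : Subgroup G))
    rw [hn, show (C.subgroupOf (P : Subgroup G)).index = C.relIndex (P : Subgroup G) from rfl,
      hj] at hmul
    obtain ⟨i, -, hi⟩ := (Nat.dvd_prime_pow hp).mp (⟨p ^ j, hmul.symm⟩ :
      Nat.card (C.subgroupOf (P : Subgroup G)) ∣ p ^ n)
    rw [hi, ← pow_add] at hmul
    have hij := Nat.pow_right_injective hp.two_le hmul
    have hiC : p ^ i ∣ Nat.card C := by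
      rw [← hi, ← Subgroup.card_map_of_injective (P : Subgroup G).subtype_injective]
      exact Subgroup.card_dvd_of_le (Subgroup.map_le_iff_le_comap.mpr le_rfl)
    have := (hp.pow_dvd_iff_le_factorization Nat.card_pos.ne').mp hiC
    omega
  have hconj : ∀ g : G, g * y * g⁻¹ ∈ (P : Subgroup G) := by
    let f : (P : Subgroup G) ⧸ C.subgroupOf (P : Subgroup G) → G ⧸ C :=
      Quotient.map' (fun u => (u : G)) fun a b h => by
        rw [QuotientGroup.leftRel_apply] at h ⊢
        simpa [Subgroup.mem_subgroupOf] using h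
    have hinj : Function.Injective f := by
      intro a b
      induction a using QuotientGroup.induction_on with
      | _ a =>
        induction b using QuotientGroup.induction_on with
        | _ b =>
          intro h
          have h' : ((a : G) : G ⧸ C) = ((b : G) : G ⧸ C) := h
          rw [QuotientGroup.eq] at h'
          exact QuotientGroup.eq.mpr (by simpa [Subgroup.mem_subgroupOf] using h')
    have hb := hinj.bijective_of_nat_card_le
      (Nat.le_of_dvd (Nat.pos_of_ne_zero Subgroup.FiniteIndex.index_ne_zero) hrel)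
    intro g
    obtain ⟨u, hu⟩ := hb.2 (g : G ⧸ C)
    induction u using QuotientGroup.induction_on with
    | _ u =>
      have h' : ((u : G) : G ⧸ C) = (g : G ⧸ C) := hu
      rw [QuotientGroup.eq, hC, Subgroup.mem_centralizer_singleton_iff] at h'
      have e : g * y * g⁻¹ = (u : G) * y * (u : G)⁻¹ := by
        calc g * y * g⁻¹ = (u : G) * (((u : G)⁻¹ * g) * y) * g⁻¹ := by group
          _ = (u : G) * (y * ((u : G)⁻¹ * g)) * g⁻¹ := by rw [h']
          _ = _ := by group
      rw [e]
      exact mul_mem (mul_mem u.2 hyP) (inv_mem u.2)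
  have hle : Subgroup.normalClosure ({y} : Set G) ≤ (P : Subgroup G) := by
    rw [Subgroup.normalClosure, Subgroup.closure_le]
    intro u hu
    obtain ⟨b, hb, hc⟩ := Group.mem_conjugatesOfSet_iff.mp hu
    rw [Set.mem_singleton_iff] at hb
    subst hb
    obtain ⟨c, rfl⟩ := isConj_iff.mp hc
    exact hconj c
  exact Fitting.le_pCore Subgroup.normalClosure_normal (P.2.to_le hle)
    (Subgroup.subset_normalClosure rfl)

/-- A `q`-element with `p`-power class lies in `O_q` if `O_p = 1`. -/
theorem mem_pCore_of_class {p q : ℕ} [Fact p.Prime] (hq : q.Prime) (hO : Cfsg.pCore p G = ⊥)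
    {y : G} {k : ℕ} (hy : orderOf y = q ^ k) {a : ℕ}
    (hcl : (Subgroup.centralizer ({y} : Set G)).index = p ^ a) : y ∈ Cfsg.pCore q G := by
  classical
  have hp : p.Prime := Fact.out
  rcases eq_or_ne q p with rfl | hpq
  · exact mem_pCore_self hy hcl
  haveI := Fact.mk hq
  set C := Subgroup.centralizer ({y} : Set G) with hC
  let 𝒮 : Set (Subgroup G) := {K | K.IsSubnormal ∧ y ∈ K ∧ ∃ b, C.relIndex K = p ^ b}
  have htop : (⊤ : Subgroup G) ∈ 𝒮 := ⟨Subgroup.IsSubnormal.top, Subgroup.mem_top y, a,
    by rw [Subgroup.relIndex_top_right, hcl]⟩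
  obtain ⟨H, hH⟩ := Set.Finite.exists_minimal (Set.toFinite 𝒮) ⟨_, htop⟩
  obtain ⟨hHs, hyH, b, hb⟩ := hH.1
  set N : Subgroup H := Subgroup.normalClosure ({⟨y, hyH⟩} : Set H) with hN
  have hNtop : N = ⊤ := by
    have hle : N.map H.subtype ≤ H := Subgroup.map_subtype_le N
    have hmem : N.map H.subtype ∈ 𝒮 := by
      refine ⟨Subgroup.IsSubnormal.trans' Subgroup.normalClosure_normal.isSubnormal hHs,
        ⟨⟨y, hyH⟩, Subgroup.subset_normalClosure rfl, rfl⟩, ?_⟩
      have h1 := relIndex_normal_dvd_index (C.subgroupOf H) N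
      rw [show (C.subgroupOf H).index = p ^ b from hb,
        show (C.subgroupOf H).relIndex N = C.relIndex (N.map H.subtype) from
          Subgroup.relIndex_comap C H.subtype N] at h1
      obtain ⟨c, -, hc⟩ := (Nat.dvd_prime_pow hp).mp h1
      exact ⟨c, hc⟩
    refine Subgroup.map_injective H.subtype_injective ?_
    rw [← MonoidHom.range_eq_map, Subgroup.range_subtype]
    exact le_antisymm hle (hH.2 hmem hle)
  have hcomm : IsPGroup p (commutator H) := by
    refine commutator_isPGroup hp hq hpq (y := ⟨y, hyH⟩) (k := k) ?_ (a := b) ?_ hNtop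
    · exact Subtype.ext (show y ^ q ^ k = 1 by rw [← hy, pow_orderOf_eq_one])
    · rw [centralizer_subgroupOf]
      exact hb
  have hbot : commutator H = ⊥ := by
    have h1 := Layer.le_pCore_of_isSubnormal
      (Subgroup.IsSubnormal.trans' (Subgroup.Normal.isSubnormal (H := commutator H) inferInstance)
        hHs) (hcomm.map H.subtype)
    rw [hO, le_bot_iff, Subgroup.map_eq_bot_iff_of_injective _ H.subtype_injective] at h1
    exact h1
  have hHq : IsPGroup q H := by
    have h1 := index_commutator_dvd (y := (⟨y, hyH⟩ : H)) (m := q ^ k)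
      (Subtype.ext (show y ^ q ^ k = 1 by rw [← hy, pow_orderOf_eq_one])) hNtop
    rw [hbot, Subgroup.index_bot] at h1
    obtain ⟨c, -, hc⟩ := (Nat.dvd_prime_pow hq).mp h1
    exact IsPGroup.of_card hc
  exact Layer.le_pCore_of_isSubnormal hHs hHq hyH

/-- The elements of the cores `O_q` centralizing their core. -/
def coreCentre (G : Type*) [Group G] : Set G :=
  {y | ∃ q : ℕ, q.Prime ∧ y ∈ Cfsg.pCore q G ∧
    y ∈ Subgroup.centralizer (Cfsg.pCore q G : Set G)}

theorem coreCentre_comm {u v : G} (hu : u ∈ coreCentre G) (hv : v ∈ coreCentre G) :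
    u * v = v * u := by
  obtain ⟨q, hq, huq, -⟩ := hu
  obtain ⟨r, hr, hvr, hvc⟩ := hv
  rcases eq_or_ne q r with rfl | hne
  · exact Subgroup.mem_centralizer_iff.mp hvc u huq
  haveI := Fact.mk hq
  haveI := Fact.mk hr
  exact Subgroup.commute_of_normal_of_disjoint _ _ (Fitting.pCore_normal q) (Fitting.pCore_normal r)
    (IsPGroup.disjoint_of_ne q r hne _ _ (Fitting.pCore_isPGroup q) (Fitting.pCore_isPGroup r))
    u v huq hvr

theorem mem_closure_coreCentre {p : ℕ} [Fact p.Prime] (hO : Cfsg.pCore p G = ⊥) :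
    ∀ (x : G) (a : ℕ), (Subgroup.centralizer ({x} : Set G)).index = p ^ a →
      x ∈ Subgroup.closure (coreCentre G) := by
  have hp : p.Prime := Fact.out
  suffices h : ∀ n : ℕ, ∀ x : G, orderOf x = n → ∀ a : ℕ,
      (Subgroup.centralizer ({x} : Set G)).index = p ^ a → x ∈ Subgroup.closure (coreCentre G) from
    fun x a ha => h _ x rfl a ha
  intro n
  induction n using Nat.recOnPrimeCoprime with
  | zero => exact fun x hx => absurd hx (orderOf_pos x).ne'
  | prime_pow q k hq =>
    intro x hx a ha
    have hmem := mem_pCore_of_class hq hO hx ha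
    refine Subgroup.subset_closure ⟨q, hq, hmem, ?_⟩
    rcases eq_or_ne q p with rfl | hpq
    · rw [hO, Subgroup.mem_bot] at hmem
      rw [hmem]
      exact one_mem _
    haveI := Fact.mk hq
    haveI := Fitting.pCore_normal (G := G) q
    set C := Subgroup.centralizer ({x} : Set G) with hC
    have h1 : C.relIndex (Cfsg.pCore q G) ∣ p ^ a := ha ▸ relIndex_normal_dvd_index C _
    obtain ⟨c, hc⟩ := IsPGroup.iff_card.mp (Fitting.pCore_isPGroup (G := G) q)
    have h2 : C.relIndex (Cfsg.pCore q G) ∣ q ^ c := hc ▸ Subgroup.index_dvd_card _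
    have h3 : C.relIndex (Cfsg.pCore q G) = 1 := Nat.dvd_one.mp
      (((Nat.coprime_primes hq hp).mpr hpq).pow c a ▸ Nat.dvd_gcd h2 h1)
    rw [Subgroup.relIndex_eq_one] at h3
    exact Subgroup.mem_centralizer_iff.mpr fun u hu =>
      (Subgroup.mem_centralizer_singleton_iff.mp (h3 hu))
  | coprime u v hu hv huv ihu ihv =>
    intro x hx a ha
    have hdvd : ∀ e : ℕ, ∃ b, (Subgroup.centralizer ({x ^ e} : Set G)).index = p ^ b := fun e => by
      have hle : Subgroup.centralizer ({x} : Set G) ≤ Subgroup.centralizer ({x ^ e} : Set G) :=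
        fun c hc => Subgroup.mem_centralizer_singleton_iff.mpr
          ((Commute.pow_right (show Commute c x from
            Subgroup.mem_centralizer_singleton_iff.mp hc) e).eq)
      obtain ⟨b, -, hb⟩ := (Nat.dvd_prime_pow hp).mp (ha ▸ Subgroup.index_dvd_of_le hle)
      exact ⟨b, hb⟩
    have ov : orderOf (x ^ u) = v := by
      rw [orderOf_pow_of_dvd (by omega) (hx ▸ Dvd.intro v rfl), hx,
        Nat.mul_div_cancel_left _ (by omega)]
    have ou : orderOf (x ^ v) = u := by
      rw [orderOf_pow_of_dvd (by omega) (hx ▸ Dvd.intro_left u rfl), hx,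
        Nat.mul_div_cancel _ (by omega)]
    obtain ⟨b, hb⟩ := hdvd u
    obtain ⟨c, hc⟩ := hdvd v
    obtain ⟨s, t, hst⟩ : ∃ s t : ℤ, s * u + t * v = 1 :=
      Int.isCoprime_iff_nat_coprime.mpr (by simpa using huv)
    have e : x = (x ^ u) ^ s * (x ^ v) ^ t := by
      rw [← zpow_natCast, ← zpow_natCast, ← zpow_mul, ← zpow_mul, ← zpow_add,
        show (u : ℤ) * s + (v : ℤ) * t = 1 by linear_combination hst, zpow_one]
    rw [e]
    exact mul_mem (Subgroup.zpow_mem _ (ihv _ ov b hb) s) (Subgroup.zpow_mem _ (ihu _ ou c hc) t)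

/-- Kazarin: an element with `p`-power class lies, with its conjugates, in a subgroup that is
abelian modulo `O_p`. -/
theorem exists_abelian_mod_pCore {p : ℕ} [Fact p.Prime] (x : G) {a : ℕ}
    (hx : (Subgroup.centralizer ({x} : Set G)).index = p ^ a) :
    haveI := Fitting.pCore_normal (G := G) p
    ∃ A : Subgroup (G ⧸ Cfsg.pCore p G), (∀ u ∈ A, ∀ v ∈ A, u * v = v * u) ∧
      ∀ g : G, QuotientGroup.mk' (Cfsg.pCore p G) (g * x * g⁻¹) ∈ A := by
  have hp : p.Prime := Fact.out
  haveI := Fitting.pCore_normal (G := G) p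
  set π := QuotientGroup.mk' (Cfsg.pCore p G) with hπ
  have hO : Cfsg.pCore p (G ⧸ Cfsg.pCore p G) = ⊥ := le_bot_iff.mp ZJ.pCore_quotient_pCore_le_bot
  refine ⟨Subgroup.closure (coreCentre _), ?_, fun g => ?_⟩
  · have hab := Subgroup.closure_le_centralizer_centralizer (coreCentre (G ⧸ Cfsg.pCore p G))
    have h1 : Subgroup.closure (coreCentre (G ⧸ Cfsg.pCore p G)) ≤
        Subgroup.centralizer (coreCentre (G ⧸ Cfsg.pCore p G)) :=
      (Subgroup.closure_le _).mpr fun u hu => Subgroup.mem_centralizer_iff.mpr fun v hv =>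
        coreCentre_comm hv hu
    intro u hu v hv
    exact (Subgroup.mem_centralizer_iff.mp (hab hv) u (h1 hu))
  · have hconj : (Subgroup.centralizer ({g * x * g⁻¹} : Set G)).index = p ^ a := by
      rw [index_centralizer_eq_card, ← hx, index_centralizer_eq_card]
      exact Nat.card_congr (Equiv.subtypeEquivRight fun u =>
        ⟨(isConj_iff.mpr ⟨g, rfl⟩).trans, (isConj_iff.mpr ⟨g, rfl⟩ : IsConj x _).symm.trans⟩)
    set C := Subgroup.centralizer ({g * x * g⁻¹} : Set G) with hC
    have hle : C.map π ≤ Subgroup.centralizer ({π (g * x * g⁻¹)} : Set _) := by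
      rintro _ ⟨c, hc, rfl⟩
      refine Subgroup.mem_centralizer_singleton_iff.mpr ?_
      rw [← map_mul, Subgroup.mem_centralizer_singleton_iff.mp hc, map_mul]
    have h1 := (Subgroup.index_dvd_of_le hle).trans
      (C.index_map_dvd (QuotientGroup.mk'_surjective _))
    rw [hconj] at h1
    obtain ⟨b, -, hb⟩ := (Nat.dvd_prime_pow hp).mp h1
    exact mem_closure_coreCentre hO _ b hb

end CfsgLib.Blocks.Kazarin
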