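import Cfsg.Agent.Lib.Blocks.BrauerFeit
import Cfsg.Agent.Lib.Char.Table
import Mathlib.GroupTheory.ClassEquation

/-!
# Landau's theorem and groups with one block
-/

set_option autoImplicit false
set_option linter.unusedSectionVars false

namespace CfsgLib.Blocks

open Cfsg
open scoped CfsgLib.Char

/-- The unit fraction representations of a rational number with given length have bounded terms. -/
theorem exists_bound_unitFractions (k : ℕ) : ∀ q : ℚ, ∃ N : ℕ, ∀ n : Fin k → ℕ,
    (∀ i, 0 < n i) → ∑ i, (1 : ℚ) / n i = q → ∀ i, n i ≤ N := by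
  induction k with
  | zero => exact fun q => ⟨0, fun n _ _ i => i.elim0⟩
  | succ k ih =>
    intro q
    set M0 := ⌈((k : ℚ) + 1) / q⌉₊
    choose Nm hNm using fun m : ℕ => ih (q - 1 / m)
    refine ⟨max M0 ((Finset.range (M0 + 1)).sup Nm), fun n hn hsum j => ?_⟩
    have hpos : 0 < q := hsum ▸ Finset.sum_pos
      (fun i _ => div_pos one_pos (Nat.cast_pos.mpr (hn i))) Finset.univ_nonempty
    obtain ⟨i, hi⟩ : ∃ i, n i ≤ M0 := by
      by_contra h
      push Not at h
      have h1 : ∀ i ∈ (Finset.univ : Finset (Fin (k + 1))), (1 : ℚ) / n i < q / ((k : ℚ) + 1) := by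
        intro i _
        rw [div_lt_div_iff₀ (Nat.cast_pos.mpr (hn i)) (by positivity), one_mul]
        have h2 : ((k : ℚ) + 1) / q ≤ (M0 : ℚ) := Nat.le_ceil _
        have h3 : (M0 : ℚ) < (n i : ℚ) := Nat.cast_lt.mpr (h i)
        rw [div_le_iff₀ hpos] at h2
        nlinarith
      have h4 := Finset.sum_lt_sum_of_nonempty Finset.univ_nonempty h1
      rw [hsum, Finset.sum_const, Finset.card_univ, Fintype.card_fin, nsmul_eq_mul] at h4
      push_cast at h4
      rw [mul_div_cancel₀ _ (by positivity)] at h4
      exact lt_irrefl _ h4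
    rcases Fin.eq_self_or_eq_succAbove i j with rfl | ⟨j', rfl⟩
    · exact hi.trans (le_max_left _ _)
    · rw [Fin.sum_univ_succAbove _ i, add_comm] at hsum
      exact ((hNm (n i) (fun l => n (i.succAbove l)) (fun l => hn _)
        (eq_sub_of_add_eq hsum) j').trans
          (Finset.le_sup (f := Nm) (Finset.mem_range.mpr (Nat.lt_succ_of_le hi)))).trans
            (le_max_right _ _)

/-- Landau: a bound on the number of classes bounds the order. -/
theorem exists_bound_card_of_card_conjClasses (K : ℕ) : ∃ N : ℕ, ∀ (G : Type*) [Group G] [Finite G],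
    Nat.card (ConjClasses G) ≤ K → Nat.card G ≤ N := by
  classical
  choose N hN using fun k : ℕ => exists_bound_unitFractions k 1
  refine ⟨(Finset.range (K + 1)).sup N, fun G _ _ hK => ?_⟩
  have := Fintype.ofFinite G
  have : Fintype (ConjClasses G) := Fintype.ofFinite _
  set k := Fintype.card (ConjClasses G)
  set e := (Fintype.equivFin (ConjClasses G)).symm
  let n : ConjClasses G → ℕ := fun c => Nat.card (Subgroup.centralizer ({Quotient.out c} : Set G))
  have hn : ∀ c, 0 < n c := fun c => Nat.card_pos
  have hG : (Nat.card G : ℚ) ≠ 0 := Nat.cast_ne_zero.mpr Nat.card_pos.ne'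
  have hterm : ∀ c : ConjClasses G, (1 : ℚ) / n c = (c.carrier.toFinset.card : ℚ) / Nat.card G := by
    intro c
    rw [div_eq_div_iff (Nat.cast_ne_zero.mpr (hn c).ne') hG, one_mul, ← Nat.cast_mul, Nat.cast_inj,
      ← card_centralizer_mul_index (Quotient.out c), mul_comm]
    congr 1
    rw [index_centralizer_eq_card, Set.toFinset_card, ← Nat.card_eq_fintype_card]
    exact Nat.card_congr (Equiv.subtypeEquivRight fun x => by
      rw [ConjClasses.mem_carrier_iff_mk_eq]
      conv_rhs => rw [← Quotient.out_eq c]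
      exact ⟨fun h => (ConjClasses.mk_eq_mk_iff_isConj.mpr h).symm,
        fun h => (ConjClasses.mk_eq_mk_iff_isConj.mp h).symm⟩)
  have hsum : ∑ i : Fin k, (1 : ℚ) / n (e i) = 1 := by
    rw [Fintype.sum_equiv e (fun i => (1 : ℚ) / n (e i)) (fun c => (1 : ℚ) / n c) fun _ => rfl]
    simp only [hterm]
    rw [← Finset.sum_div, ← Nat.cast_sum, sum_conjClasses_card_eq_card, ← Nat.card_eq_fintype_card,
      div_self hG]
  have h1 := hN k (fun i => n (e i)) (fun i => hn _) hsum (e.symm (ConjClasses.mk 1))
  rw [Equiv.apply_symm_apply] at h1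
  have h2 : n (ConjClasses.mk (1 : G)) = Nat.card G := by
    have hout : (Quotient.out (ConjClasses.mk (1 : G))) = 1 := by
      have := ConjClasses.mk_eq_mk_iff_isConj.mp (Quotient.out_eq (ConjClasses.mk (1 : G)))
      exact isConj_one_left.mp this
    show Nat.card (Subgroup.centralizer ({Quotient.out (ConjClasses.mk (1 : G))} : Set G)) = _
    rw [hout, show Subgroup.centralizer ({(1 : G)} : Set G) = ⊤ from
      eq_top_iff.mpr fun x _ => by rw [Subgroup.mem_centralizer_singleton_iff]; simp,
      Subgroup.card_top]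
  rw [h2] at h1
  refine h1.trans (Finset.le_sup (Finset.mem_range.mpr (Nat.lt_succ_of_le ?_)))
  show Fintype.card (ConjClasses G) ≤ K
  rwa [← Nat.card_eq_fintype_card]

/-- Groups all of whose characters lie in one block have bounded order. -/
theorem card_conjClasses_le_of_one_block {p : ℕ} {M : Ideal AlgInt} {G : Type*} [Group G] [Fintype G]
    (hM : IsPModular p M) (h : ∀ B : Set (IrrCharacter G), IsPBlock M B → B = principalBlock M G) :
    Nat.card (ConjClasses G) ≤ p ^ (2 * (Nat.card G).factorization p) + 1 := by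
  classical
  have := isPrime_of_isPModular hM
  have hB : IsPBlock M (principalBlock M G) := isPBlock_principalBlock
  have hall : ∀ χ : IrrCharacter G, χ ∈ principalBlock M G := fun χ =>
    h _ (isPBlock_blockOf χ) ▸ mem_blockOf_self χ
  have h1 := sum_pow_heights_le hM hB
  rw [Finset.filter_true_of_mem fun χ _ => hall χ] at h1
  have h2 : Fintype.card (IrrCharacter G) ≤
      ∑ ψ : IrrCharacter G, p ^ (2 * blockHeight p (principalBlock M G) (ψ : G → ℂ)) := by
    rw [Fintype.card_eq_sum_ones]
    exact Finset.sum_le_sum fun ψ _ => Nat.one_le_pow _ _ hM.1.pos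
  have h3 : p ^ (2 * blockDefect p (principalBlock M G)) ≤ p ^ (2 * (Nat.card G).factorization p) :=
    Nat.pow_le_pow_right hM.1.pos (by have := (blockDefect_le_and_degree hM hB).1; omega)
  rw [← Char.card_irr_eq_card_conjClasses, Nat.card_eq_fintype_card]
  omega

end CfsgLib.Blocks
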