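import Cfsg.Agent.Lib.Char.MeanValueVirtual
import Mathlib.Analysis.Matrix.PosDef
import Mathlib.LinearAlgebra.Matrix.SchurComplement
import Mathlib.LinearAlgebra.FreeModule.PID
import Mathlib.LinearAlgebra.FreeModule.Finite.CardQuotient
import Mathlib.LinearAlgebra.Dimension.StrongRankCondition

/-!
# A trace bound for integral forms with a scaled projection

If `N` is an integral symmetric matrix with `N ^ 2 = p N` whose reduction mod `p` has rank at most
one and no diagonal entry `p`, then the quadratic form of `N` takes on a vector of generalized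
characters of a cyclic group a value which, averaged over the generators, is at least the rank of
`N` as soon as it does not vanish.  The value is `p / Δ` times a Gram determinant (`Δ` the
discriminant of the kernel lattice, at most `p`), and a Gram determinant grows by a totally
positive algebraic integer with each additional non-zero row.
-/

set_option autoImplicit false
set_option linter.unusedSectionVars false

namespace CfsgLib.Blocks.LatticeForm

open Cfsg Matrix
open scoped ComplexConjugate ComplexOrder CfsgLib.Char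

variable {ι : Type*} [Fintype ι] [DecidableEq ι]

/-- A basis matrix of the integral kernel with small discriminant. -/
theorem exists_kernel_matrix {p : ℕ} (hp : p.Prime) (N : Matrix ι ι ℤ) (hsymm : Nᵀ = N)
    (hNN : N * N = (p : ℤ) • N)
    (hrk : ∀ i j k l, (p : ℤ) ∣ N i j * N k l - N i l * N k j) :
    ∃ (m : ℕ) (c : Matrix ι (Fin m) ℤ), (∀ β : Fin m → ℤ, c *ᵥ β = 0 → β = 0) ∧
      (cᵀ * c).det ≠ 0 ∧ (cᵀ * c).det.natAbs ≤ p ∧
      (cᵀ * c).det • N =
        (p : ℤ) • ((cᵀ * c).det • (1 : Matrix ι ι ℤ) - c * (cᵀ * c).adjugate * cᵀ) := by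
  classical
  set K : Submodule ℤ (ι → ℤ) := LinearMap.ker N.mulVecLin with hK
  set m := Module.finrank ℤ K
  let b : Module.Basis (Fin m) ℤ K := Module.finBasis ℤ K
  set c : Matrix ι (Fin m) ℤ := Matrix.of fun i a => (b a : ι → ℤ) i with hc
  have hcv : ∀ β : Fin m → ℤ, c *ᵥ β = ((∑ a, β a • b a : K) : ι → ℤ) := fun β => by
    funext i
    simp [hc, Matrix.mulVec, dotProduct, mul_comm]
  have hinj : ∀ β : Fin m → ℤ, c *ᵥ β = 0 → β = 0 := fun β h => by
    rw [hcv, Submodule.coe_eq_zero] at h
    exact funext (Fintype.linearIndependent_iff.mp b.linearIndependent β h)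
  have hNc : N * c = 0 := by
    ext i a
    exact congrFun (b a).2 i
  have hsurjK : ∀ z : ι → ℤ, N *ᵥ z = 0 → ∃ β, c *ᵥ β = z := fun z hz => by
    refine ⟨b.repr ⟨z, hz⟩, ?_⟩
    rw [hcv, b.sum_repr]
  have hcN : cᵀ * N = 0 := by
    rw [← hsymm, ← transpose_mul, hNc, transpose_zero]
  set G := cᵀ * c with hG
  have hGinj : ∀ β : Fin m → ℤ, G *ᵥ β = 0 → β = 0 := fun β h => by
    refine hinj β (dotProduct_self_eq_zero.mp ?_)
    have e := congrArg (β ⬝ᵥ ·) h
    simp only [dotProduct_zero, hG, ← mulVec_mulVec] at e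
    rwa [dotProduct_mulVec, vecMul_transpose] at e
  have hdet : G.det ≠ 0 := fun h => by
    obtain ⟨v, hv, hv0⟩ := Matrix.exists_mulVec_eq_zero_iff.mpr h
    exact hv (hGinj v hv0)
  refine ⟨m, c, hinj, hdet, ?_, ?_⟩
  · -- the discriminant
    obtain ⟨s, hs⟩ := Module.projective_lifting_property N.mulVecLin.rangeRestrict LinearMap.id
      N.mulVecLin.surjective_rangeRestrict
    let π : (ι → ℤ) →ₗ[ℤ] K := LinearMap.codRestrict K
      (LinearMap.id - s ∘ₗ N.mulVecLin.rangeRestrict) fun x => by
        have e : N.mulVecLin (s (N.mulVecLin.rangeRestrict x)) = N.mulVecLin x :=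
          congrArg Subtype.val (LinearMap.congr_fun hs (N.mulVecLin.rangeRestrict x))
        rw [hK, LinearMap.mem_ker, LinearMap.sub_apply, LinearMap.id_apply, LinearMap.comp_apply,
          map_sub, e, sub_self]
    have hπ : ∀ a, π (fun i => c i a) = b a := fun a => by
      refine Subtype.ext ?_
      have hz : N.mulVecLin.rangeRestrict (fun i => c i a) = 0 := Subtype.ext (b a).2
      show (fun i => c i a) - s (N.mulVecLin.rangeRestrict (fun i => c i a)) = _
      rw [hz, map_zero, sub_zero]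
      rfl
    let Y : (Fin m → ℤ) →ₗ[ℤ] (ι → ℤ) :=
      { toFun := fun α i => ∑ a, α a * (b.repr (π (Pi.single i 1))) a
        map_add' := fun α β => funext fun i => by simp [add_mul, Finset.sum_add_distrib]
        map_smul' := fun t α => funext fun i => by simp [mul_assoc, Finset.mul_sum] }
    have hY : ∀ α, cᵀ *ᵥ Y α = α := fun α => by
      funext a
      have h1 : ∀ a', b.repr (π (fun i => c i a)) a' = ∑ i, c i a * b.repr (π (Pi.single i 1)) a' := by
        intro a'
        conv_lhs => rw [show (fun i => c i a) = ∑ i, c i a • Pi.single i (1 : ℤ) from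
          pi_eq_sum_univ' _]
        rw [map_sum, map_sum, Finsupp.finsetSum_apply]
        refine Finset.sum_congr rfl fun i _ => ?_
        rw [map_smul, map_smul, Finsupp.smul_apply, smul_eq_mul]
      calc (cᵀ *ᵥ Y α) a = ∑ i, c i a * ∑ a', α a' * (b.repr (π (Pi.single i 1))) a' := rfl
        _ = ∑ a', α a' * b.repr (π (fun i => c i a)) a' := by
          simp only [h1, Finset.mul_sum]
          rw [Finset.sum_comm]
          exact Finset.sum_congr rfl fun _ _ => Finset.sum_congr rfl fun _ _ => by ring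
        _ = α a := by
          rw [hπ, Finset.sum_eq_single a (fun a' _ h => by simp [Ne.symm h])
            (by simp)]
          simp
    -- some row detects the reduction mod `p`
    obtain ⟨θ, hθ⟩ : ∃ θ : (ι → ℤ) →+ ZMod p, ∀ y, θ (N *ᵥ y) = 0 → ∀ i, (p : ℤ) ∣ (N *ᵥ y) i := by
      by_cases h : ∀ i j, (p : ℤ) ∣ N i j
      · exact ⟨0, fun y _ i => Finset.dvd_sum fun j _ => dvd_mul_of_dvd_left (h i j) _⟩
      push Not at h
      obtain ⟨j₀, k₀, h0⟩ := h
      refine ⟨(Int.castAddHom (ZMod p)).comp (Pi.evalAddMonoidHom _ j₀), fun y hy i => ?_⟩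
      have hy' : (p : ℤ) ∣ (N *ᵥ y) j₀ := (ZMod.intCast_zmod_eq_zero_iff_dvd _ p).mp hy
      have h1 : (p : ℤ) ∣ N j₀ k₀ * (N *ᵥ y) i - N i k₀ * (N *ᵥ y) j₀ := by
        simp only [Matrix.mulVec, dotProduct, Finset.mul_sum, ← Finset.sum_sub_distrib]
        refine Finset.dvd_sum fun l _ => ?_
        rw [← mul_assoc, ← mul_assoc, ← sub_mul, mul_comm (N j₀ k₀)]
        exact dvd_mul_of_dvd_left (hrk i l j₀ k₀) _
      have h2 : (p : ℤ) ∣ N j₀ k₀ * (N *ᵥ y) i := by
        have := dvd_add h1 (dvd_mul_of_dvd_right hy' (N i k₀))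
        rwa [sub_add_cancel] at this
      exact ((Nat.prime_iff_prime_int.mp hp).dvd_mul.mp h2).resolve_left h0
    let ψ : (Fin m → ℤ) →+ ZMod p := θ.comp (N.mulVecLin.comp Y).toAddMonoidHom
    set L : AddSubgroup (Fin m → ℤ) := (LinearMap.range G.mulVecLin).toAddSubgroup
    have hker : ψ.ker ≤ L := fun α hα => by
      have hd := hθ (Y α) hα
      choose z hz using hd
      have hNy : N *ᵥ Y α = (p : ℤ) • z := funext hz
      have hp0 : (p : ℤ) ≠ 0 := Int.natCast_ne_zero.mpr hp.ne_zero
      have hNz : N *ᵥ z = (p : ℤ) • z := by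
        refine smul_right_injective _ hp0 ?_
        show (p : ℤ) • N *ᵥ z = (p : ℤ) • (p : ℤ) • z
        rw [← mulVec_smul, ← hNy, mulVec_mulVec, hNN, smul_mulVec]
      have hcz : cᵀ *ᵥ z = 0 := by
        refine smul_right_injective _ hp0 ?_
        show (p : ℤ) • cᵀ *ᵥ z = (p : ℤ) • 0
        rw [← mulVec_smul, ← hNy, mulVec_mulVec, hcN, zero_mulVec, smul_zero]
      obtain ⟨β, hβ⟩ := hsurjK (Y α - z) (by rw [mulVec_sub, hNy, hNz, sub_self])
      refine ⟨β, ?_⟩
      show G *ᵥ β = α
      rw [hG, ← mulVec_mulVec, hβ, mulVec_sub, hY, hcz, sub_zero]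
    have hLi : L.index = G.det.natAbs := by
      let e : (Fin m → ℤ) ≃ₗ[ℤ] LinearMap.range G.mulVecLin :=
        LinearEquiv.ofInjective G.mulVecLin (LinearMap.ker_eq_bot.mp
          (LinearMap.ker_eq_bot'.mpr hGinj))
      rw [AddSubgroup.index_eq_natAbs_det (Pi.basisFun ℤ (Fin m)) L ((Pi.basisFun ℤ (Fin m)).map e)]
      congr 1
      rw [Module.Basis.det_apply]
      congr 1
      ext i j
      rw [Module.Basis.toMatrix_apply, Pi.basisFun_repr, Module.Basis.map_apply, Pi.basisFun_apply]
      show (G *ᵥ Pi.single j 1) i = G i j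
      simp
    have hdvd := AddSubgroup.index_dvd_of_le hker
    rw [hLi, AddSubgroup.index_ker] at hdvd
    have : NeZero p := ⟨hp.ne_zero⟩
    refine le_trans (Nat.le_of_dvd Nat.card_pos hdvd) ?_
    exact le_trans (Nat.card_le_card_of_injective (Subtype.val : ψ.range → ZMod p)
      Subtype.val_injective) (Nat.card_zmod p).le
  · -- the projection
    set W := G.det • N - (p : ℤ) • (G.det • (1 : Matrix ι ι ℤ) - c * G.adjugate * cᵀ) with hW
    have h1 : N * W = 0 := by
      rw [hW, Matrix.mul_sub, Matrix.mul_smul, hNN, Matrix.mul_smul, Matrix.mul_sub, Matrix.mul_smul,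
        Matrix.mul_one, ← Matrix.mul_assoc N, ← Matrix.mul_assoc N, hNc, Matrix.zero_mul,
        Matrix.zero_mul, sub_zero, smul_comm, sub_self]
    have h2 : cᵀ * W = 0 := by
      rw [hW, Matrix.mul_sub, Matrix.mul_smul, hcN, smul_zero, zero_sub, Matrix.mul_smul,
        Matrix.mul_sub, Matrix.mul_smul, Matrix.mul_one, ← Matrix.mul_assoc cᵀ,
        ← Matrix.mul_assoc cᵀ, ← hG, mul_adjugate, Matrix.smul_mul, Matrix.one_mul, sub_self,
        smul_zero, neg_zero]
    refine sub_eq_zero.mp ?_
    show W = 0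
    ext i j
    obtain ⟨β, hβ⟩ := hsurjK (fun k => W k j) (funext fun k => congrFun (congrFun h1 k) j)
    have h3 : G *ᵥ β = 0 := by
      rw [hG, ← mulVec_mulVec, hβ]
      exact funext fun a => congrFun (congrFun h2 a) j
    rw [hGinj β h3, mulVec_zero] at hβ
    exact (congrFun hβ i).symm

section Gram

variable {U : Type*} [Group U] [Fintype U]

theorem isGeneralized_prod {κ : Type*} (s : Finset κ) (f : κ → U → ℂ)
    (h : ∀ k ∈ s, IsGeneralizedCharacter U (f k)) : IsGeneralizedCharacter U (∏ k ∈ s, f k) := by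
  classical
  induction s using Finset.induction with
  | empty => simpa [Pi.one_def] using Char.isGeneralized_one (G := U)
  | insert a s ha ih =>
    rw [Finset.prod_insert ha]
    exact Char.isGeneralized_mul (h a (Finset.mem_insert_self _ _))
      (ih fun k hk => h k (Finset.mem_insert_of_mem hk))

theorem isGeneralized_det {n : Type*} [Fintype n] [DecidableEq n] (A : U → Matrix n n ℂ)
    (h : ∀ a b, IsGeneralizedCharacter U (fun v => A v a b)) :
    IsGeneralizedCharacter U (fun v => (A v).det) := by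
  have e : (fun v => (A v).det) = ∑ σ : Equiv.Perm n,
      ((Equiv.Perm.sign σ : ℤ) : ℂ) • ∏ a, fun v => A v (σ a) a := by
    funext v
    simp [Matrix.det_apply', Finset.sum_apply, Finset.prod_apply]
  rw [e]
  exact Char.isGeneralized_sum _ _ fun σ _ =>
    Char.isGeneralized_intCast_smul (isGeneralized_prod _ _ fun a _ => h _ _) _

theorem isGeneralized_const (z : ℤ) : IsGeneralizedCharacter U (fun _ => (z : ℂ)) := by
  simpa [Pi.smul_def] using Char.isGeneralized_intCast_smul (Char.isGeneralized_one (G := U)) z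

variable {m : ℕ}

/-- The rows of the kernel matrix extended by a vector. -/
def row (c : Matrix ι (Fin m) ℤ) (y : ι → ℂ) (i : ι) : Fin m ⊕ Unit → ℂ :=
  Sum.elim (fun a => (c i a : ℂ)) fun _ => y i

/-- The Gram matrix of the extended rows over a set of indices. -/
noncomputable def gram (T : Finset ι) (c : Matrix ι (Fin m) ℤ) (y : ι → ℂ) :
    Matrix (Fin m ⊕ Unit) (Fin m ⊕ Unit) ℂ :=
  Matrix.of fun a b => ∑ i ∈ T, conj (row c y i a) * row c y i b

theorem gram_eq (T : Finset ι) (c : Matrix ι (Fin m) ℤ) (y : ι → ℂ) :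
    gram T c y = (Matrix.of fun i : T => row c y i)ᴴ * (Matrix.of fun i : T => row c y i) := by
  ext a b
  simp only [gram, of_apply, mul_apply, conjTranspose_apply]
  exact (Finset.sum_coe_sort T fun i => conj (row c y i a) * row c y i b).symm

theorem isGeneralized_det_gram (T : Finset ι) (c : Matrix ι (Fin m) ℤ) (y : ι → U → ℂ)
    (hy : ∀ i, IsGeneralizedCharacter U (y i)) :
    IsGeneralizedCharacter U (fun v => (gram T c fun i => y i v).det) := by
  refine isGeneralized_det _ fun a b => ?_
  have hr : ∀ i x, IsGeneralizedCharacter U (fun v => row c (fun i => y i v) i x) := fun i x => by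
    rcases x with x | x
    exacts [isGeneralized_const _, hy i]
  have e : (fun v => gram T c (fun i => y i v) a b) = ∑ i ∈ T,
      (fun v => conj (row c (fun i => y i v) i a)) * fun v => row c (fun i => y i v) i b := by
    funext v
    simp [gram, Finset.sum_apply]
  rw [e]
  exact Char.isGeneralized_sum _ _ fun i _ =>
    Char.isGeneralized_mul (Char.isGeneralized_conj (hr i a)) (hr i b)

theorem posDef_of_det_ne_zero (T : Finset ι) (c : Matrix ι (Fin m) ℤ) (y : ι → ℂ)
    (h : (gram T c y).det ≠ 0) : (gram T c y).PosDef := by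
  rw [gram_eq] at h ⊢
  refine PosDef.conjTranspose_mul_self _ fun z w hzw => sub_eq_zero.mp ?_
  by_contra hne
  exact h (Matrix.exists_mulVec_eq_zero_iff.mp
    ⟨_, hne, by rw [← mulVec_mulVec, mulVec_sub, hzw, sub_self, mulVec_zero]⟩)

theorem det_gram_insert {T : Finset ι} {i : ι} (hi : i ∉ T) (c : Matrix ι (Fin m) ℤ) (y : ι → ℂ)
    (hP : (gram T c y).PosDef) (hrow : ∃ a, c i a ≠ 0) :
    0 < (gram (insert i T) c y).det - (gram T c y).det := by
  set A := gram T c y
  set u : Fin m ⊕ Unit → ℂ := fun a => conj (row c y i a)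
  have hu : u ≠ 0 := fun h => by
    obtain ⟨a, ha⟩ := hrow
    exact ha (by simpa [u, row] using congrFun h (Sum.inl a))
  have e : gram (insert i T) c y = A + replicateCol Unit u * replicateRow Unit (row c y i) := by
    ext a b
    simp only [A, gram, of_apply, Matrix.add_apply, mul_apply, replicateCol_apply,
      replicateRow_apply, Finset.sum_insert hi, Finset.univ_unique, Finset.sum_singleton, u]
    rw [add_comm]
  have hd := hP.det_pos
  rw [e, det_add_replicateCol_mul_replicateRow (isUnit_iff_ne_zero.mpr hd.ne'), det_unique (n := Unit),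
    Matrix.add_apply, one_apply_eq, mul_add, mul_one, add_sub_cancel_left]
  refine mul_pos hd ?_
  have hq := hP.inv.dotProduct_mulVec_pos hu
  refine lt_of_lt_of_eq hq ?_
  rw [Matrix.mul_assoc]
  simp only [mul_apply, replicateCol_apply, replicateRow_apply, dotProduct, mulVec, u, Pi.star_apply,
    RCLike.star_def, Complex.conj_conj]

/-- The trace bound. -/
theorem trace_le_sum {p : ℕ} (hp : p.Prime) (N : Matrix ι ι ℤ) (hsymm : Nᵀ = N)
    (hNN : N * N = (p : ℤ) • N) (hrk : ∀ i j k l, (p : ℤ) ∣ N i j * N k l - N i l * N k j)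
    (hdiag : ∀ i, N i i ≠ p) (y : ι → U → ℂ) (hy : ∀ i, IsGeneralizedCharacter U (y i))
    (v₀ : U) (S : Finset U) (hS : ∀ v, v ∈ S ↔ Subgroup.zpowers v = Subgroup.zpowers v₀)
    (h0 : ∑ i, ∑ j, conj (y i v₀) * (N i j : ℂ) * y j v₀ ≠ 0) :
    (S.card : ℝ) * ((N.trace : ℤ) : ℝ) ≤
      (p : ℝ) * ∑ v ∈ S, (∑ i, ∑ j, conj (y i v) * (N i j : ℂ) * y j v).re := by
  classical
  obtain ⟨m, c, hinj, hΔ0, hΔp, hN⟩ := exists_kernel_matrix hp N hsymm hNN hrk
  set G := cᵀ * c with hG
  set Δ := G.det
  -- the trace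
  have htr : N.trace = (p : ℤ) * ((Fintype.card ι : ℤ) - m) := by
    have h := congrArg Matrix.trace hN
    rw [trace_smul, trace_smul, trace_sub, trace_smul, trace_one, trace_mul_cycle, ← hG,
      mul_adjugate, trace_smul, trace_one, Fintype.card_fin, smul_eq_mul, smul_eq_mul, smul_eq_mul,
      smul_eq_mul] at h
    refine mul_left_cancel₀ hΔ0 (h.trans ?_)
    show (p : ℤ) * (Δ * _ - Δ * _) = _
    ring
  have hrow : ∀ i, ∃ a, c i a ≠ 0 := fun i => by
    by_contra hcon
    push Not at hcon
    refine hdiag i (mul_left_cancel₀ hΔ0 ?_)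
    have h := congrFun (congrFun hN i) i
    simp only [Matrix.smul_apply, Matrix.sub_apply, one_apply_eq, smul_eq_mul] at h
    rw [show (c * G.adjugate * cᵀ) i i = 0 by
      rw [mul_apply]; exact Finset.sum_eq_zero fun a _ => by simp [hcon]] at h
    rw [h]; ring
  -- the discriminant is positive
  set cC : Matrix ι (Fin m) ℂ := c.map (Int.castRingHom ℂ) with hcC
  have hGC : cCᴴ * cC = G.map (Int.castRingHom ℂ) := by
    rw [hG, Matrix.map_mul]
    congr 1
    ext a i
    simp [hcC]
  have hdC : (G.map (Int.castRingHom ℂ)).det = (Δ : ℂ) :=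
    ((Int.castRingHom ℂ).map_det G).symm
  have hGpd : (G.map (Int.castRingHom ℂ)).PosDef := by
    rw [← hGC]
    refine PosDef.conjTranspose_mul_self _ fun z w hzw => sub_eq_zero.mp ?_
    by_contra hne
    have h := Matrix.exists_mulVec_eq_zero_iff.mp (show ∃ v ≠ 0, (cCᴴ * cC) *ᵥ v = 0 from
      ⟨_, hne, by rw [← mulVec_mulVec, mulVec_sub, hzw, sub_self, mulVec_zero]⟩)
    rw [hGC, hdC, Int.cast_eq_zero] at h
    exact hΔ0 h
  have hΔpos : 0 < Δ := by
    have h := (Complex.pos_iff.mp (hdC ▸ hGpd.det_pos)).1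
    simpa using h
  -- the form is a Gram determinant
  have hquad : ∀ z : ι → ℂ, (Δ : ℂ) * ∑ i, ∑ j, conj (z i) * (N i j : ℂ) * z j =
      (p : ℂ) * (gram Finset.univ c z).det := fun z => by
    set Y : Matrix ι Unit ℂ := Matrix.of fun i _ => z i with hY
    have eg : gram Finset.univ c z =
        fromBlocks (G.map (Int.castRingHom ℂ)) (cCᴴ * Y) (Yᴴ * cC) (Yᴴ * Y) := by
      rw [← hGC]
      ext a b
      rcases a with a | a <;> rcases b with b | b <;>
        simp [gram, row, mul_apply, hcC, hY]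
    letI : Invertible (G.map (Int.castRingHom ℂ)) :=
      Matrix.invertibleOfIsUnitDet _ (isUnit_iff_ne_zero.mpr hGpd.det_pos.ne')
    have hadj : (Δ : ℂ) • ⅟(G.map (Int.castRingHom ℂ)) = G.adjugate.map (Int.castRingHom ℂ) := by
      rw [invOf_eq_nonsing_inv, Matrix.inv_def, hdC, Ring.inverse_eq_inv', smul_smul,
        mul_inv_cancel₀ (Int.cast_ne_zero.mpr hΔ0), one_smul]
      exact ((Int.castRingHom ℂ).map_adjugate G).symm
    have hNC : (Δ : ℂ) • N.map (Int.castRingHom ℂ) = (p : ℂ) • ((Δ : ℂ) • (1 : Matrix ι ι ℂ) -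
        cC * G.adjugate.map (Int.castRingHom ℂ) * cCᴴ) := by
      have h := congrArg (fun X : Matrix ι ι ℤ => X.map (Int.castRingHom ℂ)) hN
      have ecT : cCᴴ = cᵀ.map (Int.castRingHom ℂ) := by ext a i; simp [hcC]
      rw [ecT, hcC, ← Matrix.map_mul, ← Matrix.map_mul]
      ext i j
      have h' := congrFun (congrFun h i) j
      simp only [Matrix.map_apply, Matrix.smul_apply, Matrix.sub_apply, smul_eq_mul,
        eq_intCast, one_apply] at h' ⊢
      push_cast at h'
      exact h'
    have hz : ∑ i, ∑ j, conj (z i) * (N i j : ℂ) * z j = (Yᴴ * N.map (Int.castRingHom ℂ) * Y) () () := by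
      simp only [mul_apply, Finset.sum_mul, hY]
      rw [Finset.sum_comm]
      simp
    rw [hz, eg, det_fromBlocks₁₁, hdC, det_unique]
    show _ = (p : ℂ) * ((Δ : ℂ) * (Yᴴ * Y - Yᴴ * cC * ⅟(G.map (Int.castRingHom ℂ)) * (cCᴴ * Y)) () ())
    rw [← smul_eq_mul ((Δ : ℂ)), ← Matrix.smul_apply, ← smul_eq_mul ((Δ : ℂ)), ← Matrix.smul_apply,
      ← smul_eq_mul ((p : ℂ)), ← Matrix.smul_apply]
    refine congrFun (congrFun ?_ ()) ()
    rw [← Matrix.smul_mul, ← Matrix.mul_smul, hNC, Matrix.mul_smul, Matrix.smul_mul, Matrix.mul_sub,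
      Matrix.sub_mul, Matrix.mul_smul, Matrix.smul_mul, Matrix.mul_one, smul_sub ((Δ : ℂ)),
      show ∀ (A : Matrix Unit (Fin m) ℂ) (I : Matrix (Fin m) (Fin m) ℂ) (B : Matrix (Fin m) Unit ℂ),
        (Δ : ℂ) • (A * I * B) = A * ((Δ : ℂ) • I) * B from fun A I B => by simp, hadj]
    simp only [Matrix.mul_assoc]
    rfl
  -- a small independent set of rows at the base point
  have hDv : (gram Finset.univ c fun i => y i v₀).det ≠ 0 := fun h => by
    have e := hquad (fun i => y i v₀)
    rw [h, mul_zero, mul_eq_zero] at e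
    exact h0 (e.resolve_left (Int.cast_ne_zero.mpr hΔ0))
  set r := row c fun i => y i v₀
  obtain ⟨t, htsub, htcard, htspan, -⟩ := Submodule.exists_finset_span_eq_linearIndepOn ℂ (Set.range r)
  set T₀ : Finset ι := t.attach.image fun w => (htsub w.2).choose
  have hT₀card : T₀.card ≤ m + 1 := by
    refine le_trans Finset.card_image_le ?_
    rw [Finset.card_attach, htcard]
    refine le_trans (Submodule.finrank_le _) ?_
    simp [Module.finrank_fintype_fun_eq_card]
  have hT₀ : (gram T₀ c fun i => y i v₀).det ≠ 0 := fun hdet0 => by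
    rw [gram_eq] at hdet0
    obtain ⟨z, hz, hz0⟩ := Matrix.exists_mulVec_eq_zero_iff.mpr hdet0
    have hz1 := (conjTranspose_mul_self_mulVec_eq_zero _ _).mp hz0
    have hall : ∀ i, r i ⬝ᵥ z = 0 := by
      intro i
      have hmem : r i ∈ Submodule.span ℂ (↑t : Set (Fin m ⊕ Unit → ℂ)) := by
        rw [htspan]; exact Submodule.subset_span ⟨i, rfl⟩
      generalize r i = w₀ at hmem
      induction hmem using Submodule.span_induction with
      | mem w hw =>
        have hi : (htsub hw).choose ∈ T₀ :=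
          Finset.mem_image.mpr ⟨⟨w, hw⟩, Finset.mem_attach _ _, rfl⟩
        rw [← (htsub hw).choose_spec]
        exact congrFun hz1 ⟨_, hi⟩
      | zero => exact zero_dotProduct _
      | add a b _ _ ha hb => rw [add_dotProduct, ha, hb, add_zero]
      | smul a w _ hw => rw [smul_dotProduct, hw, smul_zero]
    refine hDv (Matrix.exists_mulVec_eq_zero_iff.mp ⟨z, hz, ?_⟩)
    rw [gram_eq, ← mulVec_mulVec]
    rw [show (Matrix.of fun i : (Finset.univ : Finset ι) => r i) *ᵥ z = 0 from
      funext fun i => hall i.1, mulVec_zero]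
  -- its determinant does not vanish on the generators
  have hD₀ : ∀ v ∈ S, (gram T₀ c fun i => y i v).det ≠ 0 := fun v hv h => hT₀ (by
    have := Char.eq_of_zpowers_eq_of_rat (isGeneralized_det_gram T₀ c y hy) ((hS v).mp hv)
      (q := 0) (by rw [Rat.cast_zero]; exact h)
    simpa using this)
  have hSc : ∀ a b, Subgroup.zpowers a = Subgroup.zpowers b → a ∈ S → b ∈ S := fun a b h ha =>
    (hS b).mpr (h ▸ (hS a).mp ha)
  -- adding the other rows
  have main : ∀ T : Finset ι, Disjoint T T₀ → (∀ v ∈ S, (gram (T ∪ T₀) c fun i => y i v).PosDef) ∧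
      (S.card : ℝ) * (T.card + 1) ≤ ∑ v ∈ S, ((gram (T ∪ T₀) c fun i => y i v).det).re := by
    intro T
    induction T using Finset.induction with
    | empty =>
      intro _
      rw [Finset.empty_union]
      have hpd : ∀ v ∈ S, (gram T₀ c fun i => y i v).PosDef := fun v hv =>
        posDef_of_det_ne_zero _ _ _ (hD₀ v hv)
      refine ⟨hpd, ?_⟩
      rw [Finset.card_empty, Nat.cast_zero, zero_add, mul_one]
      refine Char.card_le_sum_of_pos (isGeneralized_det_gram T₀ c y hy) S hSc fun v hv => ?_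
      have h := Complex.pos_iff.mp (hpd v hv).det_pos
      exact ⟨h.1, h.2.symm⟩
    | insert i T hi ih =>
      intro hd
      rw [Finset.disjoint_insert_left] at hd
      obtain ⟨hpd, hle⟩ := ih hd.2
      have hni : i ∉ T ∪ T₀ := Finset.notMem_union.mpr ⟨hi, hd.1⟩
      rw [Finset.insert_union]
      have hinc : ∀ v ∈ S, 0 < (gram (insert i (T ∪ T₀)) c fun i => y i v).det -
          (gram (T ∪ T₀) c fun i => y i v).det := fun v hv =>
        det_gram_insert hni c _ (hpd v hv) (hrow i)
      refine ⟨fun v hv => posDef_of_det_ne_zero _ _ _ fun h => ?_, ?_⟩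
      · have h1 := Complex.pos_iff.mp (hinc v hv)
        have h2 := Complex.pos_iff.mp (hpd v hv).det_pos
        rw [h, Complex.sub_re, Complex.zero_re] at h1
        linarith [h1.1, h2.1]
      · have hstep := Char.card_le_sum_of_pos (Char.isGeneralized_sub
          (isGeneralized_det_gram (insert i (T ∪ T₀)) c y hy)
          (isGeneralized_det_gram (T ∪ T₀) c y hy)) S hSc fun v hv => by
            have h := Complex.pos_iff.mp (hinc v hv)
            exact ⟨h.1, h.2.symm⟩
        simp only [Pi.sub_apply, Complex.sub_re, Finset.sum_sub_distrib] at hstep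
        rw [Finset.card_insert_of_notMem hi, Nat.cast_succ]
        nlinarith
  obtain ⟨hpd, hle⟩ := main T₀ᶜ disjoint_compl_left
  rw [Finset.union_comm, Finset.union_compl] at hpd hle
  have hcard : (Fintype.card ι : ℝ) - m ≤ (T₀ᶜ.card : ℝ) + 1 := by
    have h : Fintype.card ι ≤ T₀ᶜ.card + 1 + m := by
      have := Finset.card_compl_add_card T₀
      omega
    have h' : (Fintype.card ι : ℝ) ≤ ((T₀ᶜ.card + 1 + m : ℕ) : ℝ) := by exact_mod_cast h
    push_cast at h'
    linarith
  have hq : ∀ v ∈ S, ((gram Finset.univ c fun i => y i v).det).re ≤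
      (∑ i, ∑ j, conj (y i v) * (N i j : ℂ) * y j v).re := fun v hv => by
    set q := ∑ i, ∑ j, conj (y i v) * (N i j : ℂ) * y j v
    have e := congrArg Complex.re (hquad fun i => y i v)
    have hD := (Complex.pos_iff.mp (hpd v hv).det_pos).1
    simp only [Complex.mul_re, Complex.intCast_re, Complex.intCast_im, Complex.natCast_re,
      Complex.natCast_im, zero_mul, sub_zero] at e
    have h1 : (0 : ℝ) < (Δ : ℝ) := by exact_mod_cast hΔpos
    have h2 : (Δ : ℝ) ≤ p := by
      have : Δ ≤ (p : ℤ) := by omega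
      exact_mod_cast this
    nlinarith
  rw [htr]
  push_cast
  calc (S.card : ℝ) * ((p : ℝ) * ((Fintype.card ι : ℝ) - m))
      ≤ (p : ℝ) * ((S.card : ℝ) * ((T₀ᶜ.card : ℝ) + 1)) := by
        rw [mul_left_comm]
        gcongr
    _ ≤ (p : ℝ) * _ := mul_le_mul_of_nonneg_left (hle.trans (Finset.sum_le_sum hq)) (Nat.cast_nonneg p)

end Gram

end CfsgLib.Blocks.LatticeForm
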