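import Cfsg.Agent.Lib.Blocks.SubsectionBound
import Cfsg.Agent.Lib.Blocks.SectionContribution
import Cfsg.Agent.Lib.Blocks.CyclicIntegralValue
import Cfsg.Agent.Lib.Char.CyclicTwoAverage

/-!
# Contributions of a major subsection

For a block `b` of `C_G(x)` of full defect `d` inducing `B` the contribution of `χ, ψ ∈ B` is
`p ^ h(χ)` times an algebraic integer, which is a unit at `M` exactly when `ψ` has height zero.
-/

set_option autoImplicit false
set_option linter.unusedSectionVars false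

namespace CfsgLib.Blocks

open Cfsg
open scoped ComplexConjugate CfsgLib.Char

variable {p : ℕ} {M : Ideal AlgInt} {G : Type*} [Group G] [Fintype G] {x : G}
variable [Fintype (Subgroup.centralizer ({x} : Set G))]

variable (p x) in
/-- The scalar product over the regular elements of two local block parts. -/
noncomputable def regScalar (b : Set (IrrCharacter (Subgroup.centralizer ({x} : Set G))))
    (χ ψ : G → ℂ) : ℂ :=
  open Classical in ∑ s : Subgroup.centralizer ({x} : Set G) with IsPRegular p s,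
    blockPart b (fun c : Subgroup.centralizer ({x} : Set G) => χ (x * (c : G))) s *
      conj (blockPart b (fun c : Subgroup.centralizer ({x} : Set G) => ψ (x * (c : G))) s)

/-- The element `x` in the group of its powers. -/
def zpow₀ (x : G) : Subgroup.zpowers x := ⟨x, Subgroup.mem_zpowers x⟩

theorem zpow₀_gen (v : Subgroup.zpowers x) : v ∈ Subgroup.zpowers (zpow₀ x) := by
  obtain ⟨k, hk⟩ := Subgroup.mem_zpowers_iff.mp v.2
  exact Subgroup.mem_zpowers_iff.mpr ⟨k, Subtype.ext (by simpa [zpow₀] using hk)⟩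

variable (p x) in
/-- The properties of the contributions of a subsection. -/
structure Contribution (B : Set (IrrCharacter G))
    (b : Set (IrrCharacter (Subgroup.centralizer ({x} : Set G)))) (M : Ideal AlgInt)
    (F : IrrCharacter G → IrrCharacter G → Subgroup.zpowers x → ℂ) : Prop where
  gen : ∀ χ ψ, IsGeneralizedCharacter (Subgroup.zpowers x) (F χ ψ)
  value : ∀ χ ψ, (Nat.card (Subgroup.centralizer ({x} : Set G)) : ℂ) * F χ ψ (zpow₀ x) =
    (p : ℂ) ^ blockDefect p b * regScalar p x b (χ : G → ℂ) (ψ : G → ℂ)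
  real : ∀ χ v, conj (F χ χ v) = F χ χ v
  symm : ∀ χ ψ v, Subgroup.zpowers v = Subgroup.zpowers (zpow₀ x) → conj (F χ ψ v) = F ψ χ v
  trace : ∀ [DecidablePred (· ∈ B)] (v : Subgroup.zpowers x),
    Subgroup.zpowers v = Subgroup.zpowers (zpow₀ x) →
      ∑ χ : IrrCharacter G with χ ∈ B, (F χ χ v).re = (p : ℝ) ^ blockDefect p b * blockRank p b
  row : ∀ [DecidablePred (· ∈ B)] (ψ : IrrCharacter G) (v : Subgroup.zpowers x),
    Subgroup.zpowers v = Subgroup.zpowers (zpow₀ x) →
      ∑ χ : IrrCharacter G with χ ∈ B, Complex.normSq (F χ ψ v) =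
        (p : ℝ) ^ blockDefect p b * (F ψ ψ v).re
  isUnit : ∀ χ ψ, χ ∈ B → ψ ∈ B → blockHeight p B (χ : G → ℂ) = 0 →
    blockHeight p B (ψ : G → ℂ) = 0 → ∀ v, ¬ MemLocalIdeal M (F χ ψ v)

variable {B : Set (IrrCharacter G)}
  {b : Set (IrrCharacter (Subgroup.centralizer ({x} : Set G)))}

theorem exists_system (hM : IsPModular p M) (hx : ∃ k : ℕ, orderOf x = p ^ k) (hB : IsPBlock M B)
    (hb : IsInducedBlock M (Subgroup.centralizer ({x} : Set G)) b B) :
    ∃ F, Contribution p x B b M F := by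
  classical
  have : Fintype (Subgroup.zpowers x) := Fintype.ofFinite _
  have := isPrime_of_isPModular hM
  choose F hF hFy hFreal hFunit using fun χ ψ => exists_contribution_unit hM hx hB hb χ ψ
  set d := blockDefect p b
  set l := blockRank p b
  set u₀ := zpow₀ x with hu₀
  have hc : (Nat.card (Subgroup.centralizer ({x} : Set G)) : ℂ) ≠ 0 :=
    Nat.cast_ne_zero.mpr Nat.card_pos.ne'
  have hval : ∀ χ ψ, (Nat.card (Subgroup.centralizer ({x} : Set G)) : ℂ) * F χ ψ u₀ =
      (p : ℂ) ^ d * regScalar p x b (χ : G → ℂ) (ψ : G → ℂ) := fun χ ψ => by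
    rw [regScalar]; exact hFy χ ψ
  have hsymm : ∀ χ ψ v, Subgroup.zpowers v = Subgroup.zpowers u₀ → conj (F χ ψ v) = F ψ χ v := by
    intro χ ψ v hv
    refine CyclicValue.eq_on_gens (x := u₀) (f := fun v => conj (F χ ψ v))
      (Char.isGeneralized_conj (hF χ ψ)) (hF ψ χ) (mul_left_cancel₀ hc ?_) hv
    rw [hval ψ χ, show (Nat.card (Subgroup.centralizer ({x} : Set G)) : ℂ) * conj (F χ ψ u₀) =
      conj ((Nat.card (Subgroup.centralizer ({x} : Set G)) : ℂ) * F χ ψ u₀) by
        rw [map_mul, map_natCast], hval χ ψ]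
    simp only [regScalar, map_mul, map_pow, map_natCast, map_sum, Complex.conj_conj]
    exact congrArg _ (Finset.sum_congr rfl fun s _ => mul_comm _ _)
  refine ⟨F, hF, hval, fun χ => hFreal χ χ rfl, hsymm, ?_, ?_, hFunit⟩
  · intro _ v hv
    set T : Subgroup.zpowers x → ℂ := ∑ χ : IrrCharacter G with χ ∈ B, F χ χ with hT
    have hTy : T u₀ = ((p ^ d * l : ℕ) : ℂ) := by
      refine mul_left_cancel₀ hc ?_
      rw [Nat.cast_mul, Nat.cast_pow, mul_left_comm, ← sum_diag_columns hM hx hB hb,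
        hT, Finset.sum_apply, Finset.mul_sum, Finset.mul_sum]
      exact Finset.sum_congr rfl fun χ _ => hFy χ χ
    have hTv := Char.eq_of_zpowers_eq_of_rat (Char.isGeneralized_sum _ _ fun χ _ => hF χ χ) hv.symm
      (q := ((p ^ d * l : ℕ) : ℚ)) (show T u₀ = _ by rw [hTy, Rat.cast_natCast])
    have h := congrArg Complex.re hTv
    rw [Finset.sum_apply, Complex.re_sum, Rat.cast_natCast, Complex.natCast_re] at h
    rw [h]; push_cast; rfl
  · intro _ ψ v hv
    set g : Subgroup.zpowers x → ℂ :=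
      (∑ χ : IrrCharacter G with χ ∈ B, F χ ψ * fun w => conj (F χ ψ w)) -
        (((p ^ d : ℕ) : ℤ) : ℂ) • F ψ ψ with hg
    have hgg : IsGeneralizedCharacter (Subgroup.zpowers x) g :=
      Char.isGeneralized_sub (Char.isGeneralized_sum _ _ fun χ _ =>
        Char.isGeneralized_mul (hF χ ψ) (Char.isGeneralized_conj (hF χ ψ)))
        (Char.isGeneralized_intCast_smul (hF ψ ψ) _)
    have hg0 : g u₀ = 0 := by
      refine mul_left_cancel₀ (pow_ne_zero 2 hc) ?_
      simp only [hg, Pi.sub_apply, Finset.sum_apply, Pi.mul_apply, Pi.smul_apply, smul_eq_mul,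
        mul_zero, mul_sub, Finset.mul_sum, sub_eq_zero]
      push_cast
      have e : ∀ χ, (Nat.card (Subgroup.centralizer ({x} : Set G)) : ℂ) ^ 2 *
          (F χ ψ u₀ * conj (F χ ψ u₀)) =
          ((Nat.card (Subgroup.centralizer ({x} : Set G)) : ℂ) * F χ ψ u₀) *
            conj ((Nat.card (Subgroup.centralizer ({x} : Set G)) : ℂ) * F χ ψ u₀) :=
        fun χ => by rw [map_mul, map_natCast]; ring
      simp only [e]
      simp only [hu₀, zpow₀, hFy, map_mul, map_pow]
      rw [show (Nat.card (Subgroup.centralizer ({x} : Set G)) : ℂ) ^ 2 *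
          ((p : ℂ) ^ d * F ψ ψ ⟨x, Subgroup.mem_zpowers x⟩) =
        (p : ℂ) ^ d * (Nat.card (Subgroup.centralizer ({x} : Set G)) : ℂ) *
          ((Nat.card (Subgroup.centralizer ({x} : Set G)) : ℂ) * F ψ ψ ⟨x, Subgroup.mem_zpowers x⟩) by ring,
        hFy, show ∀ a b c : ℂ, a * b * (a * c) = a * a * (b * c) from fun a b c => by ring,
        ← sum_sq_row hM hx hB hb ψ, Finset.mul_sum]
      refine Finset.sum_congr rfl fun χ _ => ?_
      simp only [map_natCast]
      ring
    have h0 := Char.eq_of_zpowers_eq_of_rat hgg hv.symm (q := 0) (by rw [hg0, Rat.cast_zero])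
    rw [Rat.cast_zero] at h0
    simp only [hg, Pi.sub_apply, Finset.sum_apply, Pi.mul_apply, Pi.smul_apply, smul_eq_mul,
      Complex.mul_conj, sub_eq_zero] at h0
    have h := congrArg Complex.re h0
    rw [Complex.re_sum] at h
    simp only [Complex.ofReal_re] at h
    rw [h, show (((p ^ d : ℕ) : ℤ) : ℂ) = (((p : ℝ) ^ d : ℝ) : ℂ) by push_cast; rfl,
      Complex.re_ofReal_mul]

/-- The scalar product with a block part sees only the block part. -/
theorem sum_regular_mul_conj_part [DecidablePred fun s : G => IsPRegular p s]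
    (hM : IsPModular p M) {e : Set (IrrCharacter G)} (he : IsPBlock M e) {θ θ' : G → ℂ}
    (hθ : IsClassFunction G θ) :
    ∑ s : G with IsPRegular p s, θ s * conj (blockPart e θ' s) =
      ∑ s : G with IsPRegular p s, blockPart e θ s * conj (blockPart e θ' s) := by
  classical
  have h : ∀ f : G → ℂ, ∑ s : G with IsPRegular p s, f s * conj (blockPart e θ' s) =
      ∑ η : IrrCharacter G with η ∈ e, conj (classInner θ' (η : G → ℂ)) *
        ∑ s : G with IsPRegular p s, f s * conj ((η : G → ℂ) s) := by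
    intro f
    simp only [blockPart_eq_filter, map_sum, map_mul, Finset.mul_sum]
    rw [Finset.sum_comm]
    exact Finset.sum_congr rfl fun η _ => Finset.sum_congr rfl fun s _ => by ring
  rw [h, h]
  refine Finset.sum_congr rfl fun η hη => ?_
  rw [sum_regular_mul_conj_irr hM he hθ (Finset.mem_filter.mp hη).2]

/-- A major subsection consists of a `p`-element and a block of full defect. -/
theorem major_data (hM : IsPModular p M) (hB : IsPBlock M B) {D : Subgroup G}
    (hD : IsDefectGroup p M B D) (hxD : x ∈ D) (hxc : ∀ d ∈ D, d * x = x * d)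
    (hb : IsInducedBlock M (Subgroup.centralizer ({x} : Set G)) b B)
    (hbD : IsDefectGroup p M b (D.subgroupOf (Subgroup.centralizer ({x} : Set G)))) :
    (∃ k : ℕ, orderOf x = p ^ k) ∧ blockDefect p b = blockDefect p B := by
  have h1 := IsDefectGroup.card_eq hM hB hD
  refine ⟨?_, ?_⟩
  · have h2 : orderOf x ∣ p ^ blockDefect p B := h1 ▸ Subgroup.orderOf_dvd_natCard _ hxD
    obtain ⟨k, -, hk⟩ := (Nat.dvd_prime_pow hM.1).mp h2
    exact ⟨k, hk⟩
  · have h2 := IsDefectGroup.card_eq hM hb.1 hbD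
    rw [Nat.card_congr (Subgroup.subgroupOfEquivOfLe fun d hd =>
      Subgroup.mem_centralizer_singleton_iff.mpr (hxc d hd)).toEquiv, h1] at h2
    exact (Nat.pow_right_injective hM.1.two_le h2).symm

variable (p x) in
/-- The class function whose central character values give the contributions. -/
noncomputable def contributionFun (b : Set (IrrCharacter (Subgroup.centralizer ({x} : Set G))))
    (ψ : G → ℂ) : G → ℂ :=
  sectionFun p x fun s => conj (blockPart b
    (fun c : Subgroup.centralizer ({x} : Set G) => ψ (x * (c : G))) s)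

namespace Contribution

variable {F : IrrCharacter G → IrrCharacter G → Subgroup.zpowers x → ℂ}
  (hF : Contribution p x B b M F)
include hF

theorem isIntegral (χ ψ : IrrCharacter G) (v : Subgroup.zpowers x) : IsIntegral ℤ (F χ ψ v) :=
  Char.isIntegral_generalized (hF.gen χ ψ) v

theorem nonneg {ψ : IrrCharacter G} {v : Subgroup.zpowers x} (hp : p ≠ 0)
    (hv : Subgroup.zpowers v = Subgroup.zpowers (zpow₀ x)) : 0 ≤ (F ψ ψ v).re := by
  classical
  have h : 0 ≤ ∑ χ : IrrCharacter G with χ ∈ B, Complex.normSq (F χ ψ v) :=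
    Finset.sum_nonneg fun χ _ => Complex.normSq_nonneg _
  rw [hF.row ψ v hv] at h
  exact (mul_nonneg_iff_of_pos_left (by positivity)).mp h

theorem ne_zero_of_ne_zero {χ ψ : IrrCharacter G} (h : F χ ψ (zpow₀ x) ≠ 0)
    {v : Subgroup.zpowers x} (hv : Subgroup.zpowers v = Subgroup.zpowers (zpow₀ x)) :
    F χ ψ v ≠ 0 := fun h0 => by
  have h' := Char.eq_of_zpowers_eq_of_rat (hF.gen χ ψ) hv (q := 0) (by rw [h0, Rat.cast_zero])
  exact h (by rw [h', Rat.cast_zero])

theorem im_eq_zero (χ : IrrCharacter G) (v : Subgroup.zpowers x) : (F χ χ v).im = 0 :=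
  Complex.conj_eq_iff_im.mp (hF.real χ v)

variable (hM : IsPModular p M) (hx : ∃ k : ℕ, orderOf x = p ^ k) (hB : IsPBlock M B)
  (hb : IsInducedBlock M (Subgroup.centralizer ({x} : Set G)) b B)
  (hd : blockDefect p b = blockDefect p B)
include hM hx hB hb hd

/-- Divisibility of a contribution by the height, with its residue. -/
theorem height_dvd {χ χ₀ : IrrCharacter G} (hχ : χ ∈ B) (hχ₀ : χ₀ ∈ B)
    (h₀ : blockHeight p B (χ₀ : G → ℂ) = 0) (ψ : IrrCharacter G) :
    IsIntegral ℤ (F χ ψ (zpow₀ x) / (p : ℂ) ^ blockHeight p B (χ : G → ℂ)) ∧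
      (MemLocalIdeal M (F χ ψ (zpow₀ x) / (p : ℂ) ^ blockHeight p B (χ : G → ℂ)) ↔
        MemLocalIdeal M (F χ₀ ψ (zpow₀ x))) := by
  classical
  have := isPrime_of_isPModular hM
  set d := blockDefect p B
  set φ := contributionFun p x b (ψ : G → ℂ) with hφ
  have hcl : IsClassFunction G φ := isClassFunction_sectionFun
  have hint : ∀ g, IsIntegral ℤ (φ g) := by
    refine isIntegral_sectionFun hM.1 hx (fun a c => ?_)
      fun s => (blockPart_translate ψ b s).1.map (starRingEnd ℂ).toIntAlgHom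
    show conj _ = conj _
    simp only [blockPart_eq_filter,
      fun η : IrrCharacter (Subgroup.centralizer ({x} : Set G)) => irr_classFunction η a c]
  have hω : ∀ η : IrrCharacter G, IsIntegral ℤ (omega (η : G → ℂ) φ) := fun η =>
    isIntegral_omega_of_values η hcl hint
  have hp0 : (p : ℂ) ≠ 0 := Nat.cast_ne_zero.mpr hM.1.ne_zero
  have hG : (Nat.card G : ℂ) ≠ 0 := Nat.cast_ne_zero.mpr Nat.card_pos.ne'
  -- the link
  have hlink : ∀ η : IrrCharacter G, (Nat.card G : ℂ) * F η ψ (zpow₀ x) =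
      (p : ℂ) ^ d * (charDegree (η : G → ℂ) : ℂ) * omega (η : G → ℂ) φ := fun η => by
    have hc : (Nat.card (Subgroup.centralizer ({x} : Set G)) : ℂ) ≠ 0 :=
      Nat.cast_ne_zero.mpr Nat.card_pos.ne'
    have h := hF.value η ψ
    rw [regScalar, ← sum_regular_mul_conj_part hM hb.1
      (isClassFunction_translate (irr_classFunction η))] at h
    rw [hφ, contributionFun, omega_sectionFun, Finset.sum_congr rfl fun s _ => mul_comm (conj _) _,
      ← hd]
    have hdeg := (irr_degree_eq η).1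
    have hd0 : (charDegree (η : G → ℂ) : ℂ) ≠ 0 := Nat.cast_ne_zero.mpr (irr_degree_eq η).2.ne'
    rw [hdeg]
    field_simp
    linear_combination h
  obtain ⟨hle, hInf, hall, -⟩ := blockDefect_le_and_degree hM hB
  have key : ∀ η : IrrCharacter G, η ∈ B → ∀ h, blockHeight p B (η : G → ℂ) = h →
      IsIntegral ℤ (F η ψ (zpow₀ x) / (p : ℂ) ^ h) ∧
      (MemLocalIdeal M (F η ψ (zpow₀ x) / (p : ℂ) ^ h) ↔ MemLocalIdeal M (omega (η : G → ℂ) φ)) := by
    intro η hη h hh
    have hall' := hall η hη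
    rw [blockHeight, hInf] at hh
    set n := charDegree (η : G → ℂ)
    have hn0 : n ≠ 0 := (irr_degree_eq η).2.ne'
    have hexp : (Nat.card G).factorization p + h = d + n.factorization p := by omega
    set g' := Nat.card G / p ^ (Nat.card G).factorization p
    set n' := n / p ^ n.factorization p
    have hge : (Nat.card G : ℂ) = (p : ℂ) ^ (Nat.card G).factorization p * g' := by
      exact_mod_cast (Nat.ordProj_mul_ordCompl_eq_self (Nat.card G) p).symm
    have hne : (n : ℂ) = (p : ℂ) ^ n.factorization p * n' := by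
      exact_mod_cast (Nat.ordProj_mul_ordCompl_eq_self n p).symm
    have e : (g' : ℂ) * (F η ψ (zpow₀ x) / (p : ℂ) ^ h) = (n' : ℂ) * omega (η : G → ℂ) φ := by
      have hl := hlink η
      rw [hge, hne, ← mul_assoc ((p : ℂ) ^ d), ← pow_add, ← hexp, pow_add] at hl
      rw [mul_div_assoc', div_eq_iff (pow_ne_zero h hp0)]
      refine mul_left_cancel₀ (pow_ne_zero ((Nat.card G).factorization p) hp0) ?_
      linear_combination hl
    have hg' : ¬ p ∣ g' := Nat.not_dvd_ordCompl hM.1 Nat.card_pos.ne'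
    have hn' : ¬ p ∣ n' := Nat.not_dvd_ordCompl hM.1 hn0
    have hz : IsIntegral ℤ (F η ψ (zpow₀ x) / (p : ℂ) ^ h) := by
      have h1 := isIntegral_of_coprime_multiples (z := F η ψ (zpow₀ x) / (p : ℂ) ^ h) (m := g')
        (n := p ^ h) (d := 1) ?_ ?_ ?_
      · simpa using h1
      · rw [Nat.dvd_one]
        exact Nat.Coprime.pow_right _ (Nat.Coprime.symm (hM.1.coprime_iff_not_dvd.mpr hg'))
      · rw [e]
        exact (isIntegral_algebraMap (R := ℤ) (A := ℂ) (x := (n' : ℤ))).mul (hω η)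
          |> fun h => by simpa using h
      · rw [Nat.cast_pow, mul_div_cancel₀ _ (pow_ne_zero _ hp0)]
        exact hF.isIntegral η ψ _
    refine ⟨hz, ?_⟩
    have hcancel : ∀ {a : ℕ} {z : ℂ}, ¬ p ∣ a →
        (MemLocalIdeal M ((a : ℂ) * z) ↔ MemLocalIdeal M z) := fun {a z} ha => by
      refine ⟨fun hm => ?_, fun hm => memLocalIdeal_mul_left (memLocalRing_natCast _) hm⟩
      have hm' := memLocalIdeal_mul_left (memLocalRing_natCast_inv hM ha) hm
      rwa [inv_mul_cancel_left₀ (Nat.cast_ne_zero.mpr fun h0 => ha (by rw [h0]; exact dvd_zero p))]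
        at hm'
    rw [← hcancel hg', e, hcancel hn']
  obtain ⟨h1, h2⟩ := key χ hχ _ rfl
  obtain ⟨-, h4⟩ := key χ₀ hχ₀ 0 h₀
  rw [pow_zero, div_one] at h4
  refine ⟨h1, h2.trans (Iff.trans ?_ h4.symm)⟩
  exact memLocalIdeal_iff_of_sub (sub_mem_localIdeal_of_sameBlock (IsPBlock.sameBlock hB hχ hχ₀)
    hcl fun g => memLocalRing_of_isIntegral (hint g))

theorem isIntegral_div {χ : IrrCharacter G} (hχ : χ ∈ B) (ψ : IrrCharacter G) :
    IsIntegral ℤ (F χ ψ (zpow₀ x) / (p : ℂ) ^ blockHeight p B (χ : G → ℂ)) := by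
  obtain ⟨χ₀, hχ₀, h₀⟩ := exists_blockHeight_eq_zero hM hB
  exact (hF.height_dvd hM hx hB hb hd hχ hχ₀ h₀ ψ).1

theorem memLocalIdeal_div_iff {χ ψ : IrrCharacter G} (hχ : χ ∈ B) (hψ : ψ ∈ B) :
    MemLocalIdeal M (F χ ψ (zpow₀ x) / (p : ℂ) ^ blockHeight p B (χ : G → ℂ)) ↔
      0 < blockHeight p B (ψ : G → ℂ) := by
  have := isPrime_of_isPModular hM
  obtain ⟨χ₀, hχ₀, h₀⟩ := exists_blockHeight_eq_zero hM hB
  rw [(hF.height_dvd hM hx hB hb hd hχ hχ₀ h₀ ψ).2]
  refine ⟨fun h => Nat.pos_of_ne_zero fun h0 => hF.isUnit χ₀ ψ hχ₀ hψ h₀ h0 _ h, fun h => ?_⟩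
  have hint := (hF.isIntegral_div hM hx hB hb hd hψ χ₀).map (starRingEnd ℂ).toIntAlgHom
  rw [← hF.symm ψ χ₀ _ rfl]
  have e : conj (F ψ χ₀ (zpow₀ x)) = (p : ℂ) ^ blockHeight p B (ψ : G → ℂ) *
      (starRingEnd ℂ).toIntAlgHom (F ψ χ₀ (zpow₀ x) / (p : ℂ) ^ blockHeight p B (ψ : G → ℂ)) := by
    rw [RingHom.toIntAlgHom_apply, map_div₀, map_pow, map_natCast,
      mul_div_cancel₀ _ (pow_ne_zero _ (Nat.cast_ne_zero.mpr hM.1.ne_zero))]
  rw [e]
  refine memLocalIdeal_mul_right ?_ (memLocalRing_of_isIntegral hint)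
  rw [← Nat.cast_pow, memLocalIdeal_natCast_iff hM]
  exact dvd_pow_self p h.ne'

theorem ne_zero_of_height_zero {χ ψ : IrrCharacter G} (hχ : χ ∈ B) (hψ : ψ ∈ B)
    (h0 : blockHeight p B (ψ : G → ℂ) = 0) {v : Subgroup.zpowers x}
    (hv : Subgroup.zpowers v = Subgroup.zpowers (zpow₀ x)) : F χ ψ v ≠ 0 := by
  have := isPrime_of_isPModular hM
  refine hF.ne_zero_of_ne_zero (fun h => ?_) hv
  have h' := (hF.memLocalIdeal_div_iff hM hx hB hb hd hχ hψ).mp
    (by rw [h, zero_div]; exact memLocalIdeal_zero)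
  omega

theorem diag_pos {χ : IrrCharacter G} (hχ : χ ∈ B) {v : Subgroup.zpowers x}
    (hv : Subgroup.zpowers v = Subgroup.zpowers (zpow₀ x)) : 0 < (F χ χ v).re := by
  classical
  refine lt_of_le_of_ne (hF.nonneg hM.1.ne_zero hv) fun h => ?_
  have hne : F χ χ (zpow₀ x) ≠ 0 := fun h0 => by
    have h1 := hF.value χ χ
    rw [h0, mul_zero] at h1
    refine diagSum_ne_zero hM hx hχ hb hd ?_
    rw [diagSum]
    exact (mul_eq_zero.mp h1.symm).resolve_left (pow_ne_zero _ (Nat.cast_ne_zero.mpr hM.1.ne_zero))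
  exact hF.ne_zero_of_ne_zero hne hv (Complex.ext h.symm (hF.im_eq_zero χ v))

variable [Fintype (Subgroup.zpowers x)] (S : Finset (Subgroup.zpowers x))
  (hS : ∀ v, v ∈ S ↔ Subgroup.zpowers v = Subgroup.zpowers (zpow₀ x))
include hS

/-- A contribution with a character of height zero, squared, on average. -/
theorem pow_mul_card_le_normSq {χ ψ : IrrCharacter G} (hχ : χ ∈ B) (hψ : ψ ∈ B)
    (h0 : blockHeight p B (ψ : G → ℂ) = 0) :
    ((p : ℝ) ^ blockHeight p B (χ : G → ℂ)) ^ 2 * S.card ≤ ∑ v ∈ S, Complex.normSq (F χ ψ v) := by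
  obtain ⟨g, hg, he⟩ := CyclicValue.exists_generalized_eq_mul zpow₀_gen (hF.gen χ ψ)
    (N := p ^ blockHeight p B (χ : G → ℂ)) (pow_ne_zero _ hM.1.ne_zero)
    (by rw [Nat.cast_pow]; exact hF.isIntegral_div hM hx hB hb hd hχ ψ)
  have hgne : ∀ v ∈ S, g v ≠ 0 := fun v hv h => by
    refine hF.ne_zero_of_height_zero hM hx hB hb hd hχ hψ h0 ((hS v).mp hv) ?_
    rw [he v ((hS v).mp hv), h, mul_zero]
  refine le_trans (mul_le_mul_of_nonneg_left (Char.card_le_sum_normSq_generalized hg S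
    (fun a c hac ha => (hS c).mpr (hac ▸ (hS a).mp ha)) hgne) (sq_nonneg _)) (le_of_eq ?_)
  rw [Finset.mul_sum]
  refine Finset.sum_congr rfl fun v hv => ?_
  rw [he v ((hS v).mp hv), map_mul, Complex.normSq_natCast]
  push_cast
  ring

/-- A diagonal contribution on average. -/
theorem pow_mul_card_le_diag {χ : IrrCharacter G} (hχ : χ ∈ B) :
    (p : ℝ) ^ blockHeight p B (χ : G → ℂ) * S.card ≤ ∑ v ∈ S, (F χ χ v).re := by
  obtain ⟨g, hg, he⟩ := CyclicValue.exists_generalized_eq_mul zpow₀_gen (hF.gen χ χ)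
    (N := p ^ blockHeight p B (χ : G → ℂ)) (pow_ne_zero _ hM.1.ne_zero)
    (by rw [Nat.cast_pow]; exact hF.isIntegral_div hM hx hB hb hd hχ χ)
  have hpp : (0 : ℝ) < (p : ℝ) ^ blockHeight p B (χ : G → ℂ) :=
    pow_pos (Nat.cast_pos.mpr hM.1.pos) _
  have hgv : ∀ v ∈ S, (F χ χ v).re = (p : ℝ) ^ blockHeight p B (χ : G → ℂ) * (g v).re ∧
      (g v).im = 0 := fun v hv => by
    have h := hF.im_eq_zero χ v
    rw [he v ((hS v).mp hv)] at h ⊢
    push_cast at h ⊢
    rw [← Complex.ofReal_natCast, ← Complex.ofReal_pow, Complex.im_ofReal_mul] at h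
    rw [← Complex.ofReal_natCast, ← Complex.ofReal_pow, Complex.re_ofReal_mul]
    exact ⟨rfl, (mul_eq_zero.mp h).resolve_left hpp.ne'⟩
  have hgpos : ∀ v ∈ S, 0 < (g v).re ∧ (g v).im = 0 := fun v hv => by
    have h := hF.diag_pos hM hx hB hb hd hχ ((hS v).mp hv)
    rw [(hgv v hv).1] at h
    exact ⟨(mul_pos_iff_of_pos_left hpp).mp h, (hgv v hv).2⟩
  refine le_trans (mul_le_mul_of_nonneg_left (Char.card_le_sum_of_pos hg S
    (fun a c hac ha => (hS c).mpr (hac ▸ (hS a).mp ha)) hgpos) hpp.le) (le_of_eq ?_)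
  rw [Finset.mul_sum]
  exact Finset.sum_congr rfl fun v hv => (hgv v hv).1.symm

end Contribution

end CfsgLib.Blocks
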