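import Cfsg.Agent.Lib.Blocks.MajorContribution
import Mathlib.LinearAlgebra.FreeModule.PID
import Mathlib.LinearAlgebra.Matrix.NonsingularInverse

/-!
# Coordinates of the contributions of a subsection

The contributions are the values of an integral positive definite form of rank `l(b)` on vectors of
generalized characters.
-/

set_option autoImplicit false
set_option linter.unusedSectionVars false

namespace CfsgLib.Blocks

open Cfsg
open scoped ComplexConjugate CfsgLib.Char Matrix

/-- A basis of the image of an integral symmetric idempotent up to a scalar. -/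
theorem exists_lattice_coordinates {ι : Type*} [Fintype ι] [DecidableEq ι] {c : ℤ}
    (N : Matrix ι ι ℤ) (hsymm : Nᵀ = N) (hNN : N * N = c • N) :
    ∃ (r : ℕ) (C : Matrix (Fin r) ι ℤ) (g : Matrix ι (Fin r) ℤ), N * (g * C) = N ∧
      ∀ z : Fin r → ℤ, z ⬝ᵥ ((gᵀ * N * g) *ᵥ z) = 0 → z = 0 := by
  classical
  set K : Submodule ℤ (ι → ℤ) := LinearMap.range N.mulVecLin with hK
  let bK : Module.Basis (Fin (Module.finrank ℤ K)) ℤ K := Module.finBasis ℤ K
  choose g hg using fun i => (bK i).2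
  set gm : Matrix ι (Fin (Module.finrank ℤ K)) ℤ := Matrix.of fun ξ i => g i ξ
  have hmem : ∀ ξ, N *ᵥ Pi.single ξ 1 ∈ K := fun ξ => ⟨Pi.single ξ 1, rfl⟩
  set C : Matrix (Fin (Module.finrank ℤ K)) ι ℤ :=
    Matrix.of fun i ξ => bK.repr ⟨_, hmem ξ⟩ i
  have hgv : ∀ z : Fin (Module.finrank ℤ K) → ℤ,
      N *ᵥ (gm *ᵥ z) = ((∑ i, z i • bK i : K) : ι → ℤ) := fun z => by
    have e : gm *ᵥ z = ∑ i, z i • g i := by
      funext ξ
      simp [gm, Matrix.mulVec, dotProduct, mul_comm]
    rw [e, Matrix.mulVec_sum, Submodule.coe_sum]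
    exact Finset.sum_congr rfl fun i _ => by
      rw [Matrix.mulVec_smul, ← Matrix.mulVecLin_apply, hg, Submodule.coe_smul]
  refine ⟨_, C, gm, ?_, fun z hz => ?_⟩
  · refine Matrix.ext_of_mulVec_single fun ξ => ?_
    rw [← Matrix.mulVec_mulVec, ← Matrix.mulVec_mulVec, hgv]
    have e : C *ᵥ Pi.single ξ 1 = fun i => bK.repr ⟨_, hmem ξ⟩ i := by
      funext i
      simp [C]
    rw [e]
    exact congrArg Subtype.val (bK.sum_repr ⟨_, hmem ξ⟩)
  · have h0 : N *ᵥ (gm *ᵥ z) = 0 := by
      refine dotProduct_self_eq_zero.mp ?_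
      calc (N *ᵥ (gm *ᵥ z)) ⬝ᵥ (N *ᵥ (gm *ᵥ z))
          = (gm *ᵥ z) ⬝ᵥ ((N * N) *ᵥ (gm *ᵥ z)) := by
            rw [← Matrix.mulVec_mulVec, Matrix.dotProduct_mulVec (gm *ᵥ z), ← Matrix.mulVec_transpose,
              hsymm]
        _ = c * (z ⬝ᵥ ((gmᵀ * N * gm) *ᵥ z)) := by
            rw [hNN, Matrix.smul_mulVec, dotProduct_smul, smul_eq_mul, ← Matrix.mulVec_mulVec,
              ← Matrix.mulVec_mulVec, Matrix.dotProduct_mulVec z gmᵀ, Matrix.vecMul_transpose]
        _ = 0 := by rw [hz, mul_zero]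
    rw [hgv, Submodule.coe_eq_zero] at h0
    exact funext (Fintype.linearIndependent_iff.mp bK.linearIndependent z h0)

variable {p : ℕ} {M : Ideal AlgInt} {G : Type*} [Group G] [Fintype G] {x : G}
variable [Fintype (Subgroup.centralizer ({x} : Set G))]

/-- The Fourier coefficients of a translate are values of generalized characters. -/
theorem exists_coeff (χ : IrrCharacter G)
    (η : IrrCharacter (Subgroup.centralizer ({x} : Set G))) :
    ∃ A : Subgroup.zpowers x → ℂ, IsGeneralizedCharacter (Subgroup.zpowers x) A ∧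
      A (zpow₀ x) = classInner (fun c : Subgroup.centralizer ({x} : Set G) => (χ : G → ℂ) (x * (c : G)))
        (η : Subgroup.centralizer ({x} : Set G) → ℂ) := by
  classical
  obtain ⟨m, hm⟩ := Char.exists_multiplicities
    (Char.isCharacter_restrict (Subgroup.centralizer ({x} : Set G)) (Char.isCharacter_of_isIrr χ.2))
  refine ⟨((m η : ℤ) : ℂ) • fun v => (centralScalar x η v : ℂ),
    Char.isGeneralized_intCast_smul
      (Char.isGeneralized_of_isCharacter (isCharacter_units_hom _)) _, ?_⟩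
  have hθ : (fun c : Subgroup.centralizer ({x} : Set G) => (χ : G → ℂ) (x * (c : G))) =
      ∑ ψ : IrrCharacter (Subgroup.centralizer ({x} : Set G)),
        ((m ψ : ℂ) * (centralScalar x ψ (zpow₀ x) : ℂ)) •
          (ψ : Subgroup.centralizer ({x} : Set G) → ℂ) := by
    funext c
    have h := congrFun hm (c * zpowersToCentralizer x (zpow₀ x))
    simp only [Finset.sum_apply, Pi.smul_apply, smul_eq_mul, centralScalar_mul] at h ⊢
    rw [show (χ : G → ℂ) (x * (c : G)) = (χ : G → ℂ) (((c * zpowersToCentralizer x (zpow₀ x) :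
        Subgroup.centralizer ({x} : Set G)) : G)) by
      refine congrArg (χ : G → ℂ) ?_
      exact (Subgroup.mem_centralizer_singleton_iff.mp c.2).symm, h]
    exact Finset.sum_congr rfl fun ψ _ => by ring
  rw [hθ, Char.classInner_sum_smul_irr, Pi.smul_apply, smul_eq_mul, Int.cast_natCast]

variable {B : Set (IrrCharacter G)}
  {b : Set (IrrCharacter (Subgroup.centralizer ({x} : Set G)))}
  {F : IrrCharacter G → IrrCharacter G → Subgroup.zpowers x → ℂ}

/-- The scalar product over the regular elements. -/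
theorem sum_regular_eq [DecidablePred fun s : G => IsPRegular p s] (f g : G → ℂ) :
    ∑ s : G with IsPRegular p s, f s * conj (g s) =
      (Nat.card G : ℂ) * classInner (regPart p f) g := by
  rw [classInner, mul_inv_cancel_left₀ (Nat.cast_ne_zero.mpr Nat.card_pos.ne'), Finset.sum_filter]
  refine Finset.sum_congr rfl fun s _ => ?_
  split
  next h => rw [regPart_of_regular h]
  next h => rw [regPart_of_singular h, zero_mul]

/-- Contributions in integral coordinates. -/
theorem Contribution.exists_coordinates (hF : Contribution p x B b M F) (hM : IsPModular p M)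
    (hx : ∃ k : ℕ, orderOf x = p ^ k) (hB : IsPBlock M B)
    (hb : IsInducedBlock M (Subgroup.centralizer ({x} : Set G)) b B) [DecidablePred (· ∈ B)] :
    ∃ (q : Matrix (Fin (blockRank p b)) (Fin (blockRank p b)) ℤ)
      (X : IrrCharacter G → Fin (blockRank p b) → Subgroup.zpowers x → ℂ),
      qᵀ = q ∧ (∀ z, z ≠ 0 → 0 < z ⬝ᵥ (q *ᵥ z)) ∧
      (∀ χ i, IsGeneralizedCharacter (Subgroup.zpowers x) (X χ i)) ∧
      (∀ χ ψ v, Subgroup.zpowers v = Subgroup.zpowers (zpow₀ x) →
        F χ ψ v = ∑ i, ∑ j, (q i j : ℂ) * (X χ i v * conj (X ψ j v))) ∧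
      ∀ (e : Fin (blockRank p b) → ℤ) v, Subgroup.zpowers v = Subgroup.zpowers (zpow₀ x) →
        ∑ χ : IrrCharacter G with χ ∈ B,
          Complex.normSq (∑ i, ((q *ᵥ e) i : ℂ) * X χ i v) =
            (p : ℝ) ^ blockDefect p b * ((e ⬝ᵥ (q *ᵥ e) : ℤ) : ℝ) := by
  classical
  have : Fintype (Subgroup.zpowers x) := Fintype.ofFinite _
  have := isPrime_of_isPModular hM
  set d := blockDefect p b
  have hU := IsPBlock.isBlockUnion hb.1
  have hc : (Nat.card (Subgroup.centralizer ({x} : Set G)) : ℂ) ≠ 0 := Nat.cast_ne_zero.mpr Nat.card_pos.ne'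
  have hrow' : ∀ ξ : {ξ : IrrCharacter (Subgroup.centralizer ({x} : Set G)) // ξ ∈ b}, ∃ n : {ξ : IrrCharacter (Subgroup.centralizer ({x} : Set G)) // ξ ∈ b} → ℤ,
      ∀ η, (p : ℂ) ^ d * classInner (regPart p (ξ.1 : (Subgroup.centralizer ({x} : Set G)) → ℂ)) (η.1 : (Subgroup.centralizer ({x} : Set G)) → ℂ) = (n η : ℂ) := fun ξ => by
    obtain ⟨n, hn, -⟩ := exists_row hM hb.1 ξ.2
    exact ⟨fun η => n η.1, fun η => hn η.1⟩
  choose n hn using hrow'
  set N : Matrix {ξ : IrrCharacter (Subgroup.centralizer ({x} : Set G)) // ξ ∈ b} {ξ : IrrCharacter (Subgroup.centralizer ({x} : Set G)) // ξ ∈ b} ℤ :=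
    Matrix.of n with hN
  have hNv : ∀ ξ η, (N ξ η : ℂ) =
      (p : ℂ) ^ d * classInner (regPart p (ξ.1 : (Subgroup.centralizer ({x} : Set G)) → ℂ)) (η.1 : (Subgroup.centralizer ({x} : Set G)) → ℂ) := fun ξ η => (hn ξ η).symm
  have hsym : ∀ ξ η, N ξ η = N η ξ := fun ξ η => by
    apply Int.cast_injective (α := ℂ)
    rw [hNv, hNv, classInner_regPart_comm]
  have hsymm : Nᵀ = N := Matrix.ext fun ξ η => hsym η ξ
  have hsub : ∀ φ : IrrCharacter (Subgroup.centralizer ({x} : Set G)) → ℂ,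
      ∑ ξ : IrrCharacter (Subgroup.centralizer ({x} : Set G)) with ξ ∈ b, φ ξ = ∑ ξ : {ξ : IrrCharacter (Subgroup.centralizer ({x} : Set G)) // ξ ∈ b}, φ ξ.1 := fun φ =>
    (Finset.sum_subtype (p := fun ξ => ξ ∈ b) _ (by simp) φ)
  have hNN : N * N = ((p : ℤ) ^ d) • N := by
    ext ξ η
    apply Int.cast_injective (α := ℂ)
    rw [Matrix.mul_apply, Matrix.smul_apply, smul_eq_mul]
    push_cast
    rw [hNv ξ η, ← classInner_regPart_regPart]
    show _ = (p : ℂ) ^ d * ((p : ℂ) ^ d *
      classInner (regPart p (ξ.1 : (Subgroup.centralizer ({x} : Set G)) → ℂ)) (regPart p (η.1 : (Subgroup.centralizer ({x} : Set G)) → ℂ)))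
    conv_rhs => arg 2; arg 2; arg 2; rw [regPart_eq_sum hM hU η.2]
    rw [Char.classInner_sum_right, hsub, Finset.mul_sum, Finset.mul_sum]
    refine Finset.sum_congr rfl fun θ _ => ?_
    rw [Char.classInner_smul_right]
    have h := congrArg conj (hNv η θ)
    rw [map_intCast, map_mul, map_pow, map_natCast] at h
    rw [← hsym η θ, h, hNv]
    ring
  obtain ⟨r, C, g, hNgC, hker⟩ := exists_lattice_coordinates N hsymm hNN
  set q := gᵀ * N * g with hq
  have hqsymm : qᵀ = q := by
    rw [hq, Matrix.transpose_mul, Matrix.transpose_mul, Matrix.transpose_transpose, hsymm,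
      Matrix.mul_assoc]
  have hqC : q * C = gᵀ * N := by rw [hq, Matrix.mul_assoc, Matrix.mul_assoc, hNgC]
  have hCqC : Cᵀ * q * C = N := by
    have h := congrArg Matrix.transpose hNgC
    rw [Matrix.transpose_mul, Matrix.transpose_mul, hsymm] at h
    rw [Matrix.mul_assoc, hqC, ← Matrix.mul_assoc, h]
  have hpp : (0 : ℤ) < (p : ℤ) ^ d := pow_pos (by exact_mod_cast hM.1.pos) _
  have hpos : ∀ z, z ≠ 0 → 0 < z ⬝ᵥ (q *ᵥ z) := fun z hz => by
    refine lt_of_le_of_ne ?_ fun h => hz (hker z h.symm)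
    refine le_of_mul_le_mul_left ?_ hpp
    have e : (p : ℤ) ^ d * (z ⬝ᵥ (q *ᵥ z)) = (N *ᵥ (g *ᵥ z)) ⬝ᵥ (N *ᵥ (g *ᵥ z)) := by
      calc (p : ℤ) ^ d * (z ⬝ᵥ (q *ᵥ z))
          = (g *ᵥ z) ⬝ᵥ ((N * N) *ᵥ (g *ᵥ z)) := by
            rw [hNN, Matrix.smul_mulVec, dotProduct_smul, smul_eq_mul, hq, ← Matrix.mulVec_mulVec,
              ← Matrix.mulVec_mulVec, Matrix.dotProduct_mulVec z gᵀ, Matrix.vecMul_transpose]
        _ = _ := by
            rw [← Matrix.mulVec_mulVec, Matrix.dotProduct_mulVec (g *ᵥ z), ← Matrix.mulVec_transpose,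
              hsymm]
    rw [e, mul_zero]
    exact Finset.sum_nonneg fun i _ => mul_self_nonneg _
  -- the coordinates
  choose A hA hAv using fun (χ : IrrCharacter G) (η : {ξ : IrrCharacter (Subgroup.centralizer ({x} : Set G)) // ξ ∈ b}) =>
    exists_coeff χ η.1
  set X : IrrCharacter G → Fin r → Subgroup.zpowers x → ℂ := fun χ i =>
    ∑ ξ, (C i ξ : ℂ) • A χ ξ with hX
  have hXg : ∀ χ i, IsGeneralizedCharacter (Subgroup.zpowers x) (X χ i) := fun χ i =>
    Char.isGeneralized_sum _ _ fun ξ _ => Char.isGeneralized_intCast_smul (hA χ ξ) _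
  set f : IrrCharacter G → (Subgroup.centralizer ({x} : Set G)) → ℂ := fun χ =>
    blockPart b (fun c : (Subgroup.centralizer ({x} : Set G)) => (χ : G → ℂ) (x * (c : G))) with hf
  set R : Finset (Subgroup.centralizer ({x} : Set G)) := {s | IsPRegular p s} with hR
  set W : IrrCharacter G → {ξ : IrrCharacter (Subgroup.centralizer ({x} : Set G)) // ξ ∈ b} → ℂ := fun χ η =>
    ∑ ξ, (N η ξ : ℂ) * A χ ξ (zpow₀ x) with hW
  have hfs : ∀ χ s, f χ s = ∑ ξ, A χ ξ (zpow₀ x) * ((ξ.1 : IrrCharacter (Subgroup.centralizer ({x} : Set G))) : (Subgroup.centralizer ({x} : Set G)) → ℂ) s := fun χ s => by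
    simp only [hf, blockPart_eq_filter, hsub, hAv]
  have hWv : ∀ χ η, (Nat.card (Subgroup.centralizer ({x} : Set G)) : ℂ) * W χ η =
      (p : ℂ) ^ d * ∑ s ∈ R, f χ s * conj ((η.1 : (Subgroup.centralizer ({x} : Set G)) → ℂ) s) := fun χ η => by
    simp only [hW, Finset.mul_sum, hfs, Finset.sum_mul]
    rw [Finset.sum_comm]
    refine Finset.sum_congr rfl fun ξ _ => ?_
    rw [hsym, hNv]
    have h := sum_regular_eq (p := p) (ξ.1 : (Subgroup.centralizer ({x} : Set G)) → ℂ) (η.1 : (Subgroup.centralizer ({x} : Set G)) → ℂ)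
    calc (Nat.card (Subgroup.centralizer ({x} : Set G)) : ℂ) *
          ((p : ℂ) ^ d * classInner (regPart p (ξ.1 : (Subgroup.centralizer ({x} : Set G)) → ℂ)) (η.1 : (Subgroup.centralizer ({x} : Set G)) → ℂ) * A χ ξ (zpow₀ x))
        = (p : ℂ) ^ d * A χ ξ (zpow₀ x) *
            ∑ s ∈ R, (ξ.1 : (Subgroup.centralizer ({x} : Set G)) → ℂ) s * conj ((η.1 : (Subgroup.centralizer ({x} : Set G)) → ℂ) s) := by
          rw [hR, h]
          ring
      _ = _ := by
          rw [Finset.mul_sum]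
          exact Finset.sum_congr rfl fun s _ => by ring
  have hFu : ∀ χ ψ, F χ ψ (zpow₀ x) = ∑ η, conj (A ψ η (zpow₀ x)) * W χ η := fun χ ψ => by
    refine mul_left_cancel₀ hc ?_
    rw [hF.value, regScalar, Finset.mul_sum Finset.univ]
    simp only [mul_left_comm (Nat.card (Subgroup.centralizer ({x} : Set G)) : ℂ), hWv, Finset.mul_sum]
    rw [Finset.sum_comm]
    refine Finset.sum_congr (by rw [hR]) fun s _ => ?_
    show (p : ℂ) ^ d * (f χ s * conj (f ψ s)) = _
    rw [hfs ψ, map_sum, Finset.mul_sum, Finset.mul_sum]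
    exact Finset.sum_congr rfl fun η _ => by rw [map_mul]; ring
  have hcol : ∀ η η', ∑ χ : IrrCharacter G with χ ∈ B, W χ η * conj (W χ η') =
      ((p : ℂ) ^ d) * (N η η' : ℂ) := fun η η' => by
    refine mul_left_cancel₀ (pow_ne_zero 2 hc) ?_
    have e : ∀ χ, (Nat.card (Subgroup.centralizer ({x} : Set G)) : ℂ) ^ 2 * (W χ η * conj (W χ η')) =
        ((Nat.card (Subgroup.centralizer ({x} : Set G)) : ℂ) * W χ η) * conj ((Nat.card (Subgroup.centralizer ({x} : Set G)) : ℂ) * W χ η') := fun χ => by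
      rw [map_mul, map_natCast]; ring
    rw [Finset.mul_sum]
    simp only [e, hWv, map_mul, map_pow, map_natCast, map_sum, Complex.conj_conj, Finset.mul_sum,
      Finset.sum_mul]
    rw [Finset.sum_comm]
    conv_lhs => arg 2; ext; rw [Finset.sum_comm]
    calc _ = ∑ t ∈ R, ∑ s ∈ R, ((p : ℂ) ^ d) ^ 2 * (conj ((η.1 : (Subgroup.centralizer ({x} : Set G)) → ℂ) s) * (η'.1 : (Subgroup.centralizer ({x} : Set G)) → ℂ) t) *
          ∑ χ : IrrCharacter G with χ ∈ B, f χ s * conj (f χ t) := by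
          refine Finset.sum_congr rfl fun t _ => Finset.sum_congr rfl fun s _ => ?_
          rw [Finset.mul_sum]
          exact Finset.sum_congr rfl fun χ _ => by ring
      _ = ∑ t ∈ R, ∑ s ∈ R, ((p : ℂ) ^ d) ^ 2 * (conj ((η.1 : (Subgroup.centralizer ({x} : Set G)) → ℂ) s) * (η'.1 : (Subgroup.centralizer ({x} : Set G)) → ℂ) t) *
          ∑ ξ : {ξ : IrrCharacter (Subgroup.centralizer ({x} : Set G)) // ξ ∈ b}, (ξ.1 : (Subgroup.centralizer ({x} : Set G)) → ℂ) s * conj ((ξ.1 : (Subgroup.centralizer ({x} : Set G)) → ℂ) t) := by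
          refine Finset.sum_congr rfl fun t ht => Finset.sum_congr rfl fun s hs => ?_
          rw [hf, sum_blockPart_mul_conj_blockPart hM hx hB hb hb.1 (Finset.mem_filter.mp hs).2
            (Finset.mem_filter.mp ht).2]
          simp only [and_self]
          rw [hsub fun ξ => (ξ : (Subgroup.centralizer ({x} : Set G)) → ℂ) s *
            conj ((ξ : (Subgroup.centralizer ({x} : Set G)) → ℂ) t)]
      _ = ∑ ξ : {ξ : IrrCharacter (Subgroup.centralizer ({x} : Set G)) // ξ ∈ b},
          ((p : ℂ) ^ d * ∑ s ∈ R, (ξ.1 : (Subgroup.centralizer ({x} : Set G)) → ℂ) s * conj ((η.1 : (Subgroup.centralizer ({x} : Set G)) → ℂ) s)) *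
            conj ((p : ℂ) ^ d * ∑ t ∈ R, (ξ.1 : (Subgroup.centralizer ({x} : Set G)) → ℂ) t * conj ((η'.1 : (Subgroup.centralizer ({x} : Set G)) → ℂ) t)) := by
          simp only [map_mul, map_pow, map_natCast, map_sum, Complex.conj_conj, Finset.mul_sum,
            Finset.sum_mul]
          rw [Finset.sum_comm (γ := {ξ : IrrCharacter (Subgroup.centralizer ({x} : Set G)) // ξ ∈ b})]
          refine Finset.sum_congr rfl fun t _ => ?_
          rw [Finset.sum_comm]
          exact Finset.sum_congr rfl fun ξ _ => Finset.sum_congr rfl fun s _ => by ring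
      _ = _ := by
          have hs : ∀ (ξ η : {ξ : IrrCharacter (Subgroup.centralizer ({x} : Set G)) // ξ ∈ b}),
              (p : ℂ) ^ d * ∑ s ∈ R, (ξ.1 : (Subgroup.centralizer ({x} : Set G)) → ℂ) s * conj ((η.1 : (Subgroup.centralizer ({x} : Set G)) → ℂ) s) =
                (Nat.card (Subgroup.centralizer ({x} : Set G)) : ℂ) * (N ξ η : ℂ) := fun ξ η => by
            rw [hR, sum_regular_eq, hNv]; ring
          simp only [hs, map_mul, map_natCast, map_intCast]
          have h2 := congrArg (Int.cast : ℤ → ℂ) (congrFun (congrFun hNN η) η')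
          rw [Matrix.mul_apply, Matrix.smul_apply, smul_eq_mul] at h2
          push_cast at h2
          rw [← h2, Finset.mul_sum]
          exact Finset.sum_congr rfl fun ξ _ => by rw [hsym η ξ]; ring
  -- the form at the generators
  have hXv : ∀ χ i v, X χ i v = ∑ ξ, (C i ξ : ℂ) * A χ ξ v := fun χ i v => by
    simp [hX, Finset.sum_apply]
  have hquad : ∀ χ ψ v, Subgroup.zpowers v = Subgroup.zpowers (zpow₀ x) →
      F χ ψ v = ∑ i, ∑ j, (q i j : ℂ) * (X χ i v * conj (X ψ j v)) := by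
    intro χ ψ v hv
    have hgen : IsGeneralizedCharacter (Subgroup.zpowers x)
        (fun v => ∑ i, ∑ j, (q i j : ℂ) * (X χ i v * conj (X ψ j v))) := by
      have e : (fun v => ∑ i, ∑ j, (q i j : ℂ) * (X χ i v * conj (X ψ j v))) =
          ∑ i, ∑ j, (q i j : ℂ) • (X χ i * fun w => conj (X ψ j w)) := by
        funext v; simp [Finset.sum_apply]
      rw [e]
      exact Char.isGeneralized_sum _ _ fun i _ => Char.isGeneralized_sum _ _ fun j _ =>
        Char.isGeneralized_intCast_smul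
          (Char.isGeneralized_mul (hXg χ i) (Char.isGeneralized_conj (hXg ψ j))) _
    refine CyclicValue.eq_on_gens (hF.gen χ ψ) hgen ?_ hv
    rw [hFu]
    simp only [hW, hXv, map_sum, map_mul, map_intCast, Finset.mul_sum, Finset.sum_mul]
    calc ∑ η, ∑ ξ, conj (A ψ η (zpow₀ x)) * ((N η ξ : ℂ) * A χ ξ (zpow₀ x))
        = ∑ η, ∑ ξ, ∑ i, ∑ j, (q i j : ℂ) * ((C i ξ : ℂ) * A χ ξ (zpow₀ x) *
            ((C j η : ℂ) * conj (A ψ η (zpow₀ x)))) := by
          refine Finset.sum_congr rfl fun η _ => Finset.sum_congr rfl fun ξ _ => ?_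
          have h := congrArg (Int.cast : ℤ → ℂ) (congrFun (congrFun hCqC ξ) η)
          simp only [Matrix.mul_apply, Matrix.transpose_apply] at h
          push_cast at h
          rw [hsym η ξ, ← h]
          simp only [Finset.sum_mul, Finset.mul_sum]
          rw [Finset.sum_comm]
          exact Finset.sum_congr rfl fun i _ => Finset.sum_congr rfl fun j _ => by ring
      _ = _ := by
          rw [Finset.sum_comm]
          conv_lhs => arg 2; ext; rw [Finset.sum_comm]; arg 2; ext; rw [Finset.sum_comm]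
          rw [Finset.sum_comm]
          refine Finset.sum_congr rfl fun i _ => ?_
          conv_rhs => arg 2; ext; rw [Finset.sum_comm]
          rw [Finset.sum_comm]
  -- the columns
  have hlin : ∀ χ i, ∑ j, (q i j : ℂ) * X χ j (zpow₀ x) = ∑ η, (g η i : ℂ) * W χ η := fun χ i => by
    simp only [hXv, hW, Finset.mul_sum]
    rw [Finset.sum_comm]
    conv_rhs => rw [Finset.sum_comm]
    refine Finset.sum_congr rfl fun ξ _ => ?_
    have h := congrArg (Int.cast : ℤ → ℂ) (congrFun (congrFun hqC i) ξ)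
    simp only [Matrix.mul_apply, Matrix.transpose_apply] at h
    push_cast at h
    calc ∑ j, (q i j : ℂ) * ((C j ξ : ℂ) * A χ ξ (zpow₀ x))
        = (∑ j, (q i j : ℂ) * (C j ξ : ℂ)) * A χ ξ (zpow₀ x) := by
          rw [Finset.sum_mul]; exact Finset.sum_congr rfl fun j _ => by ring
      _ = _ := by rw [h, Finset.sum_mul]; exact Finset.sum_congr rfl fun η _ => by ring
  have hcolq : ∀ i i', ∑ χ : IrrCharacter G with χ ∈ B,
      (∑ j, (q i j : ℂ) * X χ j (zpow₀ x)) * conj (∑ j, (q i' j : ℂ) * X χ j (zpow₀ x)) =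
        (p : ℂ) ^ d * (q i i' : ℂ) := fun i i' => by
    simp only [hlin, map_sum, map_mul, map_intCast, Finset.sum_mul_sum]
    rw [Finset.sum_comm]
    simp only [Finset.sum_comm (s := Finset.univ.filter (· ∈ B))]
    have e : ∀ η η', ∑ χ : IrrCharacter G with χ ∈ B,
        (g η i : ℂ) * W χ η * ((g η' i' : ℂ) * conj (W χ η')) =
          (g η i : ℂ) * (g η' i' : ℂ) * ((p : ℂ) ^ d * (N η η' : ℂ)) := fun η η' => by
      rw [← hcol, Finset.mul_sum]
      exact Finset.sum_congr rfl fun χ _ => by ring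
    simp only [e]
    rw [hq]
    simp only [Matrix.mul_apply, Matrix.transpose_apply]
    push_cast
    simp only [Finset.mul_sum, Finset.sum_mul]
    rw [Finset.sum_comm]
    exact Finset.sum_congr rfl fun _ _ => Finset.sum_congr rfl fun _ _ => by ring
  -- the rank
  have hdet : q.det ≠ 0 := fun h => by
    obtain ⟨z, hz, hz0⟩ := Matrix.exists_mulVec_eq_zero_iff.mpr h
    exact (hpos z hz).ne' (by rw [hz0, dotProduct_zero])
  have hr : r = blockRank p b := by
    set qc : Matrix (Fin r) (Fin r) ℂ := q.map (Int.castRingHom ℂ) with hqc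
    set Q : Matrix (Fin r) (Fin r) ℂ := Matrix.of fun i j =>
      ∑ χ : IrrCharacter G with χ ∈ B, X χ i (zpow₀ x) * conj (X χ j (zpow₀ x)) with hQ
    have hu : IsUnit qc.det := by
      rw [hqc, ← RingHom.mapMatrix_apply, ← RingHom.map_det]
      exact isUnit_iff_ne_zero.mpr (by simpa using hdet)
    have hqQq : qc * Q * qc = ((p : ℂ) ^ d) • qc := by
      ext i i'
      have h := hcolq i i'
      simp only [map_sum, map_mul, map_intCast, Finset.sum_mul_sum] at h
      rw [Finset.sum_comm] at h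
      simp only [Finset.sum_comm (s := Finset.univ.filter (· ∈ B))] at h
      simp only [Matrix.mul_apply, Matrix.smul_apply, smul_eq_mul, hqc, Matrix.map_apply,
        eq_intCast, hQ, Matrix.of_apply, Finset.sum_mul, Finset.mul_sum]
      rw [← h, Finset.sum_comm]
      refine Finset.sum_congr rfl fun j _ => Finset.sum_congr rfl fun k _ =>
        Finset.sum_congr rfl fun χ _ => ?_
      rw [show q k i' = q i' k from congrFun (congrFun hqsymm i') k]
      ring
    have hqQ : qc * Q = ((p : ℂ) ^ d) • (1 : Matrix (Fin r) (Fin r) ℂ) := by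
      have h := congrArg (· * qc⁻¹) hqQq
      simpa [Matrix.mul_assoc, Matrix.mul_nonsing_inv qc hu] using h
    have htr : ∑ χ : IrrCharacter G with χ ∈ B, F χ χ (zpow₀ x) = (p : ℂ) ^ d * r := by
      have h := congrArg Matrix.trace hqQ
      rw [Matrix.trace_smul, Matrix.trace_one, Fintype.card_fin, smul_eq_mul] at h
      rw [← h, Finset.sum_congr rfl fun χ _ => hquad χ χ _ rfl]
      simp only [Matrix.trace, Matrix.diag_apply, Matrix.mul_apply, hqc, Matrix.map_apply,
        eq_intCast, hQ, Matrix.of_apply, Finset.mul_sum]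
      rw [Finset.sum_comm]
      conv_lhs => arg 2; ext; rw [Finset.sum_comm]
      rw [Finset.sum_comm]
      refine Finset.sum_congr rfl fun j _ => Finset.sum_congr rfl fun i _ =>
        Finset.sum_congr rfl fun χ _ => ?_
      rw [show q j i = q i j from congrFun (congrFun hqsymm i) j]
    have h1 := congrArg Complex.re htr
    rw [Complex.re_sum, hF.trace _ rfl] at h1
    have h2 : (p : ℝ) ^ d * blockRank p b = (p : ℝ) ^ d * r := by
      rw [h1, ← Complex.ofReal_natCast, ← Complex.ofReal_pow, ← Complex.ofReal_natCast r,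
        ← Complex.ofReal_mul, Complex.ofReal_re]
    exact_mod_cast (mul_left_cancel₀ (pow_ne_zero _ (Nat.cast_ne_zero.mpr hM.1.ne_zero)) h2).symm
  subst hr
  refine ⟨q, X, hqsymm, hpos, hXg, hquad, fun e v hv => ?_⟩
  have hgen : IsGeneralizedCharacter (Subgroup.zpowers x) (fun v => ∑ χ : IrrCharacter G with χ ∈ B,
      (∑ i, ((q *ᵥ e) i : ℂ) * X χ i v) * conj (∑ i, ((q *ᵥ e) i : ℂ) * X χ i v)) := by
    have h1 : ∀ χ, IsGeneralizedCharacter (Subgroup.zpowers x)
        (fun v => ∑ i, ((q *ᵥ e) i : ℂ) * X χ i v) := fun χ => by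
      have e' : (fun v => ∑ i, ((q *ᵥ e) i : ℂ) * X χ i v) = ∑ i, ((q *ᵥ e) i : ℂ) • X χ i := by
        funext v; simp [Finset.sum_apply]
      rw [e']
      exact Char.isGeneralized_sum _ _ fun i _ => Char.isGeneralized_intCast_smul (hXg χ i) _
    have e' : (fun v => ∑ χ : IrrCharacter G with χ ∈ B,
        (∑ i, ((q *ᵥ e) i : ℂ) * X χ i v) * conj (∑ i, ((q *ᵥ e) i : ℂ) * X χ i v)) =
        ∑ χ : IrrCharacter G with χ ∈ B, (fun v => ∑ i, ((q *ᵥ e) i : ℂ) * X χ i v) *
          fun w => conj (∑ i, ((q *ᵥ e) i : ℂ) * X χ i w) := by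
      funext v; simp [Finset.sum_apply]
    rw [e']
    exact Char.isGeneralized_sum _ _ fun χ _ =>
      Char.isGeneralized_mul (h1 χ) (Char.isGeneralized_conj (h1 χ))
  have hu : ∑ χ : IrrCharacter G with χ ∈ B, (∑ i, ((q *ᵥ e) i : ℂ) * X χ i (zpow₀ x)) *
      conj (∑ i, ((q *ᵥ e) i : ℂ) * X χ i (zpow₀ x)) =
      ((((p : ℤ) ^ d * (e ⬝ᵥ (q *ᵥ e)) : ℤ) : ℚ) : ℂ) := by
    have h1 : ∀ χ, ∑ i, ((q *ᵥ e) i : ℂ) * X χ i (zpow₀ x) =
        ∑ i, (e i : ℂ) * ∑ j, (q i j : ℂ) * X χ j (zpow₀ x) := fun χ => by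
      simp only [Matrix.mulVec, dotProduct, Int.cast_sum, Int.cast_mul, Finset.sum_mul,
        Finset.mul_sum]
      rw [Finset.sum_comm]
      refine Finset.sum_congr rfl fun i _ => Finset.sum_congr rfl fun j _ => ?_
      rw [show q j i = q i j from congrFun (congrFun hqsymm i) j]
      ring
    simp only [h1, map_sum, map_mul (starRingEnd ℂ) ((e _ : ℂ)), map_intCast, Finset.sum_mul_sum]
    rw [Finset.sum_comm]
    simp only [Finset.sum_comm (s := Finset.univ.filter (· ∈ B))]
    simp only [Matrix.mulVec, dotProduct, Finset.mul_sum]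
    push_cast
    refine Finset.sum_congr rfl fun i _ => Finset.sum_congr rfl fun i' _ => ?_
    rw [show (p : ℂ) ^ d * ((e i : ℂ) * ((q i i' : ℂ) * (e i' : ℂ))) =
      (e i : ℂ) * (e i' : ℂ) * ((p : ℂ) ^ d * (q i i' : ℂ)) by ring, ← hcolq, Finset.mul_sum]
    refine Finset.sum_congr rfl fun χ _ => ?_
    simp only [map_sum, map_mul, map_intCast, Finset.mul_sum, Finset.sum_mul]
    exact Finset.sum_congr rfl fun _ _ => Finset.sum_congr rfl fun _ _ => by ring
  have h := Char.eq_of_zpowers_eq_of_rat hgen hv.symm hu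
  simp only [Complex.mul_conj, ← Complex.ofReal_sum] at h
  have h' := congrArg Complex.re h
  rw [Complex.ofReal_re, Rat.cast_intCast, Complex.intCast_re] at h'
  rw [h']
  push_cast
  rfl

end CfsgLib.Blocks
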