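import Cfsg.Agent.Lib.Blocks.MajorContribution

/-!
# Major subsections of two-blocks with three-dimensional contributions
-/

set_option autoImplicit false
set_option linter.unusedSectionVars false

namespace CfsgLib.Blocks

open Cfsg
open scoped ComplexConjugate CfsgLib.Char

/-- The numerical step: odd diagonal averages at height zero with bounded sum. -/
theorem three_mul_bound {ι : Type*} (s : Finset ι) (h : ι → ℕ) (d : ℕ) (a : ι → ℝ) (B : ι → ι → ℝ)
    (hsum : ∑ i ∈ s, a i ≤ 3 * (2 : ℝ) ^ d)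
    (h0 : ∀ i ∈ s, h i = 0 → ∃ z : ℤ, Odd z ∧ 1 ≤ a i ∧ a i = z)
    (hpos : ∀ i ∈ s, 0 < h i → 2 * (2 : ℝ) ^ h i ≤ a i)
    (hrow : ∀ j ∈ s, h j = 0 → a j = 1 → ∑ i ∈ s, B i j ≤ (2 : ℝ) ^ d)
    (hB : ∀ i ∈ s, ∀ j ∈ s, h j = 0 → a j = 1 → ((2 : ℝ) ^ h i) ^ 2 ≤ B i j) :
    3 * (s.filter fun i => h i = 0).card + 2 * ∑ i ∈ s.filter (fun i => ¬ h i = 0), 2 ^ h i ≤
      3 * 2 ^ d := by
  have hgoal : (3 : ℝ) * (s.filter fun i => h i = 0).card +
      2 * ∑ i ∈ s.filter (fun i => ¬ h i = 0), (2 : ℝ) ^ h i ≤ 3 * (2 : ℝ) ^ d := by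
    by_cases hone : ∃ j ∈ s, h j = 0 ∧ a j = 1
    · obtain ⟨j, hj, hj0, hj1⟩ := hone
      have h1 : ∑ i ∈ s, ((2 : ℝ) ^ h i) ^ 2 ≤ (2 : ℝ) ^ d :=
        (Finset.sum_le_sum fun i hi => hB i hi j hj hj0 hj1).trans (hrow j hj hj0 hj1)
      rw [← Finset.sum_filter_add_sum_filter_not s (fun i => h i = 0)] at h1
      have e1 : ∑ i ∈ s.filter (fun i => h i = 0), ((2 : ℝ) ^ h i) ^ 2 =
          ((s.filter fun i => h i = 0).card : ℝ) := by
        rw [Finset.sum_congr rfl fun i hi => by rw [(Finset.mem_filter.mp hi).2, pow_zero, one_pow],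
          Finset.sum_const, nsmul_one]
      have e2 : ∑ i ∈ s.filter (fun i => ¬ h i = 0), (2 : ℝ) ^ h i ≤
          ∑ i ∈ s.filter (fun i => ¬ h i = 0), ((2 : ℝ) ^ h i) ^ 2 :=
        Finset.sum_le_sum fun i _ => le_self_pow₀ (one_le_pow₀ one_le_two) two_ne_zero
      rw [e1] at h1
      have e3 : (0 : ℝ) ≤ ∑ i ∈ s.filter (fun i => ¬ h i = 0), (2 : ℝ) ^ h i :=
        Finset.sum_nonneg fun i _ => by positivity
      linarith
    · push Not at hone
      have e1 : ∀ i ∈ s.filter (fun i => h i = 0), (3 : ℝ) ≤ a i := fun i hi => by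
        obtain ⟨his, hi0⟩ := Finset.mem_filter.mp hi
        obtain ⟨z, hz, hz1, he⟩ := h0 i his hi0
        have hne : z ≠ 1 := fun h1 => hone i his hi0 (by rw [he, h1, Int.cast_one])
        have hz1' : (1 : ℤ) ≤ z := by exact_mod_cast he ▸ hz1
        obtain ⟨k, rfl⟩ := hz
        rw [he]
        exact_mod_cast (show (3 : ℤ) ≤ 2 * k + 1 by omega)
      have e2 : ∀ i ∈ s.filter (fun i => ¬ h i = 0), 2 * (2 : ℝ) ^ h i ≤ a i := fun i hi => by
        obtain ⟨his, hi0⟩ := Finset.mem_filter.mp hi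
        exact hpos i his (Nat.pos_of_ne_zero hi0)
      have h1 := add_le_add (Finset.card_nsmul_le_sum _ _ _ e1) (Finset.sum_le_sum e2)
      rw [Finset.sum_filter_add_sum_filter_not, ← Finset.mul_sum, nsmul_eq_mul, mul_comm] at h1
      exact h1.trans hsum
  exact_mod_cast hgoal

variable {M : Ideal AlgInt} {G : Type*} [Group G] [Fintype G] {x : G}
  [Fintype (Subgroup.centralizer ({x} : Set G))] [Fintype (Subgroup.zpowers x)]
  {B : Set (IrrCharacter G)} {b : Set (IrrCharacter (Subgroup.centralizer ({x} : Set G)))}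
  {F : IrrCharacter G → IrrCharacter G → Subgroup.zpowers x → ℂ}
  (hF : Contribution 2 x B b M F) (hM : IsPModular 2 M) (hx : ∃ k : ℕ, orderOf x = 2 ^ k)
  (hB : IsPBlock M B) (hb : IsInducedBlock M (Subgroup.centralizer ({x} : Set G)) b B)
  (hd : blockDefect 2 b = blockDefect 2 B)
  (S : Finset (Subgroup.zpowers x))
  (hS : ∀ v, v ∈ S ↔ Subgroup.zpowers v = Subgroup.zpowers (zpow₀ x))
include hF hM hx hB hb hd hS

namespace Contribution

/-- The diagonal average of a height zero character is an odd integer. -/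
theorem exists_odd_diag {χ : IrrCharacter G} (hχ : χ ∈ B)
    (h0 : blockHeight 2 B (χ : G → ℂ) = 0) :
    ∃ z : ℤ, Odd z ∧ ∑ v ∈ S, (F χ χ v).re = (S.card : ℝ) * z := by
  have := isPrime_of_isPModular hM
  obtain ⟨f, g, hf, hg, e⟩ := hF.gen χ χ
  obtain ⟨a, ha⟩ := Char.exists_nat_degree hf
  obtain ⟨c, hc⟩ := Char.exists_nat_degree hg
  have hn : F χ χ 1 = (((a : ℤ) - c : ℤ) : ℂ) := by rw [e, Pi.sub_apply, ha, hc]; push_cast; ring
  have hodd : Odd ((a : ℤ) - c) := by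
    rw [← Int.not_even_iff_odd, even_iff_two_dvd]
    intro h
    have h' := hF.isUnit χ χ hχ hχ h0 h0 1
    rw [hn, memLocalIdeal_intCast_iff hM] at h'
    exact h' h
  obtain ⟨m, hm⟩ := hx
  obtain ⟨z, hz, he⟩ := Char.exists_odd_average (x := zpow₀ x) (m := m) zpow₀_gen
    (by rw [← hm, ← Subgroup.orderOf_coe]; rfl) (hF.gen χ χ) (hF.real χ) hn hodd S hS
  refine ⟨z, hz, ?_⟩
  have h := congrArg Complex.re he
  rw [Complex.re_sum] at h
  rw [h, Complex.mul_re]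
  simp

/-- A diagonal contribution of positive height, divided by the height, lies in the prime. -/
theorem exists_mem_diag {χ : IrrCharacter G} (hχ : χ ∈ B)
    (h0 : 0 < blockHeight 2 B (χ : G → ℂ)) :
    ∃ g : Subgroup.zpowers x → ℂ, IsGeneralizedCharacter (Subgroup.zpowers x) g ∧
      conj (g (zpow₀ x)) = g (zpow₀ x) ∧ MemLocalIdeal M (g (zpow₀ x)) ∧
      ∀ v ∈ S, (F χ χ v).re = (2 : ℝ) ^ blockHeight 2 B (χ : G → ℂ) * (g v).re := by
  set h := blockHeight 2 B (χ : G → ℂ)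
  obtain ⟨g, hg, he⟩ := CyclicValue.exists_generalized_eq_mul zpow₀_gen (hF.gen χ χ)
    (N := 2 ^ h) (pow_ne_zero _ two_ne_zero)
    (by rw [Nat.cast_pow]; exact hF.isIntegral_div hM hx hB hb hd hχ χ)
  have hne : ((2 ^ h : ℕ) : ℂ) ≠ 0 := Nat.cast_ne_zero.mpr (pow_ne_zero _ two_ne_zero)
  have hg0 : g (zpow₀ x) = F χ χ (zpow₀ x) / (2 : ℂ) ^ h := by
    rw [he _ rfl, Nat.cast_pow, Nat.cast_ofNat, mul_div_cancel_left₀ _ (pow_ne_zero _ two_ne_zero)]
  refine ⟨g, hg, ?_, ?_, fun v hv => ?_⟩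
  · rw [hg0, map_div₀, map_pow, map_ofNat, hF.real]
  · rw [hg0]
    exact_mod_cast (hF.memLocalIdeal_div_iff hM hx hB hb hd hχ hχ).mpr h0
  · rw [he v ((hS v).mp hv), show ((2 ^ h : ℕ) : ℂ) = (((2 : ℝ) ^ h : ℝ) : ℂ) by push_cast; rfl,
      Complex.re_ofReal_mul]

end Contribution

end CfsgLib.Blocks
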