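import Cfsg.Agent.Lib.Blocks.PairConj
import Cfsg.Agent.Lib.Blocks.MainFirst

/-!
# Maximal Brauer pairs
-/

set_option autoImplicit false
set_option linter.unusedSectionVars false

namespace CfsgLib.Blocks

open Cfsg
open scoped ComplexConjugate CfsgLib.Char

variable {p : ℕ} {M : Ideal AlgInt} {G : Type*} [Group G] [Fintype G]

variable (M) in
/-- The blocks of `C_G(P)` conjugate to `e` under `N_G(P)`. -/
noncomputable def pairOrbit (P : Subgroup G)
    (e : Set (IrrCharacter (Subgroup.centralizer (P : Set G)))) :
    Finset (Set (IrrCharacter (Subgroup.centralizer (P : Set G)))) :=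
  open Classical in
  (blocks M (Subgroup.centralizer (P : Set G))).filter fun f =>
    ∃ n ∈ Subgroup.normalizer (P : Set G),
      conjSet n (Subgroup.centralizer (P : Set G)) (Subgroup.centralizer (P : Set G)) e = f

variable (M) in
/-- The sum of the idempotents of the blocks conjugate to `e` under `N_G(P)`. -/
noncomputable def orbitFun (P : Subgroup G)
    (e : Set (IrrCharacter (Subgroup.centralizer (P : Set G)))) : G → ℂ :=
  fun g => ∑ f ∈ pairOrbit M P e, subgroupBlockCoeff (Subgroup.centralizer (P : Set G)) f g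

variable [M.IsPrime] {P : Subgroup G}
  {e : Set (IrrCharacter (Subgroup.centralizer (P : Set G)))}

theorem mem_pairOrbit (he : IsPBlock M e)
    {f : Set (IrrCharacter (Subgroup.centralizer (P : Set G)))} :
    f ∈ pairOrbit M P e ↔ ∃ n ∈ Subgroup.normalizer (P : Set G),
      conjSet n (Subgroup.centralizer (P : Set G)) (Subgroup.centralizer (P : Set G)) e = f := by
  classical
  rw [pairOrbit, Finset.mem_filter, mem_blocks]
  exact ⟨fun h => h.2, fun ⟨n, hn, h⟩ => ⟨h ▸ isPBlock_conjSet
    (conj_mem_iff_of_mem_normalizer (mem_normalizer_centralizer hn)) he, n, hn, h⟩⟩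

theorem isPBlock_of_mem_pairOrbit {f : Set (IrrCharacter (Subgroup.centralizer (P : Set G)))}
    (hf : f ∈ pairOrbit M P e) : IsPBlock M f := by
  classical
  exact mem_blocks.mp (Finset.mem_filter.mp hf).1

theorem self_mem_pairOrbit (he : IsPBlock M e) : e ∈ pairOrbit M P e :=
  (mem_pairOrbit he).mpr ⟨1, one_mem _, conjSet_of_mem (one_mem _) e⟩

theorem conjSet_mem_pairOrbit (he : IsPBlock M e) {n : G}
    (hn : n ∈ Subgroup.normalizer (P : Set G))
    {f : Set (IrrCharacter (Subgroup.centralizer (P : Set G)))} (hf : f ∈ pairOrbit M P e) :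
    conjSet n (Subgroup.centralizer (P : Set G)) (Subgroup.centralizer (P : Set G)) f ∈
      pairOrbit M P e := by
  obtain ⟨m, hm, rfl⟩ := (mem_pairOrbit he).mp hf
  exact (mem_pairOrbit he).mpr ⟨n * m, mul_mem hn hm, (conjSet_conjSet
    (conj_mem_iff_of_mem_normalizer (mem_normalizer_centralizer hm))
    (conj_mem_iff_of_mem_normalizer (mem_normalizer_centralizer hn)) e).symm⟩

theorem orbitFun_conj (he : IsPBlock M e) {n : G} (hn : n ∈ Subgroup.normalizer (P : Set G))
    (g : G) : orbitFun M P e (n * g * n⁻¹) = orbitFun M P e g := by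
  have hN := fun {m : G} (hm : m ∈ Subgroup.normalizer (P : Set G)) =>
    conj_mem_iff_of_mem_normalizer (mem_normalizer_centralizer hm)
  refine (Finset.sum_bij' (fun f _ => conjSet n (Subgroup.centralizer (P : Set G))
      (Subgroup.centralizer (P : Set G)) f)
    (fun f _ => conjSet n⁻¹ (Subgroup.centralizer (P : Set G))
      (Subgroup.centralizer (P : Set G)) f)
    (fun f hf => conjSet_mem_pairOrbit he hn hf)
    (fun f hf => conjSet_mem_pairOrbit he (inv_mem hn) hf) (fun f _ => ?_) (fun f _ => ?_)
    fun f _ => (subgroupBlockCoeff_conjSet (hN hn) f g).symm).symm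
  · rw [conjSet_conjSet (hN hn) (hN (inv_mem hn)), inv_mul_cancel,
      conjSet_of_mem (one_mem _)]
  · rw [conjSet_conjSet (hN (inv_mem hn)) (hN hn), mul_inv_cancel,
      conjSet_of_mem (one_mem _)]

theorem orbitFun_eq_zero {g : G} (hg : g ∉ Subgroup.centralizer (P : Set G)) :
    orbitFun M P e g = 0 :=
  Finset.sum_eq_zero fun f _ => by rw [subgroupBlockCoeff_eq, extendByZero_eq_zero _ _ hg]

theorem memLocalRing_orbitFun (g : G) : MemLocalRing M (orbitFun M P e g) := by
  classical
  refine memLocalRing_sum _ _ fun f hf => ?_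
  rw [subgroupBlockCoeff_eq]
  by_cases hg : g ∈ Subgroup.centralizer (P : Set G)
  · exact (extendByZero_apply _ (blockCoeff f) ⟨g, hg⟩).symm ▸
      IsPBlock.memLocalRing_blockCoeff (isPBlock_of_mem_pairOrbit hf) _
  · exact (extendByZero_eq_zero _ (blockCoeff f) hg).symm ▸ memLocalRing_zero

theorem conv_orbitFun_right (β : G → ℂ) :
    conv β (orbitFun M P e) = fun g => ∑ f ∈ pairOrbit M P e,
      conv β (subgroupBlockCoeff (Subgroup.centralizer (P : Set G)) f) g := by
  funext g
  simp only [conv, orbitFun, Finset.mul_sum]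
  exact Finset.sum_comm

theorem conv_orbitFun_left (β : G → ℂ) :
    conv (orbitFun M P e) β = fun g => ∑ f ∈ pairOrbit M P e,
      conv (subgroupBlockCoeff (Subgroup.centralizer (P : Set G)) f) β g := by
  funext g
  simp only [conv, orbitFun, Finset.sum_mul]
  exact Finset.sum_comm

theorem conv_orbitFun_member {f : Set (IrrCharacter (Subgroup.centralizer (P : Set G)))}
    (hf : f ∈ pairOrbit M P e) :
    conv (orbitFun M P e) (subgroupBlockCoeff (Subgroup.centralizer (P : Set G)) f) =
      subgroupBlockCoeff (Subgroup.centralizer (P : Set G)) f := by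
  rw [conv_orbitFun_left]
  funext g
  rw [Finset.sum_eq_single f (fun f' hf' hne => by
    rw [conv_subgroupBlockCoeff_ne (isPBlock_of_mem_pairOrbit hf') (isPBlock_of_mem_pairOrbit hf)
      hne]) (fun h => absurd hf h), conv_subgroupBlockCoeff_self]

theorem conv_orbitFun_self : conv (orbitFun M P e) (orbitFun M P e) = orbitFun M P e := by
  rw [conv_orbitFun_right]
  funext g
  exact Finset.sum_congr rfl fun f hf => by rw [conv_orbitFun_member hf]

theorem exists_ne_zero_orbitFun (hP : IsBrauerPair p M P e) : ∃ g, orbitFun M P e g ≠ 0 := by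
  by_contra hcon
  push Not at hcon
  obtain ⟨ξ, hξ⟩ := IsPBlock.nonempty hP.2
  have h0 : subgroupBlockCoeff (Subgroup.centralizer (P : Set G)) e = fun _ => (0 : ℂ) := by
    rw [← conv_orbitFun_member (self_mem_pairOrbit hP.2)]
    funext g
    simp [conv, hcon]
  have h1 := IsNormalSubpair.res_eq_one (isNormalSubpair_refl hP) hξ
  rw [h0, res_brauerOmega_zero] at h1
  exact zero_ne_one h1

/-- A stable idempotent with all central characters at `S` zero vanishes on `C_G(S)` modulo the
ideal. -/
theorem memLocalIdeal_of_res_eq_zero (hM : IsPModular p M) {S : Subgroup G} (hS : IsPGroup p S)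
    {β : G → ℂ} (hst : IsStableFun M S β) (hid : conv β β = β)
    (h0 : ∀ ξ : IrrCharacter (Subgroup.centralizer (S : Set G)),
      res M (brauerOmega S β (ξ : Subgroup.centralizer (S : Set G) → ℂ)) = 0)
    {c : G} (hc : c ∈ Subgroup.centralizer (S : Set G)) : MemLocalIdeal M (β c) := by
  classical
  have hb : IsIdempotentElem (Ideal.Quotient.mk (nullIdeal M (Subgroup.centralizer (S : Set G)))
      (toZO (fun y : Subgroup.centralizer (S : Set G) => β (y : G)) hst.classFun
        fun y => hst.loc _)) := by
    rw [IsIdempotentElem, ← map_mul, mk_eq_mk_iff]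
    intro y
    rw [MulMemClass.coe_mul, ofOmega_mul, ofOmega_toZO hst.classFun fun y => hst.loc _]
    have := restrict_conv_congr hM hS hst.loc hst.loc hst.conjP hst.conjP y
    rw [hid] at this
    exact memLocalIdeal_sub_comm this
  have hz := eq_zero_of_idempotent hb fun η => by
    rw [resQuot_mk, ← h0 η, brauerOmega_eq]
    rfl
  rw [Ideal.Quotient.eq_zero_iff_mem, mem_nullIdeal,
    ofOmega_toZO hst.classFun fun y => hst.loc _] at hz
  exact hz ⟨c, hc⟩

/-- Above a maximal pair the orbit sum vanishes modulo the ideal. -/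
theorem memLocalIdeal_orbitFun (hM : IsPModular p M) {B : Set (IrrCharacter G)}
    (hmax : IsMaximalBrauerPair p M B P e) {S : Subgroup G} (hS : IsPGroup p S) (hPS : P < S)
    (hSN : S ≤ Subgroup.normalizer (P : Set G)) {c : G}
    (hc : c ∈ Subgroup.centralizer (S : Set G)) : MemLocalIdeal M (orbitFun M P e c) := by
  classical
  have he := hmax.1.1.2
  have hN : ∀ (q : S) (g : G), (q : G) * g * (q : G)⁻¹ ∈ Subgroup.centralizer (P : Set G) ↔
      g ∈ Subgroup.centralizer (P : Set G) := fun q =>
    conj_mem_iff_of_mem_normalizer (mem_normalizer_centralizer (hSN q.2))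
  let act : MulAction S
      {f : Set (IrrCharacter (Subgroup.centralizer (P : Set G))) // f ∈ pairOrbit M P e} :=
    { smul := fun q f => ⟨_, conjSet_mem_pairOrbit he (hSN q.2) f.2⟩
      one_smul := fun f => Subtype.ext (conjSet_of_mem (by exact one_mem _) f.1)
      mul_smul := fun a b f => Subtype.ext (conjSet_conjSet (hN b) (hN a) f.1).symm }
  have hsmul : ∀ (q : S)
      (f : {f : Set (IrrCharacter (Subgroup.centralizer (P : Set G))) // f ∈ pairOrbit M P e}),
      (q • f).1 = conjSet (q : G) (Subgroup.centralizer (P : Set G))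
        (Subgroup.centralizer (P : Set G)) f.1 := fun q f => rfl
  have hcC : c ∈ Subgroup.centralizer (P : Set G) :=
    Subgroup.centralizer_le (SetLike.coe_subset_coe.mpr hPS.le) hc
  have hloc : ∀ f : {f : Set (IrrCharacter (Subgroup.centralizer (P : Set G))) //
      f ∈ pairOrbit M P e},
      MemLocalRing M (subgroupBlockCoeff (Subgroup.centralizer (P : Set G)) f.1 c) := fun f => by
    rw [subgroupBlockCoeff_eq]
    exact (extendByZero_apply _ (blockCoeff f.1) ⟨c, hcC⟩).symm ▸
      IsPBlock.memLocalRing_blockCoeff (isPBlock_of_mem_pairOrbit f.2) _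
  have hinv : ∀ (q : S)
      (f : {f : Set (IrrCharacter (Subgroup.centralizer (P : Set G))) // f ∈ pairOrbit M P e}),
      subgroupBlockCoeff (Subgroup.centralizer (P : Set G)) (q • f).1 c =
        subgroupBlockCoeff (Subgroup.centralizer (P : Set G)) f.1 c := fun q f => by
    rw [hsmul]
    have e' : (q : G) * c * (q : G)⁻¹ = c := by
      rw [show (q : G) * c = c * q from Subgroup.mem_centralizer_iff.mp hc q q.2,
        mul_inv_cancel_right]
    conv_lhs => rw [← e']
    exact subgroupBlockCoeff_conjSet (hN q) f.1 c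
  have hkey := memLocalIdeal_sum_sub_fixed hM hS hloc hinv
  rw [Finset.sum_coe_sort (pairOrbit M P e)
    (fun f => subgroupBlockCoeff (Subgroup.centralizer (P : Set G)) f c)] at hkey
  refine (memLocalIdeal_iff_of_sub hkey).mpr (memLocalIdeal_sum _ _ fun f hf => ?_)
  have hst : ∀ x ∈ S, StabilizesBlock (Subgroup.centralizer (P : Set G)) f.1 x := fun x hx =>
    stabilizesBlock_iff.mpr ⟨mem_normalizer_centralizer (hSN hx),
      congrArg Subtype.val ((Finset.mem_filter.mp hf).2 ⟨x, hx⟩)⟩
  have hfb := isPBlock_of_mem_pairOrbit f.2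
  obtain ⟨n, hn, hne⟩ := (mem_pairOrbit he).mp f.2
  have hfmax : IsMaximalBrauerPair p M B P f.1 := by
    have h2 := isMaximalBrauerPair_conjPair n (a := ⟨P, e⟩) hmax
    rwa [conjPair_of_mem_normalizer hn, hne] at h2
  have hs := isStableFun_subgroupBlockCoeff hPS.le hfb hst
  refine memLocalIdeal_of_res_eq_zero hM hS hs (conv_subgroupBlockCoeff_self _ _) (fun ξ => ?_) hc
  by_contra hne0
  have h1 : res M (brauerOmega S (subgroupBlockCoeff (Subgroup.centralizer (P : Set G)) f.1)
      (ξ : Subgroup.centralizer (S : Set G) → ℂ)) = 1 :=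
    mul_left_cancel₀ hne0 (by
      rw [mul_one]; exact res_brauerOmega_idem hM hS hs (conv_subgroupBlockCoeff_self _ _) ξ)
  have hns : IsNormalSubpair p M P f.1 S (blockOf M (ξ : Subgroup.centralizer (S : Set G) → ℂ)) :=
    isNormalSubpair_of_res ⟨hS, isPBlock_blockOf ξ⟩ hPS.le hSN hfb hst (mem_blockOf_self ξ) h1
  have hle : SubpairLE p M P f.1 S (blockOf M (ξ : Subgroup.centralizer (S : Set G) → ℂ)) :=
    Relation.ReflTransGen.single hns
  exact hPS.ne (hfmax.2 S _
    ((SubpairLE.isBrauerPairOf_iff hM hle hfmax.1.2.1).mpr hfmax.1) hle).symm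

/-- A maximal pair gives a block of `N_G(P)` with defect group `P` inducing the block. -/
theorem exists_normalizer_block (hM : IsPModular p M) {B : Set (IrrCharacter G)}
    [Fintype (Subgroup.normalizer (P : Set G))] (hmax : IsMaximalBrauerPair p M B P e) :
    ∃ b : Set (IrrCharacter (Subgroup.normalizer (P : Set G))),
      IsDefectGroup p M b (P.subgroupOf (Subgroup.normalizer (P : Set G))) ∧
      IsInducedBlock M (Subgroup.normalizer (P : Set G)) b B ∧
      ∀ χ ∈ b, omega (χ : Subgroup.normalizer (P : Set G) → ℂ)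
        (fun n : Subgroup.normalizer (P : Set G) => orbitFun M P e (n : G)) = 1 := by
  classical
  have : Fact p.Prime := ⟨hM.1⟩
  obtain ⟨⟨⟨hP, he⟩, hB, -⟩, -⟩ := id hmax
  have hCN : Subgroup.centralizer (P : Set G) ≤ Subgroup.normalizer (P : Set G) :=
    Subgroup.centralizer_le_normalizer _
  have hPN : P ≤ Subgroup.normalizer (P : Set G) := Subgroup.le_normalizer
  set u : Subgroup.normalizer (P : Set G) → ℂ := fun n => orbitFun M P e (n : G) with hu
  have hucls : IsClassFunction (Subgroup.normalizer (P : Set G)) u := fun a x =>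
    orbitFun_conj he x.2 a
  have hul : ∀ n, MemLocalRing M (u n) := fun n => memLocalRing_orbitFun _
  have hext : extendByZero (Subgroup.normalizer (P : Set G)) u = orbitFun M P e := funext fun g => by
    by_cases hg : g ∈ Subgroup.normalizer (P : Set G)
    · exact extendByZero_apply _ u ⟨g, hg⟩
    · rw [extendByZero_eq_zero _ _ hg, orbitFun_eq_zero fun h => hg (hCN h)]
  have huu : conv u u = u := funext fun n => by
    have h2 := congrFun (conv_extendByZero (Subgroup.normalizer (P : Set G)) u u) (n : G)
    rw [hext, conv_orbitFun_self, extendByZero_apply] at h2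
    exact h2.symm
  set S : Set (IrrCharacter (Subgroup.normalizer (P : Set G))) :=
    {χ | omega (χ : Subgroup.normalizer (P : Set G) → ℂ) u = 1} with hS
  have h01 : ∀ χ : IrrCharacter (Subgroup.normalizer (P : Set G)),
      omega (χ : Subgroup.normalizer (P : Set G) → ℂ) u = 0 ∨
        omega (χ : Subgroup.normalizer (P : Set G) → ℂ) u = 1 := fun χ => by
    have h2 := omega_conv χ hucls hucls
    rw [huu] at h2
    rcases eq_or_ne (omega (χ : Subgroup.normalizer (P : Set G) → ℂ) u) 0 with h0 | h0
    · exact Or.inl h0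
    · exact Or.inr (mul_left_cancel₀ h0 (by rw [mul_one]; exact h2.symm))
  have huS : u = blockCoeff S := eq_of_omega_eq hucls (isClassFunction_blockCoeff S) fun χ => by
    rw [omega_blockCoeff]
    by_cases hχ : χ ∈ S
    · rw [indVec_of_mem hχ]; exact hχ
    · rw [indVec_of_notMem hχ]; exact (h01 χ).resolve_right hχ
  obtain ⟨χ₀, hχ₀⟩ : S.Nonempty := by
    by_contra hcon
    obtain ⟨g, hg⟩ := exists_ne_zero_orbitFun hmax.1.1
    refine hg ?_
    rw [← hext, huS, Set.not_nonempty_iff_eq_empty.mp hcon]
    by_cases hgN : g ∈ Subgroup.normalizer (P : Set G)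
    · exact (extendByZero_apply _ _ ⟨g, hgN⟩).trans (by simp [blockCoeff])
    · exact extendByZero_eq_zero _ _ hgN
  set b := blockOf M (χ₀ : Subgroup.normalizer (P : Set G) → ℂ) with hbdef
  have hb : IsPBlock M b := isPBlock_blockOf χ₀
  have hbS : ∀ χ ∈ b, omega (χ : Subgroup.normalizer (P : Set G) → ℂ) u = 1 := fun χ hχ => by
    refine (h01 χ).resolve_left fun h0 => ?_
    have h2 := sub_mem_localIdeal_of_sameBlock (IsPBlock.sameBlock hb (mem_blockOf_self χ₀) hχ)
      hucls hul
    rw [h0, show omega (χ₀ : Subgroup.normalizer (P : Set G) → ℂ) u = 1 from hχ₀, sub_zero] at h2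
    exact not_memLocalIdeal_one h2
  refine ⟨b, ?_, ?_, hbS⟩
  · obtain ⟨D, hD⟩ := exists_isDefectGroup hM hb
    have : (P.subgroupOf (Subgroup.normalizer (P : Set G))).Normal := Subgroup.normal_in_normalizer
    have hle := IsDefectGroup.normal_le hM hb hD (P.subgroupOf (Subgroup.normalizer (P : Set G)))
      (hP.of_equiv (Subgroup.subgroupOfEquivOfLe hPN).symm)
    rcases eq_or_lt_of_le hle with heq | hlt
    · exact heq ▸ hD
    exfalso
    have hDp := IsDefectGroup.isPGroup hM hD
    obtain ⟨c, hc, hcu⟩ := (exists_support_centralizing_iff hM hb hD hDp).mpr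
      ⟨1, fun q hq => by rwa [map_conj_one] at hq⟩
    set D' := D.map (Subgroup.normalizer (P : Set G)).subtype
    have hPD : P < D' := by
      have h2 := lt_of_le_of_ne
        (Subgroup.map_mono (f := (Subgroup.normalizer (P : Set G)).subtype) hlt.le)
        fun h => hlt.ne (Subgroup.map_injective Subtype.val_injective h)
      rwa [Subgroup.subgroupOf_map_subtype, inf_eq_left.mpr hPN] at h2
    have hDN : D' ≤ Subgroup.normalizer (P : Set G) := Subgroup.map_subtype_le D
    have hcC : (c : G) ∈ Subgroup.centralizer (D' : Set G) := by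
      rintro _ ⟨q, hq, rfl⟩
      exact congrArg Subtype.val (hc q hq)
    set E := extendByZero (Subgroup.normalizer (P : Set G)) (blockCoeff b) with hE
    have hUE : conv (orbitFun M P e) E = E := by
      rw [← hext, hE, conv_extendByZero, huS, conv_blockCoeff_inter,
        Set.inter_eq_right.mpr (show b ⊆ S from hbS)]
    have hEl : ∀ g, MemLocalRing M (E g) := fun g => by
      show MemLocalRing M (extendByZero (Subgroup.normalizer (P : Set G)) (blockCoeff b) g)
      by_cases hg : g ∈ Subgroup.normalizer (P : Set G)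
      · exact (extendByZero_apply _ (blockCoeff b) ⟨g, hg⟩).symm ▸
          IsPBlock.memLocalRing_blockCoeff hb _
      · exact (extendByZero_eq_zero _ (blockCoeff b) hg).symm ▸ memLocalRing_zero
    have hEi : ∀ x ∈ D', ∀ g, E (x * g * x⁻¹) = E g := fun x hx g => by
      have hxN := hDN hx
      by_cases hg : g ∈ Subgroup.normalizer (P : Set G)
      · have hxg := (conj_mem_iff_of_mem hxN g).mpr hg
        rw [hE, show x * g * x⁻¹ = ((⟨_, hxg⟩ : Subgroup.normalizer (P : Set G)) : G) from rfl,
          extendByZero_apply]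
        refine Eq.trans ?_ (extendByZero_apply _ (blockCoeff b) ⟨g, hg⟩).symm
        exact isClassFunction_blockCoeff b ⟨g, hg⟩ ⟨x, hxN⟩
      · rw [hE, extendByZero_eq_zero _ _ hg,
          extendByZero_eq_zero _ _ fun h => hg ((conj_mem_iff_of_mem hxN g).mp h)]
    have hconv := restrict_conv_congr hM (hDp.map _) (fun g => memLocalRing_orbitFun g) hEl
      (fun x hx g => orbitFun_conj he (hDN hx) g) hEi ⟨c, hcC⟩
    rw [hUE] at hconv
    have hright : MemLocalIdeal M (conv
        (fun y : Subgroup.centralizer (D' : Set G) => orbitFun M P e (y : G))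
        (fun y : Subgroup.centralizer (D' : Set G) => E (y : G)) ⟨c, hcC⟩) :=
      memLocalIdeal_sum _ _ fun y _ => memLocalIdeal_mul_right
        (memLocalIdeal_orbitFun hM hmax (hDp.map _) hPD hDN y.2) (hEl _)
    exact hcu (extendByZero_apply _ (blockCoeff b) c ▸ (memLocalIdeal_iff_of_sub hconv).mpr hright)
  · rw [hbdef,
      ← resQuot_brauerHom_blockIdem_eq_one_iff hM hP hPN hCN le_rfl hB χ₀, blockIdem, brauerHom_mk,
      resQuot_mk]
    show res M (omega (χ₀ : Subgroup.normalizer (P : Set G) → ℂ)
      (brauerFun P (Subgroup.normalizer (P : Set G)) (ofOmega (indVec B)))) = 1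
    rw [ofOmega_indVec]
    set t := brauerFun P (Subgroup.normalizer (P : Set G)) (blockCoeff B) with ht
    have htc : IsClassFunction (Subgroup.normalizer (P : Set G)) t :=
      isClassFunction_brauerFun le_rfl (isClassFunction_blockCoeff B)
    have htl : ∀ n, MemLocalRing M (t n) :=
      memLocalRing_brauerFun (IsPBlock.memLocalRing_blockCoeff hB)
    have hval : ∀ n : Subgroup.normalizer (P : Set G), MemLocalIdeal M (conv t u n - u n) := by
      intro n
      by_cases hn : (n : G) ∈ Subgroup.centralizer (P : Set G)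
      · have hcv : conv t u n = conv (blockCoeff B) (orbitFun M P e) (n : G) := by
          refine Fintype.sum_of_injective Subtype.val Subtype.val_injective _ _ ?_ fun y => ?_
          · intro z hz
            rw [orbitFun_eq_zero, mul_zero]
            intro hzc
            refine hz ⟨⟨z, hCN ?_⟩, rfl⟩
            have := mul_mem hn (inv_mem hzc)
            simpa [mul_assoc] using this
          · show t y * u (y⁻¹ * n) = blockCoeff B (y : G) * orbitFun M P e ((y : G)⁻¹ * (n : G))
            by_cases hy : ((y⁻¹ * n : Subgroup.normalizer (P : Set G)) : G) ∈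
                Subgroup.centralizer (P : Set G)
            · have hy' : (y : G) ∈ Subgroup.centralizer (P : Set G) := by
                have := mul_mem hn (inv_mem hy)
                simpa [mul_assoc] using this
              rw [ht, brauerFun_of_mem hy']
              rfl
            · rw [show u (y⁻¹ * n) = 0 from orbitFun_eq_zero hy,
                orbitFun_eq_zero (g := (y : G)⁻¹ * (n : G)) hy, mul_zero, mul_zero]
        rw [hcv, conv_orbitFun_right]
        show MemLocalIdeal M (∑ f ∈ pairOrbit M P e, _ - ∑ f ∈ pairOrbit M P e, _)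
        rw [← Finset.sum_sub_distrib]
        refine memLocalIdeal_sum _ _ fun f hf => ?_
        have hfb := isPBlock_of_mem_pairOrbit hf
        obtain ⟨η, hη⟩ := IsPBlock.nonempty hfb
        have hfB : IsBrauerPairOf p M B P f := by
          obtain ⟨m, hm, hme⟩ := (mem_pairOrbit he).mp hf
          have h2 := isBrauerPairOf_conjPair m (a := ⟨P, e⟩) hmax.1
          rwa [conjPair_of_mem_normalizer hm, hme] at h2
        rcases conv_subgroupBlockCoeff_congr hM hP hfb (isStableFun_blockCoeff hB P)
          (conv_blockCoeff_self B) hη with ⟨-, hc1⟩ | ⟨h0, -⟩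
        · exact hc1 n hn
        · exact absurd ((IsBrauerPairOf.res_eq_one hfB hη).symm.trans h0) one_ne_zero
      · rw [show u n = 0 from orbitFun_eq_zero hn, sub_zero]
        refine memLocalIdeal_sum _ _ fun y _ => ?_
        by_cases hy : (y : G) ∈ Subgroup.centralizer (P : Set G)
        · rw [show u (y⁻¹ * n) = 0 from orbitFun_eq_zero fun h => hn (by
            simpa using mul_mem hy h), mul_zero]
          exact memLocalIdeal_zero
        · rw [ht, brauerFun_of_notMem hy, zero_mul]
          exact memLocalIdeal_zero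
    have h2 := res_omega_congr χ₀ (isClassFunction_conv htc hucls) hucls
      (fun n => memLocalRing_sum _ _ fun y _ => memLocalRing_mul (htl _) (hul _)) hul hval
    rw [omega_conv χ₀ htc hucls, show omega (χ₀ : Subgroup.normalizer (P : Set G) → ℂ) u = 1
      from hχ₀, mul_one, res_one] at h2
    exact h2

/-- The subgroup of a maximal pair is a defect group. -/
theorem isDefectGroup_of_maximal (hM : IsPModular p M) {B : Set (IrrCharacter G)}
    (hmax : IsMaximalBrauerPair p M B P e) : IsDefectGroup p M B P := by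
  classical
  have : Fact p.Prime := ⟨hM.1⟩
  obtain ⟨b, hbd, hind, -⟩ := exists_normalizer_block hM hmax
  obtain ⟨B', -, hB'd, hind'⟩ := (first_main_theorem hM hmax.1.1.1).1 b hind.1 hbd
  exact IsInducedBlock.unique hind' hind ▸ hB'd

/-- Two maximal pairs on the same subgroup are conjugate. -/
theorem mem_pairOrbit_of_maximal (hM : IsPModular p M) {B : Set (IrrCharacter G)}
    {f : Set (IrrCharacter (Subgroup.centralizer (P : Set G)))}
    (hmax : IsMaximalBrauerPair p M B P e) (hmax' : IsMaximalBrauerPair p M B P f) :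
    f ∈ pairOrbit M P e := by
  classical
  have : Fact p.Prime := ⟨hM.1⟩
  obtain ⟨b, hbd, hind, hb1⟩ := exists_normalizer_block hM hmax
  obtain ⟨b', -, hind', hb1'⟩ := exists_normalizer_block hM hmax'
  obtain rfl := inducing_block_unique hM hmax.1.1.1 hbd hind hind'
  obtain ⟨χ, hχ⟩ := IsPBlock.nonempty hind.1
  have he := hmax.1.1.2
  have hf := hmax'.1.1.2
  obtain ⟨f', hfe, hff⟩ : ∃ f', f' ∈ pairOrbit M P e ∧ f' ∈ pairOrbit M P f := by
    by_contra hcon
    push Not at hcon
    have h0 : conv (orbitFun M P e) (orbitFun M P f) = fun _ => (0 : ℂ) := by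
      rw [conv_orbitFun_right]
      funext g
      refine Finset.sum_eq_zero fun f₂ hf₂ => ?_
      rw [conv_orbitFun_left]
      refine Finset.sum_eq_zero fun f₁ hf₁ => ?_
      rw [conv_subgroupBlockCoeff_ne (isPBlock_of_mem_pairOrbit hf₁)
        (isPBlock_of_mem_pairOrbit hf₂) fun h => hcon f₁ hf₁ (h ▸ hf₂)]
    have hcls : ∀ (d : Set (IrrCharacter (Subgroup.centralizer (P : Set G)))), IsPBlock M d →
        IsClassFunction (Subgroup.normalizer (P : Set G)) (fun n : (Subgroup.normalizer (P : Set G)) => orbitFun M P d (n : G)) :=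
      fun d hd a x => orbitFun_conj hd x.2 a
    have h2 := omega_conv χ (hcls e he) (hcls f hf)
    rw [hb1 χ hχ, hb1' χ hχ, one_mul] at h2
    have hz : conv (fun n : (Subgroup.normalizer (P : Set G)) => orbitFun M P e (n : G)) (fun n : (Subgroup.normalizer (P : Set G)) => orbitFun M P f (n : G)) =
        fun _ => (0 : ℂ) := funext fun n => by
      have hext : ∀ d : Set (IrrCharacter (Subgroup.centralizer (P : Set G))),
          extendByZero (Subgroup.normalizer (P : Set G)) (fun n : (Subgroup.normalizer (P : Set G)) => orbitFun M P d (n : G)) = orbitFun M P d := fun d =>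
        funext fun g => by
          by_cases hg : g ∈ (Subgroup.normalizer (P : Set G))
          · exact extendByZero_apply _ (fun n : (Subgroup.normalizer (P : Set G)) => orbitFun M P d (n : G)) ⟨g, hg⟩
          · rw [extendByZero_eq_zero _ _ hg,
              orbitFun_eq_zero fun h => hg (Subgroup.centralizer_le_normalizer _ h)]
      have h3 := congrFun (conv_extendByZero (Subgroup.normalizer (P : Set G)) (fun n : (Subgroup.normalizer (P : Set G)) => orbitFun M P e (n : G))
        (fun n : (Subgroup.normalizer (P : Set G)) => orbitFun M P f (n : G))) (n : G)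
      rw [hext, hext, h0, extendByZero_apply] at h3
      exact h3.symm
    rw [hz] at h2
    simp [omega] at h2
  obtain ⟨m, hm, rfl⟩ := (mem_pairOrbit hf).mp hff
  have h := conjSet_mem_pairOrbit he (inv_mem hm) hfe
  rwa [conjSet_conjSet (conj_mem_iff_of_mem_normalizer (mem_normalizer_centralizer hm))
    (conj_mem_iff_of_mem_normalizer (mem_normalizer_centralizer (inv_mem hm))), inv_mul_cancel,
    conjSet_of_mem (one_mem _)] at h

/-- Every pair of a block is conjugate into a given maximal pair. -/
theorem exists_conjPair_le_maximal (hM : IsPModular p M) {B : Set (IrrCharacter G)}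
    (hmax : IsMaximalBrauerPair p M B P e) {Q : Subgroup G}
    {f : Set (IrrCharacter (Subgroup.centralizer (Q : Set G)))}
    (hQf : IsBrauerPairOf p M B Q f) :
    ∃ x : G, Relation.ReflTransGen (NormalSubpairRel p M) (conjPair x ⟨Q, f⟩) ⟨P, e⟩ := by
  have : Fact p.Prime := ⟨hM.1⟩
  obtain ⟨⟨R, g⟩, hR, hle⟩ := exists_maximal_pair_above hM hQf
  obtain ⟨x, hx⟩ := IsDefectGroup.exists_conj_eq hM hmax.1.2.1 (isDefectGroup_of_maximal hM hR)
    (isDefectGroup_of_maximal hM hmax)
  have h2 := isMaximalBrauerPair_conjPair x (a := ⟨R, g⟩) hR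
  obtain ⟨g', hg'⟩ : ∃ g' : Set (IrrCharacter (Subgroup.centralizer (P : Set G))),
      conjPair x ⟨R, g⟩ = ⟨P, g'⟩ := by
    subst hx
    exact ⟨_, rfl⟩
  rw [hg'] at h2
  obtain ⟨n, hn, hne⟩ := (mem_pairOrbit h2.1.1.2).mp (mem_pairOrbit_of_maximal hM h2 hmax)
  refine ⟨n * x, ?_⟩
  have h3 := subpairLE_conjPair (n * x) hle
  rwa [← conjPair_conjPair x n ⟨R, g⟩, hg', conjPair_of_mem_normalizer hn, hne] at h3

end CfsgLib.Blocks

namespace CfsgLib.Blocks

open Cfsg
open scoped ComplexConjugate CfsgLib.Char

variable {p : ℕ} {M : Ideal AlgInt} {G : Type*} [Group G] [Fintype G] [M.IsPrime]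

/-- The principal pair on a Sylow subgroup is maximal. -/
theorem isMaximal_principal (hM : IsPModular p M) (S : Sylow p G) :
    IsMaximalBrauerPair p M (principalBlock M G) (S : Subgroup G)
      (principalBlock M (Subgroup.centralizer ((S : Subgroup G) : Set G))) :=
  ⟨isBrauerPairOf_principal hM S.2, fun _ _ hg hle => S.3 hg.1.1 (SubpairLE.le hle)⟩

/-- Brauer's third main theorem for pairs: the pairs of the principal block are principal. -/
theorem eq_principal_of_isBrauerPairOf (hM : IsPModular p M) {Q : Subgroup G}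
    {e : Set (IrrCharacter (Subgroup.centralizer (Q : Set G)))}
    (h : IsBrauerPairOf p M (principalBlock M G) Q e) :
    e = principalBlock M (Subgroup.centralizer (Q : Set G)) := by
  have : Fact p.Prime := ⟨hM.1⟩
  obtain ⟨S⟩ : Nonempty (Sylow p G) := inferInstance
  obtain ⟨x, hx⟩ := exists_conjPair_le_maximal hM (isMaximal_principal hM S) h
  have h1 := eq_principal_of_subpairLE hM S.2 (Q := (conjPair x ⟨Q, e⟩).1) hx
  have h2 : conjPair x⁻¹ (conjPair x ⟨Q, e⟩) =
      conjPair x⁻¹ (conjPair x ⟨Q, principalBlock M (Subgroup.centralizer (Q : Set G))⟩) := by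
    congr 1
    show Sigma.mk _ _ = Sigma.mk _ _
    congr 1
    exact h1.trans (conjSet_principalBlock (centralizer_conj_iff rfl)).symm
  rw [conjPair_conjPair, conjPair_conjPair, inv_mul_cancel, conjPair_one, conjPair_one] at h2
  exact eq_of_heq (Sigma.mk.inj h2).2

/-- The pair below a principal pair on any subgroup is the principal one. -/
theorem subpairLE_principal (hM : IsPModular p M) {Q P : Subgroup G} (hP : IsPGroup p P)
    (hQP : Q ≤ P) :
    SubpairLE p M Q (principalBlock M (Subgroup.centralizer (Q : Set G))) P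
      (principalBlock M (Subgroup.centralizer (P : Set G))) := by
  obtain ⟨f, hf, -⟩ := existsUnique_subpair hM ⟨hP, isPBlock_principalBlock⟩ hQP
  exact eq_principal_of_subpairLE hM hP hf ▸ hf

end CfsgLib.Blocks
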