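import Cfsg.Agent.Lib.Blocks.Covering
import Cfsg.Agent.Lib.Blocks.Stable
import Cfsg.Agent.Lib.Blocks.CommutantClassSum
import Cfsg.Agent.Lib.Char.PowerExtension

/-!
# The characters over an invariant character of a normal `p'`-subgroup

They form a union of blocks whose idempotent is that of the character below. With a normal
subgroup `L` above, a `p`-group modulo `K`, every such block meets the centralizer of a
`p`-subgroup `Q ≤ L` in a unit coefficient.
-/

set_option autoImplicit false
set_option linter.unusedSectionVars false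

namespace CfsgLib.Blocks

open Cfsg
open scoped ComplexConjugate CfsgLib.Char

variable {p : ℕ} {M : Ideal AlgInt} {G : Type*} [Group G] [Fintype G]

/-- The irreducible characters lying over `θ`. -/
def overSet (K : Subgroup G) [Fintype K] (θ : IrrCharacter K) : Set (IrrCharacter G) :=
  {χ | classInner (fun k : K => (χ : G → ℂ) k) (θ : K → ℂ) ≠ 0}

theorem mem_overSet {K : Subgroup G} [Fintype K] {θ : IrrCharacter K} {χ : IrrCharacter G} :
    χ ∈ overSet K θ ↔ classInner (fun k : K => (χ : G → ℂ) k) (θ : K → ℂ) ≠ 0 := Iff.rfl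

theorem classInner_smul_self {H : Type*} [Group H] [Fintype H] (a : ℂ) {f : H → ℂ}
    (hf : classInner f f = 1) : classInner (a • f) (a • f) = a * conj a := by
  rw [classInner] at hf ⊢
  have e : ∀ g : H, (a • f) g * conj ((a • f) g) = a * conj a * (f g * conj (f g)) := fun g => by
    simp only [Pi.smul_apply, smul_eq_mul, map_mul]; ring
  rw [Finset.sum_congr rfl fun g _ => e g, ← Finset.mul_sum, mul_left_comm, hf, mul_one]

variable {K : Subgroup G} [Fintype K] [hKn : K.Normal] (θ : IrrCharacter K)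

theorem blockCoeff_singleton (k : K) :
    blockCoeff {θ} k = (Nat.card K : ℂ)⁻¹ * ((θ : K → ℂ) 1 * conj ((θ : K → ℂ) k)) := by
  rw [blockCoeff, finsum_mem_singleton]

theorem conj_apply_one : conj ((θ : K → ℂ) 1) = (θ : K → ℂ) 1 := by
  rw [(irr_degree_eq θ).1, map_natCast]

theorem not_dvd_degree [hp : Fact p.Prime] (hK : ¬ p ∣ Nat.card K) :
    ¬ p ∣ charDegree (θ : K → ℂ) := by
  intro h
  obtain ⟨d, hd, -, hdvd⟩ := Char.exists_degree_dvd_card θ.2
  rw [(irr_degree_eq θ).1, Nat.cast_inj] at hd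
  exact hK ((hd ▸ h).trans hdvd)

section Invariant

variable {θ} (hinv : ∀ g : G, Char.conjBy K (θ : K → ℂ) g = θ)
include hinv

theorem restrict_over {χ : IrrCharacter G} (hχ : χ ∈ overSet K θ) :
    (fun k : K => (χ : G → ℂ) k) =
      classInner (fun k : K => (χ : G → ℂ) k) (θ : K → ℂ) • (θ : K → ℂ) :=
  Char.clifford_invariant K χ.2 θ.2 hinv hχ

theorem isClassFunction_singleton :
    IsClassFunction G (extendByZero K (blockCoeff {θ})) := by
  intro g x
  by_cases hg : g ∈ K
  · rw [show g = ((⟨g, hg⟩ : K) : G) from rfl,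
      show x * ((⟨g, hg⟩ : K) : G) * x⁻¹ = ((⟨x * g * x⁻¹, hKn.conj_mem g hg x⟩ : K) : G) from rfl,
      extendByZero_apply, extendByZero_apply, blockCoeff_singleton, blockCoeff_singleton]
    have h := congrFun (hinv x) ⟨g, hg⟩
    rw [Char.conjBy_apply] at h
    rw [← h]
  · rw [extendByZero_eq_zero K _ hg, extendByZero_eq_zero K _ fun h => hg (by
      simpa [mul_assoc] using hKn.conj_mem _ h x⁻¹)]

theorem omega_singleton (χ : IrrCharacter G) :
    omega (χ : G → ℂ) (extendByZero K (blockCoeff {θ})) = indVec (overSet K θ) χ := by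
  classical
  have hcls := isClassFunction_singleton hinv
  have hsupp : ∀ g, g ∉ K → extendByZero K (blockCoeff {θ}) g = 0 := fun g hg =>
    extendByZero_eq_zero K _ hg
  have hval : (fun k : K => extendByZero K (blockCoeff {θ}) (k : G)) = blockCoeff {θ} :=
    funext fun k => extendByZero_apply K _ k
  by_cases h : χ ∈ overSet K θ
  · rw [omega_eq_of_constituent h hcls hsupp, hval, omega_blockCoeff, indVec_of_mem h,
      indVec_of_mem (Set.mem_singleton θ)]
  · obtain ⟨ψ, hψ⟩ := Char.exists_constituent K (Char.isCharacter_of_isIrr χ.2)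
      (Char.irr_degree_ne_zero χ.2)
    have hne : ψ ∉ ({θ} : Set (IrrCharacter K)) := fun e => h (by
      rw [Set.mem_singleton_iff] at e; subst e; exact hψ)
    rw [omega_eq_of_constituent hψ hcls hsupp, hval, omega_blockCoeff, indVec_of_notMem h,
      indVec_of_notMem hne]

theorem blockCoeff_overSet :
    blockCoeff (overSet K θ) = extendByZero K (blockCoeff {θ}) :=
  eq_of_omega_eq (isClassFunction_blockCoeff _) (isClassFunction_singleton hinv) fun χ => by
    rw [omega_blockCoeff, omega_singleton hinv]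

theorem memLocalRing_singleton (hM : IsPModular p M) (hK : ¬ p ∣ Nat.card K) (g : G) :
    MemLocalRing M (extendByZero K (blockCoeff {θ}) g) := by
  have := isPrime_of_isPModular hM
  by_cases hg : g ∈ K
  · rw [show g = ((⟨g, hg⟩ : K) : G) from rfl, extendByZero_apply, blockCoeff_singleton]
    exact memLocalRing_mul (memLocalRing_natCast_inv hM hK)
      (memLocalRing_mul (memLocalRing_of_isIntegral (irr_isIntegral θ.2 _))
        (memLocalRing_of_isIntegral (irr_conj_isIntegral θ.2 _)))
  · rw [extendByZero_eq_zero K _ hg]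
    exact memLocalRing_zero

theorem isBlockUnion_overSet (hM : IsPModular p M) (hK : ¬ p ∣ Nat.card K) :
    IsBlockUnion M (overSet K θ) := by
  intro χ hχ ψ h
  have := isPrime_of_isPModular hM
  by_contra hne
  have h1 := sub_mem_localIdeal_of_sameBlock h (isClassFunction_singleton hinv)
    (memLocalRing_singleton hinv hM hK)
  rw [omega_singleton hinv, omega_singleton hinv, indVec_of_mem hχ, indVec_of_notMem hne,
    sub_zero] at h1
  exact not_memLocalIdeal_one h1

theorem blockCoeff_overSet_one (hM : IsPModular p M) (hK : ¬ p ∣ Nat.card K) :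
    MemLocalRing M (blockCoeff (overSet K θ) 1) ∧
      ¬ MemLocalIdeal M (blockCoeff (overSet K θ) 1) := by
  have := isPrime_of_isPModular hM
  haveI := Fact.mk hM.1
  rw [blockCoeff_overSet hinv]
  refine ⟨memLocalRing_singleton hinv hM hK 1, ?_⟩
  rw [show (1 : G) = ((1 : K) : G) from rfl, extendByZero_apply, blockCoeff_singleton,
    conj_apply_one, (irr_degree_eq θ).1]
  intro h
  have h2 := memLocalIdeal_mul_left (memLocalRing_natCast (M := M) (Nat.card K)) h
  rw [← mul_assoc, mul_inv_cancel₀ (Nat.cast_ne_zero.mpr Nat.card_pos.ne'), one_mul,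
    ← Nat.cast_mul, memLocalIdeal_natCast_iff hM] at h2
  exact (hM.1.dvd_mul.mp h2).elim (not_dvd_degree θ hK) (not_dvd_degree θ hK)

theorem overSet_nonempty : (overSet K θ).Nonempty := exists_irr_above θ

/-- On `K` the coefficients of any set of characters over `θ` are proportional to `conj θ`. -/
theorem blockCoeff_proportional {S : Set (IrrCharacter G)} (hS : S ⊆ overSet K θ) (k : K) :
    blockCoeff S (k : G) * (θ : K → ℂ) 1 = blockCoeff S 1 * conj ((θ : K → ℂ) k) := by
  classical
  simp only [blockCoeff, sum_mem_eq_filter, mul_assoc, Finset.sum_mul]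
  congr 1
  refine Finset.sum_congr rfl fun χ hχ => ?_
  have hχ' := hS (Finset.mem_filter.mp hχ).2
  have e := congrFun (restrict_over hinv hχ') k
  have e1 := congrFun (restrict_over hinv hχ') 1
  simp only [Pi.smul_apply, smul_eq_mul, Subgroup.coe_one] at e e1
  rw [e]
  conv_rhs => enter [2, 1, 2]; rw [e1]
  simp only [map_mul, conj_apply_one]
  ring

end Invariant

theorem blockCoeff_one_ne_zero {S : Set (IrrCharacter G)} (hS : S.Nonempty) :
    blockCoeff S 1 ≠ 0 := by
  classical
  obtain ⟨χ, hχ⟩ := hS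
  rw [blockCoeff, sum_mem_eq_filter]
  refine mul_ne_zero (inv_ne_zero (Nat.cast_ne_zero.mpr Nat.card_pos.ne')) ?_
  have e : ∀ ψ : IrrCharacter G, (ψ : G → ℂ) 1 * conj ((ψ : G → ℂ) 1) =
      ((charDegree (ψ : G → ℂ) * charDegree (ψ : G → ℂ) : ℕ) : ℂ) := fun ψ => by
    rw [(irr_degree_eq ψ).1, map_natCast, Nat.cast_mul]
  simp only [e]
  rw [← Nat.cast_sum, Nat.cast_ne_zero]
  refine (Finset.sum_pos' (fun ψ _ => Nat.zero_le _) ⟨χ, Finset.mem_filter.mpr
    ⟨Finset.mem_univ _, hχ⟩, ?_⟩).ne'
  exact Nat.mul_pos (irr_degree_eq χ).2 (irr_degree_eq χ).2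

/-- A `p`-regular element with a `p`-power in a subgroup lies in it. -/
theorem mem_of_isPRegular_of_pow_mem {H : Subgroup G} {x : G} (hp : p.Prime) (hx : IsPRegular p x)
    (n : ℕ) (h : x ^ p ^ n ∈ H) : x ∈ H := by
  obtain ⟨m, hm⟩ := exists_pow_eq_self_of_coprime
    ((hp.coprime_iff_not_dvd.mpr hx).pow_left n)
  rw [← hm]
  exact pow_mem h m

section Tower

variable {θ} (hinv : ∀ g : G, Char.conjBy K (θ : K → ℂ) g = θ) (hM : IsPModular p M)
  (hK : ¬ p ∣ Nat.card K) {L : Subgroup G}
  (hLp : ∀ x ∈ L, ∃ n : ℕ, x ^ p ^ n ∈ K)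
include hinv hM hLp

theorem blockCoeff_eq_zero_of_mem {B : Set (IrrCharacter G)} (hB : IsPBlock M B) {g : G}
    (hgL : g ∈ L) (hgK : g ∉ K) : blockCoeff B g = 0 := by
  have := isPrime_of_isPModular hM
  refine blockCoeff_eq_zero_of_not_regular hM (IsPBlock.isBlockUnion hB) fun hr => ?_
  obtain ⟨n, hn⟩ := hLp g hgL
  exact hgK (mem_of_isPRegular_of_pow_mem hM.1 hr n hn)

include hK in
/-- A group with `G / K` a `p`-group has one block over `θ`. -/
theorem block_unique_of_top (htop : L = ⊤) {B B' : Set (IrrCharacter G)} (hB : IsPBlock M B)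
    (hB' : IsPBlock M B') (hBU : B ⊆ overSet K θ) (hB'U : B' ⊆ overSet K θ) : B = B' := by
  have := isPrime_of_isPModular hM
  classical
  by_contra hne
  have hθ1 : (θ : K → ℂ) 1 ≠ 0 := Char.irr_degree_ne_zero θ.2
  have hprop : blockCoeff B 1 • blockCoeff B' = blockCoeff B' 1 • blockCoeff B := by
    funext g
    simp only [Pi.smul_apply, smul_eq_mul]
    by_cases hg : g ∈ K
    · apply mul_right_cancel₀ hθ1
      have h1 := blockCoeff_proportional hinv hBU ⟨g, hg⟩
      have h2 := blockCoeff_proportional hinv hB'U ⟨g, hg⟩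
      linear_combination blockCoeff B 1 * h2 - blockCoeff B' 1 * h1
    · rw [blockCoeff_eq_zero_of_mem hinv hM hLp hB (htop ▸ Subgroup.mem_top g) hg,
        blockCoeff_eq_zero_of_mem hinv hM hLp hB' (htop ▸ Subgroup.mem_top g) hg, mul_zero,
        mul_zero]
  have hdis : B ∩ B' = ∅ := Set.eq_empty_of_forall_notMem fun χ hχ =>
    hne (IsPBlock.eq_of_mem_of_mem hB hB' hχ.1 hχ.2)
  have h0 : conv (blockCoeff B) (blockCoeff B 1 • blockCoeff B') =
      blockCoeff B 1 • conv (blockCoeff B) (blockCoeff B') := by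
    funext z
    simp only [conv, Pi.smul_apply, smul_eq_mul, Finset.mul_sum]
    exact Finset.sum_congr rfl fun x _ => by ring
  have h1 : conv (blockCoeff B) (blockCoeff B' 1 • blockCoeff B) =
      blockCoeff B' 1 • conv (blockCoeff B) (blockCoeff B) := by
    funext z
    simp only [conv, Pi.smul_apply, smul_eq_mul, Finset.mul_sum]
    exact Finset.sum_congr rfl fun x _ => by ring
  rw [hprop, h1, conv_blockCoeff_self, conv_blockCoeff_inter, hdis] at h0
  have h2 := congrFun h0 1
  rw [Pi.smul_apply, Pi.smul_apply, smul_eq_mul, smul_eq_mul,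
    show blockCoeff (∅ : Set (IrrCharacter G)) 1 = 0 by simp [blockCoeff], mul_zero] at h2
  exact mul_ne_zero (blockCoeff_one_ne_zero (IsPBlock.nonempty hB'))
    (blockCoeff_one_ne_zero (IsPBlock.nonempty hB)) h2

include hK in
/-- Every block over `θ` has a member whose restriction to `L` has the norm of that to `K`. -/
theorem exists_isotypic [L.Normal] [Fintype L] (hKL : K ≤ L) {B : Set (IrrCharacter G)}
    (hB : IsPBlock M B) (hBU : B ⊆ overSet K θ) :
    ∃ χ ∈ B, classInner (fun l : L => (χ : G → ℂ) l) (fun l : L => (χ : G → ℂ) l) =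
      classInner (fun k : K => (χ : G → ℂ) k) (fun k : K => (χ : G → ℂ) k) := by
  have := isPrime_of_isPModular hM
  classical
  haveI := Fact.mk hM.1
  let N : Subgroup L := K.subgroupOf L
  let e : N ≃* K := Subgroup.subgroupOfEquivOfLe hKL
  let θ' : N → ℂ := fun n => (θ : K → ℂ) (e n)
  have hθ' : IsIrrCharacter N θ' := Char.isIrrCharacter_comp_mulEquiv e θ.2
  have hcardN : Nat.card N = Nat.card K := Nat.card_congr e.toEquiv
  have hinv' : ∀ l : L, Char.conjBy N θ' l = θ' := fun l => funext fun n =>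
    congrFun (hinv (l : G)) (e n)
  have hcop : N.index.Coprime (Nat.card N) := by
    refine Nat.coprime_of_dvd fun q hq hqi hqc => ?_
    haveI := Fact.mk hq
    have hqp : q ≠ p := fun h => hK (hcardN ▸ h ▸ hqc)
    rw [Subgroup.index_eq_card] at hqi
    obtain ⟨y, hy⟩ := exists_prime_orderOf_dvd_card' q hqi
    obtain ⟨z, rfl⟩ := QuotientGroup.mk_surjective y
    obtain ⟨n, hn⟩ := hLp (z : G) z.2
    have h1 : ((z : L ⧸ N)) ^ p ^ n = 1 := by
      rw [← QuotientGroup.mk_pow, QuotientGroup.eq_one_iff, Subgroup.mem_subgroupOf,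
        Subgroup.coe_pow]
      exact hn
    have h2 : q ∣ p ^ n := hy ▸ orderOf_dvd_of_pow_eq_one h1
    exact hqp ((Nat.prime_dvd_prime_iff_eq hq hM.1).mp (hq.dvd_of_dvd_pow h2))
  obtain ⟨η, hη, hres, hdet⟩ := Char.exists_power_extension N hθ' hinv' hcop
  have hηinv : ∀ g : G, Char.conjBy L η g = η := fun g => by
    refine Char.power_extension_unique N hθ' hcop hη (Char.isIrrCharacter_conjBy L hη g) hres
      (fun n => ?_) hdet fun x => ?_
    · have h1 : (⟨g * ((n : L) : G) * g⁻¹, ‹L.Normal›.conj_mem _ (n : L).2 g⟩ : L) =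
          ((⟨⟨g * ((n : L) : G) * g⁻¹, ‹L.Normal›.conj_mem _ (n : L).2 g⟩,
            Subgroup.mem_subgroupOf.mpr (hKn.conj_mem _ n.2 g)⟩ : N) : L) := rfl
      rw [Char.conjBy_apply, h1, hres]
      exact congrFun (hinv g) (e n)
    · rw [Char.conjBy_eq_comp, show (fun y : L => η ((MulAut.conjNormal g : MulAut L) y)) =
          fun y : L => η ((MulAut.conjNormal g : MulAut L).toMonoidHom y) from rfl,
        Char.detChar_comp _ (Char.isCharacter_of_isIrr hη)]
      exact hdet _
  have hηK : ∀ k : K, η ⟨(k : G), hKL k.2⟩ = (θ : K → ℂ) k := fun k => by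
    have h := hres (e.symm k)
    simp only [θ', MulEquiv.apply_symm_apply] at h
    exact h
  have hex : ∃ χ ∈ B, classInner (fun l : L => (χ : G → ℂ) l) η ≠ 0 := by
    by_contra hno
    push Not at hno
    have hsum : ∑ l : L, η l * blockCoeff B (l : G) = 0 := by
      have h1 : ∀ χ ∈ B, ∑ l : L, η l * conj ((χ : G → ℂ) l) = 0 := fun χ hχ => by
        have h := congrArg (starRingEnd ℂ) (hno χ hχ)
        rw [map_zero, classInner, map_mul, map_inv₀, map_natCast, map_sum] at h
        simp only [map_mul, Complex.conj_conj] at h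
        rw [← (mul_eq_zero.mp h).resolve_left (inv_ne_zero (Nat.cast_ne_zero.mpr Nat.card_pos.ne'))]
        exact Finset.sum_congr rfl fun l _ => mul_comm _ _
      simp only [blockCoeff, sum_mem_eq_filter, Finset.mul_sum]
      rw [Finset.sum_comm]
      refine Finset.sum_eq_zero fun χ hχ => ?_
      calc ∑ l : L, η l * ((Nat.card G : ℂ)⁻¹ * ((χ : G → ℂ) 1 * conj ((χ : G → ℂ) l)))
          = ((Nat.card G : ℂ)⁻¹ * (χ : G → ℂ) 1) * ∑ l : L, η l * conj ((χ : G → ℂ) l) := by
            rw [Finset.mul_sum]; exact Finset.sum_congr rfl fun l _ => by ring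
        _ = 0 := by rw [h1 χ (Finset.mem_filter.mp hχ).2, mul_zero]
    have hK' : ∑ k : K, (θ : K → ℂ) k * blockCoeff B (k : G) = 0 := by
      rw [← hsum]
      refine Fintype.sum_of_injective (Subgroup.inclusion hKL) (Subgroup.inclusion_injective hKL)
        _ _ (fun l hl => ?_) fun k => ?_
      · have hlK : (l : G) ∉ K := fun h => hl ⟨⟨(l : G), h⟩, rfl⟩
        rw [blockCoeff_eq_zero_of_mem hinv hM hLp hB l.2 hlK, mul_zero]
      · rw [← hηK k]
        rfl
    have h2 : blockCoeff B 1 * ∑ k : K, (θ : K → ℂ) k * conj ((θ : K → ℂ) k) = 0 := by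
      rw [Finset.mul_sum]
      calc ∑ k : K, blockCoeff B 1 * ((θ : K → ℂ) k * conj ((θ : K → ℂ) k))
          = ∑ k : K, (θ : K → ℂ) k * blockCoeff B (k : G) * (θ : K → ℂ) 1 :=
            Finset.sum_congr rfl fun k _ => by
              linear_combination (-(θ : K → ℂ) k) * blockCoeff_proportional hinv hBU k
        _ = 0 := by rw [← Finset.sum_mul, hK', zero_mul]
    have h3 := Char.classInner_irr_self θ.2
    rw [classInner, (mul_eq_zero.mp h2).resolve_left
      (blockCoeff_one_ne_zero (IsPBlock.nonempty hB)), mul_zero] at h3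
    exact zero_ne_one h3
  obtain ⟨χ, hχ, hne⟩ := hex
  refine ⟨χ, hχ, ?_⟩
  set a := classInner (fun l : L => (χ : G → ℂ) l) η
  have hL' : (fun l : L => (χ : G → ℂ) l) = a • η :=
    Char.clifford_invariant L χ.2 hη hηinv hne
  have hK'' : (fun k : K => (χ : G → ℂ) k) = a • (θ : K → ℂ) := funext fun k => by
    have h := congrFun hL' ⟨(k : G), hKL k.2⟩
    simp only [Pi.smul_apply, smul_eq_mul] at h ⊢
    rw [← hηK k, ← h]
  rw [hL', hK'', classInner_smul_self a (Char.classInner_irr_self hη),
    classInner_smul_self a (Char.classInner_irr_self θ.2)]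

include hK in
/-- Each block over `θ` has a unit idempotent coefficient at an element centralizing `Q`. -/
theorem exists_unit_centralizing [L.Normal] [Fintype L] (hKL : K ≤ L) {Q : Subgroup G}
    (hQ : IsPGroup p Q) (hQL : Q ≤ L) {B : Set (IrrCharacter G)} (hB : IsPBlock M B)
    (hBU : B ⊆ overSet K θ) :
    ∃ c ∈ Subgroup.centralizer (Q : Set G), ¬ MemLocalIdeal M (blockCoeff B c) := by
  classical
  have := isPrime_of_isPModular hM
  haveI := Fact.mk hM.1
  haveI : Fintype (ConjClasses G) := Fintype.ofFinite _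
  obtain ⟨χ, hχ, hn⟩ := exists_isotypic hinv hM hK hLp hKL hB hBU
  by_contra hno
  push Not at hno
  have h := omega_blockCoeff B χ
  rw [omega_eq_sum_classes χ (isClassFunction_blockCoeff B), indVec_of_mem hχ] at h
  refine not_memLocalIdeal_one (M := M) (h ▸ memLocalIdeal_sum _ _ fun c _ => ?_)
  by_cases hc : ∃ x, IsConj x (Quotient.out c) ∧ x ∈ Subgroup.centralizer (Q : Set G)
  · obtain ⟨x, hx, hxC⟩ := hc
    rw [← IsClassFunction.eq_of_isConj (isClassFunction_blockCoeff B) hx]
    exact memLocalIdeal_mul_right (hno x hxC) (memLocalRing_centralChar χ _)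
  · push Not at hc
    exact memLocalIdeal_mul_left (IsPBlock.memLocalRing_blockCoeff hB _)
      (memLocalIdeal_centralChar_of_commutant hM hKL hK hQ hQL χ hn hc)

end Tower

end CfsgLib.Blocks
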