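import Cfsg.Agent.Lib.Blocks.PConstrainedBlock

/-!
# The series `O_{p'}(G) ≤ O_{p',p}(G)` as a setting for the block over an invariant character
-/

set_option autoImplicit false

namespace CfsgLib.Blocks

open Cfsg Pointwise

variable {G : Type*} [Group G] [Finite G] (p : ℕ) [hp : Fact p.Prime]

theorem pPrimeCore_not_dvd : ¬ p ∣ Nat.card (pPrimeCore p G) :=
  hp.out.coprime_iff_not_dvd.mp (Transfer.pPrimeCore_coprime p).symm

omit [Finite G] hp in
theorem pPrimePCore_normal : (pPrimePCore p G).Normal := by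
  haveI := Transfer.pPrimeCore_normal p G
  haveI := Fitting.pCore_normal (G := G ⧸ pPrimeCore p G) p
  exact Subgroup.Normal.comap inferInstance _

omit [Finite G] hp in
theorem pPrimeCore_le_pPrimePCore : pPrimeCore p G ≤ pPrimePCore p G := by
  haveI := Transfer.pPrimeCore_normal p G
  exact (QuotientGroup.ker_mk' (pPrimeCore p G)).ge.trans (Subgroup.ker_le_comap _ _)

omit [Finite G] hp in
theorem pow_mem_pPrimeCore {x : G} (hx : x ∈ pPrimePCore p G) :
    ∃ n : ℕ, x ^ p ^ n ∈ pPrimeCore p G := by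
  haveI := Transfer.pPrimeCore_normal p G
  obtain ⟨n, hn⟩ := Fitting.pCore_isPGroup p
    (⟨QuotientGroup.mk' (pPrimeCore p G) x, hx⟩ : pCore p (G ⧸ pPrimeCore p G))
  refine ⟨n, ?_⟩
  rw [← QuotientGroup.eq_one_iff, QuotientGroup.mk_pow]
  exact congrArg Subtype.val hn

/-- `p`-constraint follows from one Sylow subgroup of `O_{p',p}(G)`. -/
theorem isPConstrained_of_sylow {Q : Subgroup G} (hQL : Q ≤ pPrimePCore p G) (hQp : IsPGroup p Q)
    (hQS : ¬ p ∣ Q.relIndex (pPrimePCore p G))
    (hCQ : Subgroup.centralizer (Q : Set G) ≤ pPrimePCore p G) : IsPConstrained p G := by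
  intro P c hc
  haveI : Fact p.Prime := hp
  let Q₀ : Sylow p (pPrimePCore p G) :=
    (hQp.comap_of_injective _ (pPrimePCore p G).subtype_injective :
      IsPGroup p (Q.subgroupOf (pPrimePCore p G))).toSylow hQS
  obtain ⟨u, hu⟩ := MulAction.exists_smul_eq (pPrimePCore p G) Q₀ P
  rw [← hu, Coprime.map_subtype_conj_smul_sylow,
    show (Q₀ : Subgroup (pPrimePCore p G)) = Q.subgroupOf (pPrimePCore p G) from rfl,
    Subgroup.subgroupOf_map_subtype, inf_eq_left.mpr hQL] at hc
  have h : (u : G)⁻¹ * c * u ∈ Subgroup.centralizer (Q : Set G) :=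
    Subgroup.mem_centralizer_iff.mpr fun q hq => by
      have h1 := Subgroup.mem_centralizer_iff.mp hc (u * q * (u : G)⁻¹)
        (Subgroup.smul_mem_pointwise_smul q (MulAut.conj (u : G)) Q hq)
      calc q * ((u : G)⁻¹ * c * u) = (u : G)⁻¹ * ((u * q * (u : G)⁻¹) * c) * u := by group
        _ = (u : G)⁻¹ * c * u * q := by rw [h1]; group
  have h2 := mul_mem (mul_mem u.2 (hCQ h)) (inv_mem u.2)
  rwa [show (u : G) * ((u : G)⁻¹ * c * u) * (u : G)⁻¹ = c by group] at h2

end CfsgLib.Blocks
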