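import Cfsg.Agent.Lib.Blocks.Stable
import Mathlib.GroupTheory.Nilpotent

/-!
# Inclusion of Brauer pairs
-/

set_option autoImplicit false
set_option linter.unusedSectionVars false

namespace CfsgLib.Blocks

open Cfsg
open scoped ComplexConjugate CfsgLib.Char

variable {p : ℕ} {M : Ideal AlgInt} {G : Type*} [Group G] [Fintype G]

/-- Among pairwise orthogonal idempotents of a field with sum one exactly one equals one. -/
theorem existsUnique_eq_one {F ι : Type*} [Field F] (s : Finset ι) (a : ι → F)
    (hi : ∀ i ∈ s, a i * a i = a i) (ho : ∀ i ∈ s, ∀ j ∈ s, i ≠ j → a i * a j = 0)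
    (hs : ∑ i ∈ s, a i = 1) : ∃! i, i ∈ s ∧ a i = 1 := by
  obtain ⟨i, hi', hne⟩ := Finset.exists_ne_zero_of_sum_ne_zero
    (s := s) (f := a) (by rw [hs]; exact one_ne_zero)
  have h1 : a i = 1 := mul_left_cancel₀ hne (by rw [mul_one, hi i hi'])
  refine ⟨i, ⟨hi', h1⟩, fun j ⟨hj, hj1⟩ => ?_⟩
  by_contra hji
  have := ho j hj i hi' hji
  rw [hj1, h1, one_mul] at this
  exact one_ne_zero this

/-- A proper subgroup of a `p`-group lies in a proper subgroup normalized by the group. -/
theorem exists_proper_normalized [hp : Fact p.Prime] {P Q : Subgroup G} (hP : IsPGroup p P)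
    (hQP : Q < P) : ∃ R : Subgroup G, Q ≤ R ∧ R < P ∧ P ≤ Subgroup.normalizer (R : Set G) := by
  obtain ⟨R, hQR, hR⟩ := (Set.toFinite {R : Subgroup G | R < P}).exists_le_maximal
    (show Q ∈ {R : Subgroup G | R < P} from hQP)
  have hRP : R < P := hR.1
  refine ⟨R, hQR, hRP, ?_⟩
  by_contra hcon
  have : Group.IsNilpotent P := hP.isNilpotent
  have hlt : R.subgroupOf P < ⊤ := lt_top_iff_ne_top.mpr fun he =>
    hRP.not_ge (Subgroup.subgroupOf_eq_top.mp he)
  obtain ⟨r, hrn, hrR⟩ := SetLike.exists_of_lt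
    (Group.normalizerCondition_of_isNilpotent _ hlt)
  have hS : P ⊓ Subgroup.normalizer (R : Set G) < P :=
    lt_of_le_of_ne inf_le_left fun h => hcon (inf_eq_left.mp h)
  have hle := hR.2 hS (le_inf hRP.le Subgroup.le_normalizer)
  refine hrR (Subgroup.mem_subgroupOf.mpr (hle ⟨r.2, Subgroup.mem_normalizer_iff.mpr fun q => ?_⟩))
  constructor
  · intro hq
    have := (Subgroup.mem_normalizer_iff.mp hrn ⟨q, hRP.le hq⟩).mp (Subgroup.mem_subgroupOf.mpr hq)
    simpa [Subgroup.mem_subgroupOf] using this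
  · intro hq
    have hqP : q ∈ P := by
      have := P.mul_mem (P.mul_mem (P.inv_mem r.2) (hRP.le hq)) r.2
      simpa [mul_assoc] using this
    have := (Subgroup.mem_normalizer_iff.mp hrn ⟨q, hqP⟩).mpr
      (by simpa [Subgroup.mem_subgroupOf] using hq)
    simpa [Subgroup.mem_subgroupOf] using this

variable [M.IsPrime]

theorem IsStableFun.sum {P : Subgroup G} {ι : Type*} (s : Finset ι) {β : ι → G → ℂ}
    (h : ∀ i ∈ s, IsStableFun M P (β i)) : IsStableFun M P (fun g => ∑ i ∈ s, β i g) :=
  ⟨fun g => memLocalRing_sum _ _ fun i hi => (h i hi).loc g,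
    fun x hx g => Finset.sum_congr rfl fun i hi => (h i hi).conjP x hx g,
    fun x hx g => Finset.sum_congr rfl fun i hi => (h i hi).conjC x hx g⟩

theorem res_brauerOmega_sum {P : Subgroup G} {ι : Type*} (s : Finset ι) {β : ι → G → ℂ}
    (h : ∀ i ∈ s, IsStableFun M P (β i))
    (ξ : IrrCharacter (Subgroup.centralizer (P : Set G))) :
    res M (brauerOmega P (fun g => ∑ i ∈ s, β i g)
        (ξ : Subgroup.centralizer (P : Set G) → ℂ)) =
      ∑ i ∈ s, res M (brauerOmega P (β i) (ξ : Subgroup.centralizer (P : Set G) → ℂ)) := by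
  rw [brauerOmega_sum, res_sum]
  exact fun i hi => memLocalRing_brauerOmega (h i hi) ξ

theorem res_brauerOmega_idem (hM : IsPModular p M) {P : Subgroup G} (hP : IsPGroup p P)
    {β : G → ℂ} (h : IsStableFun M P β) (hid : conv β β = β)
    (ξ : IrrCharacter (Subgroup.centralizer (P : Set G))) :
    res M (brauerOmega P β (ξ : Subgroup.centralizer (P : Set G) → ℂ)) *
        res M (brauerOmega P β (ξ : Subgroup.centralizer (P : Set G) → ℂ)) =
      res M (brauerOmega P β (ξ : Subgroup.centralizer (P : Set G) → ℂ)) := by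
  rw [← res_brauerOmega_conv hM hP h h ξ, hid]

theorem stabilizes_self_of_mem {P : Subgroup G} {x : G} (hx : x ∈ P)
    (e : Set (IrrCharacter (Subgroup.centralizer (P : Set G)))) :
    StabilizesBlock (Subgroup.centralizer (P : Set G)) e x :=
  stabilizesBlock_iff.mpr ⟨mem_normalizer_centralizer (Subgroup.le_normalizer hx),
    conjSet_of_commute (fun _ hc => Subgroup.mem_centralizer_iff.mp hc x hx) e⟩

/-- A normal inclusion evaluated at one member of the upper block. -/
theorem IsNormalSubpair.res_eq_one {Q P : Subgroup G}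
    {f : Set (IrrCharacter (Subgroup.centralizer (Q : Set G)))}
    {e : Set (IrrCharacter (Subgroup.centralizer (P : Set G)))}
    (h : IsNormalSubpair p M Q f P e) {ξ : IrrCharacter (Subgroup.centralizer (P : Set G))}
    (hξ : ξ ∈ e) :
    res M (brauerOmega P (subgroupBlockCoeff (Subgroup.centralizer (Q : Set G)) f)
      (ξ : Subgroup.centralizer (P : Set G) → ℂ)) = 1 :=
  (memLocalIdeal_res_eq_one (memLocalRing_brauerOmega
    (isStableFun_subgroupBlockCoeff h.2.2.1 h.1.2 h.2.2.2.2.1) ξ)).mp (h.2.2.2.2.2 ξ hξ)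

theorem isNormalSubpair_of_res {Q P : Subgroup G}
    {f : Set (IrrCharacter (Subgroup.centralizer (Q : Set G)))}
    {e : Set (IrrCharacter (Subgroup.centralizer (P : Set G)))}
    (hPe : IsBrauerPair p M P e) (hQP : Q ≤ P) (hPN : P ≤ Subgroup.normalizer (Q : Set G))
    (hf : IsPBlock M f)
    (hst : ∀ x ∈ P, StabilizesBlock (Subgroup.centralizer (Q : Set G)) f x)
    {ξ : IrrCharacter (Subgroup.centralizer (P : Set G))} (hξ : ξ ∈ e)
    (h1 : res M (brauerOmega P (subgroupBlockCoeff (Subgroup.centralizer (Q : Set G)) f)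
      (ξ : Subgroup.centralizer (P : Set G) → ℂ)) = 1) :
    IsNormalSubpair p M Q f P e := by
  refine ⟨⟨hPe.1.to_le hQP, hf⟩, hPe, hQP, hPN, hst, fun η hη => ?_⟩
  have hs := isStableFun_subgroupBlockCoeff hQP hf hst
  rw [memLocalIdeal_res_eq_one (memLocalRing_brauerOmega hs η),
    ← res_brauerOmega_sameBlock hs (IsPBlock.sameBlock hPe.2 hξ hη), h1]

/-- Modulo the ideal only the stable blocks contribute to the identity element at `C_G(P)`. -/
theorem sum_stable_blocks_congr (hM : IsPModular p M) {P Q : Subgroup G} (hP : IsPGroup p P)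
    (hQP : Q ≤ P) (hPN : P ≤ Subgroup.normalizer (Q : Set G))
    [Fintype (Subgroup.centralizer (Q : Set G))]
    [DecidablePred fun f : Set (IrrCharacter (Subgroup.centralizer (Q : Set G))) =>
      ∀ x ∈ P, StabilizesBlock (Subgroup.centralizer (Q : Set G)) f x]
    {c : G} (hc : c ∈ Subgroup.centralizer (P : Set G)) :
    MemLocalIdeal M (deltaOne c -
      ∑ f ∈ (blocks M (Subgroup.centralizer (Q : Set G))).filter
          (fun f => ∀ x ∈ P, StabilizesBlock (Subgroup.centralizer (Q : Set G)) f x),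
        subgroupBlockCoeff (Subgroup.centralizer (Q : Set G)) f c) := by
  classical
  have hcK : c ∈ (Subgroup.centralizer (Q : Set G)) := Subgroup.centralizer_le (SetLike.coe_subset_coe.mpr hQP) hc
  have hN : ∀ (q : P) (g : G), (q : G) * g * (q : G)⁻¹ ∈ (Subgroup.centralizer (Q : Set G)) ↔ g ∈ (Subgroup.centralizer (Q : Set G)) := fun q =>
    conj_mem_iff_of_mem_normalizer (mem_normalizer_centralizer (hPN q.2))
  let act : MulAction P {f : Set (IrrCharacter (Subgroup.centralizer (Q : Set G))) // f ∈ blocks M (Subgroup.centralizer (Q : Set G))} :=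
    { smul := fun q f => ⟨conjSet (q : G) (Subgroup.centralizer (Q : Set G)) (Subgroup.centralizer (Q : Set G)) f.1,
        mem_blocks.mpr (isPBlock_conjSet (hN q) (mem_blocks.mp f.2))⟩
      one_smul := fun f => Subtype.ext (conjSet_of_mem (by exact (Subgroup.centralizer (Q : Set G)).one_mem) f.1)
      mul_smul := fun a b f => Subtype.ext (conjSet_conjSet (hN b) (hN a) f.1).symm }
  have hsmul : ∀ (q : P) (f : {f : Set (IrrCharacter (Subgroup.centralizer (Q : Set G))) // f ∈ blocks M (Subgroup.centralizer (Q : Set G))}),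
      (q • f).1 = conjSet (q : G) (Subgroup.centralizer (Q : Set G)) (Subgroup.centralizer (Q : Set G)) f.1 := fun q f => rfl
  have hstab : ∀ f : {f : Set (IrrCharacter (Subgroup.centralizer (Q : Set G))) // f ∈ blocks M (Subgroup.centralizer (Q : Set G))},
      f ∈ MulAction.fixedPoints P {f : Set (IrrCharacter (Subgroup.centralizer (Q : Set G))) // f ∈ blocks M (Subgroup.centralizer (Q : Set G))} ↔
        ∀ x ∈ P, StabilizesBlock (Subgroup.centralizer (Q : Set G)) f.1 x := fun f => by
    constructor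
    · exact fun h x hx => stabilizesBlock_iff.mpr
        ⟨mem_normalizer_centralizer (hPN hx), congrArg Subtype.val (h ⟨x, hx⟩)⟩
    · exact fun h q => Subtype.ext (stabilizesBlock_iff.mp (h q q.2)).2
  have hloc : ∀ f : {f : Set (IrrCharacter (Subgroup.centralizer (Q : Set G))) // f ∈ blocks M (Subgroup.centralizer (Q : Set G))},
      MemLocalRing M (subgroupBlockCoeff (Subgroup.centralizer (Q : Set G)) f.1 c) := fun f => by
    rw [subgroupBlockCoeff_eq, show c = ((⟨c, hcK⟩ : (Subgroup.centralizer (Q : Set G))) : G) from rfl, extendByZero_apply]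
    exact IsPBlock.memLocalRing_blockCoeff (mem_blocks.mp f.2) _
  have hinv : ∀ (q : P) (f : {f : Set (IrrCharacter (Subgroup.centralizer (Q : Set G))) // f ∈ blocks M (Subgroup.centralizer (Q : Set G))}),
      subgroupBlockCoeff (Subgroup.centralizer (Q : Set G)) (q • f).1 c = subgroupBlockCoeff (Subgroup.centralizer (Q : Set G)) f.1 c := fun q f => by
    rw [hsmul]
    have e : (q : G) * c * (q : G)⁻¹ = c := by
      rw [show (q : G) * c = c * q from Subgroup.mem_centralizer_iff.mp hc q q.2,
        mul_inv_cancel_right]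
    conv_lhs => rw [← e]
    exact subgroupBlockCoeff_conjSet (hN q) f.1 c
  have hkey := memLocalIdeal_sum_sub_fixed hM hP hloc hinv
  rw [Finset.sum_coe_sort (blocks M (Subgroup.centralizer (Q : Set G))) (fun f => subgroupBlockCoeff (Subgroup.centralizer (Q : Set G)) f c)] at hkey
  have hall : ∑ f ∈ blocks M (Subgroup.centralizer (Q : Set G)), subgroupBlockCoeff (Subgroup.centralizer (Q : Set G)) f c = deltaOne c := by
    rw [Finset.sum_congr rfl (g := fun f => blockCoeff f ⟨c, hcK⟩) fun f _ => by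
      rw [subgroupBlockCoeff_eq]; exact extendByZero_apply _ (blockCoeff f) ⟨c, hcK⟩,
      sum_blockCoeff_blocks]
    simp [deltaOne_apply]
  rw [hall] at hkey
  convert hkey using 2
  refine Finset.sum_bij' (fun f hf => ⟨f, (Finset.mem_filter.mp hf).1⟩) (fun f _ => f.1) ?_ ?_
    (fun _ _ => rfl) (fun _ _ => rfl) (fun _ _ => rfl)
  · exact fun f hf => Finset.mem_filter.mpr
      ⟨Finset.mem_univ _, (hstab _).mpr (Finset.mem_filter.mp hf).2⟩
  · exact fun f hf => Finset.mem_filter.mpr ⟨f.2, (hstab f).mp (Finset.mem_filter.mp hf).2⟩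

/-- Below a Brauer pair there is exactly one normally included pair on a normalized subgroup. -/
theorem existsUnique_normalSubpair (hM : IsPModular p M) {P Q : Subgroup G}
    {e : Set (IrrCharacter (Subgroup.centralizer (P : Set G)))} (hPe : IsBrauerPair p M P e)
    (hQP : Q ≤ P) (hPN : P ≤ Subgroup.normalizer (Q : Set G)) :
    ∃! f : Set (IrrCharacter (Subgroup.centralizer (Q : Set G))),
      IsNormalSubpair p M Q f P e := by
  classical
  obtain ⟨ξ, hξ⟩ := IsPBlock.nonempty hPe.2
  set s := (blocks M (Subgroup.centralizer (Q : Set G))).filter (fun f => ∀ x ∈ P, StabilizesBlock (Subgroup.centralizer (Q : Set G)) f x)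
  have hmem : ∀ f, f ∈ s ↔ IsPBlock M f ∧ ∀ x ∈ P, StabilizesBlock (Subgroup.centralizer (Q : Set G)) f x := fun f => by
    simp [s, mem_blocks]
  have hst : ∀ f ∈ s, IsStableFun M P (subgroupBlockCoeff (Subgroup.centralizer (Q : Set G)) f) := fun f hf =>
    isStableFun_subgroupBlockCoeff hQP ((hmem f).mp hf).1 ((hmem f).mp hf).2
  obtain ⟨f, ⟨hf, hf1⟩, huniq⟩ := existsUnique_eq_one s
    (fun f => res M (brauerOmega P (subgroupBlockCoeff (Subgroup.centralizer (Q : Set G)) f)
      (ξ : Subgroup.centralizer (P : Set G) → ℂ)))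
    (fun f hf => res_brauerOmega_idem hM hPe.1 (hst f hf) (conv_subgroupBlockCoeff_self (Subgroup.centralizer (Q : Set G)) f) ξ)
    (fun f hf f' hf' hne => by
      rw [← res_brauerOmega_conv hM hPe.1 (hst f hf) (hst f' hf') ξ,
        conv_subgroupBlockCoeff_ne ((hmem f).mp hf).1 ((hmem f').mp hf').1 hne,
        res_brauerOmega_zero])
    (by
      rw [← res_brauerOmega_sum s hst ξ, res_brauerOmega_congr (IsStableFun.sum s hst)
        (isStableFun_deltaOne P) ξ
        fun c hc => memLocalIdeal_sub_comm (sum_stable_blocks_congr hM hPe.1 hQP hPN hc),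
        res_brauerOmega_deltaOne])
  refine ⟨f, isNormalSubpair_of_res hPe hQP hPN ((hmem f).mp hf).1 ((hmem f).mp hf).2 hξ hf1,
    fun f' h' => huniq f' ⟨(hmem f').mpr ⟨h'.1.2, h'.2.2.2.2.1⟩, IsNormalSubpair.res_eq_one h' hξ⟩⟩

theorem isNormalSubpair_refl {P : Subgroup G}
    {e : Set (IrrCharacter (Subgroup.centralizer (P : Set G)))} (hPe : IsBrauerPair p M P e) :
    IsNormalSubpair p M P e P e := by
  classical
  obtain ⟨ξ, hξ⟩ := IsPBlock.nonempty hPe.2
  refine isNormalSubpair_of_res hPe le_rfl Subgroup.le_normalizer hPe.2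
    (fun x hx => stabilizes_self_of_mem hx e) hξ ?_
  rw [brauerOmega_eq, subgroupBlockCoeff_eq]
  simp only [extendByZero_apply]
  rw [show (fun c => blockCoeff e c) = blockCoeff e from rfl, omega_blockCoeff, indVec_of_mem hξ,
    res_one]

/-- A product with the truncated idempotent of a block of `C_G(R)` is computed inside `C_G(R)`. -/
theorem conv_subgroupBlockCoeff_eq (K : Subgroup G) [Fintype K] (β : G → ℂ)
    (g : Set (IrrCharacter K)) (c : K) :
    conv β (subgroupBlockCoeff K g) (c : G) = conv (fun y : K => β (y : G)) (blockCoeff g) c := by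
  refine (Fintype.sum_of_injective Subtype.val Subtype.val_injective _ _ ?_ fun y => ?_).symm
  · intro z hz
    rw [subgroupBlockCoeff_eq, extendByZero_eq_zero, mul_zero]
    intro hzc
    refine hz ⟨⟨z, ?_⟩, rfl⟩
    have := K.mul_mem c.2 (K.inv_mem hzc)
    simpa [mul_assoc] using this
  · rw [subgroupBlockCoeff_eq, ← Subgroup.coe_inv, ← Subgroup.coe_mul, extendByZero_apply]

/-- Modulo the ideal a stable idempotent times a block of `C_G(R)` is that block or zero, as its
central character at the block is one or zero. -/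
theorem conv_subgroupBlockCoeff_congr (hM : IsPModular p M) {R : Subgroup G} (hRp : IsPGroup p R)
    {g : Set (IrrCharacter (Subgroup.centralizer (R : Set G)))} (hg : IsPBlock M g) {β : G → ℂ}
    (hR : IsStableFun M R β) (hid : conv β β = β)
    {η : IrrCharacter (Subgroup.centralizer (R : Set G))} (hη : η ∈ g) :
    (res M (brauerOmega R β (η : Subgroup.centralizer (R : Set G) → ℂ)) = 1 ∧
        ∀ c ∈ Subgroup.centralizer (R : Set G), MemLocalIdeal M
          (conv β (subgroupBlockCoeff (Subgroup.centralizer (R : Set G)) g) c -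
            subgroupBlockCoeff (Subgroup.centralizer (R : Set G)) g c)) ∨
      (res M (brauerOmega R β (η : Subgroup.centralizer (R : Set G) → ℂ)) = 0 ∧
        ∀ c ∈ Subgroup.centralizer (R : Set G), MemLocalIdeal M
          (conv β (subgroupBlockCoeff (Subgroup.centralizer (R : Set G)) g) c)) := by
  classical
  set β' : Subgroup.centralizer (R : Set G) → ℂ := fun c => β (c : G)
  have hβ' : IsClassFunction (Subgroup.centralizer (R : Set G)) β' := hR.classFun
  have hl' : ∀ c, MemLocalRing M (β' c) := fun c => hR.loc _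
  set b : ZK M (Subgroup.centralizer (R : Set G)) :=
    Ideal.Quotient.mk _ (toZO β' hβ' hl')
  have hb : IsIdempotentElem b := by
    rw [IsIdempotentElem, ← map_mul, mk_eq_mk_iff]
    intro c
    rw [MulMemClass.coe_mul, ofOmega_mul, ofOmega_toZO hβ' hl']
    have := restrict_conv_congr hM hRp hR.loc hR.loc hR.conjP hR.conjP c
    rw [hid] at this
    exact memLocalIdeal_sub_comm this
  set x := b * blockIdem hg with hx
  have hxi : IsIdempotentElem x := hb.mul (isIdempotentElem_blockIdem _)
  have hη' : ∀ η' ∈ g, resQuot η' b =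
      res M (brauerOmega R β (η : Subgroup.centralizer (R : Set G) → ℂ)) := fun η' hη' => by
    rw [res_brauerOmega_sameBlock hR (IsPBlock.sameBlock hg hη hη'), brauerOmega_eq, resQuot_mk]
    rfl
  set a := res M (brauerOmega R β (η : Subgroup.centralizer (R : Set G) → ℂ)) with ha
  rcases eq_or_ne a 0 with h0 | hne
  · refine Or.inr ⟨h0, fun c hc => ?_⟩
    have hx0 : x = 0 := eq_zero_of_idempotent hxi fun η' => by
      rw [hx, map_mul, resQuot_blockIdem]
      split_ifs with hm
      · rw [hη' η' hm, h0, zero_mul]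
      · rw [mul_zero]
    rw [hx, blockIdem, ← map_mul, Ideal.Quotient.eq_zero_iff_mem, mem_nullIdeal] at hx0
    have := hx0 ⟨c, hc⟩
    rw [MulMemClass.coe_mul, ofOmega_mul, ofOmega_toZO hβ' hl', ofOmega_indVec] at this
    exact (conv_subgroupBlockCoeff_eq _ β g ⟨c, hc⟩).symm ▸ this
  · have h1 : a = 1 := mul_left_cancel₀ hne
      (by rw [mul_one]; exact res_brauerOmega_idem hM hRp hR hid η)
    refine Or.inl ⟨h1, fun c hc => ?_⟩
    have hx1 : x = blockIdem hg :=
      idempotent_ext hxi (isIdempotentElem_blockIdem _) fun η' => by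
        rw [hx, map_mul, resQuot_blockIdem]
        split_ifs with hm
        · rw [hη' η' hm, h1, one_mul]
        · rw [mul_zero]
    rw [hx, blockIdem, ← map_mul, mk_eq_mk_iff] at hx1
    have := hx1 ⟨c, hc⟩
    rw [MulMemClass.coe_mul, ofOmega_mul, ofOmega_toZO hβ' hl', ofOmega_indVec] at this
    rw [show c = ((⟨c, hc⟩ : Subgroup.centralizer (R : Set G)) : G) from rfl,
      conv_subgroupBlockCoeff_eq, subgroupBlockCoeff_eq, extendByZero_apply]
    exact this

/-- The central character at the smaller pair decides the one at the larger pair. -/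
theorem res_brauerOmega_trans (hM : IsPModular p M) {R P : Subgroup G}
    {g : Set (IrrCharacter (Subgroup.centralizer (R : Set G)))}
    {e : Set (IrrCharacter (Subgroup.centralizer (P : Set G)))}
    (h : IsNormalSubpair p M R g P e) {β : G → ℂ} (hR : IsStableFun M R β)
    (hP : IsStableFun M P β) (hid : conv β β = β)
    {η : IrrCharacter (Subgroup.centralizer (R : Set G))} (hη : η ∈ g)
    {ξ : IrrCharacter (Subgroup.centralizer (P : Set G))} (hξ : ξ ∈ e) :
    res M (brauerOmega P β (ξ : Subgroup.centralizer (P : Set G) → ℂ)) =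
      res M (brauerOmega R β (η : Subgroup.centralizer (R : Set G) → ℂ)) := by
  classical
  obtain ⟨hRg, hPe, hRP, hPN, hst, -⟩ := id h
  have hgst := isStableFun_subgroupBlockCoeff hRP hRg.2 hst
  have hg1 := IsNormalSubpair.res_eq_one h hξ
  have hprod := res_brauerOmega_conv hM hPe.1 hP hgst ξ
  rw [hg1, mul_one] at hprod
  have hRc : ∀ c ∈ Subgroup.centralizer (P : Set G), c ∈ Subgroup.centralizer (R : Set G) :=
    fun c hc => Subgroup.centralizer_le (SetLike.coe_subset_coe.mpr hRP) hc
  rw [← hprod]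
  rcases conv_subgroupBlockCoeff_congr hM hRg.1 hRg.2 hR hid hη with ⟨h1, hc1⟩ | ⟨h0, hc0⟩
  · rw [h1, res_brauerOmega_congr (hP.conv hgst) hgst ξ fun c hc => hc1 c (hRc c hc), hg1]
  · rw [h0, res_brauerOmega_congr (hP.conv hgst)
      (isStableFun_of_classFun (β := fun _ : G => (0 : ℂ)) (fun _ _ => rfl)
        fun _ => memLocalRing_zero) ξ (fun c hc => by simpa using hc0 c (hRc c hc)),
      res_brauerOmega_zero]

/-- Two normal inclusions below the same pair are nested. -/
theorem IsNormalSubpair.inner (hM : IsPModular p M) {Q R P : Subgroup G}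
    {f : Set (IrrCharacter (Subgroup.centralizer (Q : Set G)))}
    {g : Set (IrrCharacter (Subgroup.centralizer (R : Set G)))}
    {e : Set (IrrCharacter (Subgroup.centralizer (P : Set G)))}
    (hf : IsNormalSubpair p M Q f P e) (hg : IsNormalSubpair p M R g P e) (hQR : Q ≤ R) :
    IsNormalSubpair p M Q f R g := by
  obtain ⟨ξ, hξ⟩ := IsPBlock.nonempty hg.2.1.2
  obtain ⟨η, hη⟩ := IsPBlock.nonempty hg.1.2
  have hRP := hg.2.2.1
  have hst : ∀ x ∈ R, StabilizesBlock (Subgroup.centralizer (Q : Set G)) f x :=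
    fun x hx => hf.2.2.2.2.1 x (hRP hx)
  refine isNormalSubpair_of_res hg.1 hQR (hRP.trans hf.2.2.2.1) hf.1.2 hst hη ?_
  rw [← res_brauerOmega_trans hM hg (isStableFun_subgroupBlockCoeff hQR hf.1.2 hst)
    (isStableFun_subgroupBlockCoeff hf.2.2.1 hf.1.2 hf.2.2.2.2.1)
    (conv_subgroupBlockCoeff_self _ _) hη hξ]
  exact IsNormalSubpair.res_eq_one hf hξ

theorem SubpairLE.le {Q P : Subgroup G}
    {f : Set (IrrCharacter (Subgroup.centralizer (Q : Set G)))}
    {e : Set (IrrCharacter (Subgroup.centralizer (P : Set G)))}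
    (h : SubpairLE p M Q f P e) : Q ≤ P := by
  have key : ∀ a b : BrauerPairIdx G, Relation.ReflTransGen (NormalSubpairRel p M) a b →
      a.1 ≤ b.1 := fun a b hab => by
    induction hab with
    | refl => exact le_rfl
    | tail _ hbc ih => exact ih.trans hbc.2.2.1
  exact key _ _ h

theorem SubpairLE.isBrauerPair {Q P : Subgroup G}
    {f : Set (IrrCharacter (Subgroup.centralizer (Q : Set G)))}
    {e : Set (IrrCharacter (Subgroup.centralizer (P : Set G)))}
    (h : SubpairLE p M Q f P e) (hPe : IsBrauerPair p M P e) : IsBrauerPair p M Q f := by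
  rcases Relation.ReflTransGen.cases_head h with heq | ⟨b, hb, -⟩
  · cases heq
    exact hPe
  · exact hb.1

/-- The last nontrivial step of a chain of normal inclusions. -/
theorem SubpairLE.cases_last (hM : IsPModular p M) {Q P : Subgroup G}
    {f : Set (IrrCharacter (Subgroup.centralizer (Q : Set G)))}
    {e : Set (IrrCharacter (Subgroup.centralizer (P : Set G)))}
    (h : SubpairLE p M Q f P e) :
    (⟨Q, f⟩ : BrauerPairIdx G) = ⟨P, e⟩ ∨
      ∃ (R : Subgroup G) (g : Set (IrrCharacter (Subgroup.centralizer (R : Set G)))),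
        R < P ∧ SubpairLE p M Q f R g ∧ IsNormalSubpair p M R g P e := by
  have key : ∀ a b : BrauerPairIdx G, Relation.ReflTransGen (NormalSubpairRel p M) a b →
      a = b ∨ ∃ c : BrauerPairIdx G, c.1 < b.1 ∧
        Relation.ReflTransGen (NormalSubpairRel p M) a c ∧ NormalSubpairRel p M c b := fun a b hab => by
    induction hab with
    | refl => exact Or.inl rfl
    | @tail b c hab hbc ih =>
      rcases eq_or_lt_of_le hbc.2.2.1 with heq | hlt
      · obtain ⟨R, g⟩ := b
        obtain ⟨R', g'⟩ := c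
        obtain rfl : R = R' := heq
        obtain rfl : g = g' :=
          (existsUnique_normalSubpair hM hbc.2.1 le_rfl hbc.2.2.2.1).unique hbc
            (isNormalSubpair_refl hbc.2.1)
        exact ih
      · exact Or.inr ⟨b, hlt, hab, hbc⟩
  rcases key _ _ h with h' | ⟨c, hlt, hac, hcb⟩
  · exact Or.inl h'
  · exact Or.inr ⟨c.1, c.2, hlt, hac, hcb⟩

/-- Below a Brauer pair there is exactly one pair on each subgroup. -/
theorem existsUnique_subpair (hM : IsPModular p M) {P : Subgroup G}
    {e : Set (IrrCharacter (Subgroup.centralizer (P : Set G)))} (hPe : IsBrauerPair p M P e)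
    {Q : Subgroup G} (hQP : Q ≤ P) :
    ∃! f : Set (IrrCharacter (Subgroup.centralizer (Q : Set G))), SubpairLE p M Q f P e := by
  have : Fact p.Prime := ⟨hM.1⟩
  induction hn : Nat.card P using Nat.strong_induction_on generalizing P Q with
  | _ n ih =>
    subst hn
    rcases eq_or_lt_of_le hQP with rfl | hlt
    · refine ⟨e, Relation.ReflTransGen.refl, fun f hf => ?_⟩
      rcases SubpairLE.cases_last hM hf with h | ⟨R, g, hR, hle, -⟩
      · simpa using h
      · exact absurd (SubpairLE.le hle) hR.not_ge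
    have hcard : ∀ R : Subgroup G, R < P → Nat.card R < Nat.card P := fun R hR =>
      lt_of_not_ge fun h => hR.ne (Subgroup.eq_of_le_of_card_ge hR.le h)
    obtain ⟨R₀, hQR₀, hR₀, hN₀⟩ := exists_proper_normalized hPe.1 hlt
    obtain ⟨g₀, hg₀, -⟩ := existsUnique_normalSubpair hM hPe hR₀.le hN₀
    obtain ⟨f₀, hf₀, -⟩ := ih _ (hcard R₀ hR₀) hg₀.1 hQR₀ rfl
    refine ⟨f₀, Relation.ReflTransGen.tail hf₀ hg₀, fun f hf => ?_⟩
    rcases SubpairLE.cases_last hM hf with h | ⟨R, g, hR, hle, hns⟩
    · exact absurd (congrArg Sigma.fst h) hlt.ne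
    have hQR := SubpairLE.le hle
    obtain ⟨d, hd, -⟩ := existsUnique_normalSubpair hM hPe (Q := R ⊓ R₀)
      (inf_le_left.trans hR.le) fun x hx => by
        refine Subgroup.mem_normalizer_iff.mpr fun y => ?_
        simp only [Subgroup.mem_inf]
        exact and_congr (Subgroup.mem_normalizer_iff.mp (hns.2.2.2.1 hx) y)
          (Subgroup.mem_normalizer_iff.mp (hN₀ hx) y)
    have hd1 := IsNormalSubpair.inner hM hd hns inf_le_left
    have hd0 := IsNormalSubpair.inner hM hd hg₀ inf_le_right
    obtain ⟨f', hf', -⟩ := ih _ (hcard _ (lt_of_le_of_lt inf_le_left hR)) hd.1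
      (le_inf hQR hQR₀) rfl
    have e1 : f = f' := (ih _ (hcard R hR) hns.1 hQR rfl).unique hle
      (Relation.ReflTransGen.tail hf' hd1)
    have e0 : f₀ = f' := (ih _ (hcard R₀ hR₀) hg₀.1 hQR₀ rfl).unique hf₀
      (Relation.ReflTransGen.tail hf' hd0)
    rw [e1, e0]

/-- Every Brauer pair is a pair of exactly one block. -/
theorem existsUnique_isBrauerPairOf (hM : IsPModular p M) {P : Subgroup G}
    {e : Set (IrrCharacter (Subgroup.centralizer (P : Set G)))} (hPe : IsBrauerPair p M P e) :
    ∃! B : Set (IrrCharacter G), IsBrauerPairOf p M B P e := by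
  classical
  obtain ⟨ξ, hξ⟩ := IsPBlock.nonempty hPe.2
  have hst : ∀ B ∈ blocks M G, IsStableFun M P (blockCoeff B) :=
    fun B hB => isStableFun_blockCoeff (mem_blocks.mp hB) P
  obtain ⟨B, ⟨hB, hB1⟩, huniq⟩ := existsUnique_eq_one (blocks M G)
    (fun B => res M (brauerOmega P (blockCoeff B) (ξ : Subgroup.centralizer (P : Set G) → ℂ)))
    (fun B hB => res_brauerOmega_idem hM hPe.1 (hst B hB) (conv_blockCoeff_self B) ξ)
    (fun B hB B' hB' hne => by
      rw [← res_brauerOmega_conv hM hPe.1 (hst B hB) (hst B' hB') ξ, conv_blockCoeff_inter,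
        Set.eq_empty_of_forall_notMem fun χ (hχ : χ ∈ B ∩ B') =>
          hne (IsPBlock.eq_of_mem_of_mem (mem_blocks.mp hB) (mem_blocks.mp hB') hχ.1 hχ.2),
        show (blockCoeff (∅ : Set (IrrCharacter G))) = fun _ => (0 : ℂ) from
          funext fun g => by simp [blockCoeff], res_brauerOmega_zero])
    (by
      rw [← res_brauerOmega_sum _ hst ξ,
        show (fun g => ∑ B ∈ blocks M G, blockCoeff B g) = deltaOne from
          funext sum_blockCoeff_blocks, res_brauerOmega_deltaOne])
  refine ⟨B, ⟨hPe, mem_blocks.mp hB, fun η hη => ?_⟩, fun B' h' => huniq B'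
    ⟨mem_blocks.mpr h'.2.1, ?_⟩⟩
  · rw [memLocalIdeal_res_eq_one (memLocalRing_brauerOmega (hst B hB) η),
      ← res_brauerOmega_sameBlock (hst B hB) (IsPBlock.sameBlock hPe.2 hξ hη), hB1]
  · exact (memLocalIdeal_res_eq_one (memLocalRing_brauerOmega
      (hst B' (mem_blocks.mpr h'.2.1)) ξ)).mp (h'.2.2 ξ hξ)

theorem IsBrauerPairOf.res_eq_one {B : Set (IrrCharacter G)} {P : Subgroup G}
    {e : Set (IrrCharacter (Subgroup.centralizer (P : Set G)))} (h : IsBrauerPairOf p M B P e)
    {ξ : IrrCharacter (Subgroup.centralizer (P : Set G))} (hξ : ξ ∈ e) :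
    res M (brauerOmega P (blockCoeff B) (ξ : Subgroup.centralizer (P : Set G) → ℂ)) = 1 :=
  (memLocalIdeal_res_eq_one (memLocalRing_brauerOmega
    (isStableFun_blockCoeff h.2.1 P) ξ)).mp (h.2.2 ξ hξ)

theorem isBrauerPairOf_of_res {B : Set (IrrCharacter G)} (hB : IsPBlock M B) {P : Subgroup G}
    {e : Set (IrrCharacter (Subgroup.centralizer (P : Set G)))} (hPe : IsBrauerPair p M P e)
    {ξ : IrrCharacter (Subgroup.centralizer (P : Set G))} (hξ : ξ ∈ e)
    (h1 : res M (brauerOmega P (blockCoeff B) (ξ : Subgroup.centralizer (P : Set G) → ℂ)) = 1) :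
    IsBrauerPairOf p M B P e := by
  refine ⟨hPe, hB, fun η hη => ?_⟩
  have hs : IsStableFun M P (blockCoeff B) := isStableFun_blockCoeff hB P
  rw [memLocalIdeal_res_eq_one (memLocalRing_brauerOmega hs η),
    ← res_brauerOmega_sameBlock hs (IsPBlock.sameBlock hPe.2 hξ hη), h1]

/-- Nested pairs belong to the same block. -/
theorem SubpairLE.isBrauerPairOf_iff (hM : IsPModular p M) {P Q : Subgroup G}
    {e : Set (IrrCharacter (Subgroup.centralizer (P : Set G)))}
    {f : Set (IrrCharacter (Subgroup.centralizer (Q : Set G)))}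
    (hle : SubpairLE p M Q f P e) {B : Set (IrrCharacter G)} (hB : IsPBlock M B) :
    IsBrauerPairOf p M B P e ↔ IsBrauerPairOf p M B Q f := by
  have key : ∀ a b : BrauerPairIdx G, Relation.ReflTransGen (NormalSubpairRel p M) a b →
      (IsBrauerPairOf p M B b.1 b.2 ↔ IsBrauerPairOf p M B a.1 a.2) := fun a b hab => by
    induction hab with
    | refl => exact Iff.rfl
    | @tail b c _ hbc ih =>
      rw [← ih]
      have h : IsNormalSubpair p M b.1 b.2 c.1 c.2 := hbc
      obtain ⟨η, hη⟩ := IsPBlock.nonempty h.1.2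
      obtain ⟨ξ, hξ⟩ := IsPBlock.nonempty h.2.1.2
      have ht := res_brauerOmega_trans hM h (isStableFun_blockCoeff hB b.1)
        (isStableFun_blockCoeff hB c.1) (conv_blockCoeff_self B) hη hξ
      exact ⟨fun hh => isBrauerPairOf_of_res hB h.1 hη (ht ▸ IsBrauerPairOf.res_eq_one hh hξ),
        fun hh => isBrauerPairOf_of_res hB h.2.1 hξ (ht.trans (IsBrauerPairOf.res_eq_one hh hη))⟩
  exact key _ _ hle

end CfsgLib.Blocks
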