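import Cfsg.Agent.Lib.Blocks.IdempotentLift
import Cfsg.Agent.Lib.Blocks.Pairs

/-!
# An element of `k[G]` fixed by `Q` concentrated below one Brauer pair

For a `p`-subgroup `Q` and a block `f` of `C_G(Q)` there is an element `a` fixed by `Q` whose
truncation at `C_G(Q)` is the idempotent of `f` and whose truncation at `C_G(U)` kills every
block of `C_G(U)`, `U ≤ Q`, which is not below `(Q, f)`.
-/

set_option autoImplicit false
set_option linter.unusedSectionVars false

namespace CfsgLib.Blocks

open Cfsg MulAction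
open CfsgLib.GrpRing
open scoped CfsgLib.Char

variable {p : ℕ} {M : Ideal AlgInt} [M.IsPrime] {G : Type*} [Group G] [Fintype G]

theorem memLocalRing_subgroupBlockCoeff {H : Subgroup G} {b : Set (IrrCharacter H)}
    (hb : IsPBlock M b) (g : G) : MemLocalRing M (subgroupBlockCoeff H b g) := by
  classical
  rw [subgroupBlockCoeff_eq]
  by_cases hg : g ∈ H
  · exact (extendByZero_apply H (blockCoeff b) ⟨g, hg⟩).symm ▸ IsPBlock.memLocalRing_blockCoeff hb _
  · exact (extendByZero_eq_zero H (blockCoeff b) hg).symm ▸ memLocalRing_zero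

variable (M) in
/-- The block idempotent of a block of a subgroup in `k[G]`. -/
noncomputable def blkK (H : Subgroup G) (b : Set (IrrCharacter H)) : KG M G :=
  ofFun fun g => res M (subgroupBlockCoeff H b g)

/-- The block idempotent of a block of a subgroup in `O[G]`. -/
noncomputable def blkO {H : Subgroup G} {b : Set (IrrCharacter H)} (hb : IsPBlock M b) : OG M G :=
  ofFun fun g => ⟨subgroupBlockCoeff H b g, memLocalRing_subgroupBlockCoeff hb g⟩

theorem coe_coeff_blkO {H : Subgroup G} {b : Set (IrrCharacter H)} (hb : IsPBlock M b) (g : G) :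
    (((blkO hb).coeff g : locRing M) : ℂ) = subgroupBlockCoeff H b g := by
  rw [blkO, coeff_ofFun]

theorem red_blkO {H : Subgroup G} {b : Set (IrrCharacter H)} (hb : IsPBlock M b) :
    red (blkO hb) = blkK M H b := by
  refine MonoidAlgebra.ext (Finsupp.ext fun g => ?_)
  rw [coeff_red, blkK, coeff_ofFun, res_mk (memLocalRing_subgroupBlockCoeff hb g), blkO, coeff_ofFun]

theorem coe_coeff_blkO_mul {H : Subgroup G} {b b' : Set (IrrCharacter H)} (hb : IsPBlock M b)
    (hb' : IsPBlock M b') (g : G) : (((blkO hb * blkO hb').coeff g : locRing M) : ℂ) =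
      conv (subgroupBlockCoeff H b) (subgroupBlockCoeff H b') g := by
  rw [coeff_mul_fintype, AddSubmonoidClass.coe_finsetSum, conv]
  exact Finset.sum_congr rfl fun y _ => by rw [MulMemClass.coe_mul, coe_coeff_blkO, coe_coeff_blkO]

theorem isIdempotentElem_blkO {H : Subgroup G} {b : Set (IrrCharacter H)} (hb : IsPBlock M b) :
    IsIdempotentElem (blkO hb) :=
  MonoidAlgebra.ext (Finsupp.ext fun g => Subtype.ext (by
    rw [coe_coeff_blkO_mul, conv_subgroupBlockCoeff_self, coe_coeff_blkO]))

theorem isIdempotentElem_blkK {H : Subgroup G} {b : Set (IrrCharacter H)} (hb : IsPBlock M b) :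
    IsIdempotentElem (blkK M H b) := by
  rw [← red_blkO hb, IsIdempotentElem, ← map_mul, (isIdempotentElem_blkO hb).eq]

theorem blkK_mul_ne {H : Subgroup G} {b b' : Set (IrrCharacter H)} (hb : IsPBlock M b)
    (hb' : IsPBlock M b') (hne : b ≠ b') : blkK M H b * blkK M H b' = 0 := by
  rw [← red_blkO hb, ← red_blkO hb', ← map_mul, ← map_zero (red (M := M) (G := G))]
  congr 1
  refine MonoidAlgebra.ext (Finsupp.ext fun g => Subtype.ext ?_)
  rw [coe_coeff_blkO_mul, conv_subgroupBlockCoeff_ne hb hb' hne]
  simp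

theorem coeff_blkK_of_notMem {H : Subgroup G} (b : Set (IrrCharacter H)) {g : G} (hg : g ∉ H) :
    (blkK M H b).coeff g = 0 := by
  rw [blkK, coeff_ofFun, subgroupBlockCoeff_eq, extendByZero_eq_zero _ _ hg, res_zero]

theorem sum_blkK (H : Subgroup G) [Fintype H] : ∑ b ∈ blocks M H, blkK M H b = 1 := by
  classical
  refine MonoidAlgebra.ext (Finsupp.ext fun g => ?_)
  rw [MonoidAlgebra.coeff_sum, Finsupp.coe_finsetSum, Finset.sum_apply]
  by_cases hg : g ∈ H
  · simp only [blkK, coeff_ofFun]
    rw [← res_sum _ _ fun b hb => memLocalRing_subgroupBlockCoeff (mem_blocks.mp hb) g,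
      Finset.sum_congr rfl (g := fun b => blockCoeff b (⟨g, hg⟩ : H)) (fun b _ => by
        rw [subgroupBlockCoeff_eq]; exact extendByZero_apply _ (blockCoeff b) ⟨g, hg⟩),
      sum_blockCoeff_blocks, deltaOne_apply]
    by_cases h1 : g = 1
    · subst h1
      simp [res_one, MonoidAlgebra.one_def]
    · rw [if_neg fun h => h1 (congrArg Subtype.val h), res_zero]
      simp [MonoidAlgebra.one_def, Ne.symm h1]
  · rw [Finset.sum_eq_zero fun b _ => coeff_blkK_of_notMem b hg]
    have h1 : g ≠ 1 := fun h => hg (h ▸ one_mem H)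
    simp [MonoidAlgebra.one_def, Ne.symm h1]

theorem conjAlg_blkK {x : G} {K K' : Subgroup G} (h : ∀ g, x * g * x⁻¹ ∈ K' ↔ g ∈ K)
    (f : Set (IrrCharacter K)) :
    conjAlg (ResField M) x (blkK M K f) = blkK M K' (conjSet x K K' f) := by
  refine MonoidAlgebra.ext (Finsupp.ext fun g => ?_)
  rw [coeff_conjAlg, blkK, coeff_ofFun, blkK, coeff_ofFun,
    ← subgroupBlockCoeff_conjSet h f (x⁻¹ * g * x)]
  congr 2
  group

theorem blkK_fixed_of_conjSet {H : Subgroup G} {b : Set (IrrCharacter H)} {x : G}
    (hx : x ∈ Subgroup.normalizer (H : Set G)) (hb : conjSet x H H b = b) :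
    Commute (dlt (ResField M) x) (blkK M H b) := by
  refine commute_dlt_iff.mpr fun g => ?_
  have h := congrArg (fun a : KG M G => a.coeff (x * g * x⁻¹))
    (conjAlg_blkK (M := M) (conj_mem_iff_of_mem_normalizer hx) b)
  simp only [hb, coeff_conjAlg] at h
  rw [← h]
  congr 1
  group

theorem blkK_mem_fixAlg (H : Subgroup G) (b : Set (IrrCharacter H)) :
    blkK M H b ∈ fixAlg (ResField M) (H : Set G) :=
  mem_fixAlg.mpr fun _ hs => blkK_fixed_of_conjSet (Subgroup.le_normalizer hs) (conjSet_of_mem hs b)

/-- A subgroup centralizing `C_G(U)`, for instance `U` itself, fixes the idempotents of `C_G(U)`. -/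
theorem blkK_mem_fixAlg_self (U : Subgroup G)
    (b : Set (IrrCharacter (Subgroup.centralizer (U : Set G)))) :
    blkK M (Subgroup.centralizer (U : Set G)) b ∈ fixAlg (ResField M) (U : Set G) :=
  mem_fixAlg.mpr fun _ hs => blkK_fixed_of_conjSet
    (mem_normalizer_centralizer (Subgroup.le_normalizer hs))
    (conjSet_of_commute (fun _ hc => Subgroup.mem_centralizer_iff.mp hc _ hs) b)

theorem trunc_blkK (U : Subgroup G) (b : Set (IrrCharacter (Subgroup.centralizer (U : Set G)))) :
    trunc U (blkK M (Subgroup.centralizer (U : Set G)) b) =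
      blkK M (Subgroup.centralizer (U : Set G)) b :=
  trunc_eq_self fun _ hg => coeff_blkK_of_notMem b hg

theorem commute_blkK_trunc (U : Subgroup G)
    (b : Set (IrrCharacter (Subgroup.centralizer (U : Set G)))) (a : KG M G) :
    Commute (blkK M (Subgroup.centralizer (U : Set G)) b) (trunc U a) :=
  commute_of_support (S := (Subgroup.centralizer (U : Set G) : Set G))
    (fun _ hg => coeff_trunc_of_notMem a hg) (blkK_mem_fixAlg _ b)

/-- The truncation at `W` of the idempotent of a `W`-stable block of `C_G(U)` times the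
idempotent of a block of `C_G(W)`. -/
theorem trunc_blkK_mul (hM : IsPModular p M) {U W : Subgroup G} (hW : IsPGroup p W) (hUW : U ≤ W)
    (hWN : W ≤ Subgroup.normalizer (U : Set G))
    {g : Set (IrrCharacter (Subgroup.centralizer (U : Set G)))} (hg : IsPBlock M g)
    (hst : ∀ x ∈ W, StabilizesBlock (Subgroup.centralizer (U : Set G)) g x)
    {h : Set (IrrCharacter (Subgroup.centralizer (W : Set G)))} (hh : IsPBlock M h) :
    (IsNormalSubpair p M U g W h →
      trunc W (blkK M (Subgroup.centralizer (U : Set G)) g) *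
        blkK M (Subgroup.centralizer (W : Set G)) h = blkK M (Subgroup.centralizer (W : Set G)) h) ∧
    (¬ IsNormalSubpair p M U g W h →
      trunc W (blkK M (Subgroup.centralizer (U : Set G)) g) *
        blkK M (Subgroup.centralizer (W : Set G)) h = 0) := by
  classical
  set β := subgroupBlockCoeff (Subgroup.centralizer (U : Set G)) g
  have hβ : IsStableFun M W β := isStableFun_subgroupBlockCoeff hUW hg hst
  set γ := subgroupBlockCoeff (Subgroup.centralizer (W : Set G)) h
  have hγl : ∀ z, MemLocalRing M (γ z) := memLocalRing_subgroupBlockCoeff hh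
  obtain ⟨η, hη⟩ := IsPBlock.nonempty hh
  set prod := trunc W (blkK M (Subgroup.centralizer (U : Set G)) g) *
    blkK M (Subgroup.centralizer (W : Set G)) h
  have hout : ∀ c, c ∉ Subgroup.centralizer (W : Set G) → prod.coeff c = 0 := fun c hc => by
    rw [coeff_mul_fintype]
    refine Finset.sum_eq_zero fun y _ => ?_
    by_cases hy : y ∈ Subgroup.centralizer (W : Set G)
    · rw [coeff_blkK_of_notMem h fun hh' => hc (by simpa using mul_mem hy hh'), mul_zero]
    · rw [coeff_trunc_of_notMem _ hy, zero_mul]
  have hin : ∀ c, c ∈ Subgroup.centralizer (W : Set G) → prod.coeff c = res M (conv β γ c) := by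
    intro c hc
    rw [coeff_mul_fintype, conv,
      res_sum _ _ fun y _ => memLocalRing_mul (hβ.loc y) (hγl _)]
    refine Finset.sum_congr rfl fun y _ => ?_
    rw [res_mul (hβ.loc y) (hγl _)]
    have e : (blkK M (Subgroup.centralizer (W : Set G)) h).coeff (y⁻¹ * c) = res M (γ (y⁻¹ * c)) :=
      coeff_ofFun _ _
    by_cases hy : y ∈ Subgroup.centralizer (W : Set G)
    · rw [coeff_trunc_of_mem _ hy, e, blkK, coeff_ofFun]
    · have hz : (blkK M (Subgroup.centralizer (W : Set G)) h).coeff (y⁻¹ * c) = 0 :=
        coeff_blkK_of_notMem h fun hh' => hy (by simpa using mul_mem hc (inv_mem hh'))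
      rw [hz, mul_zero]
      rw [hz] at e
      rw [← e, mul_zero]
  have hcl : ∀ c, MemLocalRing M (conv β γ c) := fun c =>
    memLocalRing_sum _ _ fun y _ => memLocalRing_mul (hβ.loc y) (hγl _)
  rcases conv_subgroupBlockCoeff_congr hM hW hh hβ (conv_subgroupBlockCoeff_self _ g) hη with
    ⟨h1, hc1⟩ | ⟨h0, hc0⟩
  · have hns : IsNormalSubpair p M U g W h :=
      isNormalSubpair_of_res ⟨hW, hh⟩ hUW hWN hg hst hη h1
    refine ⟨fun _ => MonoidAlgebra.ext (Finsupp.ext fun c => ?_), fun hno => absurd hns hno⟩
    by_cases hc : c ∈ Subgroup.centralizer (W : Set G)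
    · rw [hin c hc, blkK, coeff_ofFun]
      exact (res_eq_iff (hcl c) (hγl c)).mpr (hc1 c hc)
    · rw [hout c hc, coeff_blkK_of_notMem h hc]
  · refine ⟨fun hns => absurd ((IsNormalSubpair.res_eq_one hns hη).symm.trans h0) one_ne_zero,
      fun _ => MonoidAlgebra.ext (Finsupp.ext fun c => ?_)⟩
    by_cases hc : c ∈ Subgroup.centralizer (W : Set G)
    · rw [hin c hc, res_eq_zero (hc0 c hc)]
      rfl
    · rw [hout c hc]
      rfl

theorem finite_brauerPairIdx : Finite (BrauerPairIdx G) := by
  classical
  have : ∀ Q : Subgroup G, Finite (IrrCharacter (Subgroup.centralizer (Q : Set G))) := fun Q => by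
    have := Fintype.ofFinite (Subgroup.centralizer (Q : Set G))
    infer_instance
  exact Finite.instSigma

section Localization

variable {Q : Subgroup G} {f : Set (IrrCharacter (Subgroup.centralizer (Q : Set G)))}

variable (p M Q f) in
/-- An element fixed by `Q`, truncating to the idempotent of `f` and killing the pair `(U, g)`. -/
def Separates (a : KG M G) (U : Subgroup G)
    (g : Set (IrrCharacter (Subgroup.centralizer (U : Set G)))) : Prop :=
  a ∈ fixAlg (ResField M) (Q : Set G) ∧ trunc Q a = blkK M (Subgroup.centralizer (Q : Set G)) f ∧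
    trunc U a * blkK M (Subgroup.centralizer (U : Set G)) g = 0

theorem exists_separates_finset (hM : IsPModular p M) (hQ : IsPGroup p Q) (hf : IsPBlock M f)
    (s : Finset (BrauerPairIdx G)) (hs : ∀ a ∈ s, a.1 ≤ Q ∧ ∃ x, Separates M Q f x a.1 a.2) :
    ∃ x ∈ fixAlg (ResField M) (Q : Set G),
      trunc Q x = blkK M (Subgroup.centralizer (Q : Set G)) f ∧
      ∀ a ∈ s, trunc a.1 x * blkK M (Subgroup.centralizer (a.1 : Set G)) a.2 = 0 := by
  classical
  have : Fact p.Prime := ⟨hM.1⟩
  have := charP_resField hM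
  induction s using Finset.induction with
  | empty => exact ⟨_, blkK_mem_fixAlg_self Q f, trunc_blkK Q f, by simp⟩
  | insert a t hat ih =>
    obtain ⟨hle, x, hxQ, hxf, hxa⟩ := hs a (Finset.mem_insert_self a t)
    obtain ⟨y, hyQ, hyf, hyt⟩ := ih fun b hb => hs b (Finset.mem_insert_of_mem hb)
    refine ⟨x * y, mul_mem hxQ hyQ,
      by rw [trunc_mul hQ hxQ hyQ, hxf, hyf, (isIdempotentElem_blkK hf).eq], fun b hb => ?_⟩
    have hbQ : b.1 ≤ Q := (hs b hb).1
    have hm : trunc b.1 (x * y) = trunc b.1 x * trunc b.1 y :=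
      trunc_mul (hQ.to_le hbQ) (fixAlg_anti (SetLike.coe_subset_coe.mpr hbQ) hxQ)
        (fixAlg_anti (SetLike.coe_subset_coe.mpr hbQ) hyQ)
    rw [hm, mul_assoc]
    rcases Finset.mem_insert.mp hb with rfl | hb'
    · rw [← (commute_blkK_trunc b.1 b.2 y).eq, ← mul_assoc, hxa, zero_mul]
    · rw [hyt b hb', mul_zero]

theorem exists_separates (hM : IsPModular p M) (hQ : IsPGroup p Q) (hf : IsPBlock M f) :
    ∀ (n : ℕ) (U : Subgroup G) (g : Set (IrrCharacter (Subgroup.centralizer (U : Set G)))),
      Nat.card Q - Nat.card U = n → U ≤ Q → IsPBlock M g → ¬ SubpairLE p M U g Q f →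
        ∃ a, Separates M Q f a U g := by
  classical
  have : Fact p.Prime := ⟨hM.1⟩
  have := charP_resField hM
  intro n
  induction n using Nat.strong_induction_on with
  | _ n ih =>
    intro U g hn hUQ hg hbad
    rcases eq_or_lt_of_le hUQ with rfl | hlt
    · refine ⟨_, blkK_mem_fixAlg_self U f, trunc_blkK U f, ?_⟩
      rw [trunc_blkK]
      refine blkK_mul_ne hf hg fun h => hbad ?_
      subst h
      exact Relation.ReflTransGen.refl
    -- the stabilizer of `g` in `N_Q(U)`
    let S : Subgroup G :=
      { carrier := {x | x ∈ Q ∧ x ∈ Subgroup.normalizer (U : Set G) ∧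
          conjSet x (Subgroup.centralizer (U : Set G)) (Subgroup.centralizer (U : Set G)) g = g}
        one_mem' := ⟨one_mem _, one_mem _, conjSet_of_mem (one_mem _) g⟩
        mul_mem' := fun {x y} hx hy => ⟨mul_mem hx.1 hy.1, mul_mem hx.2.1 hy.2.1, by
          rw [← conjSet_conjSet
            (conj_mem_iff_of_mem_normalizer (mem_normalizer_centralizer hy.2.1))
            (conj_mem_iff_of_mem_normalizer (mem_normalizer_centralizer hx.2.1)), hy.2.2, hx.2.2]⟩
        inv_mem' := fun {x} hx => ⟨inv_mem hx.1, inv_mem hx.2.1, by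
          conv_lhs => rw [← hx.2.2]
          rw [conjSet_conjSet (conj_mem_iff_of_mem_normalizer (mem_normalizer_centralizer hx.2.1))
            (conj_mem_iff_of_mem_normalizer (mem_normalizer_centralizer (inv_mem hx.2.1))),
            inv_mul_cancel, conjSet_of_mem (one_mem _)]⟩ }
    have hSQ : S ≤ Q := fun x hx => hx.1
    have hSN : S ≤ Subgroup.normalizer (U : Set G) := fun x hx => hx.2.1
    have hstS : ∀ x ∈ S, StabilizesBlock (Subgroup.centralizer (U : Set G)) g x := fun x hx =>
      stabilizesBlock_iff.mpr ⟨mem_normalizer_centralizer hx.2.1, hx.2.2⟩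
    have hUS : U ≤ S := fun x hx => ⟨hUQ hx, Subgroup.le_normalizer hx,
      conjSet_of_commute (fun c hc => Subgroup.mem_centralizer_iff.mp hc x hx) g⟩
    -- the pairs just above `(U, g)`
    have := finite_brauerPairIdx (G := G)
    have : Fintype (BrauerPairIdx G) := Fintype.ofFinite _
    set s : Finset (BrauerPairIdx G) :=
      {a | U < a.1 ∧ a.1 ≤ S ∧ IsNormalSubpair p M U g a.1 a.2}
    obtain ⟨a₁, ha₁Q, ha₁f, ha₁⟩ := exists_separates_finset hM hQ hf s fun a ha => by
      simp only [s, Finset.mem_filter, Finset.mem_univ, true_and] at ha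
      obtain ⟨hUa, haS, hns⟩ := ha
      refine ⟨haS.trans hSQ, ih _ ?_ a.1 a.2 rfl (haS.trans hSQ) hns.2.1.2
        fun hle => hbad (Relation.ReflTransGen.head hns hle)⟩
      have h1 : Nat.card U < Nat.card a.1 := lt_of_not_ge fun h =>
        hUa.ne (Subgroup.eq_of_le_of_card_ge hUa.le h)
      have h2 := Subgroup.card_le_of_le (haS.trans hSQ)
      omega
    set E := blkK M (Subgroup.centralizer (U : Set G)) g
    set z := trunc U a₁ * E
    have hfixS : ∀ {T : Subgroup G}, T ≤ S → trunc U a₁ ∈ fixAlg (ResField M) (T : Set G) ∧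
        E ∈ fixAlg (ResField M) (T : Set G) := fun {T} hT =>
      ⟨trunc_mem_fixAlg (fun x hx => hSN (hT hx))
        (fixAlg_anti (SetLike.coe_subset_coe.mpr (hT.trans hSQ)) ha₁Q),
        mem_fixAlg.mpr fun x hx => blkK_fixed_of_conjSet
          (mem_normalizer_centralizer (hSN (hT hx))) (hT hx).2.2⟩
    have hzS : z ∈ fixAlg (ResField M) (S : Set G) := mul_mem (hfixS le_rfl).1 (hfixS le_rfl).2
    have hzC : ∀ c, c ∉ Subgroup.centralizer (U : Set G) → z.coeff c = 0 := fun c hc => by
      rw [coeff_mul_fintype]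
      refine Finset.sum_eq_zero fun y _ => ?_
      by_cases hy : y ∈ Subgroup.centralizer (U : Set G)
      · rw [coeff_blkK_of_notMem g fun hh => hc (by simpa using mul_mem hy hh), mul_zero]
      · rw [coeff_trunc_of_notMem _ hy, zero_mul]
    have hzsupp : ∀ c, z.coeff c ≠ 0 → c ∈ Subgroup.centralizer (U : Set G) ∧
        ∀ x ∈ S, x * c = c * x → x ∈ U := by
      intro c hc
      have hcC := by_contra fun h => hc (hzC c h)
      refine ⟨hcC, ?_⟩
      by_contra hcon
      push Not at hcon
      obtain ⟨x, hxS, hxc, hxU⟩ := hcon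
      set W := S ⊓ Subgroup.centralizer ({c} : Set G)
      have hUW : U ≤ W := le_inf hUS fun y hy => Subgroup.mem_centralizer_singleton_iff.mpr
        (Subgroup.mem_centralizer_iff.mp hcC y hy)
      have hxW : x ∈ W := ⟨hxS, Subgroup.mem_centralizer_singleton_iff.mpr hxc⟩
      have hUltW : U < W := lt_of_le_of_ne hUW fun h => hxU (h ▸ hxW)
      have hcW : c ∈ Subgroup.centralizer (W : Set G) := Subgroup.mem_centralizer_iff.mpr
        fun y hy => Subgroup.mem_centralizer_singleton_iff.mp hy.2
      have hW : IsPGroup p W := hQ.to_le (inf_le_left.trans hSQ)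
      refine hc ?_
      rw [← coeff_trunc_of_mem z hcW, trunc_mul hW (hfixS inf_le_left).1 (hfixS inf_le_left).2,
        trunc_trunc hUW, ← mul_one (trunc W E), ← sum_blkK (Subgroup.centralizer (W : Set G)),
        Finset.mul_sum, Finset.mul_sum, Finset.sum_eq_zero fun h hh => ?_]
      · rfl
      obtain ⟨hyes, hno⟩ := trunc_blkK_mul hM hW hUW (inf_le_left.trans hSN) hg
        (fun y hy => hstS y hy.1) (mem_blocks.mp hh)
      by_cases hns : IsNormalSubpair p M U g W h
      · rw [hyes hns]
        exact ha₁ ⟨W, h⟩ (by simp [s, hUltW, hns]; exact inf_le_left)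
      · rw [hno hns, mul_zero]
    -- the trace of `z`
    set S' := S.subgroupOf Q
    have : Fintype (Q ⧸ S') := Fintype.ofFinite _
    set F : Q ⧸ S' → KG M G := fun q => conjAlg (ResField M) (q.out : G) z
    have hFmk : ∀ t : Q, F (t : Q ⧸ S') = conjAlg (ResField M) (t : G) z := fun t => by
      obtain ⟨s', hs'⟩ := QuotientGroup.mk_out_eq_mul S' t
      show conjAlg (ResField M) ((QuotientGroup.mk t : Q ⧸ S').out : G) z = _
      rw [hs', Subgroup.coe_mul, conjAlg_mul,
        conjAlg_eq_self (mem_fixAlg.mp hzS _ (Subgroup.mem_subgroupOf.mp s'.2))]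
    have hFsmul : ∀ (t : Q) (q : Q ⧸ S'), conjAlg (ResField M) (t : G) (F q) = F (t • q) :=
      fun t q => by
        induction q using QuotientGroup.induction_on with
        | _ y => rw [MulAction.Quotient.smul_mk, hFmk, hFmk, smul_eq_mul, Subgroup.coe_mul,
            conjAlg_mul]
    set T := ∑ q, F q with hT
    have hTQ : T ∈ fixAlg (ResField M) (Q : Set G) := mem_fixAlg.mpr fun x hx =>
      commute_dlt_iff.mpr fun c => by
        have h1 : conjAlg (ResField M) x T = T := by
          rw [hT, map_sum, Finset.sum_congr rfl fun q _ => hFsmul ⟨x, hx⟩ q]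
          exact Fintype.sum_equiv (MulAction.toPerm (⟨x, hx⟩ : Q)) _ _ fun q => rfl
        conv_lhs => rw [← h1, coeff_conjAlg]
        congr 1
        group
    have hcoeffT : ∀ c, T.coeff c = ∑ q, (F q).coeff c := fun c => by
      rw [hT, MonoidAlgebra.coeff_sum, Finsupp.coe_finsetSum, Finset.sum_apply]
    have hTQ0 : trunc Q T = 0 := by
      refine MonoidAlgebra.ext (Finsupp.ext fun c => ?_)
      by_cases hc : c ∈ Subgroup.centralizer (Q : Set G)
      · rw [coeff_trunc_of_mem _ hc, hcoeffT,
          Finset.sum_congr rfl (g := fun _ => z.coeff c) (fun q _ => by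
            show (conjAlg (ResField M) (q.out : G) z).coeff c = _
            rw [coeff_conjAlg, mul_assoc, ← Subgroup.mem_centralizer_iff.mp hc _ q.out.2,
              inv_mul_cancel_left]), Finset.sum_const, Finset.card_univ,
          nsmul_eq_mul]
        by_cases hzc : z.coeff c = 0
        · rw [hzc, mul_zero]
          rfl
        · obtain ⟨k, hk⟩ := hQ.index S'
          rcases k with - | k
          · exfalso
            rw [pow_zero, Subgroup.index_eq_one, Subgroup.subgroupOf_eq_top] at hk
            exact hlt.not_ge fun x hx => (hzsupp c hzc).2 x (hk hx)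
              (Subgroup.mem_centralizer_iff.mp hc x hx)
          · rw [← Nat.card_eq_fintype_card, ← Subgroup.index_eq_card, hk, Nat.cast_pow,
              CharP.cast_eq_zero, zero_pow k.succ_ne_zero, zero_mul]
            rfl
      · rw [coeff_trunc_of_notMem _ hc]
        rfl
    have hTU : trunc U T = ∑ q with ((q.out : Q) : G) ∈ Subgroup.normalizer (U : Set G), F q := by
      refine MonoidAlgebra.ext (Finsupp.ext fun c => ?_)
      rw [MonoidAlgebra.coeff_sum, Finsupp.coe_finsetSum, Finset.sum_apply]
      by_cases hc : c ∈ Subgroup.centralizer (U : Set G)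
      · rw [coeff_trunc_of_mem _ hc, hcoeffT]
        set U' := U.subgroupOf Q
        have hU' : IsPGroup p U' := hQ.to_subgroup U'
        rw [sum_eq_sum_fixed (Q := U') hU' (f := fun q => (F q).coeff c) fun u q => by
          show (F ((u : Q) • q)).coeff c = _
          rw [← hFsmul, coeff_conjAlg, mul_assoc,
            ← Subgroup.mem_centralizer_iff.mp hc _ (Subgroup.mem_subgroupOf.mp u.2),
            inv_mul_cancel_left]]
        refine (Finset.sum_subset (fun q hq => ?_) fun q hqfix hq => ?_).symm
        · simp only [Finset.mem_filter, Finset.mem_univ, true_and] at hq ⊢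
          intro u
          rw [show u • q = (u : Q) • (q.out : Q ⧸ S') by rw [QuotientGroup.out_eq']; rfl,
            MulAction.Quotient.smul_mk]
          conv_rhs => rw [← QuotientGroup.out_eq' q]
          rw [QuotientGroup.eq, Subgroup.mem_subgroupOf]
          refine hUS ?_
          have h3 := (Subgroup.mem_normalizer_iff.mp (inv_mem hq) _).mp
            (inv_mem (Subgroup.mem_subgroupOf.mp u.2))
          simpa [smul_eq_mul, mul_assoc] using h3
        · by_contra hne
          simp only [Finset.mem_filter, Finset.mem_univ, true_and] at hq hqfix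
          refine hq ?_
          set t := (q.out : Q)
          have hne' : z.coeff ((t : G)⁻¹ * c * (t : G)) ≠ 0 := by
            rwa [show F q = conjAlg (ResField M) (t : G) z from rfl, coeff_conjAlg] at hne
          have hmem : ∀ x ∈ U, (t : G)⁻¹ * x * (t : G) ∈ U := fun x hx => by
            refine (hzsupp _ hne').2 _ ?_ ?_
            · have h1 := hqfix ⟨⟨x, hUQ hx⟩, Subgroup.mem_subgroupOf.mpr hx⟩
              rw [show (⟨⟨x, hUQ hx⟩, Subgroup.mem_subgroupOf.mpr hx⟩ : U') • q =
                (⟨x, hUQ hx⟩ : Q) • ((t : Q) : Q ⧸ S') by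
                  rw [QuotientGroup.out_eq']; rfl,
                MulAction.Quotient.smul_mk] at h1
              rw [← QuotientGroup.out_eq' q, QuotientGroup.eq, Subgroup.mem_subgroupOf] at h1
              have := inv_mem h1
              simpa [smul_eq_mul, mul_assoc] using this
            · calc (t : G)⁻¹ * x * t * ((t : G)⁻¹ * c * t) = (t : G)⁻¹ * (x * c) * t := by group
                _ = _ := by rw [Subgroup.mem_centralizer_iff.mp hc x hx]; group
          have hmapU : U.map (MulAut.conj (t : G)⁻¹).toMonoidHom = U :=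
            Subgroup.eq_of_le_of_card_ge (by
              rintro _ ⟨x, hx, rfl⟩
              simpa using hmem x hx)
              (le_of_eq (Nat.card_congr (U.equivMapOfInjective _
                (MulAut.conj (t : G)⁻¹).injective).toEquiv))
          rw [← inv_inv (t : G)]
          refine inv_mem (Subgroup.mem_normalizer_iff.mpr fun x => ⟨fun hx => ?_, fun hx => ?_⟩)
          · rw [← hmapU]
            exact ⟨x, hx, by simp⟩
          · rw [← hmapU] at hx
            obtain ⟨y, hy, hyx⟩ := hx
            simp only [MulEquiv.coe_toMonoidHom, MulAut.conj_apply, inv_inv] at hyx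
            rwa [show x = y from (mul_left_cancel (mul_right_cancel hyx)).symm]
      · rw [coeff_trunc_of_notMem _ hc]
        refine (Finset.sum_eq_zero fun q hq => ?_).symm
        show (conjAlg (ResField M) (q.out : G) z).coeff c = 0
        rw [coeff_conjAlg]
        exact hzC _ fun h => hc
          ((GrpRing.conj_mem_centralizer_iff (Finset.mem_filter.mp hq).2 c).mp h)
    have hTE : trunc U T * E = z := by
      rw [hTU, Finset.sum_mul, Finset.sum_eq_single_of_mem ((1 : Q) : Q ⧸ S')]
      · rw [hFmk, Subgroup.coe_one, conjAlg_one]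
        show trunc U a₁ * E * E = _
        rw [mul_assoc, (isIdempotentElem_blkK hg).eq]
      · simp only [Finset.mem_filter, Finset.mem_univ, true_and]
        obtain ⟨s', hs'⟩ := QuotientGroup.mk_out_eq_mul S' (1 : Q)
        rw [hs', one_mul]
        exact hSN (Subgroup.mem_subgroupOf.mp s'.2)
      · intro q hq hne
        simp only [Finset.mem_filter, Finset.mem_univ, true_and] at hq
        set t := (q.out : Q)
        show conjAlg (ResField M) (t : G) (trunc U a₁ * E) * E = 0
        rw [map_mul, conjAlg_blkK (conj_mem_iff_of_mem_normalizer (mem_normalizer_centralizer hq)),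
          mul_assoc, blkK_mul_ne (isPBlock_conjSet
            (conj_mem_iff_of_mem_normalizer (mem_normalizer_centralizer hq)) hg) hg fun h => ?_,
          mul_zero]
        refine hne ?_
        rw [← QuotientGroup.out_eq' q, QuotientGroup.eq]
        rw [Subgroup.mem_subgroupOf]
        simpa using inv_mem (show (t : G) ∈ S from ⟨t.2, hq, h⟩)
    refine ⟨a₁ - T, sub_mem ha₁Q hTQ, by rw [map_sub, ha₁f, hTQ0, sub_zero], ?_⟩
    rw [map_sub, sub_mul, hTE, sub_self]

/-- The element attached to a Brauer pair, fixed also by a `p'`-subgroup centralizing it. -/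
theorem exists_localized (hM : IsPModular p M) (hQ : IsPGroup p Q) (hf : IsPBlock M f)
    {R : Subgroup G} (hRQ : R ≤ Subgroup.centralizer (Q : Set G)) (hR : ¬ p ∣ Nat.card R) :
    ∃ a ∈ fixAlg (ResField M) ((Q : Set G) ∪ R),
      trunc Q a = blkK M (Subgroup.centralizer (Q : Set G)) f ∧
      ∀ (U : Subgroup G) (g : Set (IrrCharacter (Subgroup.centralizer (U : Set G)))), U ≤ Q →
        IsPBlock M g → ¬ SubpairLE p M U g Q f →
          trunc U a * blkK M (Subgroup.centralizer (U : Set G)) g = 0 := by
  classical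
  have : Fact p.Prime := ⟨hM.1⟩
  have := charP_resField hM
  have := finite_brauerPairIdx (G := G)
  have : Fintype (BrauerPairIdx G) := Fintype.ofFinite _
  set s : Finset (BrauerPairIdx G) :=
    {a | a.1 ≤ Q ∧ IsPBlock M a.2 ∧ ¬ SubpairLE p M a.1 a.2 Q f}
  obtain ⟨a, haQ, haf, ha⟩ := exists_separates_finset hM hQ hf s fun b hb => by
    simp only [s, Finset.mem_filter, Finset.mem_univ, true_and] at hb
    exact ⟨hb.1, exists_separates hM hQ hf _ b.1 b.2 rfl hb.1 hb.2.1 hb.2.2⟩
  have hne : (Nat.card R : ResField M) ≠ 0 := fun h => hR ((CharP.cast_eq_zero_iff _ p _).mp h)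
  have hRU : ∀ {U : Subgroup G}, U ≤ Q → ∀ r ∈ R, r ∈ Subgroup.centralizer (U : Set G) :=
    fun hU r hr => GrpRing.centralizer_anti hU (hRQ hr)
  have hRN : ∀ {U : Subgroup G}, U ≤ Q → ∀ r ∈ R, r ∈ Subgroup.normalizer (U : Set G) :=
    fun hU r hr => Subgroup.centralizer_le_normalizer _ (hRU hU r hr)
  set b := (Nat.card R : ResField M)⁻¹ • ∑ r : R, conjAlg (ResField M) (r : G) a with hb
  have htr : ∀ {U : Subgroup G} (g : Set (IrrCharacter (Subgroup.centralizer (U : Set G)))), U ≤ Q →
      trunc U b * blkK M (Subgroup.centralizer (U : Set G)) g = (Nat.card R : ResField M)⁻¹ •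
        ∑ r : R, conjAlg (ResField M) (r : G)
          (trunc U a * blkK M (Subgroup.centralizer (U : Set G)) g) := by
    intro U g hU
    rw [hb, map_smul, smul_mul_assoc, map_sum, Finset.sum_mul]
    refine congrArg _ (Finset.sum_congr rfl fun r _ => ?_)
    rw [map_mul, conjAlg_trunc (hRN hU r r.2),
      conjAlg_eq_self (mem_fixAlg.mp (blkK_mem_fixAlg _ g) _ (hRU hU r r.2))]
  refine ⟨b, mem_fixAlg.mpr ?_, ?_, fun U g hU hg hbad => ?_⟩
  · rintro x (hx | hx)
    · refine Commute.smul_right (Commute.sum_right _ _ _ fun r _ => ?_) _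
      refine mem_fixAlg.mp (conjAlg_mem (S := (Q : Set G)) (fun t ht => ?_) haQ) x hx
      rw [mul_assoc, Subgroup.mem_centralizer_iff.mp (hRQ r.2) t ht, inv_mul_cancel_left]
      exact ht
    · refine commute_dlt_iff.mpr fun c => ?_
      have h1 : conjAlg (ResField M) x b = b := by
        rw [hb, map_smul, map_sum]
        refine congrArg _ (Fintype.sum_equiv (Equiv.mulLeft ⟨x, hx⟩) _ _ fun r => ?_)
        rw [← conjAlg_mul]
        rfl
      conv_lhs => rw [← h1, coeff_conjAlg]
      congr 1
      group
  · rw [hb, map_smul, map_sum, Finset.sum_congr rfl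
      (g := fun _ => blkK M (Subgroup.centralizer (Q : Set G)) f) (fun r _ => by
        rw [← conjAlg_trunc (hRN le_rfl r r.2), haf,
          conjAlg_eq_self (mem_fixAlg.mp (blkK_mem_fixAlg _ f) _ (hRU le_rfl r r.2))]),
      Finset.sum_const, Finset.card_univ, ← Nat.card_eq_fintype_card,
      ← Nat.cast_smul_eq_nsmul (ResField M), smul_smul, inv_mul_cancel₀ hne, one_smul]
  · rw [htr g hU, ha ⟨U, g⟩ (by simp [s, hU, hg, hbad]), Finset.sum_eq_zero fun r _ => map_zero _,
      smul_zero]

end Localization

end CfsgLib.Blocks
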