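import Cfsg.Agent.Lib.Blocks.AlperinDade
import Cfsg.Agent.Lib.Char.ExtendChar
import Cfsg.Agent.Lib.Char.AbelianQuotient

/-!
# Extending a principal block character when a Sylow centralizer covers the quotient

`N` is normal in `G`, `P` is a Sylow subgroup of `N` with `G = N C(P)` and `ψ` extends a member
`θ` of the principal block of `N`. The central character of `ψ` on functions invariant under
conjugation by `N` differs from the trivial one, modulo the ideal, by a homomorphism of `G/N` into
the residue field, which a linear character of `G/N` removes.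
-/

set_option autoImplicit false
set_option linter.unusedSectionVars false

namespace CfsgLib.Blocks.PrincipalExtension

open Cfsg Module
open scoped ComplexConjugate CfsgLib.Char

variable {G : Type*} [Group G] [Fintype G]

/-- An integer valued function invariant under conjugation by `N`, seen as a complex function. -/
def IsInv (N : Subgroup G) (f : G → ℤ) : Prop := ∀ n ∈ N, ∀ g : G, f (n * g * n⁻¹) = f g

/-- The cast of an integer valued function. -/
noncomputable def cst (f : G → ℤ) : G → ℂ := fun g => (f g : ℂ)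

/-- Integral convolution. -/
def zconv (f₁ f₂ : G → ℤ) : G → ℤ := fun z => ∑ x, f₁ x * f₂ (x⁻¹ * z)

theorem cst_zconv (f₁ f₂ : G → ℤ) : cst (zconv f₁ f₂) = conv (cst f₁) (cst f₂) := by
  funext z
  simp [cst, zconv, conv]

theorem isInv_zconv {N : Subgroup G} {f₁ f₂ : G → ℤ} (h₁ : IsInv N f₁) (h₂ : IsInv N f₂) :
    IsInv N (zconv f₁ f₂) := fun n hn z => by
  refine Fintype.sum_equiv (MulAut.conj n⁻¹).toEquiv _ _ fun x => ?_
  simp only [MulEquiv.toEquiv_eq_coe, EquivLike.coe_coe, MulAut.conj_apply, inv_inv]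
  have e₁ : f₁ (n⁻¹ * x * n) = f₁ x := by simpa using h₁ n⁻¹ (N.inv_mem hn) x
  have e₂ : f₂ ((n⁻¹ * x * n)⁻¹ * z) = f₂ (x⁻¹ * (n * z * n⁻¹)) := by
    rw [← h₂ n hn ((n⁻¹ * x * n)⁻¹ * z)]
    congr 1
    group
  rw [e₁, e₂]

/-- The value at a function of the trivial character. -/
noncomputable def tsum (f : G → ℤ) : ℂ := ∑ g, cst f g

theorem tsum_zconv (f₁ f₂ : G → ℤ) : tsum (zconv f₁ f₂) = tsum f₁ * tsum f₂ := by
  rw [tsum, tsum, tsum, cst_zconv]
  simp only [conv]
  rw [Finset.sum_comm, Finset.sum_mul]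
  refine Finset.sum_congr rfl fun x _ => ?_
  rw [← Finset.mul_sum]
  congr 1
  exact Fintype.sum_equiv (Equiv.mulLeft x⁻¹) _ _ fun z => rfl

/-- The indicator of the orbit of `x` under conjugation by `N`. -/
noncomputable def orbInd (N : Subgroup G) (x : G) : G → ℤ := fun g =>
  open Classical in if ∃ n ∈ N, n * x * n⁻¹ = g then 1 else 0

theorem isInv_orbInd (N : Subgroup G) (x : G) : IsInv N (orbInd N x) := fun m hm g => by
  classical
  refine if_congr ⟨?_, ?_⟩ rfl rfl
  · rintro ⟨n, hn, e⟩
    refine ⟨m⁻¹ * n, N.mul_mem (N.inv_mem hm) hn, ?_⟩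
    rw [show g = m⁻¹ * (m * g * m⁻¹) * m by group, ← e]
    group
  · rintro ⟨n, hn, e⟩
    refine ⟨m * n, N.mul_mem hm hn, ?_⟩
    rw [← e]
    group

theorem orbInd_supp {N : Subgroup G} [N.Normal] {x g : G} (h : orbInd N x g ≠ 0) :
    g * x⁻¹ ∈ N := by
  classical
  unfold orbInd at h
  obtain ⟨n, hn, rfl⟩ := of_not_not fun h' => h (if_neg h')
  have hN : N.Normal := inferInstance
  rw [show n * x * n⁻¹ * x⁻¹ = n * (x * n⁻¹ * x⁻¹) by group]
  exact N.mul_mem hn (hN.conj_mem _ (N.inv_mem hn) x)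

/-- The orbit of `x` has as many elements as the index of the centralizer of `x` in `N`. -/
theorem tsum_orbInd (N : Subgroup G) (x : G) :
    tsum (orbInd N x) =
      (((Subgroup.centralizer ({x} : Set G)).subgroupOf N).index : ℂ) := by
  classical
  set H := (Subgroup.centralizer ({x} : Set G)).subgroupOf N with hH
  have hiff : ∀ a b : N, (a : G) * x * (a : G)⁻¹ = (b : G) * x * (b : G)⁻¹ ↔ a⁻¹ * b ∈ H := by
    intro a b
    rw [hH, Subgroup.mem_subgroupOf, Subgroup.mem_centralizer_singleton_iff]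
    simp only [Subgroup.coe_mul, Subgroup.coe_inv]
    constructor
    · intro h
      calc ((a : G)⁻¹ * (b : G)) * x
          = (a : G)⁻¹ * ((b : G) * x * (b : G)⁻¹) * (b : G) := by group
        _ = x * ((a : G)⁻¹ * (b : G)) := by rw [← h]; group
    · intro h
      calc (a : G) * x * (a : G)⁻¹
          = (a : G) * (x * ((a : G)⁻¹ * (b : G))) * (b : G)⁻¹ := by group
        _ = (b : G) * x * (b : G)⁻¹ := by rw [← h]; group
  let F : N ⧸ H → {g : G // ∃ n ∈ N, n * x * n⁻¹ = g} :=
    Quotient.lift (fun n : N => ⟨(n : G) * x * (n : G)⁻¹, n, n.2, rfl⟩) fun a b h =>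
      Subtype.ext ((hiff a b).mpr (QuotientGroup.leftRel_apply.mp h))
  have hbij : Function.Bijective F := by
    constructor
    · intro a b h
      induction a using Quotient.inductionOn with
      | h a =>
        induction b using Quotient.inductionOn with
        | h b =>
          exact Quotient.sound (QuotientGroup.leftRel_apply.mpr
            ((hiff a b).mp (congrArg Subtype.val h)))
    · rintro ⟨g, n, hn, rfl⟩
      exact ⟨QuotientGroup.mk ⟨n, hn⟩, rfl⟩
  rw [Subgroup.index_eq_card, Nat.card_eq_of_bijective F hbij, Nat.card_eq_fintype_card,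
    Fintype.card_subtype, tsum]
  simp only [cst, orbInd]
  push_cast
  rw [Finset.sum_boole]

/-! ### The scalar of an invariant function -/

section Scalar

variable {N : Subgroup G} {V : Type*} [AddCommGroup V] [Module ℂ V] [FiniteDimensional ℂ V]
  (ρ : Representation ℂ G V)

theorem actFun_eq_omega_of_inv
    [hρN : Representation.IsIrreducible (ρ.comp N.subtype : Representation ℂ N V)] {f : G → ℤ} (hf : IsInv N f) :
    actFun ρ (cst f) = omega ρ.character (cst f) • (1 : Module.End ℂ V) := by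
  set σ : Representation ℂ N V := ρ.comp N.subtype with hσ
  have hcomm : ∀ h : N, actFun ρ (cst f) ∘ₗ σ h = σ h ∘ₗ actFun ρ (cst f) := fun h => by
    show actFun ρ (cst f) * ρ (h : G) = ρ (h : G) * actFun ρ (cst f)
    rw [actFun, Finset.sum_mul, Finset.mul_sum]
    refine Fintype.sum_equiv (MulAut.conj (h : G)⁻¹).toEquiv _ _ fun g => ?_
    simp only [MulEquiv.toEquiv_eq_coe, EquivLike.coe_coe, MulAut.conj_apply, inv_inv]
    have e : cst f ((h : G)⁻¹ * g * (h : G)) = cst f g := by
      have := hf (h : G)⁻¹ (N.inv_mem h.2) g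
      rw [inv_inv] at this
      simp only [cst, this]
    rw [e, smul_mul_assoc, mul_smul_comm, ← map_mul, ← map_mul, mul_assoc, mul_inv_cancel_left]
  let T : Representation.IntertwiningMap σ σ := ⟨actFun ρ (cst f), hcomm⟩
  obtain ⟨c, hc⟩ :=
    (Representation.IsIrreducible.algebraMap_intertwiningMap_bijective_of_isAlgClosed (ρ := σ)).2 T
  have hT : actFun ρ (cst f) = c • (1 : Module.End ℂ V) := by
    rw [show actFun ρ (cst f) = T.toLinearMap from rfl, ← hc, Algebra.algebraMap_eq_smul_one]
    rfl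
  have htr : LinearMap.trace ℂ V (actFun ρ (cst f)) = ∑ g, cst f g * ρ.character g := by
    rw [actFun, map_sum]
    exact Finset.sum_congr rfl fun g _ => by rw [map_smul, smul_eq_mul]; rfl
  rw [hT, map_smul, LinearMap.trace_one, smul_eq_mul] at htr
  have hd : ρ.character 1 = (finrank ℂ V : ℂ) := ρ.char_one
  rw [hT, omega, ← htr, hd, mul_div_cancel_right₀ _
    (Nat.cast_ne_zero.mpr (Char.finrank_pos_of_irreducible σ).ne')]

theorem omega_zconv [hρN : Representation.IsIrreducible (ρ.comp N.subtype : Representation ℂ N V)] {f₁ f₂ : G → ℤ}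
    (h₁ : IsInv N f₁) (h₂ : IsInv N f₂) :
    omega ρ.character (cst (zconv f₁ f₂)) =
      omega ρ.character (cst f₁) * omega ρ.character (cst f₂) := by
  have h := actFun_conv ρ (cst f₁) (cst f₂)
  rw [← cst_zconv, actFun_eq_omega_of_inv ρ (isInv_zconv h₁ h₂), actFun_eq_omega_of_inv ρ h₁,
    actFun_eq_omega_of_inv ρ h₂, smul_mul_assoc, one_mul, smul_smul] at h
  have htr := congrArg (LinearMap.trace ℂ V) h
  rw [map_smul, map_smul, LinearMap.trace_one, smul_eq_mul, smul_eq_mul] at htr
  exact mul_right_cancel₀ (Nat.cast_ne_zero.mpr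
    (Char.finrank_pos_of_irreducible (ρ.comp N.subtype : Representation ℂ N V)).ne') htr

theorem isIntegral_omega_of_inv [hρN : Representation.IsIrreducible (ρ.comp N.subtype : Representation ℂ N V)]
    {f : G → ℤ} (hf : IsInv N f) : IsIntegral ℤ (omega ρ.character (cst f)) := by
  set S := Algebra.adjoin ℤ (Set.range ρ) with hS
  have hfg : S.toSubmodule.FG := by
    rw [hS, Algebra.adjoin_eq_span,
      show (Submonoid.closure (Set.range ρ) : Set (Module.End ℂ V)) = Set.range ρ by
        rw [← MonoidHom.coe_mrange, Submonoid.closure_eq]]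
    exact Submodule.fg_span (Set.finite_range ρ)
  have hmem : actFun ρ (cst f) ∈ S := by
    refine S.sum_mem fun g _ => ?_
    show ((f g : ℤ) : ℂ) • ρ g ∈ S
    rw [Int.cast_smul_eq_zsmul]
    exact S.zsmul_mem (Algebra.subset_adjoin ⟨g, rfl⟩) _
  have hint := IsIntegral.of_mem_of_fg S hfg _ hmem
  rw [actFun_eq_omega_of_inv ρ hf, ← Algebra.algebraMap_eq_smul_one] at hint
  have : Nontrivial V :=
    Module.nontrivial_of_finrank_pos (R := ℂ)
      (Char.finrank_pos_of_irreducible (ρ.comp N.subtype : Representation ℂ N V))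
  exact (isIntegral_algebraMap_iff (FaithfulSMul.algebraMap_injective ℂ (Module.End ℂ V))).mp hint

end Scalar

/-! ### The residue homomorphism -/

section Residue

variable {p : ℕ} [hp : Fact p.Prime] {M : Ideal AlgInt} {N : Subgroup G} [hN : N.Normal]

theorem memLocalRing_tsum [M.IsPrime] (f : G → ℤ) : MemLocalRing M (tsum f) :=
  memLocalRing_sum _ _ fun g _ => memLocalRing_intCast _

/-- On functions supported in `N` the scalar agrees with that of the trivial character. -/
theorem omega_congr_tsum [Fintype N] [M.IsPrime] {θ : IrrCharacter N}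
    (hθ : θ ∈ principalBlock M N) {ψ : G → ℂ} (hψ : ∀ n : N, ψ n = (θ : N → ℂ) n) {f : G → ℤ}
    (hf : IsInv N f) (hsupp : ∀ g, f g ≠ 0 → g ∈ N) :
    MemLocalIdeal M (omega ψ (cst f) - tsum f) := by
  classical
  set F : N → ℂ := fun n => cst f (n : G) with hFdef
  have hF : IsClassFunction N F := fun a b => by
    show cst f ((b : G) * (a : G) * (b : G)⁻¹) = cst f (a : G)
    simp only [cst, hf (b : G) b.2 (a : G)]
  have hsum : ∀ q : G → ℂ, ∑ g, cst f g * q g = ∑ n : N, F n * q (n : G) := fun q => by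
    rw [← Finset.sum_subset (Finset.subset_univ (Finset.univ.filter fun g => g ∈ N)) fun g _ hg => ?_,
      Finset.sum_subtype (p := fun g => g ∈ N) _ (fun g => by simp)]
    simp only [Finset.mem_filter, Finset.mem_univ, true_and] at hg
    rw [cst, show f g = 0 from not_not.mp fun h => hg (hsupp g h), Int.cast_zero, zero_mul]
  have h1 : ψ 1 = (θ : N → ℂ) 1 := hψ 1
  have e1 : omega ψ (cst f) = omega (θ : N → ℂ) F := by
    rw [omega, omega, hsum, h1]
    simp only [hψ]
  have e2 : tsum f = omega (trivIrr N : N → ℂ) F := by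
    rw [omega, tsum, show ((trivIrr N : N → ℂ) 1) = 1 from rfl, div_one]
    have := hsum fun _ => 1
    simp only [mul_one] at this
    rw [this]
    exact Finset.sum_congr rfl fun n _ => (mul_one _).symm
  have : Fintype (ConjClasses N) := Fintype.ofFinite _
  rw [e1, e2, omega_eq_sum_classes θ hF, omega_eq_sum_classes (trivIrr N) hF,
    ← Finset.sum_sub_distrib]
  refine memLocalIdeal_sum _ _ fun c _ => ?_
  rw [← mul_sub]
  exact memLocalIdeal_mul_left (memLocalRing_intCast _)
    (memLocalIdeal_sub_comm (hθ (Quotient.out c)))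

/-- Congruence of products across two cosets. -/
theorem exists_hom [Fintype N] (hM : IsPModular p M) (P : Sylow p N)
    (hcov : N ⊔ Subgroup.centralizer (((P : Subgroup N).map N.subtype : Subgroup G) : Set G) = ⊤)
    {θ : IrrCharacter N} (hθ : θ ∈ principalBlock M N) {V : Type*} [AddCommGroup V] [Module ℂ V]
    [FiniteDimensional ℂ V] (ρ : Representation ℂ G V)
    [hρN : Representation.IsIrreducible (ρ.comp N.subtype : Representation ℂ N V)]
    (hρ : ∀ n : N, ρ.character n = (θ : N → ℂ) n) :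
    ∃ S : G → (letI := isPrime_of_isPModular hM; ResField M),
      letI := isPrime_of_isPModular hM
      (∀ g g' : G, g' * g⁻¹ ∈ N → S g' = S g) ∧ S 1 = 1 ∧
      (∀ g g' : G, S (g * g') = S g * S g') ∧
      ∀ (h : G) (f : G → ℤ), IsInv N f → (∀ g, f g ≠ 0 → g * h⁻¹ ∈ N) →
        res M (omega ρ.character (cst f)) = S h * res M (tsum f) := by
  classical
  have hMp := isPrime_of_isPModular hM
  set C := Subgroup.centralizer (((P : Subgroup N).map N.subtype : Subgroup G) : Set G) with hC
  set w : (G → ℤ) → ResField M := fun f => res M (omega ρ.character (cst f)) with hw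
  set t : (G → ℤ) → ResField M := fun f => res M (tsum f) with ht
  have hloc : ∀ f : G → ℤ, IsInv N f → MemLocalRing M (omega ρ.character (cst f)) := fun f hf =>
    memLocalRing_of_isIntegral (isIntegral_omega_of_inv ρ hf)
  have hwmul : ∀ f₁ f₂ : G → ℤ, IsInv N f₁ → IsInv N f₂ → w (zconv f₁ f₂) = w f₁ * w f₂ :=
    fun f₁ f₂ h₁ h₂ => by
      rw [hw]
      simp only
      rw [omega_zconv ρ h₁ h₂, res_mul (hloc _ h₁) (hloc _ h₂)]
  have htmul : ∀ f₁ f₂ : G → ℤ, t (zconv f₁ f₂) = t f₁ * t f₂ := fun f₁ f₂ => by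
    rw [ht]
    simp only
    rw [tsum_zconv, res_mul (memLocalRing_tsum _) (memLocalRing_tsum _)]
  have hbase : ∀ f : G → ℤ, IsInv N f → (∀ g, f g ≠ 0 → g ∈ N) → w f = t f := fun f hf hs =>
    (res_eq_iff (hloc f hf) (memLocalRing_tsum f)).mpr (omega_congr_tsum hθ hρ hf hs)
  have hd : ∀ c ∈ C, t (orbInd N c) ≠ 0 := fun c hc h0 => by
    rw [ht] at h0
    simp only at h0
    rw [tsum_orbInd, res_eq_zero_iff (memLocalRing_natCast _), memLocalIdeal_natCast_iff hM] at h0
    refine P.not_dvd_index (h0.trans (Subgroup.index_dvd_of_le fun u hu => ?_))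
    rw [Subgroup.mem_subgroupOf, Subgroup.mem_centralizer_singleton_iff]
    exact Subgroup.mem_centralizer_iff.mp hc (u : G) ⟨u, hu, rfl⟩
  -- the support of a convolution
  have hconv : ∀ (f₁ f₂ : G → ℤ) (a b : G), (∀ g, f₁ g ≠ 0 → g * a⁻¹ ∈ N) →
      (∀ g, f₂ g ≠ 0 → g * b⁻¹ ∈ N) → ∀ z, zconv f₁ f₂ z ≠ 0 → z * (a * b)⁻¹ ∈ N := by
    intro f₁ f₂ a b h₁ h₂ z hz
    obtain ⟨x, -, hx⟩ := Finset.exists_ne_zero_of_sum_ne_zero hz
    have hx1 := h₁ x (left_ne_zero_of_mul hx)
    have hx2 := h₂ _ (right_ne_zero_of_mul hx)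
    rw [show z * (a * b)⁻¹ = (x * a⁻¹) * (a * (x⁻¹ * z * b⁻¹) * a⁻¹) by group]
    exact N.mul_mem hx1 (hN.conj_mem _ hx2 a)
  -- the key congruence
  have hkey : ∀ c ∈ C, ∀ f : G → ℤ, IsInv N f → (∀ g, f g ≠ 0 → g * c⁻¹ ∈ N) →
      w f * t (orbInd N c) = w (orbInd N c) * t f := by
    intro c hc f hf hs
    have hci : c⁻¹ ∈ C := C.inv_mem hc
    have hsup : ∀ f' : G → ℤ, IsInv N f' → (∀ g, f' g ≠ 0 → g * c⁻¹ ∈ N) →
        w f' * w (orbInd N c⁻¹) = t f' * t (orbInd N c⁻¹) := fun f' hf' hs' => by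
      rw [← hwmul _ _ hf' (isInv_orbInd N _), ← htmul]
      refine hbase _ (isInv_zconv hf' (isInv_orbInd N _)) fun z hz => ?_
      simpa using hconv f' _ c c⁻¹ hs' (fun g hg => orbInd_supp hg) z hz
    have e1 := hsup f hf hs
    have e2 := hsup (orbInd N c) (isInv_orbInd N c) fun g hg => orbInd_supp hg
    have hne : w (orbInd N c⁻¹) ≠ 0 := fun h0 => by
      rw [h0, mul_zero] at e2
      exact mul_ne_zero (hd c hc) (hd _ hci) e2.symm
    refine mul_right_cancel₀ hne ?_
    linear_combination t (orbInd N c) * e1 - t f * e2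
  -- representatives in the centralizer
  have hrep : ∀ g : G, ∃ c, c ∈ C ∧ g * c⁻¹ ∈ N := fun g => by
    obtain ⟨n, hn, c, hc, e⟩ := Subgroup.mem_sup_of_normal_left.mp (hcov ▸ Subgroup.mem_top g)
    exact ⟨c, hc, by rw [← e, mul_inv_cancel_right]; exact hn⟩
  choose rep hrepC hrepN using hrep
  set S : G → ResField M := fun g => w (orbInd N (rep g)) / t (orbInd N (rep g)) with hS
  have happ : ∀ (h : G) (f : G → ℤ), IsInv N f → (∀ g, f g ≠ 0 → g * h⁻¹ ∈ N) →
      w f = S h * t f := fun h f hf hs => by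
    have e := hkey (rep h) (hrepC h) f hf fun g hg => by
      rw [show g * (rep h)⁻¹ = (g * h⁻¹) * (h * (rep h)⁻¹) by group]
      exact N.mul_mem (hs g hg) (hrepN h)
    rw [hS]
    simp only
    rw [div_mul_eq_mul_div, eq_div_iff (hd _ (hrepC h))]
    exact e
  have hinvariant : ∀ g g' : G, g' * g⁻¹ ∈ N → S g' = S g := fun g g' h => by
    have e := happ g (orbInd N (rep g')) (isInv_orbInd N _) fun x hx => by
      rw [show x * g⁻¹ = (x * (rep g')⁻¹) * ((g' * (rep g')⁻¹)⁻¹ * (g' * g⁻¹)) by group]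
      exact N.mul_mem (orbInd_supp hx) (N.mul_mem (N.inv_mem (hrepN g')) h)
    show w _ / t _ = S g
    rw [e, mul_div_cancel_right₀ _ (hd _ (hrepC g'))]
  have hone : S 1 = 1 := by
    show w _ / t _ = 1
    have h1 : rep 1 ∈ N := by
      have := N.inv_mem (hrepN 1)
      simpa using this
    rw [hbase _ (isInv_orbInd N _) (fun g hg => by
      have := N.mul_mem (orbInd_supp hg) h1
      simpa using this), div_self (hd _ (hrepC 1))]
  refine ⟨S, hinvariant, hone, fun g g' => ?_, happ⟩
  have e := happ (g * g') (zconv (orbInd N (rep g)) (orbInd N (rep g')))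
    (isInv_zconv (isInv_orbInd N _) (isInv_orbInd N _)) fun z hz => by
      have h1 := hconv (orbInd N (rep g)) (orbInd N (rep g')) g g'
        (fun x hx => by
          rw [show x * g⁻¹ = (x * (rep g)⁻¹) * (g * (rep g)⁻¹)⁻¹ by group]
          exact N.mul_mem (orbInd_supp hx) (N.inv_mem (hrepN g)))
        (fun x hx => by
          rw [show x * g'⁻¹ = (x * (rep g')⁻¹) * (g' * (rep g')⁻¹)⁻¹ by group]
          exact N.mul_mem (orbInd_supp hx) (N.inv_mem (hrepN g')))
      exact h1 z hz
  rw [hwmul _ _ (isInv_orbInd N _) (isInv_orbInd N _), htmul] at e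
  have a := hd _ (hrepC g)
  have b := hd _ (hrepC g')
  show S (g * g') = w _ / t _ * (w _ / t _)
  rw [div_mul_div_comm, eq_div_iff (mul_ne_zero a b), ← e]

end Residue

/-! ### Lifting to a linear character -/

/-- A homomorphism into the residue field lifts to roots of unity. -/
theorem exists_lift {p : ℕ} [hp : Fact p.Prime] {M : Ideal AlgInt} (hM : IsPModular p M)
    (S : G →* (letI := isPrime_of_isPModular hM; (ResField M)ˣ)) :
    ∃ μ : G →* ℂˣ,
      letI := isPrime_of_isPModular hM
      (∀ g : G, res M (μ g : ℂ) = (S g : ResField M)) ∧ ∀ g, S g = 1 → μ g = 1 := by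
  classical
  have hMp := isPrime_of_isPModular hM
  have : CharP (ResField M) p := charP_resField hM
  set m := ordCompl[p] (Nat.card G) with hm
  have hm0 : m ≠ 0 := (Nat.ordCompl_pos p Nat.card_pos.ne').ne'
  have : NeZero m := ⟨hm0⟩
  have hpm : ¬ p ∣ m := Nat.not_dvd_ordCompl hp.out Nat.card_pos.ne'
  have hloc : ∀ z : rootsOfUnity m ℂ, MemLocalRing M ((z : ℂˣ) : ℂ) := fun z =>
    memLocalRing_of_isIntegral (IsIntegral.of_pow (Nat.pos_of_ne_zero hm0) (by
      rw [(mem_rootsOfUnity' m _).mp z.2]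
      exact isIntegral_one))
  let ι₀ : rootsOfUnity m ℂ →* ResField M :=
    { toFun := fun z => res M ((z : ℂˣ) : ℂ)
      map_one' := res_one
      map_mul' := fun a b => by
        show res M (((a : ℂˣ) : ℂ) * ((b : ℂˣ) : ℂ)) = _
        exact res_mul (hloc a) (hloc b) }
  let ι : rootsOfUnity m ℂ →* rootsOfUnity m (ResField M) :=
    (ι₀.toHomUnits).codRestrict _ fun z => (mem_rootsOfUnity' m _).mpr (by
      show ι₀ z ^ m = 1
      rw [← map_pow, show z ^ m = 1 from Subtype.ext (by
        rw [Subgroup.coe_pow, Subgroup.coe_one]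
        exact (mem_rootsOfUnity m _).mp z.2), map_one])
  have hinj : Function.Injective ι := by
    rw [injective_iff_map_eq_one]
    intro z hz
    have h1 : res M ((z : ℂˣ) : ℂ) = res M 1 := by
      rw [res_one]
      exact congrArg (fun u : rootsOfUnity m (ResField M) => ((u : (ResField M)ˣ) : ResField M)) hz
    exact Subtype.ext (Units.ext (eq_one_of_sub_one_mem hM hpm ((mem_rootsOfUnity' m _).mp z.2)
      ((res_eq_iff (hloc z) memLocalRing_one).mp h1)))
  have hbij : Function.Bijective ι := by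
    refine (Nat.bijective_iff_injective_and_card ι).mpr ⟨hinj, le_antisymm ?_ ?_⟩
    · exact Nat.card_le_card_of_injective ι hinj
    · rw [Complex.card_rootsOfUnity m]
      exact card_rootsOfUnity (R := ResField M) (k := m)
  have hmem : ∀ g : G, S g ∈ rootsOfUnity m (ResField M) := fun g => by
    rw [mem_rootsOfUnity']
    have h1 : ((S g : ResField M) ^ m) ^ p ^ (Nat.card G).factorization p = 1 := by
      rw [← pow_mul, hm, mul_comm, Nat.ordProj_mul_ordCompl_eq_self, ← Units.val_pow_eq_pow_val,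
        ← map_pow, pow_card_eq_one', map_one, Units.val_one]
    have h2 : ((S g : ResField M) ^ m - 1) ^ p ^ (Nat.card G).factorization p = 0 := by
      rw [sub_pow_char_pow, h1, one_pow, sub_self]
    exact sub_eq_zero.mp (eq_zero_of_pow_eq_zero h2)
  set e := MulEquiv.ofBijective ι hbij with he
  refine ⟨(rootsOfUnity m ℂ).subtype.comp (e.symm.toMonoidHom.comp (S.codRestrict _ hmem)),
    fun g => ?_, fun g hg => ?_⟩
  · have h := e.apply_symm_apply (S.codRestrict _ hmem g)
    exact congrArg (fun u : rootsOfUnity m (ResField M) => ((u : (ResField M)ˣ) : ResField M)) h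
  · show ((e.symm (S.codRestrict _ hmem g)) : ℂˣ) = 1
    rw [show S.codRestrict _ hmem g = 1 from Subtype.ext hg, map_one, Subgroup.coe_one]

/-! ### The extension -/

/-- The extension in the principal block. -/
theorem main {p : ℕ} [Fact p.Prime] {M : Ideal AlgInt} (hM : IsPModular p M) (N : Subgroup G)
    [hN : N.Normal] [Fintype N] (P : Sylow p N)
    (hcov : N ⊔ Subgroup.centralizer (((P : Subgroup N).map N.subtype : Subgroup G) : Set G) = ⊤)
    (θ : IrrCharacter N) (hθ : θ ∈ principalBlock M N) (ψ : IrrCharacter G)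
    (hext : ∀ x : N, (ψ : G → ℂ) x = (θ : N → ℂ) x) :
    ∃ χ : IrrCharacter G, χ ∈ principalBlock M G ∧ (∀ x : N, (χ : G → ℂ) x = (θ : N → ℂ) x) ∧
      ∀ J : Subgroup G, N ≤ J → ∃ ξ : IrrCharacter J, ξ ∈ principalBlock M J ∧
        ∀ y : J, (ξ : J → ℂ) y = (χ : G → ℂ) y := by
  classical
  have hMp := isPrime_of_isPModular hM
  obtain ⟨n, ρ, hρ, hρψ⟩ := ψ.2
  have hρθ : ∀ x : N, ρ.character x = (θ : N → ℂ) x := fun x => by rw [hρψ]; exact hext x
  obtain ⟨l, τ, hτ, hτθ⟩ := θ.2
  obtain ⟨i⟩ := Char.equiv_of_character_eq τ (ρ.comp N.subtype : Representation ℂ N (Fin n → ℂ))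
    (hτθ.trans (funext fun x => (hρθ x).symm))
  have hρN : Representation.IsIrreducible (ρ.comp N.subtype : Representation ℂ N (Fin n → ℂ)) :=
    Char.irreducible_equiv i hτ
  obtain ⟨S, hSN, hS1, hSmul, hS⟩ := exists_hom hM P hcov hθ ρ hρθ
  let Sh : G →* ResField M := { toFun := S, map_one' := hS1, map_mul' := hSmul }
  obtain ⟨μ, hμ, hμ1⟩ := exists_lift hM (Sh.toHomUnits⁻¹)
  have hμN : ∀ x : G, x ∈ N → μ x = 1 := fun x hx => hμ1 x (by
    rw [MonoidHom.inv_apply, inv_eq_one]
    refine Units.ext ?_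
    show S x = 1
    rw [← hS1]
    exact hSN 1 x (by simpa using hx))
  have hμS : ∀ g : G, res M (μ g : ℂ) * S g = 1 := fun g => by
    rw [hμ g, MonoidHom.inv_apply]
    show (((Sh.toHomUnits g)⁻¹ : (ResField M)ˣ) : ResField M) * (Sh.toHomUnits g : ResField M) = 1
    exact Units.inv_mul _
  have hμloc : ∀ g : G, MemLocalRing M (μ g : ℂ) := fun g =>
    memLocalRing_of_isIntegral (IsIntegral.of_pow (Nat.card_pos (α := G)) (by
      rw [← Units.val_pow_eq_pow_val, ← map_pow, pow_card_eq_one', map_one, Units.val_one]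
      exact isIntegral_one))
  set χ : IrrCharacter G :=
    ⟨fun g => (μ g : ℂ) * (ψ : G → ℂ) g, Char.isIrrCharacter_linear_mul ψ.2 μ⟩ with hχ
  have hχθ : ∀ x : N, (χ : G → ℂ) x = (θ : N → ℂ) x := fun x => by
    show (μ (x : G) : ℂ) * (ψ : G → ℂ) x = _
    rw [hμN x x.2, Units.val_one, one_mul, hext]
  -- invariant functions on a single coset
  have hcoset : ∀ (h : G) (f : G → ℤ), IsInv N f → (∀ g, f g ≠ 0 → g * h⁻¹ ∈ N) →
      MemLocalIdeal M (omega (χ : G → ℂ) (cst f) - tsum f) := fun h f hf hs => by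
    have hχ1 : (χ : G → ℂ) 1 = ρ.character 1 := by
      show (μ 1 : ℂ) * (ψ : G → ℂ) 1 = _
      rw [map_one, Units.val_one, one_mul, hρψ]
    have e : omega (χ : G → ℂ) (cst f) = (μ h : ℂ) * omega ρ.character (cst f) := by
      rw [omega, omega, hχ1, ← mul_div_assoc, Finset.mul_sum]
      refine congrArg (· / ρ.character 1) (Finset.sum_congr rfl fun g _ => ?_)
      show cst f g * ((μ g : ℂ) * (ψ : G → ℂ) g) = _
      rw [hρψ]
      by_cases hg : f g = 0
      · simp [cst, hg]
      · have : μ g = μ h := by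
          rw [show g = (g * h⁻¹) * h by group, map_mul, hμN _ (hs g hg), one_mul]
        rw [this]
        ring
    have hl := memLocalRing_of_isIntegral (M := M) (isIntegral_omega_of_inv ρ hf)
    rw [e, ← res_eq_iff (memLocalRing_mul (hμloc h) hl) (memLocalRing_tsum f),
      res_mul (hμloc h) hl, hS h f hf hs, ← mul_assoc, hμS, one_mul]
  -- every invariant function
  have hall : ∀ f : G → ℤ, IsInv N f →
      MemLocalIdeal M (omega (χ : G → ℂ) (cst f) - tsum f) := fun f hf => by
    set part : G ⧸ N → G → ℤ := fun q g => if QuotientGroup.mk g = q then f g else 0 with hpart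
    have hsum : ∀ g, cst f g = ∑ q, cst (part q) g := fun g => by
      simp [hpart, cst, apply_ite (Int.cast : ℤ → ℂ)]
    have e1 : omega (χ : G → ℂ) (cst f) = ∑ q, omega (χ : G → ℂ) (cst (part q)) := by
      rw [← omega_sum]
      congr 1
      funext g
      rw [Finset.sum_apply]
      exact hsum g
    have e2 : tsum f = ∑ q, tsum (part q) := by
      simp only [tsum]
      rw [Finset.sum_comm]
      exact Finset.sum_congr rfl fun g _ => hsum g
    rw [e1, e2, ← Finset.sum_sub_distrib]
    refine memLocalIdeal_sum _ _ fun q _ => ?_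
    obtain ⟨h, rfl⟩ := QuotientGroup.mk_surjective q
    refine hcoset h _ (fun x hx g => ?_) fun g hg => ?_
    · simp only [hpart]
      rw [hf x hx g, QuotientGroup.mk_mul, QuotientGroup.mk_mul, QuotientGroup.mk_inv,
        (QuotientGroup.eq_one_iff x).mpr hx, one_mul, inv_one, mul_one]
    · simp only [hpart, ne_eq, ite_eq_right_iff, not_forall] at hg
      exact QuotientGroup.eq_iff_div_mem.mp hg.1 |> fun h' => by rwa [div_eq_mul_inv] at h'
  refine ⟨χ, fun g => ?_, hχθ, fun J hJ => ?_⟩
  · -- the principal block of `G`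
    let f : G → ℤ := fun x => if IsConj g x then 1 else 0
    have hfc : cst f = classInd g := by
      funext x
      simp [f, cst, classInd]
    have hf : IsInv N f := fun x _ y => by
      refine if_congr ⟨fun h => h.trans (isConj_iff.mpr ⟨x⁻¹, by group⟩),
        fun h => h.trans (isConj_iff.mpr ⟨x, rfl⟩)⟩ rfl rfl
    have h := hall f hf
    rw [hfc, omega_classInd] at h
    have e : centralChar (fun _ : G => (1 : ℂ)) g = tsum f := by
      rw [show (fun _ : G => (1 : ℂ)) = (trivIrr G : G → ℂ) from rfl, ← omega_classInd, ← hfc, omega,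
        tsum, show ((trivIrr G : G → ℂ) 1) = 1 from rfl, div_one]
      exact Finset.sum_congr rfl fun x _ => mul_one _
    rw [e]
    exact memLocalIdeal_sub_comm h
  · haveI : Fintype J := Fintype.ofFinite J
    have hJc : IsCharacter J fun y : J => (χ : G → ℂ) y :=
      Char.isCharacter_restrict J (Char.isCharacter_of_isIrr χ.2)
    have hJi : IsIrrCharacter J fun y : J => (χ : G → ℂ) y := by
      refine Char.isIrr_of_restrict (N.subgroupOf J) hJc ?_
      have := (inflate (Subgroup.subgroupOfEquivOfLe hJ).toMonoidHom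
        (Subgroup.subgroupOfEquivOfLe hJ).surjective θ).2
      exact funext (fun x : N.subgroupOf J => (hχθ (Subgroup.subgroupOfEquivOfLe hJ x)).symm) ▸ this
    refine ⟨⟨_, hJi⟩, fun g => ?_, fun y => rfl⟩
    let f : G → ℤ := fun x => if hx : x ∈ J then (if IsConj g ⟨x, hx⟩ then 1 else 0) else 0
    have hf : IsInv N f := fun x hx y => by
      by_cases hy : y ∈ J
      · have hxy : x * y * x⁻¹ ∈ J := J.mul_mem (J.mul_mem (hJ hx) hy) (J.inv_mem (hJ hx))
        simp only [f, dif_pos hy, dif_pos hxy]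
        have hc : IsConj (⟨y, hy⟩ : J) ⟨x * y * x⁻¹, hxy⟩ :=
          isConj_iff.mpr ⟨⟨x, hJ hx⟩, rfl⟩
        exact if_congr ⟨fun h => h.trans hc.symm, fun h => h.trans hc⟩ rfl rfl
      · have hxy : x * y * x⁻¹ ∉ J := fun h => hy (by
          have := J.mul_mem (J.mul_mem (J.inv_mem (hJ hx)) h) (hJ hx)
          simpa [mul_assoc] using this)
        simp only [f, dif_neg hy, dif_neg hxy]
    have hfJ : ∀ y : J, cst f (y : G) = classInd g y := fun y => by
      simp [f, cst, classInd, y.2]
    have hsum : ∀ q : G → ℂ, ∑ x, cst f x * q x = ∑ y : J, classInd g y * q (y : G) := fun q => by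
      rw [← Finset.sum_subset (Finset.subset_univ (Finset.univ.filter fun x => x ∈ J)) fun x _ hx => ?_,
        Finset.sum_subtype (p := fun x => x ∈ J) _ (fun x => by simp)]
      · exact Finset.sum_congr rfl fun y _ => by rw [hfJ]
      · simp only [Finset.mem_filter, Finset.mem_univ, true_and] at hx
        simp [f, cst, hx]
    have h := hall f hf
    rw [omega, tsum, hsum] at h
    have h1 := hsum fun _ => 1
    simp only [mul_one] at h1
    rw [h1] at h
    have e : centralChar (fun _ : J => (1 : ℂ)) g = ∑ y : J, classInd g y := by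
      rw [show (fun _ : J => (1 : ℂ)) = (trivIrr J : J → ℂ) from rfl, ← omega_classInd, omega,
        show ((trivIrr J : J → ℂ) 1) = 1 from rfl, div_one]
      exact Finset.sum_congr rfl fun x _ => mul_one _
    rw [e, ← omega_classInd]
    exact memLocalIdeal_sub_comm h

end CfsgLib.Blocks.PrincipalExtension
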