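import Cfsg.Agent.Lib.Blocks.Rank
import Cfsg.Agent.Lib.Blocks.SectionContribution
import Cfsg.Agent.Lib.Blocks.PairTransport
import Cfsg.Agent.Lib.Blocks.InducingBlocks
import Cfsg.Agent.Lib.Blocks.MainSecond

/-!
# Characters minus regular rank, summed over the nontrivial `p`-elements of a subgroup

For a block `b` of `G` and a subgroup `H`, the characters of `H` in the blocks inducing `b` satisfy
`#H · (k − l) = ∑ #C_H(x) · l(C_H(x))`, the sum over the nontrivial `p`-elements `x` of `H`, where
the rank is that of the characters of `C_H(x)` in blocks inducing `b`.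
-/

set_option autoImplicit false
set_option linter.unusedSectionVars false
set_option linter.style.haveILetI false

namespace CfsgLib.Blocks.RankSum

open Cfsg CfsgLib.Blocks
open scoped ComplexConjugate CfsgLib.Char

variable {p : ℕ} {M : Ideal AlgInt} {G : Type*} [Group G] [Fintype G]

/-- The characters of `H` in the blocks inducing a member of the family `U` of characters. -/
def inducingInto (M : Ideal AlgInt) (H : Subgroup G) (U : Set (IrrCharacter G)) :
    Set (IrrCharacter H) :=
  {ξ | ∃ B : Set (IrrCharacter G), B ⊆ U ∧ IsInducedBlock M H (blockOf M (ξ : H → ℂ)) B}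

/-- The characters of `H` in the blocks inducing `b`. -/
def inducing (M : Ideal AlgInt) (H : Subgroup G) (b : Set (IrrCharacter G)) :
    Set (IrrCharacter H) :=
  {ψ | ∃ β : Set (IrrCharacter H), ψ ∈ β ∧ IsInducedBlock M H β b}

theorem mem_inducing_iff [M.IsPrime] {H : Subgroup G} {b : Set (IrrCharacter G)}
    (ψ : IrrCharacter H) :
    ψ ∈ inducing M H b ↔ IsInducedBlock M H (blockOf M (ψ : H → ℂ)) b := by
  refine ⟨?_, fun h => ⟨_, mem_blockOf_self ψ, h⟩⟩
  rintro ⟨β, hψ, hβ⟩
  have : Fintype H := Fintype.ofFinite _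
  rwa [← IsPBlock.eq_blockOf hβ.1 hψ]

theorem isBlockUnion_inducing' [M.IsPrime] (H : Subgroup G) [Fintype H] (b : Set (IrrCharacter G)) :
    IsBlockUnion M (inducing M H b) := fun χ hχ ψ hs => by
  rw [mem_inducing_iff] at hχ ⊢
  rwa [← blockOf_eq_of_sameBlock hs]

theorem isBlockUnion_inducingInto [M.IsPrime] (H : Subgroup G) [Fintype H] (U : Set (IrrCharacter G)) :
    IsBlockUnion M (inducingInto M H U) := by
  intro χ hχ ψ hs
  obtain ⟨B, hB, h⟩ := hχ
  exact ⟨B, hB, by rwa [← blockOf_eq_of_sameBlock hs]⟩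

/-- The `p`-section sums of a union of blocks. -/
theorem sum_union_section (hM : IsPModular p M) {U : Set (IrrCharacter G)} (hU : IsBlockUnion M U)
    {x : G} (hx : ∃ k : ℕ, orderOf x = p ^ k) {y : Subgroup.centralizer ({x} : Set G)}
    (hy : ¬ p ∣ orderOf y) :
    ∑ᶠ χ ∈ U, (χ : G → ℂ) (x * (y : G)) * conj ((χ : G → ℂ) (x * (y : G))) =
      ∑ᶠ ξ ∈ inducingInto M (Subgroup.centralizer ({x} : Set G)) U,
        (ξ : Subgroup.centralizer ({x} : Set G) → ℂ) y *
          conj ((ξ : Subgroup.centralizer ({x} : Set G) → ℂ) y) := by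
  classical
  have := isPrime_of_isPModular hM
  set C := Subgroup.centralizer ({x} : Set G)
  have : Fintype C := Fintype.ofFinite _
  have hdef : ∀ ξ : IrrCharacter C, InducedBlockDefined M C (blockOf M (ξ : C → ℂ)) := fun ξ =>
    inducedBlockDefined_centralizer hM hx (isPBlock_blockOf ξ)
  choose ind hind using hdef
  have hV : ∀ ξ : IrrCharacter C, ξ ∈ inducingInto M C U ↔ ind ξ ⊆ U := fun ξ =>
    ⟨fun ⟨B, hBU, hB⟩ => IsInducedBlock.unique hB (hind ξ) ▸ hBU, fun h => ⟨_, h, hind ξ⟩⟩
  have hsub : ∀ χ : IrrCharacter G, χ ∈ U ↔ blockOf M (χ : G → ℂ) ⊆ U := fun χ =>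
    ⟨fun h ψ hψ => hU χ h ψ hψ, fun h => h (mem_blockOf_self χ)⟩
  rw [sum_mem_eq_filter, sum_mem_eq_filter,
    ← Finset.sum_fiberwise_of_maps_to (g := fun χ : IrrCharacter G => blockOf M (χ : G → ℂ))
      (t := (blocks M G).filter (fun B => B ⊆ U)) (fun χ hχ => Finset.mem_filter.mpr
        ⟨mem_blocks.mpr (isPBlock_blockOf χ), (hsub χ).mp (Finset.mem_filter.mp hχ).2⟩),
    ← Finset.sum_fiberwise_of_maps_to (g := ind)
      (t := (blocks M G).filter (fun B => B ⊆ U)) (fun ξ hξ => Finset.mem_filter.mpr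
        ⟨mem_blocks.mpr (hind ξ).2.1, (hV ξ).mp (Finset.mem_filter.mp hξ).2⟩)]
  refine Finset.sum_congr rfl fun B hB => ?_
  obtain ⟨hBb, hBU⟩ := Finset.mem_filter.mp hB
  have hBp := mem_blocks.mp hBb
  set S := (blocks M C).filter fun e => IsInducedBlock M C e B
  have hS : ∀ e, e ∈ S ↔ IsInducedBlock M C e B := fun e => by
    simp only [S, Finset.mem_filter, mem_blocks]
    exact ⟨fun h => h.2, fun h => ⟨h.1, h⟩⟩
  have hl : ∀ χ : IrrCharacter G, (χ ∈ U ∧ blockOf M (χ : G → ℂ) = B) ↔ χ ∈ B := fun χ =>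
    ⟨fun h => h.2 ▸ mem_blockOf_self χ, fun h => ⟨hBU h, (IsPBlock.eq_blockOf hBp h).symm⟩⟩
  have hr : ∀ ξ : IrrCharacter C, (ξ ∈ inducingInto M C U ∧ ind ξ = B) ↔
      blockOf M (ξ : C → ℂ) ∈ S := fun ξ => by
    rw [hS]
    exact ⟨fun h => h.2 ▸ hind ξ, fun h => by
      have e := IsInducedBlock.unique (hind ξ) h
      exact ⟨(hV ξ).mpr (e ▸ hBU), e⟩⟩
  rw [Finset.filter_filter, Finset.filter_congr fun χ _ => hl χ,
    sum_block_mul_conj_section hM hx hBp hy hy S hS,
    Finset.filter_filter, Finset.filter_congr fun ξ _ => hr ξ,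
    ← Finset.sum_fiberwise_of_maps_to (g := fun ξ : IrrCharacter C => blockOf M (ξ : C → ℂ))
      (t := S) fun ξ hξ => (Finset.mem_filter.mp hξ).2]
  refine Finset.sum_congr rfl fun e he => ?_
  rw [sum_mem_eq_filter, Finset.filter_filter]
  refine Finset.sum_congr (Finset.filter_congr fun ξ _ => ?_) fun _ _ => rfl
  have hep := ((hS e).mp he).1
  exact ⟨fun h => ⟨(IsPBlock.eq_blockOf hep h) ▸ he, (IsPBlock.eq_blockOf hep h).symm⟩,
    fun h => h.2 ▸ mem_blockOf_self ξ⟩

/-- Characters minus regular rank of a union of blocks, by the nontrivial `p`-elements. -/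
theorem card_mul_card_sub_rank (hM : IsPModular p M) {U : Set (IrrCharacter G)}
    (hU : IsBlockUnion M U) [DecidablePred fun v : G => v ≠ 1 ∧ ∃ k : ℕ, orderOf v = p ^ k] :
    (Nat.card G : ℤ) * ((Nat.card U : ℤ) - (blockRank p U : ℤ)) =
      ∑ v : G with v ≠ 1 ∧ ∃ k : ℕ, orderOf v = p ^ k,
        (Nat.card (Subgroup.centralizer ({v} : Set G)) : ℤ) *
          (blockRank p (inducingInto M (Subgroup.centralizer ({v} : Set G)) U) : ℤ) := by
  classical
  have := isPrime_of_isPModular hM
  have hp : p.Prime := hM.1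
  set F : G → ℂ := fun g => ∑ᶠ χ ∈ U, (χ : G → ℂ) g * conj ((χ : G → ℂ) g) with hF
  have hcard : ∑ g : G, F g = (Nat.card G : ℂ) * (Nat.card U : ℂ) := by
    simp only [hF, sum_mem_eq_filter]
    rw [Finset.sum_comm, Finset.sum_congr rfl (g := fun _ => (Nat.card G : ℂ)) fun χ _ => ?_,
      Finset.sum_const, nsmul_eq_mul, mul_comm, ← Fintype.card_subtype, ← Nat.card_eq_fintype_card]
    have := Char.classInner_irr_self χ.2
    rw [classInner, inv_mul_eq_iff_eq_mul₀ (Nat.cast_ne_zero.mpr Nat.card_pos.ne'), mul_one] at this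
    exact this
  have hrank : (Nat.card G : ℂ) * (blockRank p U : ℂ) =
      ∑ g : G, if IsPRegular p g then F g else 0 := by
    rw [card_mul_blockRank hM hU]
    refine Finset.sum_congr rfl fun g _ => ?_
    by_cases hg : IsPRegular p g
    · simp [hF, if_pos hg, regPart_of_regular hg]
    · simp [if_neg hg, regPart_of_singular hg]
  have key : (Nat.card G : ℂ) * ((Nat.card U : ℂ) - (blockRank p U : ℂ)) =
      ∑ v : G with v ≠ 1 ∧ ∃ k : ℕ, orderOf v = p ^ k,
        (Nat.card (Subgroup.centralizer ({v} : Set G)) : ℂ) *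
          (blockRank p (inducingInto M (Subgroup.centralizer ({v} : Set G)) U) : ℂ) := by
    rw [mul_sub, ← hcard, hrank, ← Finset.sum_sub_distrib,
      sum_eq_sum_pParts hp (fun g => F g - if IsPRegular p g then F g else 0),
      ← Finset.sum_filter_add_sum_filter_not (Finset.univ.filter fun v : G => ∃ k : ℕ, orderOf v = p ^ k)
        (fun v : G => v = 1)]
    rw [Finset.sum_eq_zero (s := Finset.filter (fun v : G => v = 1) _), zero_add, Finset.filter_filter]
    · refine Finset.sum_congr (Finset.filter_congr fun v _ => and_comm) fun v hv => ?_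
      obtain ⟨-, hv1, hv⟩ := Finset.mem_filter.mp hv
      rw [card_mul_blockRank hM (isBlockUnion_inducingInto _ U), Finset.sum_filter]
      refine Finset.sum_congr rfl fun s _ => ?_
      by_cases hs : IsPRegular p s
      · have hsing : ¬ IsPRegular p (v * (s : G)) := fun hreg => hv1 <| by
          have h1 : IsPPart p (v * (s : G)) v := isPPart_mul
            (Subgroup.mem_centralizer_singleton_iff.mp s.2).symm hv
            (by rw [Subgroup.orderOf_coe]; exact hs)
          exact IsPPart.unique hp h1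
            ⟨v * (s : G), one_mul _, Commute.one_left _, ⟨0, by rw [orderOf_one, pow_zero]⟩, hreg⟩
        rw [if_pos hs, if_neg hsing, sub_zero]
        simp only [hF]
        rw [sum_union_section hM hU hv hs]
        simp [regPart_of_regular hs]
      · simp [if_neg hs, regPart_of_singular hs]
    · intro v hv
      obtain ⟨-, rfl⟩ := Finset.mem_filter.mp hv
      refine Finset.sum_eq_zero fun s hs => ?_
      have hs' : IsPRegular p s := (Finset.mem_filter.mp hs).2
      have : IsPRegular p ((1 : G) * (s : G)) := by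
        rw [one_mul, IsPRegular, Subgroup.orderOf_coe]
        exact hs'
      rw [if_pos this, sub_self]
  exact_mod_cast key

/-- Regular ranks are invariant under isomorphism. -/
theorem blockRank_image_irrEquiv {A B : Type*} [Group A] [Group B] (φ : A ≃* B)
    (V : Set (IrrCharacter A)) : blockRank p (irrEquiv φ '' V) = blockRank p V := by
  let L : (A → ℂ) →ₗ[ℂ] (B → ℂ) := LinearMap.funLeft ℂ ℂ φ.symm
  have hL : Function.Injective L := LinearMap.funLeft_injective_of_surjective _ _ _ φ.symm.surjective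
  have he : ((fun χ : IrrCharacter B => pRegularPart p (χ : B → ℂ)) '' (irrEquiv φ '' V)) =
      L '' ((fun χ : IrrCharacter A => pRegularPart p (χ : A → ℂ)) '' V) := by
    rw [Set.image_image, Set.image_image]
    refine Set.image_congr fun χ _ => funext fun c => ?_
    have h : IsPRegular p (φ.symm c) ↔ IsPRegular p c := by
      rw [IsPRegular, IsPRegular, MulEquiv.orderOf_eq]
    simp only [L, LinearMap.funLeft_apply, pRegularPart]
    by_cases hc : IsPRegular p c
    · rw [if_pos hc, if_pos (h.mpr hc)]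
      rfl
    · rw [if_neg hc, if_neg (fun h' => hc (h.mp h'))]
  rw [blockRank, blockRank, he, Submodule.span_image]
  exact (Submodule.equivMapOfInjective L hL _).finrank_eq.symm

theorem card_image_irrEquiv {A B : Type*} [Group A] [Group B] (φ : A ≃* B)
    (V : Set (IrrCharacter A)) : Nat.card (irrEquiv φ '' V : Set (IrrCharacter B)) = Nat.card V :=
  Nat.card_image_of_injective (irrEquiv φ).injective V

/-- The regular rank of the blocks of `K` inducing `b`, times the order of `K`. -/
noncomputable def weight (p : ℕ) (M : Ideal AlgInt) (b : Set (IrrCharacter G)) (K : Subgroup G) : ℤ :=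
  (Nat.card K : ℤ) * (blockRank p (inducing M K b) : ℤ)

/-- The term of an element of a subgroup, read in the group. -/
theorem weight_inf_centralizer (hM : IsPModular p M) (b : Set (IrrCharacter G)) (H : Subgroup G)
    [Fintype H] (v : H) (hv : ∃ k : ℕ, orderOf v = p ^ k) :
    (Nat.card (Subgroup.centralizer ({v} : Set H)) : ℤ) *
        (blockRank p (inducingInto M (Subgroup.centralizer ({v} : Set H)) (inducing M H b)) : ℤ) =
      weight p M b (Subgroup.centralizer ({(v : G)} : Set G) ⊓ H) := by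
  classical
  have := isPrime_of_isPModular hM
  set C := Subgroup.centralizer ({v} : Set H)
  set K := Subgroup.centralizer ({(v : G)} : Set G) ⊓ H
  have : Fintype C := Fintype.ofFinite _
  have : Fintype K := Fintype.ofFinite _
  let φ : C ≃* K :=
    { toFun := fun c => ⟨((c : H) : G), Subgroup.mem_centralizer_singleton_iff.mpr
        (congrArg Subtype.val (Subgroup.mem_centralizer_singleton_iff.mp c.2)), (c : H).2⟩
      invFun := fun k => ⟨⟨(k : G), k.2.2⟩, Subgroup.mem_centralizer_singleton_iff.mpr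
        (Subtype.ext (Subgroup.mem_centralizer_singleton_iff.mp k.2.1))⟩
      left_inv := fun _ => rfl
      right_inv := fun _ => rfl
      map_mul' := fun _ _ => rfl }
  have hset : irrEquiv φ '' inducingInto M C (inducing M H b) = inducing M K b := by
    ext ψ
    obtain ⟨ξ, rfl⟩ := (irrEquiv φ).surjective ψ
    rw [(irrEquiv φ).injective.mem_set_image, mem_inducing_iff]
    obtain ⟨β, hβ⟩ := inducedBlockDefined_centralizer hM hv (isPBlock_blockOf (M := M) ξ)
    have himg : blockOf M (irrEquiv φ ξ : K → ℂ) = irrEquiv φ '' blockOf M (ξ : C → ℂ) :=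
      (IsPBlock.eq_blockOf (isPBlock_image_irrEquiv φ (isPBlock_blockOf ξ))
        ⟨ξ, mem_blockOf_self ξ, rfl⟩).symm
    have hcong : ∀ (ξ' : IrrCharacter C), ξ' ∈ blockOf M (ξ : C → ℂ) → ∀ η ∈ β, ∀ g : G,
        MemLocalIdeal M (inducedCentralChar K (irrEquiv φ ξ' : K → ℂ) g -
          inducedCentralChar H (η : H → ℂ) g) := by
      intro ξ' hξ' η hη g
      have h := IsInducedBlock.omega_congr hβ hξ' hη
        (f := fun h : H => classInd g (h : G))
        (fun h a => by
          simp only [Subgroup.coe_mul, Subgroup.coe_inv, isClassFunction_classInd g (h : G) (a : G)])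
        fun h => memLocalRing_classInd g _
      rw [inducedCentralChar_eq_omega, inducedCentralChar_eq_omega]
      convert h using 2
      simp only [omega]
      rw [← map_one φ, irrEquiv_apply]
      congr 1
      refine (Fintype.sum_equiv φ.toEquiv _ _ fun c => ?_).symm
      show _ = _ * (irrEquiv φ ξ' : K → ℂ) (φ c)
      rw [irrEquiv_apply]
      rfl
    constructor
    · rintro ⟨B, hBU, hB⟩
      obtain rfl := IsInducedBlock.unique hB hβ
      obtain ⟨η, hη⟩ := IsPBlock.nonempty hβ.2.1
      have hη' := (mem_inducing_iff η).mp (hBU hη)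
      refine ⟨isPBlock_blockOf _, hη'.2.1, fun ψ hψ χ hχ g => ?_⟩
      rw [himg] at hψ
      obtain ⟨ξ', hξ', rfl⟩ := hψ
      exact memLocalIdeal_sub_trans (hcong ξ' hξ' η hη g) (hη'.2.2 η (mem_blockOf_self η) χ hχ g)
    · intro h
      refine ⟨β, fun η hη => (mem_inducing_iff η).mpr ?_, hβ⟩
      refine ⟨isPBlock_blockOf η, h.2.1, fun η' hη' χ hχ g => ?_⟩
      rw [← IsPBlock.eq_blockOf hβ.2.1 hη] at hη'
      exact memLocalIdeal_sub_trans
        (memLocalIdeal_sub_comm (hcong ξ (mem_blockOf_self ξ) η' hη' g))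
        (h.2.2 _ (mem_blockOf_self _) χ hχ g)
  rw [weight, ← hset, blockRank_image_irrEquiv, Nat.card_congr φ.toEquiv]

/-- Characters minus regular rank in the blocks of `H` inducing `b`. -/
theorem subgroup_identity (hM : IsPModular p M) (b : Set (IrrCharacter G)) (H : Subgroup G)
    [DecidablePred fun v : G => v ∈ H ∧ v ≠ 1 ∧ ∃ k : ℕ, orderOf v = p ^ k] :
    (Nat.card H : ℤ) *
        ((Nat.card (inducing M H b) : ℤ) - (blockRank p (inducing M H b) : ℤ)) =
      ∑ v : G with v ∈ H ∧ v ≠ 1 ∧ ∃ k : ℕ, orderOf v = p ^ k,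
        weight p M b (Subgroup.centralizer ({v} : Set G) ⊓ H) := by
  classical
  have := isPrime_of_isPModular hM
  have : Fintype H := Fintype.ofFinite _
  rw [card_mul_card_sub_rank hM (isBlockUnion_inducing' H b)]
  refine Finset.sum_bij (fun v _ => (v : G)) (fun v hv => ?_) (fun _ _ _ _ h => Subtype.ext h)
    (fun v hv => ?_) fun v hv => weight_inf_centralizer hM b H v (Finset.mem_filter.mp hv).2.2
  · obtain ⟨-, h1, h2⟩ := Finset.mem_filter.mp hv
    exact Finset.mem_filter.mpr ⟨Finset.mem_univ _, v.2, fun h => h1 (Subtype.ext h),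
      by rwa [Subgroup.orderOf_coe]⟩
  · obtain ⟨-, hvH, h1, h2⟩ := Finset.mem_filter.mp hv
    exact ⟨⟨v, hvH⟩, Finset.mem_filter.mpr ⟨Finset.mem_univ _, fun h => h1 (congrArg Subtype.val h),
      by rwa [← Subgroup.orderOf_coe]⟩, rfl⟩

/-- Characters minus regular rank in a block. -/
theorem group_identity (hM : IsPModular p M) {b : Set (IrrCharacter G)} (hb : IsPBlock M b)
    [DecidablePred fun v : G => v ≠ 1 ∧ ∃ k : ℕ, orderOf v = p ^ k] :
    (Nat.card G : ℤ) * ((Nat.card b : ℤ) - (blockRank p b : ℤ)) =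
      ∑ v : G with v ≠ 1 ∧ ∃ k : ℕ, orderOf v = p ^ k,
        weight p M b (Subgroup.centralizer ({v} : Set G)) := by
  classical
  have := isPrime_of_isPModular hM
  rw [card_mul_card_sub_rank hM (IsPBlock.isBlockUnion hb)]
  refine Finset.sum_congr rfl fun v _ => ?_
  have : Fintype (Subgroup.centralizer ({v} : Set G)) := Fintype.ofFinite _
  have hset : inducingInto M (Subgroup.centralizer ({v} : Set G)) b =
      inducing M (Subgroup.centralizer ({v} : Set G)) b := by
    ext ξ
    rw [mem_inducing_iff]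
    refine ⟨?_, fun h => ⟨b, subset_rfl, h⟩⟩
    rintro ⟨B, hB, h⟩
    obtain ⟨χ, hχ⟩ := IsPBlock.nonempty h.2.1
    rwa [IsPBlock.eq_of_mem_of_mem hb h.2.1 (hB hχ) hχ]
  rw [weight, hset]

end CfsgLib.Blocks.RankSum
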