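import Cfsg.Agent.Lib.Blocks.StarWeight
import Cfsg.Agent.Lib.Blocks.Integrality
import Cfsg.Agent.Lib.Char.BrauerInd

/-!
# The action of linear characters of the defect group on the characters of a block

For a linear character of `P` trivial on the focal subgroup the weighted sum of the parts of a
character `χ` of `B` at all sections is again an irreducible character of `B` of the same degree.
-/

set_option autoImplicit false
set_option linter.unusedSectionVars false

namespace CfsgLib.Blocks

open Cfsg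
open CfsgLib.GrpRing
open scoped ComplexConjugate CfsgLib.Char

variable {p : ℕ} {M : Ideal AlgInt} [M.IsPrime] {G : Type*} [Group G] [Fintype G]

variable (p M) in
/-- The weighted sum of the parts of `χ` at all sections. -/
noncomputable def starChar (χ : G → ℂ) (w : G → BrauerPairIdx G → ℂ) (g : G) : ℂ :=
  open Classical in
    if h : ∃ u : G, IsPPart p g u then starPart (M := M) χ w 1 h.choose (h.choose⁻¹ * g) else 0

theorem starChar_eq (hp : p.Prime) (χ : G → ℂ) (w : G → BrauerPairIdx G → ℂ) {u r : G}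
    (h : IsSectionPoint p u r) : starChar p M χ w (u * r) = starPart (M := M) χ w 1 u r := by
  have hu : IsPPart p (u * r) u := isPPart_mul h.comm h.pElem h.regular
  have he : ∃ v : G, IsPPart p (u * r) v := ⟨u, hu⟩
  rw [starChar, dif_pos he, IsPPart.unique hp he.choose_spec hu, inv_mul_cancel_left]

theorem exists_sectionPoint (hp : p.Prime) (g : G) :
    ∃ u r : G, IsSectionPoint p u r ∧ g = u * r := by
  obtain ⟨x, ⟨y, hy, hc, hx, hyr⟩, -⟩ := exists_isPPart hp g
  exact ⟨x, y, ⟨hc, hx, hyr⟩, hy.symm⟩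

theorem isClassFunction_starChar (hM : IsPModular p M) {χ : G → ℂ} (hχ : IsClassFunction G χ)
    {w : G → BrauerPairIdx G → ℂ} (hw : IsPairWeight p M w) :
    IsClassFunction G (starChar p M χ w) := by
  intro g s
  obtain ⟨u, r, h, rfl⟩ := exists_sectionPoint hM.1 g
  have ho : ∀ z : G, orderOf (s * z * s⁻¹) = orderOf z := fun z =>
    orderOf_injective (MulAut.conj s).toMonoidHom (MulAut.conj s).injective z
  have h' : IsSectionPoint p (s * u * s⁻¹) (s * r * s⁻¹) :=
    ⟨h.comm.map (MulAut.conj s).toMonoidHom, by rw [ho]; exact h.pElem,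
      by rw [ho]; exact h.regular⟩
  rw [show s * (u * r) * s⁻¹ = s * u * s⁻¹ * (s * r * s⁻¹) by group, starChar_eq hM.1 χ w h',
    starChar_eq hM.1 χ w h]
  have h1 := starTerm_conj hM hχ hw h IsIdempotentElem.one (one_mem _) s
  rwa [map_one] at h1

theorem isGeneralized_starChar (hM : IsPModular p M) {χ : G → ℂ} (hχ : IsCharacter G χ)
    {w : G → BrauerPairIdx G → ℂ} (hw : IsPairWeight p M w) :
    IsGeneralizedCharacter G (starChar p M χ w) := by
  classical
  have : Fact p.Prime := ⟨hM.1⟩
  have hχc := Char.isClassFunction_of_isCharacter hχ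
  refine Char.brauer_characterisation (isClassFunction_starChar hM hχc hw) fun E q hq hE => ?_
  have := Char.isNilpotent_of_isElementary hq hE
  obtain ⟨-, hreg⟩ := pPrimeCore_nilpotent (p := p) hM.1 E
  set O := pPrimeCore p E
  have hOn : O.Normal := SelfCent.pPrimeCore_normal' (G := E) p
  have S : Sylow p E := default
  have hSn : (S : Subgroup E).Normal := by
    have := (Group.isNilpotent_of_finite_tfae (G := E)).out 0 3
    exact this.mp inferInstance p ‹_› S
  have hSmem : ∀ x : E, (∃ k : ℕ, orderOf x = p ^ k) → x ∈ (S : Subgroup E) := fun x ⟨k, hk⟩ => by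
    have hx : IsPGroup p (Subgroup.zpowers x) :=
      IsPGroup.of_card (n := k) (by rw [Nat.card_zpowers, hk])
    exact S.3 (hx.to_sup_of_normal_right S.2) le_sup_right ▸
      (le_sup_left : Subgroup.zpowers x ≤ Subgroup.zpowers x ⊔ S) (Subgroup.mem_zpowers x)
  have hdisj : Disjoint (S : Subgroup E) O := by
    rw [Subgroup.disjoint_def]
    intro x hxS hxO
    obtain ⟨k, hk⟩ := IsPGroup.iff_orderOf.mp S.2 ⟨x, hxS⟩
    rw [Subgroup.orderOf_mk] at hk
    rcases k with - | k
    · exact orderOf_eq_one_iff.mp (by simpa using hk)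
    · exact absurd (hk ▸ dvd_pow_self p k.succ_ne_zero) ((hreg x).mp hxO)
  have hcomm : ∀ (s : (S : Subgroup E)) (o : O), Commute (s : E) (o : E) := fun s o =>
    Subgroup.commute_of_normal_of_disjoint _ _ hSn hOn hdisj _ _ s.2 o.2
  set f : ↥(S : Subgroup E) × ↥O →* E :=
    MonoidHom.noncommCoprod (S : Subgroup E).subtype O.subtype hcomm
  have hfbij : Function.Bijective f := by
    refine ⟨fun a b hab => ?_, fun x => ?_⟩
    · have h1 : (a.1 : E) * a.2 = (b.1 : E) * b.2 := hab
      have h2 : (b.1 : E)⁻¹ * a.1 = (b.2 : E) * (a.2 : E)⁻¹ := by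
        rw [eq_mul_inv_iff_mul_eq, mul_assoc, h1, inv_mul_cancel_left]
      have h3 : (b.1 : E)⁻¹ * a.1 = 1 := Subgroup.disjoint_def.mp hdisj
        (mul_mem (inv_mem b.1.2) a.1.2) (h2 ▸ mul_mem b.2.2 (inv_mem a.2.2))
      have h4 : a.1 = b.1 := Subtype.ext (inv_mul_eq_one.mp h3).symm
      exact Prod.ext h4 (Subtype.ext (mul_left_cancel (a := (b.1 : E)) (by rwa [h4] at h1)))
    · obtain ⟨u, r, h, rfl⟩ := exists_sectionPoint (p := p) hM.1 x
      exact ⟨(⟨u, hSmem u h.pElem⟩, ⟨r, (hreg r).mpr h.regular⟩), rfl⟩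
  set Q : Subgroup G := (S : Subgroup E).map E.subtype
  set R : Subgroup G := O.map E.subtype
  have hQ : IsPGroup p Q := S.2.map _
  have hRQ : R ≤ Subgroup.centralizer (Q : Set G) := by
    rintro _ ⟨o, ho, rfl⟩
    refine Subgroup.mem_centralizer_iff.mpr ?_
    rintro _ ⟨s, hs, rfl⟩
    exact congrArg Subtype.val (hcomm ⟨s, hs⟩ ⟨o, ho⟩).eq
  have hR : ¬ p ∣ Nat.card R := by
    rw [Subgroup.card_map_of_injective E.subtype_injective]
    exact not_dvd_card_pPrimeCore (H := E) hM.1
  have hgen := isGeneralized_starProd hM hχ hw hQ hRQ hR IsIdempotentElem.one (one_mem _)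
  let τ : ↥E →* ↥Q × ↥R := (MonoidHom.prodMap
    ((E.subtype.comp (S : Subgroup E).subtype).codRestrict Q fun s => ⟨s.1, s.2, rfl⟩)
    ((E.subtype.comp O.subtype).codRestrict R fun o => ⟨o.1, o.2, rfl⟩)).comp
      (MulEquiv.ofBijective f hfbij).symm.toMonoidHom
  refine (congrArg (IsGeneralizedCharacter E) (funext fun x => ?_)).mpr
    (Char.isGeneralized_comp τ hgen)
  obtain ⟨⟨s, o⟩, rfl⟩ := hfbij.2 x
  have hx : (MulEquiv.ofBijective f hfbij).symm (f (s, o)) = (s, o) :=
    (MulEquiv.ofBijective f hfbij).symm_apply_apply (s, o)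
  have hpt : IsSectionPoint p ((s : E) : G) ((o : E) : G) :=
    sectionPoint_of_mem hM hQ hRQ hR ⟨s, s.2, rfl⟩ ⟨o, o.2, rfl⟩
  show _ = starProd χ w Q R 1 (τ (f (s, o)))
  simp only [τ, starProd, MonoidHom.comp_apply, MulEquiv.coe_toMonoidHom, hx]
  exact starChar_eq hM.1 χ w hpt

/-! ### Sums over sections -/

open Classical in
theorem sum_sections (hp : p.Prime) (F : G → ℂ) :
    ∑ g : G, F g = ∑ v : G with ∃ k : ℕ, orderOf v = p ^ k,
      ∑ s : cz v with IsPRegular p s, F (v * (s : G)) := by
  rw [sum_eq_sum_pParts hp F]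
  refine Finset.sum_congr rfl fun v _ => ?_
  have key : ∀ K : Subgroup G, K = cz v →
      ∑ s : K with IsPRegular p s, F (v * (s : G)) =
        ∑ s : cz v with IsPRegular p s, F (v * (s : G)) := by
    rintro K rfl
    rfl
  exact key _ (cz_eq v).symm

theorem sectionPoint_cz {v : G} (hv : ∃ k : ℕ, orderOf v = p ^ k) {s : cz v}
    (hs : IsPRegular p s) : IsSectionPoint p v (s : G) :=
  ⟨commute_of_mem_cz s, hv, by rw [Subgroup.orderOf_coe]; exact hs⟩

theorem starChar_section (hp : p.Prime) {χ : G → ℂ} (hχ : IsClassFunction G χ)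
    (w : G → BrauerPairIdx G → ℂ) {v : G} (hv : ∃ k : ℕ, orderOf v = p ^ k) {s : cz v}
    (hs : IsPRegular p s) :
    starChar p M χ w (v * (s : G)) = ∑ b ∈ subBlocks M (cz v),
      w v ⟨Subgroup.zpowers v, b⟩ * blockPart b (sect χ v) s := by
  rw [starChar_eq hp χ w (sectionPoint_cz hv hs), starPart_one hχ w (sectionPoint_cz hv hs)]

/-! ### Block parts on regular elements -/

section Parts

variable {K : Type*} [Group K] [Fintype K]

theorem classInner_blockPart (b : Set (IrrCharacter K)) [DecidablePred (· ∈ b)] (θ : K → ℂ)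
    (η : IrrCharacter K) : classInner (blockPart b θ) (η : K → ℂ) =
      if η ∈ b then classInner θ (η : K → ℂ) else 0 := by
  classical
  have h : blockPart b θ = ∑ ξ : IrrCharacter K,
      (if ξ ∈ b then classInner θ (ξ : K → ℂ) else 0) • (ξ : K → ℂ) := by
    funext y
    simp only [blockPart_eq_filter, Finset.sum_filter, Finset.sum_apply, Pi.smul_apply, smul_eq_mul,
      ite_mul, zero_mul]
  rw [h, Char.classInner_sum_smul_irr]

theorem sum_blockPart {θ : K → ℂ} (hθ : IsClassFunction K θ) (y : K) :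
    ∑ b ∈ blocks M K, blockPart b θ y = θ y := by
  rw [← sum_blockCoeff_mul (M := M) θ y]
  exact Finset.sum_congr rfl fun b _ => blockPart_eq_sum b hθ y

theorem blockPart_weighted (hM : IsPModular p M) {b : Set (IrrCharacter K)} (hb : IsPBlock M b)
    {θ g : K → ℂ} (a : Set (IrrCharacter K) → ℂ)
    (h : ∀ s : K, IsPRegular p s → g s = ∑ b' ∈ blocks M K, a b' * blockPart b' θ s) {y : K}
    (hy : IsPRegular p y) : blockPart b g y = a b * blockPart b θ y := by
  classical
  set f : K → ℂ := ∑ b' ∈ blocks M K, a b' • blockPart b' θ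
  have hf : ∀ η : IrrCharacter K, η ∈ b →
      classInner f (η : K → ℂ) = a b * classInner θ (η : K → ℂ) := fun η hη => by
    simp only [f, Char.classInner_sum_left, Char.classInner_smul_left, classInner_blockPart]
    rw [Finset.sum_eq_single b (fun b' hb' hne => by
      rw [if_neg fun h' => hne (IsPBlock.eq_of_mem_of_mem (mem_blocks.mp hb') hb h' hη), mul_zero])
      (fun h' => absurd (mem_blocks.mpr hb) h'), if_pos hη]
  have h0 : blockPart b (g - f) y = 0 := blockPart_eq_zero_of_regular_zero hM hb (fun s hs => by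
    simp [f, h s hs, Finset.sum_apply]) hy
  simp only [blockPart_eq_filter, Char.classInner_sub_left, sub_mul, Finset.sum_sub_distrib,
    sub_eq_zero] at h0
  simp only [blockPart_eq_filter, h0, Finset.mul_sum]
  exact Finset.sum_congr rfl fun η hη => by rw [hf η (Finset.mem_filter.mp hη).2, mul_assoc]

variable [DecidablePred fun s : K => IsPRegular p s]

theorem sum_regular_blockPart_orth (hM : IsPModular p M) {b b' : Set (IrrCharacter K)}
    (hb : IsPBlock M b) (hb' : IsPBlock M b') (hne : b ≠ b') (θ θ' : K → ℂ) :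
    ∑ s : K with IsPRegular p s, blockPart b θ s * conj (blockPart b' θ' s) = 0 := by
  classical
  simp only [blockPart_eq_filter, map_sum, map_mul, Finset.sum_mul, Finset.mul_sum]
  rw [Finset.sum_comm]
  refine Finset.sum_eq_zero fun η hη => ?_
  rw [Finset.sum_comm]
  refine Finset.sum_eq_zero fun η' hη' => ?_
  have hη1 := (Finset.mem_filter.mp hη).2
  have hη2 := (Finset.mem_filter.mp hη').2
  rw [Finset.sum_congr rfl (g := fun s => classInner θ (η' : K → ℂ) *
    conj (classInner θ' (η : K → ℂ)) * ((η' : K → ℂ) s * conj ((η : K → ℂ) s)))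
    (fun s _ => by ring), ← Finset.mul_sum,
    sum_regular_irr_mul_conj hM hb' hη1 fun h => hne (IsPBlock.eq_of_mem_of_mem hb hb' hη2 h),
    mul_zero]

theorem sum_regular_mul_conj_blockPart_of_zero (hM : IsPModular p M)
    {b : Set (IrrCharacter K)} (hb : IsPBlock M b) (θ : K → ℂ) {θ' : K → ℂ}
    (hθ' : IsClassFunction K θ') (h0 : ∀ s : K, IsPRegular p s → blockPart b θ' s = 0) :
    ∑ s : K with IsPRegular p s, blockPart b θ s * conj (θ' s) = 0 := by
  classical
  simp only [blockPart_eq_filter b θ, Finset.sum_mul]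
  rw [Finset.sum_comm]
  refine Finset.sum_eq_zero fun η hη => ?_
  have h := congrArg conj (sum_regular_mul_conj_irr hM hb hθ' (Finset.mem_filter.mp hη).2)
  simp only [map_sum, map_mul, Complex.conj_conj] at h
  rw [Finset.sum_congr rfl (g := fun s => classInner θ (η : K → ℂ) *
    (conj (θ' s) * (η : K → ℂ) s)) (fun s _ => by ring), ← Finset.mul_sum, h,
    Finset.sum_eq_zero fun s hs => by rw [h0 s (Finset.mem_filter.mp hs).2, map_zero, zero_mul],
    mul_zero]

end Parts

/-! ### The image of a character of the block -/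

variable {P : Subgroup G} {e : Set (IrrCharacter (Subgroup.centralizer (P : Set G)))}
  {B : Set (IrrCharacter G)} {F : FusionSystem P}

theorem subBlocks_eq (H : Subgroup G) [Fintype H] : subBlocks M H = blocks M H := by
  ext b
  rw [mem_subBlocks, mem_blocks]

theorem classInner_starChar_self (hM : IsPModular p M) (hF : IsBlockFusionSystemOn p M B P e F)
    {lam : ↥P →* ℂˣ} (hlam : ∀ n ∈ F.focalSubgroup.subgroupOf P, lam n = 1) {χ : IrrCharacter G}
    (hχ : χ ∈ B) :
    classInner (starChar p M (χ : G → ℂ) (starW p M e lam))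
      (starChar p M (χ : G → ℂ) (starW p M e lam)) = classInner (χ : G → ℂ) (χ : G → ℂ) := by
  classical
  simp only [classInner]
  congr 1
  rw [sum_sections hM.1, sum_sections hM.1 fun g => (χ : G → ℂ) g * conj ((χ : G → ℂ) g)]
  refine Finset.sum_congr rfl fun v hv => ?_
  have hv' := (Finset.mem_filter.mp hv).2
  have hθ := isClassFunction_sect (irr_classFunction χ) v
  rw [Finset.sum_congr rfl fun s hs => by
    rw [starChar_section hM.1 (irr_classFunction χ) _ hv' (Finset.mem_filter.mp hs).2]]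
  show _ = ∑ s : cz v with IsPRegular p s,
    sect (χ : G → ℂ) v s * conj (sect (χ : G → ℂ) v s)
  rw [sum_regular_normSq_eq_sum_blocks hM hθ, subBlocks_eq]
  simp only [map_sum, map_mul, Finset.sum_mul, Finset.mul_sum]
  rw [Finset.sum_comm]
  refine Finset.sum_congr rfl fun b hb => ?_
  rw [Finset.sum_comm, Finset.sum_eq_single b]
  · refine Finset.sum_congr rfl fun s hs => ?_
    by_cases hp' : IsBrauerPairOf p M B (Subgroup.zpowers v) b
    · linear_combination (blockPart b (sect (χ : G → ℂ) v) s *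
        conj (blockPart b (sect (χ : G → ℂ) v) s)) *
        starW_mul_conj hM hF hlam (a := ⟨Subgroup.zpowers v, b⟩) (Subgroup.mem_zpowers v) hp'
    · rw [blockPart_sect_eq_zero hM hF.1.1.2.1 hχ hv' (mem_blocks.mp hb) hp'
        (Finset.mem_filter.mp hs).2]
      simp
  · intro b' hb' hne
    rw [Finset.sum_congr rfl (g := fun s =>
      starW p M e lam v ⟨Subgroup.zpowers v, b'⟩ *
        conj (starW p M e lam v ⟨Subgroup.zpowers v, b⟩) *
        (blockPart b' (sect (χ : G → ℂ) v) s * conj (blockPart b (sect (χ : G → ℂ) v) s)))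
      (fun s _ => by ring), ← Finset.mul_sum,
      sum_regular_blockPart_orth hM (mem_blocks.mp hb') (mem_blocks.mp hb) hne, mul_zero]
  · exact fun h => absurd hb h

theorem classInner_starChar_outside (hM : IsPModular p M) (hB : IsPBlock M B)
    {χ η : IrrCharacter G} (hχ : χ ∈ B) (hη : η ∉ B) (w : G → BrauerPairIdx G → ℂ) :
    classInner (starChar p M (χ : G → ℂ) w) (η : G → ℂ) = 0 := by
  classical
  have : Fact p.Prime := ⟨hM.1⟩
  rw [classInner, sum_sections hM.1]
  refine mul_eq_zero_of_right _ (Finset.sum_eq_zero fun v hv => ?_)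
  have hv' := (Finset.mem_filter.mp hv).2
  rw [Finset.sum_congr rfl fun s hs => by
    rw [starChar_section hM.1 (irr_classFunction χ) _ hv' (Finset.mem_filter.mp hs).2,
      Finset.sum_mul], Finset.sum_comm]
  refine Finset.sum_eq_zero fun b hb => ?_
  simp only [mul_assoc, ← Finset.mul_sum]
  refine mul_eq_zero_of_right _ ?_
  show ∑ s : cz v with IsPRegular p s,
    blockPart b (sect (χ : G → ℂ) v) s * conj (sect (η : G → ℂ) v s) = 0
  by_cases hp' : IsBrauerPairOf p M B (Subgroup.zpowers v) b
  · refine sum_regular_mul_conj_blockPart_of_zero hM (mem_subBlocks.mp hb) _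
      (isClassFunction_sect (irr_classFunction η) v) fun s hs => ?_
    refine blockPart_sect_eq_zero hM (isPBlock_blockOf η) (mem_blockOf_self η) hv'
      (mem_subBlocks.mp hb) (fun h => hη ?_) hs
    rw [(existsUnique_isBrauerPairOf hM hp'.1).unique hp' h]
    exact mem_blockOf_self η
  · exact Finset.sum_eq_zero fun s hs => by
      rw [blockPart_sect_eq_zero hM hB hχ hv' (mem_subBlocks.mp hb) hp'
        (Finset.mem_filter.mp hs).2, zero_mul]

theorem starChar_of_regular (hM : IsPModular p M) (hmax : IsMaximalBrauerPair p M B P e)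
    (lam : ↥P →* ℂˣ) {χ : IrrCharacter G} (hχ : χ ∈ B) {g : G} (hg : IsPRegular p g) :
    starChar p M (χ : G → ℂ) (starW p M e lam) g = (χ : G → ℂ) g := by
  classical
  have h1 : ∃ k : ℕ, orderOf (1 : G) = p ^ k := ⟨0, by simp⟩
  let s : cz (1 : G) := ⟨g, mem_centralizer_zpowers (Commute.one_left g)⟩
  have hs : IsPRegular p s := by
    show ¬ p ∣ orderOf s
    rw [← Subgroup.orderOf_coe]
    exact hg
  have hθ := isClassFunction_sect (irr_classFunction χ) (1 : G)
  have h := starChar_section (M := M) hM.1 (irr_classFunction χ) (starW p M e lam) h1 hs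
  rw [subBlocks_eq, Finset.sum_congr rfl (g := fun b => blockPart b (sect (χ : G → ℂ) 1) s)
    (fun b hb => ?_), sum_blockPart hθ] at h
  · simpa [s, sect] using h
  · by_cases hp' : IsBrauerPairOf p M B (Subgroup.zpowers (1 : G)) b
    · rw [starW_at_one hM hmax lam (a := ⟨Subgroup.zpowers (1 : G), b⟩) hp', one_mul]
    · rw [blockPart_sect_eq_zero hM hmax.1.2.1 hχ h1 (mem_blocks.mp hb) hp' hs, mul_zero]

theorem exists_starIrr (hM : IsPModular p M) (hF : IsBlockFusionSystemOn p M B P e F)
    {lam : ↥P →* ℂˣ} (hlam : ∀ n ∈ F.focalSubgroup.subgroupOf P, lam n = 1) {χ : IrrCharacter G}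
    (hχ : χ ∈ B) :
    ∃ ψ : IrrCharacter G, (ψ : G → ℂ) = starChar p M (χ : G → ℂ) (starW p M e lam) ∧ ψ ∈ B ∧
      blockHeight p B (ψ : G → ℂ) = blockHeight p B (χ : G → ℂ) := by
  have h1 := (classInner_starChar_self hM hF hlam hχ).trans (Char.classInner_irr_self χ.2)
  obtain ⟨ε, hε, ψ, hψ⟩ := Char.exists_of_norm_one
    (isGeneralized_starChar hM (Char.isCharacter_of_isIrr χ.2) (isPairWeight_starW hM hF hlam)) h1
  have hdeg := congrFun hψ 1
  rw [starChar_of_regular hM hF.1 lam hχ (by simp [IsPRegular, hM.1.ne_one]), Pi.smul_apply,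
    smul_eq_mul, (irr_degree_eq χ).1, (irr_degree_eq ψ).1] at hdeg
  have hε1 : ε = 1 := by
    rcases hε with h | h
    · exact h
    · exfalso
      have h0 : ((charDegree (χ : G → ℂ) + charDegree (ψ : G → ℂ) : ℕ) : ℂ) = 0 := by
        rw [Nat.cast_add, hdeg, h]
        ring
      have := (irr_degree_eq χ).2
      have := Nat.cast_eq_zero.mp h0
      omega
  rw [hε1, one_smul] at hψ
  rw [hε1, one_mul] at hdeg
  refine ⟨ψ, hψ.symm, ?_, by rw [blockHeight, blockHeight, Nat.cast_injective hdeg]⟩
  by_contra hψB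
  have h2 := classInner_starChar_outside hM hF.1.1.2.1 hχ hψB (starW p M e lam)
  rw [hψ, Char.classInner_irr_self ψ.2] at h2
  exact one_ne_zero h2

theorem starChar_comp (hM : IsPModular p M) {χ ψ : G → ℂ} (hχ : IsClassFunction G χ)
    (hψc : IsClassFunction G ψ) (lam mu : ↥P →* ℂˣ)
    (hψ : ψ = starChar p M χ (starW p M e mu)) :
    starChar p M ψ (starW p M e lam) = starChar p M χ (starW p M e (lam * mu)) := by
  classical
  funext g
  obtain ⟨u, r, h, rfl⟩ := exists_sectionPoint hM.1 g
  rw [starChar_eq hM.1 _ _ h, starChar_eq hM.1 _ _ h, starPart_one hψc _ h, starPart_one hχ _ h]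
  refine Finset.sum_congr rfl fun b hb => ?_
  rw [starW_mul, mul_assoc]
  congr 1
  refine blockPart_weighted hM (mem_subBlocks.mp hb) (θ := sect χ u)
    (fun b' => starW p M e mu u ⟨Subgroup.zpowers u, b'⟩) (fun s hs => ?_) ?_
  · rw [← subBlocks_eq, sect, hψ, starChar_section hM.1 hχ _ h.pElem hs]
  · show ¬ p ∣ orderOf (_ : cz u)
    rw [← Subgroup.orderOf_coe]
    exact h.regular

theorem starChar_one (hM : IsPModular p M) (hmax : IsMaximalBrauerPair p M B P e)
    {χ : IrrCharacter G} (hχ : χ ∈ B) :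
    starChar p M (χ : G → ℂ) (starW p M e (1 : ↥P →* ℂˣ)) = (χ : G → ℂ) := by
  classical
  funext g
  obtain ⟨u, r, h, rfl⟩ := exists_sectionPoint hM.1 g
  rw [starChar_eq hM.1 _ _ h, starPart_one (irr_classFunction χ) _ h, subBlocks_eq]
  refine (Finset.sum_congr rfl fun b hb => ?_).trans
    (sum_blockPart (isClassFunction_sect (irr_classFunction χ) u)
      ⟨r, mem_centralizer_zpowers h.comm⟩)
  by_cases hp' : IsBrauerPairOf p M B (Subgroup.zpowers u) b
  · rw [starW_one hM hmax (a := ⟨Subgroup.zpowers u, b⟩) (Subgroup.mem_zpowers u) hp', one_mul]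
  · rw [blockPart_sect_eq_zero hM hmax.1.2.1 hχ h.pElem (mem_blocks.mp hb) hp', mul_zero]
    rw [← Subgroup.orderOf_coe]
    exact h.regular

end CfsgLib.Blocks
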