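import Cfsg.Agent.Lib.Blocks.AlperinDade
import Cfsg.Agent.Lib.Blocks.RegularCriterion
import Cfsg.Agent.Lib.Char.PowerExtension
import Cfsg.Agent.Lib.Char.BrauerInd
import Cfsg.Agent.Lib.Char.PiPart
import Cfsg.Agent.Lib.Char.Twist

/-!
# Extending a character of the principal block with `p`-rational determinant

`θ` is invariant of degree prime to `p` in the principal block of `N`, fixed by the Galois
automorphisms fixing `p'`-roots, and `G / N C(Q)` is a `p`-group. The local extensions in the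
principal blocks glue by Brauer's characterisation to an extension in the principal block fixed by
the same automorphisms.
-/

set_option autoImplicit false
set_option linter.unusedSectionVars false
set_option linter.style.haveILetI false

namespace CfsgLib.Blocks.RationalExt

open Cfsg CfsgLib
open scoped ComplexConjugate CfsgLib.Char

variable {p : ℕ} {M : Ideal AlgInt}

/-- Roots of unity of order prime to `p` are determined by their residues. -/
theorem root_eq_of_congr (hM : IsPModular p M) {m : ℕ} (hm : ¬ p ∣ m) {z w : ℂ} (hz : z ^ m = 1)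
    (hw : w ^ m = 1) (h : MemLocalIdeal M (z - w)) : z = w := by
  have := isPrime_of_isPModular hM
  have hm0 : m ≠ 0 := by rintro rfl; exact hm (dvd_zero p)
  have hw1 : w * w ^ (m - 1) = 1 := by
    rw [← pow_succ', show m - 1 + 1 = m by omega, hw]
  have h1 : MemLocalIdeal M (z * w ^ (m - 1) - 1) := by
    rw [← hw1, ← sub_mul]
    exact memLocalIdeal_mul_right h (memLocalRing_pow (memLocalRing_of_isIntegral
      (IsIntegral.of_pow (Nat.pos_of_ne_zero hm0) (by rw [hw]; exact isIntegral_one))) _)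
  have h2 := eq_one_of_sub_one_mem hM hm (by
    rw [mul_pow, hz, one_mul, ← pow_mul, mul_comm, pow_mul, hw, one_pow]) h1
  calc z = z * (w * w ^ (m - 1)) := by rw [hw1, mul_one]
    _ = z * w ^ (m - 1) * w := by ring
    _ = w := by rw [h2, one_mul]

/-- Surjective inflation keeps the principal block. -/
theorem mem_principalBlock_inflate [M.IsPrime] {A B : Type*} [Group A] [Fintype A] [Group B]
    [Fintype B] (f : A →* B) (hf : Function.Surjective f) {η : IrrCharacter B}
    (h : η ∈ principalBlock M B) : inflate f hf η ∈ principalBlock M A := by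
  rw [principalBlock_eq, mem_blockOf_iff] at h ⊢
  have h2 := sameBlock_inflate (η := trivIrr B) f hf h
  have e : inflate f hf (trivIrr B) = trivIrr A := Subtype.ext rfl
  rw [e] at h2
  exact h2

variable {G : Type*} [Group G] [Fintype G] (N : Subgroup G) [hN : N.Normal] [Fintype N]
  [hp : Fact p.Prime]

/-- The extension in the principal block of an overgroup of `p'`-index inside `N C(Q)`. -/
theorem exists_local_extension (hM : IsPModular p M) {θ : IrrCharacter N}
    (hθ : θ ∈ principalBlock M N) (Q : Sylow p N) (H : Subgroup G) (hNH : N ≤ H)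
    (hidx : ¬ p ∣ N.relIndex H)
    (hH : H ≤ N ⊔ Subgroup.centralizer (((Q : Subgroup N).map N.subtype : Subgroup G) : Set G)) :
    ∃ η : IrrCharacter H, (∀ n : N, (η : H → ℂ) ⟨n, hNH n.2⟩ = (θ : N → ℂ) n) ∧
      ∀ c : H, (c : G) ∈ Subgroup.centralizer (((Q : Subgroup N).map N.subtype : Subgroup G) : Set G) →
        MemLocalIdeal M ((η : H → ℂ) c / (η : H → ℂ) 1 - 1) := by
  classical
  have := isPrime_of_isPModular hM
  haveI : Fintype H := Fintype.ofFinite H
  set N' := N.subgroupOf H with hN'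
  haveI : Fintype N' := Fintype.ofFinite N'
  set QG : Subgroup G := (Q : Subgroup N).map N.subtype with hQG
  have hQN : QG ≤ N := Subgroup.map_subtype_le _
  have hSi : ¬ p ∣ (QG.subgroupOf H).index := by
    show ¬ p ∣ QG.relIndex H
    rw [← Subgroup.relIndex_mul_relIndex QG N H hQN hNH, hp.out.dvd_mul]
    rintro (h | h)
    · rw [show QG.relIndex N = (Q : Subgroup N).index from by
        rw [Subgroup.relIndex, hQG, Subgroup.subgroupOf,
          Subgroup.comap_map_eq_self_of_injective N.subtype_injective]] at h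
      exact Q.not_dvd_index h
    · exact hidx h
  have hSp : IsPGroup p (QG.subgroupOf H) :=
    (Q.2.map N.subtype).comap_of_injective H.subtype H.subtype_injective
  set S : Sylow p H := hSp.toSylow hSi with hSdef
  have hSmem : ∀ c : H, c ∈ Subgroup.centralizer ((S : Subgroup H) : Set H) ↔
      (c : G) ∈ Subgroup.centralizer (QG : Set G) := by
    intro c
    rw [Subgroup.mem_centralizer_iff, Subgroup.mem_centralizer_iff]
    constructor
    · intro h u hu
      exact congrArg Subtype.val (h ⟨u, hNH (hQN hu)⟩ (by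
        rw [SetLike.mem_coe, hSdef, IsPGroup.toSylow_coe]; exact Subgroup.mem_subgroupOf.mpr hu))
    · intro h u hu
      rw [SetLike.mem_coe, hSdef, IsPGroup.toSylow_coe] at hu
      exact Subtype.ext (h (u : G) (Subgroup.mem_subgroupOf.mp hu))
  have hsup : N' ⊔ Subgroup.centralizer ((S : Subgroup H) : Set H) = ⊤ := by
    refine eq_top_iff.mpr fun h _ => ?_
    obtain ⟨n, hn, c, hc, e⟩ := Subgroup.mem_sup_of_normal_left.mp (hH h.2)
    have hcH : c ∈ H := by
      rw [show c = n⁻¹ * (h : G) by rw [← e, inv_mul_cancel_left]]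
      exact H.mul_mem (H.inv_mem (hNH hn)) h.2
    rw [show h = (⟨n, hNH hn⟩ : H) * ⟨c, hcH⟩ from Subtype.ext e.symm]
    exact Subgroup.mul_mem_sup (Subgroup.mem_subgroupOf.mpr hn) ((hSmem _).mpr hc)
  let e : N' ≃* N := Subgroup.subgroupOfEquivOfLe hNH
  let θ' : IrrCharacter N' := inflate e.toMonoidHom e.surjective θ
  have hθ' : θ' ∈ principalBlock M N' := mem_principalBlock_inflate _ e.surjective hθ
  have hcon : classInner (fun n : N' => (trivIrr H : H → ℂ) n) (trivIrr N' : N' → ℂ) ≠ 0 := by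
    rw [show (fun n : N' => (trivIrr H : H → ℂ) n) = (trivIrr N' : N' → ℂ) from rfl,
      Char.classInner_irr_self (trivIrr N').2]
    exact one_ne_zero
  obtain ⟨η, hη, hne⟩ := exists_constituent_mem_of_covering hM isPBlock_principalBlock
    isPBlock_principalBlock (trivIrr_mem_principalBlock H) (trivIrr_mem_principalBlock N') hcon hθ'
  have hirr := isIrr_restrict_of_principal N' hM hidx S hsup hη
  have heq : (fun n : N' => (η : H → ℂ) n) = (θ' : N' → ℂ) := by
    by_contra hne'
    exact hne (Char.classInner_irr_ne hirr θ'.2 hne')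
  refine ⟨η, fun n => ?_, fun c hc => value_congr_of_principal hM S hη ((hSmem c).mpr hc)⟩
  exact congrFun heq (⟨⟨(n : G), hNH n.2⟩, Subgroup.mem_subgroupOf.mpr n.2⟩ : N')

/-- The extension in the principal block fixed by the automorphisms fixing the `p'`-roots. -/
theorem exists_extension (hM : IsPModular p M) (hodd : p ≠ 2) {θ : IrrCharacter N}
    (hinv : ∀ g, Char.conjBy N (θ : N → ℂ) g = (θ : N → ℂ))
    (hdeg : ¬ p ∣ charDegree (θ : N → ℂ)) {α n' : ℕ} (hGn : Nat.card G = p ^ α * n')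
    (hn' : ¬ p ∣ n')
    (hfix : ∀ k : ℕ, k.Coprime (Nat.card G) → k ≡ 1 [MOD n'] →
      ∀ n : N, (θ : N → ℂ) (n ^ k) = (θ : N → ℂ) n)
    (hθ : θ ∈ principalBlock M N) (Q : Sylow p N) {a₀ : ℕ}
    (hidx : (N ⊔ Subgroup.centralizer (((Q : Subgroup N).map N.subtype : Subgroup G) : Set G)).index
      = p ^ a₀) :
    ∃ χ : IrrCharacter G, χ ∈ principalBlock M G ∧ (∀ n : N, (χ : G → ℂ) n = (θ : N → ℂ) n) ∧
      ∀ k : ℕ, k.Coprime (Nat.card G) → k ≡ 1 [MOD n'] →
        ∀ g : G, (χ : G → ℂ) (g ^ k) = (χ : G → ℂ) g := by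
  classical
  have := isPrime_of_isPModular hM
  set QG : Subgroup G := (Q : Subgroup N).map N.subtype with hQG
  set C := Subgroup.centralizer (QG : Set G) with hC
  set G₀ := N ⊔ C with hG₀
  set q := p ^ α with hq
  have hn0 : n' ≠ 0 := fun h => hn' (h ▸ dvd_zero p)
  have hcop : n'.Coprime q := ((hp.out.coprime_iff_not_dvd.mpr hn').pow_left α).symm
  obtain ⟨a, b, ha, hqa, hnb, hab⟩ := Char.PiPart.exists_exponent hcop
  have hcard : Nat.card G ∣ n' * q := by rw [hGn, mul_comm]
  have hpart : ∀ g : G, (g ^ a) ^ n' = 1 := Char.PiPart.part_pow hcard hqa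
  have hself : ∀ {g : G}, g ^ n' = 1 → g ^ a = g := fun h => Char.PiPart.part_eq_self ha h
  have hsplit : ∀ g : G, g ^ a * g ^ b = g := fun g => by
    rw [← pow_add]
    conv_rhs => rw [← pow_one g]
    exact pow_eq_pow_iff_modEq.mpr (hab.of_dvd ((orderOf_dvd_natCard g).trans hcard))
  have hregular : ∀ {g : G}, g ^ n' = 1 → IsPRegular p g := fun h hd =>
    hn' (hd.trans (orderOf_dvd_of_pow_eq_one h))
  have hreg' : ∀ {g : G}, IsPRegular p g → g ^ n' = 1 := fun {g} h =>
    orderOf_dvd_iff_pow_eq_one.mp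
      ((((hp.out.coprime_iff_not_dvd).mpr h).symm.pow_right α).dvd_of_dvd_mul_left
        (hGn ▸ orderOf_dvd_natCard g))
  -- `N C(Q)` is normal and contains the `p'`-elements
  have hfrat : ∀ g : G, ∃ n ∈ N, ∃ u ∈ Subgroup.normalizer (QG : Set G), g = n * u := fun g => by
    have h : g ∈ N ⊔ Subgroup.normalizer (QG : Set G) := by
      rw [sup_comm, hQG, Sylow.normalizer_sup_eq_top Q]; exact Subgroup.mem_top g
    obtain ⟨n, hn, u, hu, e⟩ := Subgroup.mem_sup_of_normal_left.mp h
    exact ⟨n, hn, u, hu, e.symm⟩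
  have hCconj : ∀ u ∈ Subgroup.normalizer (QG : Set G), ∀ c ∈ C, u * c * u⁻¹ ∈ C := by
    intro u hu c hc
    refine Subgroup.mem_centralizer_iff.mpr fun v hv => ?_
    have h1 : u⁻¹ * v * u ∈ QG := by
      have := (Subgroup.mem_normalizer_iff.mp ((Subgroup.normalizer _).inv_mem hu) v).mp hv
      rwa [inv_inv] at this
    have h2 := Subgroup.mem_centralizer_iff.mp hc _ h1
    calc v * (u * c * u⁻¹) = u * ((u⁻¹ * v * u) * c) * u⁻¹ := by group
      _ = u * (c * (u⁻¹ * v * u)) * u⁻¹ := by rw [h2]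
      _ = _ := by group
  haveI hG₀n : G₀.Normal := by
    refine ⟨fun x hx g => ?_⟩
    obtain ⟨n, hn, c, hc, rfl⟩ := Subgroup.mem_sup_of_normal_left.mp hx
    obtain ⟨m, hm, u, hu, rfl⟩ := hfrat g
    have hm' : m ∈ G₀ := Subgroup.mem_sup_left hm
    have h1 : u * (n * c) * u⁻¹ ∈ G₀ := by
      rw [show u * (n * c) * u⁻¹ = (u * n * u⁻¹) * (u * c * u⁻¹) by group]
      exact Subgroup.mul_mem_sup (hN.conj_mem n hn u) (hCconj u hu c hc)
    rw [show m * u * (n * c) * (m * u)⁻¹ = m * (u * (n * c) * u⁻¹) * m⁻¹ by group]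
    exact G₀.mul_mem (G₀.mul_mem hm' h1) (G₀.inv_mem hm')
  have hmemG₀ : ∀ {y : G} {m : ℕ}, y ^ m ∈ N → ¬ p ∣ m → y ∈ G₀ := by
    intro y m hy hm
    have h1 : y ^ m ∈ G₀ := Subgroup.mem_sup_left hy
    have h2 : y ^ p ^ a₀ ∈ G₀ := by rw [← hidx]; exact G₀.pow_index_mem y
    obtain ⟨s, t, hst⟩ : ∃ s t : ℤ, s * m + t * (p ^ a₀ : ℕ) = 1 :=
      Int.isCoprime_iff_nat_coprime.mpr (by
        simpa using ((hp.out.coprime_iff_not_dvd.mpr hm).pow_left a₀).symm)
    rw [show y = (y ^ m) ^ s * (y ^ p ^ a₀) ^ t by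
      rw [← zpow_natCast, ← zpow_natCast, ← zpow_mul, ← zpow_mul, ← zpow_add,
        show (m : ℤ) * s + ((p ^ a₀ : ℕ) : ℤ) * t = 1 by linear_combination hst, zpow_one]]
    exact G₀.mul_mem (G₀.zpow_mem h1 s) (G₀.zpow_mem h2 t)
  -- the degree and the determinant
  set d := charDegree (θ : N → ℂ) with hd
  have hθ1 : (θ : N → ℂ) 1 = (d : ℂ) := (irr_degree_eq θ).1
  have hd0 : (d : ℂ) ≠ 0 := Nat.cast_ne_zero.mpr (irr_degree_eq θ).2.ne'
  obtain ⟨μθ, hμθ⟩ := Char.exists_det_hom (Char.isCharacter_of_isIrr θ.2)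
  have hdetθ : ∀ n : N, μθ n ^ n' = 1 := by
    intro n
    set w := μθ n ^ n'
    have hwq : w ^ q = 1 := by
      rw [← pow_mul, mul_comm, ← hGn, ← map_pow, show n ^ Nat.card G = 1 from
        Subtype.ext (by rw [Subgroup.coe_pow, pow_card_eq_one', Subgroup.coe_one]), map_one]
    have h2q : (2 : ℕ).Coprime q := ((Nat.coprime_primes Nat.prime_two hp.out).mpr (Ne.symm hodd)).pow_right α
    obtain ⟨k, hk, hk2, hk1⟩ := Char.exists_coprime_exponent (Nat.card_pos (α := G)).ne'
      hcop.symm (by rw [hGn]) h2q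
    have e : detChar (fun x : N => (θ : N → ℂ) (x ^ k)) n = detChar (θ : N → ℂ) n ^ k :=
      Char.detChar_pow (Char.isCharacter_of_isIrr θ.2)
        (hk.coprime_dvd_right (Subgroup.card_subgroup_dvd_card N)) n
    rw [funext (hfix k hk hk1), hμθ, ← Units.val_pow_eq_pow_val] at e
    have hwk : w ^ k = w := by
      show (μθ n ^ n') ^ k = _
      rw [← pow_mul, mul_comm, pow_mul, ← Units.ext e]
    have h3 : w ^ 2 = w := by
      rw [← pow_eq_pow_iff_modEq.mpr (hk2.of_dvd (orderOf_dvd_of_pow_eq_one hwq)), hwk]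
    exact mul_eq_left.mp (by rw [← pow_two, h3])
  -- some extension
  obtain ⟨χ₀, hχ₀, hres⟩ : ∃ χ : G → ℂ, IsIrrCharacter G χ ∧ ∀ n : N, χ n = (θ : N → ℂ) n := by
    refine Char.extends_of_sylow N θ.2 hinv fun r hr hrN => ?_
    haveI := Fact.mk hr
    obtain ⟨R⟩ : Nonempty (Sylow r (G ⧸ N)) := inferInstance
    set π := QuotientGroup.mk' N with hπ
    have hπs : Function.Surjective π := QuotientGroup.mk'_surjective N
    set P := (R : Subgroup (G ⧸ N)).comap π
    have hNP : N ≤ P := fun n hn => by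
      show π n ∈ (R : Subgroup (G ⧸ N))
      rw [show π n = 1 from (QuotientGroup.eq_one_iff n).mpr hn]
      exact one_mem _
    have hPi : ¬ r ∣ P.index := by
      rw [Subgroup.index_comap_of_surjective _ hπs]; exact R.not_dvd_index
    have hrel : ∃ e, N.relIndex P = r ^ e := by
      obtain ⟨e, he⟩ := IsPGroup.iff_card.mp R.2
      refine ⟨e, Nat.eq_of_mul_eq_mul_right (Nat.pos_of_ne_zero Subgroup.FiniteIndex.index_ne_zero)
        (?_ : N.relIndex P * P.index = r ^ e * P.index)⟩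
      rw [Subgroup.relIndex_mul_index hNP, Subgroup.index_comap_of_surjective _ hπs, ← he,
        Subgroup.card_mul_index, Subgroup.index_eq_card]
    obtain ⟨e, he⟩ := hrel
    rcases eq_or_ne r p with rfl | hrp
    · haveI : Fintype P := Fintype.ofFinite P
      set N' := N.subgroupOf P
      let f : N' ≃* N := Subgroup.subgroupOfEquivOfLe hNP
      have hθ' : IsIrrCharacter N' (fun x => (θ : N → ℂ) (f x)) :=
        (inflate f.toMonoidHom f.surjective θ).2
      have hinv' : ∀ g : P, Char.conjBy N' (fun x => (θ : N → ℂ) (f x)) g =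
          (fun x => (θ : N → ℂ) (f x)) := fun g => funext fun x => congrFun (hinv (g : G)) (f x)
      obtain ⟨η, hη, hηres⟩ := Char.extends_of_det N' hθ' hinv' d n' hθ1 1 (fun x => by
        rw [MonoidHom.one_apply, Units.val_one,
          show detChar (fun x => (θ : N → ℂ) (f x)) x = (μθ (f x) : ℂ) from
            (Char.detChar_comp f.toMonoidHom (Char.isCharacter_of_isIrr θ.2) x).trans
              (congrFun hμθ _),
          ← Units.val_pow_eq_pow_val]
        exact (congrArg Units.val (hdetθ _)).symm) (by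
        show (N.relIndex P).Coprime (d * n')
        rw [he]
        exact ((hp.out.coprime_iff_not_dvd.mpr hdeg).mul_right
          (hp.out.coprime_iff_not_dvd.mpr hn')).pow_left e)
      exact ⟨P, hNP, η, hPi, Char.isCharacter_of_isIrr hη,
        fun n => hηres ⟨⟨(n : G), hNP n.2⟩, Subgroup.mem_subgroupOf.mpr n.2⟩⟩
    · have hpr : ¬ p ∣ r ^ e := fun h => hrp
        ((Nat.prime_dvd_prime_iff_eq hp.out hr).mp (hp.out.dvd_of_dvd_pow h)).symm
      have hPG : P ≤ G₀ := fun y hy => by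
        refine hmemG₀ (m := r ^ e) ?_ hpr
        have h := (N.subgroupOf P).pow_index_mem (⟨y, hy⟩ : P)
        rw [show (N.subgroupOf P).index = r ^ e from he] at h
        exact Subgroup.mem_subgroupOf.mp h
      obtain ⟨η, hη, -⟩ := exists_local_extension N hM hθ Q P hNP (by rw [he]; exact hpr) hPG
      exact ⟨P, hNP, (η : P → ℂ), hPi, Char.isCharacter_of_isIrr η.2, hη⟩
  have hχ₀c := Char.isCharacter_of_isIrr hχ₀
  have hχ₀1 : χ₀ 1 = d := (hres 1).trans hθ1
  -- the residue of the extension on the `p'`-cosets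
  let Good : G → ℂˣ → Prop := fun g z => z ^ n' = 1 ∧ ∀ c : G, c ∈ C → c ^ n' = 1 →
    (c : G ⧸ N) = ((g ^ a : G) : G ⧸ N) → MemLocalIdeal M (χ₀ c / d - (z : ℂ))
  have hwit : ∀ g : G, ∃ c ∈ C, c ^ n' = 1 ∧ (c : G ⧸ N) = ((g ^ a : G) : G ⧸ N) := fun g => by
    obtain ⟨n, hn, c₀, hc₀, e⟩ := Subgroup.mem_sup_of_normal_left.mp
      (hmemG₀ (m := n') (by rw [hpart g]; exact one_mem N) hn' : g ^ a ∈ G₀)
    refine ⟨c₀ ^ a, C.pow_mem hc₀ a, hpart c₀, ?_⟩
    have h1 : (c₀ : G ⧸ N) = ((g ^ a : G) : G ⧸ N) := by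
      rw [← e, QuotientGroup.mk_mul, (QuotientGroup.eq_one_iff n).mpr hn, one_mul]
    rw [QuotientGroup.mk_pow, h1, ← QuotientGroup.mk_pow, hself (hpart g)]
  have huniq : ∀ g z w, Good g z → Good g w → z = w := by
    intro g z w hz hw
    obtain ⟨c, hc, hcn, hcg⟩ := hwit g
    refine Units.ext (root_eq_of_congr hM hn' (by rw [← Units.val_pow_eq_pow_val, hz.1]; rfl)
      (by rw [← Units.val_pow_eq_pow_val, hw.1]; rfl) ?_)
    convert memLocalIdeal_sub (hw.2 c hc hcn hcg) (hz.2 c hc hcn hcg) using 1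
    ring
  have hloc : ∀ K : Subgroup G, (∀ y ∈ K, y ^ n' = 1) → ∃ f : K →* ℂˣ,
      ∀ (g : G) (hg : g ^ a ∈ K), Good g (f ⟨g ^ a, hg⟩) := by
    intro K hK
    set H := N ⊔ K with hH
    haveI : Fintype H := Fintype.ofFinite H
    have hKG : K ≤ G₀ := fun y hy => hmemG₀ (m := n') (by rw [hK y hy]; exact one_mem N) hn'
    have hrel : ¬ p ∣ N.relIndex H := by
      rw [hH, Subgroup.relIndex_sup_left]
      intro h
      obtain ⟨y, hy⟩ := exists_prime_orderOf_dvd_card' (G := K) p
        (h.trans (Subgroup.index_dvd_card _))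
      have := orderOf_dvd_of_pow_eq_one (hK (y : G) y.2)
      rw [Subgroup.orderOf_coe, hy] at this
      exact hn' this
    obtain ⟨η, hηres, hηc⟩ := exists_local_extension N hM hθ Q H le_sup_left hrel
      (sup_le le_sup_left hKG)
    set N' := N.subgroupOf H
    let f : N' ≃* N := Subgroup.subgroupOfEquivOfLe (le_sup_left : N ≤ H)
    have hθ' : IsIrrCharacter N' (fun x => (θ : N → ℂ) (f x)) :=
      (inflate f.toMonoidHom f.surjective θ).2
    have hres' : IsIrrCharacter H (fun x : H => χ₀ x) :=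
      Char.isIrr_of_restrict N' (Char.isCharacter_restrict H hχ₀c) (by
        rw [show (fun x : N' => χ₀ ((x : H) : G)) = fun x => (θ : N → ℂ) (f x) from
          funext fun x => hres (f x)]
        exact hθ')
    obtain ⟨β, hβN, hβ⟩ := Char.extensions_differ N' hθ' η.2 hres'
      (fun x => hηres (f x)) (fun x => hres (f x))
    refine ⟨β.comp (Subgroup.inclusion (le_sup_right : K ≤ H)), fun g hg => ⟨?_, ?_⟩⟩
    · rw [← map_pow, show (⟨g ^ a, hg⟩ : K) ^ n' = 1 from Subtype.ext (hpart g), map_one]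
    · intro c hc _ hcg
      have hdiff : (g ^ a)⁻¹ * c ∈ N := QuotientGroup.eq.mp hcg.symm
      have hcH : c ∈ H := by
        rw [show c = g ^ a * ((g ^ a)⁻¹ * c) by group]
        exact H.mul_mem (Subgroup.mem_sup_right hg) (Subgroup.mem_sup_left hdiff)
      set z := β.comp (Subgroup.inclusion (le_sup_right : K ≤ H)) ⟨g ^ a, hg⟩ with hz
      have hβc : β ⟨c, hcH⟩ = z := by
        rw [show (⟨c, hcH⟩ : H) = ⟨g ^ a, Subgroup.mem_sup_right hg⟩ *
          ⟨(g ^ a)⁻¹ * c, Subgroup.mem_sup_left hdiff⟩ from Subtype.ext (by simp), map_mul,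
          hβN ⟨⟨(g ^ a)⁻¹ * c, Subgroup.mem_sup_left hdiff⟩, Subgroup.mem_subgroupOf.mpr hdiff⟩,
          mul_one]
        rfl
      have hη1 : (η : H → ℂ) 1 = (d : ℂ) := (hηres 1).trans hθ1
      have hval : χ₀ c = (z : ℂ) * (η : H → ℂ) ⟨c, hcH⟩ := by
        rw [← hβc]; exact congrFun hβ ⟨c, hcH⟩
      have h1 := memLocalIdeal_mul_left (memLocalRing_of_isIntegral
        (Char.isIntegral_value (Char.isCharacter_monoidHom β) ⟨c, hcH⟩)) (hηc ⟨c, hcH⟩ hc)
      rw [hη1, hβc] at h1
      convert h1 using 1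
      rw [hval]
      ring
  have hcyc : ∀ g : G, ∃ z, Good g z := fun g => by
    obtain ⟨f, hf⟩ := hloc (Subgroup.zpowers (g ^ a)) (by
      rintro y ⟨i, rfl⟩
      rw [← zpow_natCast, ← zpow_mul, mul_comm, zpow_mul, zpow_natCast, hpart, one_zpow])
    exact ⟨_, hf g (Subgroup.mem_zpowers _)⟩
  choose β hβ using hcyc
  have hβN : ∀ n : N, β n = 1 := by
    intro n
    obtain ⟨η, hηres, hηc⟩ := exists_local_extension N hM hθ Q N le_rfl
      (by rw [Subgroup.relIndex_self]; exact hp.out.not_dvd_one) le_sup_left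
    refine huniq _ _ _ (hβ n) ⟨one_pow _, fun c hc hcn hcg => ?_⟩
    have hcN : c ∈ N := by
      rw [← QuotientGroup.eq_one_iff, hcg, QuotientGroup.eq_one_iff]
      exact N.pow_mem n.2 a
    have h1 := hηc ⟨c, hcN⟩ hc
    rw [hηres ⟨c, hcN⟩, (hηres 1).trans hθ1] at h1
    rw [hres ⟨c, hcN⟩, Units.val_one]
    exact h1
  have hβclass : IsClassFunction G (fun g => (β g : ℂ)) := by
    intro g h
    refine congrArg Units.val (huniq _ _ _ (hβ _) ⟨(hβ g).1, fun c hc hcn hcg => ?_⟩)
    obtain ⟨n, hn, u, hu, rfl⟩ := hfrat h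
    have e1 : ((n * u : G) : G ⧸ N) = (u : G ⧸ N) := by
      rw [QuotientGroup.mk_mul, (QuotientGroup.eq_one_iff n).mpr hn, one_mul]
    set c' := u⁻¹ * c * u with hc'
    have hc'C : c' ∈ C := by
      have := hCconj u⁻¹ ((Subgroup.normalizer _).inv_mem hu) c hc
      rwa [inv_inv] at this
    have hc'n : c' ^ n' = 1 := by
      rw [hc', show u⁻¹ * c * u = MulAut.conj u⁻¹ c by simp, ← map_pow, hcn, map_one]
    have hc'g : (c' : G ⧸ N) = ((g ^ a : G) : G ⧸ N) := by
      rw [hc', QuotientGroup.mk_mul, QuotientGroup.mk_mul, hcg, QuotientGroup.mk_pow,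
        QuotientGroup.mk_mul, QuotientGroup.mk_mul, QuotientGroup.mk_inv, QuotientGroup.mk_inv, e1,
        conj_pow, QuotientGroup.mk_pow]
      group
    have h1 := (hβ g).2 c' hc'C hc'n hc'g
    have e2 : χ₀ c' = χ₀ c := by
      have := Char.isClassFunction_of_isCharacter hχ₀c c u⁻¹
      rwa [inv_inv] at this
    rwa [e2] at h1
  -- gluing
  have hgen : IsGeneralizedCharacter G (fun g => (β g : ℂ)) := by
    refine Char.brauer_characterisation hβclass fun E r hr hE => ?_
    haveI := Char.isNilpotent_of_isElementary hr hE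
    have hcardE : Nat.card E ∣ n' * q := (Subgroup.card_subgroup_dvd_card E).trans hcard
    let pa : E →* G :=
      { toFun := fun x => ((x ^ a : E) : G)
        map_one' := by simp
        map_mul' := fun u v => by
          rw [Char.PiPart.part_hom hcardE ha hqa hcop u v, Subgroup.coe_mul] }
    obtain ⟨f, hf⟩ := hloc pa.range (by
      rintro _ ⟨x, rfl⟩
      show ((x ^ a : E) : G) ^ n' = 1
      rw [Subgroup.coe_pow]
      exact hpart _)
    have hmem : ∀ x : E, (x : G) ^ a ∈ pa.range := fun x => ⟨x, Subgroup.coe_pow E x a⟩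
    let g : E →* ℂˣ := f.comp pa.rangeRestrict
    have hg : (fun x : E => (β x : ℂ)) = fun x : E => (g x : ℂ) := funext fun x => by
      refine congrArg Units.val ((huniq _ _ _ (hβ x) (hf x (hmem x))).trans ?_)
      show f _ = f _
      exact congrArg f (Subtype.ext (Subgroup.coe_pow E x a).symm)
    rw [hg]
    exact Char.isGeneralized_of_isCharacter (Char.isCharacter_monoidHom g)
  have hnorm : classInner (fun g => (β g : ℂ)) (fun g => (β g : ℂ)) = 1 := by
    rw [classInner]
    have h : ∀ g : G, (β g : ℂ) * conj (β g : ℂ) = 1 := fun g => by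
      have h1 : ‖(β g : ℂ)‖ = 1 := Complex.norm_eq_one_of_pow_eq_one
        (by rw [← Units.val_pow_eq_pow_val, (hβ g).1, Units.val_one]) hn0
      rw [Complex.mul_conj, Complex.normSq_eq_norm_sq, h1]
      norm_num
    rw [Finset.sum_congr rfl fun g _ => h g, Finset.sum_const, Finset.card_univ, nsmul_one,
      Fintype.card_eq_nat_card, inv_mul_cancel₀ (Nat.cast_ne_zero.mpr Nat.card_pos.ne')]
  have hβ1 : (β 1 : ℂ) = 1 := by
    have := hβN 1
    rw [Subgroup.coe_one] at this
    rw [this, Units.val_one]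
  have hβc : IsCharacter G (fun g => (β g : ℂ)) := by
    obtain ⟨ε, hε, ψ, hψ⟩ := Char.exists_of_norm_one hgen hnorm
    rcases hε with rfl | rfl
    · rw [hψ, one_smul]
      exact Char.isCharacter_of_isIrr ψ.2
    · exfalso
      obtain ⟨m, -, em⟩ := Char.exists_nat_degree_irr ψ.2
      have h1 := congrFun hψ 1
      simp only [Pi.smul_apply, em, hβ1] at h1
      rw [neg_smul, one_smul, eq_neg_iff_add_eq_zero] at h1
      have : 1 + m = 0 := by exact_mod_cast h1
      omega
  let B : G →* ℂˣ := Char.linearHom hβc hβ1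
  have hB : ∀ g, B g = β g := fun g => Units.ext rfl
  -- remove the `p`-part of the determinant
  set χ₁ : G → ℂ := fun g => (B⁻¹ g : ℂ) * χ₀ g with hχ₁
  have hχ₁c : IsCharacter G χ₁ := Char.isCharacter_mul (Char.isCharacter_monoidHom B⁻¹) hχ₀c
  have hχ₁res : ∀ n : N, χ₁ n = (θ : N → ℂ) n := fun n => by
    show ((B (n : G))⁻¹ : ℂˣ) * χ₀ n = _
    rw [hB, hβN, inv_one, Units.val_one, one_mul, hres]
  have hχ₁1 : χ₁ 1 = d := (hχ₁res 1).trans hθ1
  obtain ⟨μ, hμ⟩ := Char.exists_det_hom hχ₁c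
  have hdq : d.Coprime q := ((hp.out.coprime_iff_not_dvd.mpr hdeg).pow_left α).symm
  obtain ⟨s, hs1, hs2⟩ := Nat.chineseRemainder hdq 0 (q - 1)
  obtain ⟨j, rfl⟩ := Nat.modEq_zero_iff_dvd.mp hs1
  let τ : G →* ℂˣ := (powMonoidHom (b * j)).comp μ
  have hτ : ∀ g, τ g = μ g ^ (b * j) := fun g => rfl
  have hτN : ∀ n : N, τ n = 1 := by
    intro n
    have h1 : μ n = μθ n := Units.ext (by
      have h2 := Char.detChar_restrict N hχ₁c n
      rw [show (fun m : N => χ₁ m) = (θ : N → ℂ) from funext hχ₁res, hμθ, hμ] at h2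
      exact h2.symm)
    obtain ⟨i, hi⟩ := hnb
    rw [hτ, h1, hi, mul_assoc, pow_mul, hdetθ, one_pow]
  have hτreg : ∀ c : G, c ^ n' = 1 → τ c = 1 := by
    intro c hc
    obtain ⟨i, hi⟩ := hnb
    rw [hτ, ← map_pow, hi, mul_assoc, pow_mul, hc, one_pow, map_one]
  set χ₂ : G → ℂ := fun g => (τ g : ℂ) * χ₁ g with hχ₂
  have hχ₂c : IsCharacter G χ₂ := Char.isCharacter_mul (Char.isCharacter_monoidHom τ) hχ₁c
  have hχ₂res : ∀ n : N, χ₂ n = (θ : N → ℂ) n := fun n => by
    show (τ (n : G) : ℂ) * χ₁ n = _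
    rw [hτN, Units.val_one, one_mul, hχ₁res]
  have hχ₂i : IsIrrCharacter G χ₂ := Char.isIrr_of_restrict N hχ₂c (by
    rw [show (fun n : N => χ₂ n) = (θ : N → ℂ) from funext hχ₂res]; exact θ.2)
  have hχ₂1 : χ₂ 1 = d := (hχ₂res 1).trans hθ1
  have hdet : ∀ g, detChar χ₂ g ^ n' = 1 := by
    intro g
    have hq1 : q ∣ b * j * d + 1 := by
      refine (Nat.modEq_zero_iff_dvd).mp ?_
      have hb1 : b ≡ 1 [MOD q] := by
        have h := hab.of_mul_left n'
        refine Nat.ModEq.trans ?_ h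
        conv_lhs => rw [← zero_add b]
        exact ((Nat.modEq_zero_iff_dvd.mpr hqa).symm).add_right b
      have h2 : b * (d * j) + 1 ≡ 1 * (q - 1) + 1 [MOD q] := (hb1.mul hs2).add_right 1
      rw [one_mul, Nat.sub_add_cancel (Nat.one_le_iff_ne_zero.mpr (pow_ne_zero _ hp.out.ne_zero))] at h2
      rw [mul_assoc, mul_comm j d]
      exact h2.trans (Nat.modEq_zero_iff_dvd.mpr dvd_rfl)
    obtain ⟨i, hi⟩ := hq1
    rw [hχ₂, Char.detChar_linear_mul hχ₁c τ d hχ₁1, hμ]
    show ((τ g : ℂ) ^ d * (μ g : ℂ)) ^ n' = 1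
    rw [← Units.val_pow_eq_pow_val, ← Units.val_mul, ← Units.val_pow_eq_pow_val, hτ, ← pow_mul,
      ← pow_succ, ← pow_mul, hi, show q * i * n' = Nat.card G * i by rw [hGn]; ring, ← map_pow,
      pow_mul, pow_card_eq_one', one_pow, map_one, Units.val_one]
  have hcongr : ∀ c ∈ C, c ^ n' = 1 → MemLocalIdeal M (χ₂ c / d - 1) := by
    intro c hc hcn
    have h1 := (hβ c).2 c hc hcn (by rw [hself hcn])
    have h2 := memLocalIdeal_mul_left (memLocalRing_of_isIntegral
      (Char.isIntegral_value (Char.isCharacter_monoidHom B⁻¹) c)) h1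
    convert h2 using 1
    show (τ c : ℂ) * ((B⁻¹ c : ℂ) * χ₀ c) / d - 1 = _
    have h3 : (B⁻¹ c : ℂ) * (β c : ℂ) = 1 := by
      rw [← Units.val_mul, MonoidHom.inv_apply, hB, inv_mul_cancel, Units.val_one]
    rw [hτreg c hcn, Units.val_one]
    linear_combination h3
  refine ⟨⟨χ₂, hχ₂i⟩, ?_, hχ₂res, ?_⟩
  · refine mem_principalBlock_of_regular hM fun g hg => ?_
    set i := (Subgroup.centralizer ({g} : Set G)).index
    show MemLocalIdeal M ((i : ℂ) * χ₂ g / χ₂ 1 - (i : ℂ))
    rw [hχ₂1, show (i : ℂ) * χ₂ g / d - i = i * (χ₂ g / d - 1) by ring]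
    by_cases hpi : p ∣ i
    · refine memLocalIdeal_mul_right ((memLocalIdeal_natCast_iff hM).mpr hpi) (memLocalRing_sub ?_ memLocalRing_one)
      rw [div_eq_mul_inv]
      exact memLocalRing_mul (memLocalRing_of_isIntegral (Char.isIntegral_value hχ₂c g))
        (memLocalRing_natCast_inv hM hdeg)
    · refine memLocalIdeal_mul_left (memLocalRing_natCast _) ?_
      set Cg := Subgroup.centralizer ({g} : Set G)
      obtain ⟨P⟩ : Nonempty (Sylow p Cg) := inferInstance
      have hPs : ¬ p ∣ ((P : Subgroup Cg).map Cg.subtype).index := by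
        rw [Subgroup.index_map_subtype, hp.out.dvd_mul]
        rintro (h | h)
        · exact P.not_dvd_index h
        · exact hpi h
      set S : Sylow p G := (P.2.map Cg.subtype).toSylow hPs with hSdef
      obtain ⟨P₀, hP₀⟩ := (Q.2.map N.subtype).exists_le_sylow
      obtain ⟨u, hu⟩ := MulAction.exists_smul_eq G S P₀
      set g' := u * g * u⁻¹ with hg'
      have hg'C : g' ∈ C := Subgroup.mem_centralizer_iff.mpr fun v hv => by
        have h1 : v ∈ ((P₀ : Subgroup G)) := hP₀ hv
        rw [← hu, Sylow.coe_subgroup_smul] at h1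
        obtain ⟨w, hw, rfl⟩ := Subgroup.mem_map.mp h1
        rw [hSdef, IsPGroup.toSylow_coe] at hw
        obtain ⟨w', -, rfl⟩ := Subgroup.mem_map.mp hw
        have h2 : (w' : G) * g = g * (w' : G) := Subgroup.mem_centralizer_singleton_iff.mp w'.2
        show u * (w' : G) * u⁻¹ * (u * g * u⁻¹) = u * g * u⁻¹ * (u * (w' : G) * u⁻¹)
        calc u * (w' : G) * u⁻¹ * (u * g * u⁻¹) = u * ((w' : G) * g) * u⁻¹ := by group
          _ = u * (g * (w' : G)) * u⁻¹ := by rw [h2]
          _ = _ := by group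
      have hg'n : g' ^ n' = 1 := by
        rw [hg', conj_pow, hreg' hg, mul_one, mul_inv_cancel]
      have h1 := hcongr g' hg'C hg'n
      rwa [hg', Char.isClassFunction_of_isCharacter hχ₂c g u] at h1
  · intro k hk hk1 g
    have hγi : IsIrrCharacter G (fun x => χ₂ (x ^ k)) := Char.isIrrCharacter_pow hk hχ₂i
    obtain ⟨γ, hγN, hγ⟩ := Char.extensions_differ N θ.2 hχ₂i hγi hχ₂res fun n => by
      rw [show χ₂ ((n : G) ^ k) = χ₂ ((n ^ k : N) : G) by rw [Subgroup.coe_pow], hχ₂res,
        hfix k hk hk1]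
    have hγd : ∀ x, γ x ^ d = 1 := by
      intro x
      have h1 := Char.detChar_pow hχ₂c hk x
      rw [hγ, Char.detChar_linear_mul hχ₂c γ d hχ₂1] at h1
      have h2 : detChar χ₂ x ^ k = detChar χ₂ x := by
        rw [pow_eq_pow_mod k (hdet x), hk1, ← pow_eq_pow_mod 1 (hdet x), pow_one]
      rw [h2] at h1
      have h3 : (γ x : ℂ) ^ d = 1 := by
        have h4 : detChar χ₂ x ≠ 0 := fun h => by
          have := hdet x
          rw [h, zero_pow hn0] at this
          exact zero_ne_one this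
        exact mul_right_cancel₀ h4 (h1.trans (one_mul _).symm)
      exact Units.ext (by rw [Units.val_pow_eq_pow_val, h3, Units.val_one])
    have hγone : γ g = 1 := by
      obtain ⟨c, hc, hcn, hcg⟩ := hwit g
      have hγc : γ c = 1 := by
        have h1 := congrFun hγ c
        rw [Char.pow_eq_self_of_modEq_one (orderOf_dvd_of_pow_eq_one hcn) hk1] at h1
        have h2 : χ₂ c ≠ 0 := fun h0 => by
          have h3 := hcongr c hc hcn
          rw [h0, zero_div, zero_sub] at h3
          exact not_memLocalIdeal_one (by simpa using memLocalIdeal_neg h3)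
        exact Units.ext (mul_right_cancel₀ h2 ((one_mul _).trans h1).symm)
      have hga : γ (g ^ a) = 1 := by
        rw [show g ^ a = c * (c⁻¹ * g ^ a) by group, map_mul, hγc, one_mul]
        exact hγN ⟨_, QuotientGroup.eq.mp hcg⟩
      have hgb : γ (g ^ b) = 1 := by
        obtain ⟨i, hi⟩ := hnb
        have h1 : γ (g ^ b) ^ q = 1 := by
          rw [← map_pow, ← pow_mul, hi, show n' * i * q = Nat.card G * i by rw [hGn]; ring,
            pow_mul, pow_card_eq_one', one_pow, map_one]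
        rw [← pow_one (γ (g ^ b)), ← hdq.gcd_eq_one, pow_gcd_eq_one.mpr ⟨hγd _, h1⟩]
      rw [← hsplit g, map_mul, hga, hgb, one_mul]
    show χ₂ (g ^ k) = χ₂ g
    rw [congrFun hγ g, hγone, Units.val_one, one_mul]

end CfsgLib.Blocks.RationalExt
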