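import Cfsg.Agent.Lib.Blocks.BrauerFeit
import Cfsg.Agent.Lib.Blocks.OrbitSum
import Cfsg.Agent.Lib.Blocks.Osima
import Cfsg.Agent.Lib.Char.Gallagher
import Cfsg.Agent.Lib.Char.Counting

/-!
# Gow's lemma: a real 2-block of full defect is principal
-/

set_option autoImplicit false
set_option linter.unusedSectionVars false

namespace CfsgLib.Blocks

open Cfsg
open scoped ComplexConjugate CfsgLib.Char

variable {M : Ideal AlgInt} {G : Type*} [Group G] [Fintype G]

theorem eq_one_of_inv_eq_of_regular {g : G} (hg : IsPRegular 2 g) (h : g⁻¹ = g) : g = 1 := by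
  have h2 : orderOf g ∣ 2 := orderOf_dvd_of_pow_eq_one
    (by rw [pow_two]; nth_rewrite 1 [← h]; exact inv_mul_cancel g)
  rcases (Nat.dvd_prime Nat.prime_two).mp h2 with h1 | h1
  · exact orderOf_eq_one_iff.mp h1
  · exact absurd h1.symm.dvd hg

theorem memLocalIdeal_sum_sub_apply_one [M.IsPrime] (hM : IsPModular 2 M) (S : Sylow 2 G)
    {f : G → ℂ} (hcl : ∀ x g : G, f (x * g * x⁻¹) = f g) (hloc : ∀ g, MemLocalRing M (f g))
    (hsupp : ∀ g, ¬ IsPRegular 2 g → f g = 0)
    (hinv : ∀ g ∈ Subgroup.centralizer ((S : Subgroup G) : Set G), IsPRegular 2 g →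
      MemLocalIdeal M (f g⁻¹ - f g)) : MemLocalIdeal M ((∑ g, f g) - f 1) := by
  classical
  letI : MulAction (S : Subgroup G) G := {
    smul := fun s g => (s : G) * g * (s : G)⁻¹
    one_smul := fun g => show (1 : G) * g * (1 : G)⁻¹ = g by simp
    mul_smul := fun s t g => show (s * t : G) * g * (s * t : G)⁻¹ =
      (s : G) * ((t : G) * g * (t : G)⁻¹) * (s : G)⁻¹ by group }
  have h1 := memLocalIdeal_sum_sub_fixed hM S.2 hloc (fun s a => hcl s a)
  set F := ({a | a ∈ MulAction.fixedPoints (S : Subgroup G) G} : Finset G)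
  have hF : ∀ a, a ∈ F ↔ a ∈ Subgroup.centralizer ((S : Subgroup G) : Set G) := by
    intro a
    simp only [F, Finset.mem_filter, Finset.mem_univ, true_and, MulAction.mem_fixedPoints]
    constructor
    · intro h s hs
      exact mul_inv_eq_iff_eq_mul.mp (h ⟨s, hs⟩)
    · intro h s
      exact mul_inv_eq_iff_eq_mul.mpr (h s s.2)
  set e := Fintype.equivFin G
  set A := F.filter fun a => e a < e a⁻¹
  have hA : ∀ a, a ∈ A ↔ a ∈ F ∧ e a < e a⁻¹ := fun a => Finset.mem_filter
  have hinvF : ∀ a, a ∈ F → a⁻¹ ∈ F := fun a ha => (hF _).mpr (inv_mem ((hF a).mp ha))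
  have hkey : MemLocalIdeal M ((∑ a ∈ F, f a) - f 1) := by
    have hsplit : ∑ a ∈ F, f a = ∑ a ∈ A, f a + ∑ a ∈ A, f a⁻¹ +
        ∑ a ∈ F.filter (fun a => a⁻¹ = a), f a := by
      have himg : ∑ a ∈ A, f a⁻¹ = ∑ a ∈ F.filter (fun a => e a⁻¹ < e a), f a := by
        refine Finset.sum_nbij' (fun a => a⁻¹) (fun a => a⁻¹) ?_ ?_ ?_ ?_ ?_
        · intro a ha
          simp only [Finset.mem_coe, hA, Finset.mem_filter, inv_inv] at ha ⊢
          exact ⟨hinvF a ha.1, ha.2⟩
        · intro a ha
          simp only [Finset.mem_coe, hA, Finset.mem_filter, inv_inv] at ha ⊢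
          exact ⟨hinvF a ha.1, ha.2⟩
        · intro a _; exact inv_inv a
        · intro a _; exact inv_inv a
        · intro a _; rfl
      rw [himg]
      simp only [A, Finset.sum_filter]
      rw [← Finset.sum_add_distrib, ← Finset.sum_add_distrib]
      refine Finset.sum_congr rfl fun a _ => ?_
      rcases lt_trichotomy (e a) (e a⁻¹) with h | h | h
      · have : a⁻¹ ≠ a := fun q => h.ne (by rw [q])
        simp [h, not_lt_of_gt h, this]
      · have : a⁻¹ = a := e.injective h.symm
        simp [this]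
      · have : a⁻¹ ≠ a := fun q => h.ne' (by rw [q])
        simp [h, not_lt_of_gt h, this]
    have hfix : ∑ a ∈ F.filter (fun a => a⁻¹ = a), f a = f 1 := by
      refine Finset.sum_eq_single 1 (fun a ha h1 => hsupp a fun hr => h1
        (eq_one_of_inv_eq_of_regular hr (Finset.mem_filter.mp ha).2)) fun h => ?_
      exact absurd (by simp only [Finset.mem_filter, hF, one_mem, inv_one, and_self]) h
    rw [hsplit, hfix, add_sub_cancel_right, ← Finset.sum_add_distrib]
    refine memLocalIdeal_sum _ _ fun a ha => ?_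
    by_cases hr : IsPRegular 2 a
    · have := memLocalIdeal_add (hinv a ((hF a).mp ((hA a).mp ha).1) hr)
        (memLocalIdeal_mul_right (memLocalIdeal_p hM) (hloc a))
      convert this using 1
      push_cast
      ring
    · rw [hsupp a hr, hsupp a⁻¹ fun h => hr (inv_inv a ▸ IsPRegular.inv h), add_zero]
      exact memLocalIdeal_zero
  have h2 := memLocalIdeal_add h1 hkey
  rwa [sub_add_sub_cancel] at h2

theorem blockCoeff_pow {B : Set (IrrCharacter G)} {k : ℕ} (hk : Nat.Coprime k (Nat.card G))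
    (hstab : ∀ χ ∈ B, ∃ ψ ∈ B, ∀ g : G, (ψ : G → ℂ) g = (χ : G → ℂ) (g ^ k)) (g : G) :
    blockCoeff B (g ^ k) = blockCoeff B g := by
  classical
  choose F hFB hF using hstab
  set F' : IrrCharacter G → IrrCharacter G := fun χ => if h : χ ∈ B then F χ h else χ
  have hF' : ∀ χ (h : χ ∈ B), F' χ = F χ h := fun χ h => dif_pos h
  have hmaps : Set.MapsTo F' B B := fun χ h => hF' χ h ▸ hFB χ h
  have hinj : Set.InjOn F' B := fun χ h χ' h' heq => by
    rw [hF' χ h, hF' χ' h'] at heq
    refine Subtype.ext (funext fun x => ?_)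
    obtain ⟨y, rfl⟩ := (powCoprime hk.symm).surjective x
    exact (hF χ h y).symm.trans ((congrArg (fun ψ : IrrCharacter G => (ψ : G → ℂ) y) heq).trans
      (hF χ' h' y))
  rw [blockCoeff, blockCoeff]
  congr 1
  refine finsum_mem_eq_of_bijOn F'
    (((Set.toFinite B).injOn_iff_bijOn_of_mapsTo hmaps).mp hinj) fun χ h => ?_
  rw [hF' χ h, hF χ h 1, hF χ h g, one_pow]

theorem not_two_dvd_index_centralizer (S : Sylow 2 G) {g : G}
    (hg : g ∈ Subgroup.centralizer ((S : Subgroup G) : Set G)) :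
    ¬ 2 ∣ (Subgroup.centralizer ({g} : Set G)).index := fun h =>
  S.not_dvd_index (h.trans (Subgroup.index_dvd_of_le fun s hs => by
    rw [Subgroup.mem_centralizer_singleton_iff]; exact hg s hs))

/-- A 2-block of full defect inverted by a Galois automorphism is principal. -/
theorem eq_principalBlock_of_stable [M.IsPrime] (hM : IsPModular 2 M) {B : Set (IrrCharacter G)}
    (hB : IsPBlock M B) {k : ℕ} (hk : Nat.Coprime k (Nat.card G))
    (hk₂ : ∀ g : G, IsPRegular 2 g → g ^ k = g⁻¹)
    {χ : IrrCharacter G} (hχ : χ ∈ B) (hodd : Odd (charDegree (χ : G → ℂ)))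
    (hstab : ∀ χ ∈ B, ∃ ψ ∈ B, ∀ g : G, (ψ : G → ℂ) g = (χ : G → ℂ) (g ^ k)) :
    B = principalBlock M G := by
  classical
  obtain ⟨S⟩ := (inferInstance : Nonempty (Sylow 2 G))
  have hU := IsPBlock.isBlockUnion hB
  set a := blockCoeff B
  have hcl : ∀ x g : G, a (x * g * x⁻¹) = a g := fun x g => isClassFunction_blockCoeff B g x
  have hsupp : ∀ g, ¬ IsPRegular 2 g → a g = 0 := fun g hg =>
    blockCoeff_eq_zero_of_not_regular hM hU hg
  have hloc : ∀ g, MemLocalRing M (a g) := fun g => memLocalRing_blockCoeff hU g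
  have hainv : ∀ g, IsPRegular 2 g → a g⁻¹ = a g := fun g hg => by
    rw [← hk₂ g hg]; exact blockCoeff_pow hk hstab g
  have h0 : ((χ : G → ℂ) 1) = (charDegree (χ : G → ℂ) : ℂ) := (irr_degree_eq χ).1
  have hχ1 : (χ : G → ℂ) 1 ≠ 0 := Char.irr_degree_ne_zero χ.2
  have hdiv : ∀ n : ℕ, ¬ 2 ∣ n → MemLocalRing M ((1 : ℂ) / n) := fun n hn => by
    have := memLocalRing_natCast_div hM (a := 1) (b := n) (by rintro rfl; exact hn (dvd_zero 2))
      (by rw [Nat.factorization_eq_zero_of_not_dvd hn]; exact Nat.zero_le _)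
    simpa using this
  have hone := memLocalIdeal_sum_sub_apply_one hM S hcl hloc hsupp fun g _ hg => by
    rw [hainv g hg, sub_self]; exact memLocalIdeal_zero
  set f : G → ℂ := fun g => a g * ((χ : G → ℂ) g / (χ : G → ℂ) 1)
  have hfloc : ∀ g, MemLocalRing M (f g) := fun g => by
    refine memLocalRing_mul (hloc g) ?_
    rw [div_eq_mul_one_div, h0]
    exact memLocalRing_mul (memLocalRing_of_isIntegral (irr_isIntegral χ.2 g))
      (hdiv _ hodd.not_two_dvd_nat)
  have hfone := memLocalIdeal_sum_sub_apply_one hM S (f := f)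
    (fun x g => by
      show a _ * _ = a g * _
      rw [hcl, irr_classFunction χ g x])
    hfloc (fun g hg => by show a g * _ = 0; rw [hsupp g hg, zero_mul])
    fun g hg hreg => by
      obtain ⟨ψ, hψB, hψ⟩ := hstab χ hχ
      have hi : ((Subgroup.centralizer ({g} : Set G)).index : ℂ) ≠ 0 :=
        Nat.cast_ne_zero.mpr Subgroup.index_ne_zero_of_finite
      have key : f g⁻¹ - f g = (centralChar (ψ : G → ℂ) g - centralChar (χ : G → ℂ) g) *
          (a g * (1 / ((Subgroup.centralizer ({g} : Set G)).index : ℂ))) := by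
        show a g⁻¹ * _ - a g * _ = _
        rw [centralChar, centralChar, hψ g, hψ 1, one_pow, hk₂ g hreg, hainv g hreg]
        field_simp
      rw [key]
      exact memLocalIdeal_mul_right (IsPBlock.sameBlock hB hψB hχ g)
        (memLocalRing_mul (hloc g) (hdiv _ (not_two_dvd_index_centralizer S hg)))
  have hsum : ∑ g, f g = 1 := by
    have h := omega_blockCoeff B χ
    rw [indVec_of_mem hχ, omega, Finset.sum_div] at h
    rw [← h]
    exact Finset.sum_congr rfl fun g _ => (mul_div_assoc _ _ _).symm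
  have hsumT : ∑ g, a g = indVec B (trivIrr G) := by
    have h := omega_blockCoeff B (trivIrr G)
    rw [omega] at h
    simpa [trivIrr] using h
  have hf1 : f 1 = a 1 := by
    show a 1 * ((χ : G → ℂ) 1 / (χ : G → ℂ) 1) = a 1
    rw [div_self hχ1, mul_one]
  rw [hsum, hf1] at hfone
  have hmem : trivIrr G ∈ B := by
    by_contra h
    rw [hsumT, indVec_of_notMem h] at hone
    have := memLocalIdeal_add hfone (memLocalIdeal_neg hone)
    have e : (1 : ℂ) - a 1 + -(0 - a 1) = 1 := by ring
    rw [e] at this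
    exact not_memLocalIdeal_one (M := M) this
  exact IsPBlock.eq_of_mem_of_mem hB isPBlock_principalBlock (χ := trivIrr G) hmem
    (mem_blockOf_self (trivIrr G))

/-- A block contains a real character only if it is closed under complex conjugation. -/
theorem exists_conj_mem_of_real [M.IsPrime] {B : Set (IrrCharacter G)} (hB : IsPBlock M B)
    {χ : IrrCharacter G} (hχ : χ ∈ B) (hreal : ∀ g : G, ((χ : G → ℂ) g).im = 0)
    {η : IrrCharacter G} (hη : η ∈ B) :
    ∃ ψ ∈ B, ∀ g : G, (ψ : G → ℂ) g = (η : G → ℂ) g⁻¹ := by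
  refine ⟨⟨fun g => conj ((η : G → ℂ) g), Char.isIrrCharacter_conj η.2⟩,
    IsPBlock.mem_of_sameBlock hB hχ ?_, fun g => (irr_value_inv η.2 g).symm⟩
  intro g
  have hr : (χ : G → ℂ) g⁻¹ = (χ : G → ℂ) g := by
    rw [irr_value_inv χ.2]
    exact Complex.conj_eq_iff_im.mpr (hreal g)
  have h := IsPBlock.sameBlock hB hχ hη g⁻¹
  rw [centralChar, centralChar, centralizer_singleton_inv, hr] at h
  show MemLocalIdeal M (centralChar (χ : G → ℂ) g -
    centralChar (fun x => conj ((η : G → ℂ) x)) g)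
  simp only [centralChar, ← irr_value_inv η.2, inv_one]
  exact h

/-- Gow: real-valued characters of odd degree lie in the principal 2-block. -/
theorem mem_principalBlock_of_real_odd [M.IsPrime] (hM : IsPModular 2 M) {χ : IrrCharacter G}
    (hreal : ∀ g : G, ((χ : G → ℂ) g).im = 0) (hodd : Odd (charDegree (χ : G → ℂ))) :
    χ ∈ principalBlock M G := by
  have hn : 0 < Nat.card G := Nat.card_pos
  have hpow : ∀ g : G, g ^ (2 * Nat.card G - 1) = g⁻¹ := fun g => by
    refine eq_inv_of_mul_eq_one_left ?_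
    rw [← pow_succ, Nat.sub_add_cancel (by omega), mul_comm, pow_mul, pow_card_eq_one', one_pow]
  have hk : Nat.Coprime (2 * Nat.card G - 1) (Nat.card G) := by
    refine Nat.coprime_of_dvd' fun q hq h1 h2 => ?_
    have h3 := Nat.dvd_sub (h2.mul_left 2) h1
    rwa [Nat.sub_sub_self (by omega)] at h3
  have hB := isPBlock_blockOf (M := M) χ
  have h := eq_principalBlock_of_stable hM hB hk (fun g _ => hpow g) (mem_blockOf_self χ) hodd
    fun η hη => by
      obtain ⟨ψ, hψ, hv⟩ := exists_conj_mem_of_real hB (mem_blockOf_self χ) hreal hη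
      exact ⟨ψ, hψ, fun g => by rw [hv, hpow]⟩
  exact h ▸ mem_blockOf_self χ

theorem card_principalBlock_le (hM : IsPModular 2 M) :
    Nat.card (principalBlock M G) ≤ 2 ^ (2 * (Nat.card G).factorization 2) := by
  classical
  have := isPrime_of_isPModular hM
  have hB := isPBlock_principalBlock (M := M) (G := G)
  have h := sum_pow_heights_le hM hB
  have hcard : Nat.card (principalBlock M G) ≤
      ∑ ψ : IrrCharacter G with ψ ∈ principalBlock M G,
        2 ^ (2 * blockHeight 2 (principalBlock M G) (ψ : G → ℂ)) := by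
    rw [Nat.card_eq_fintype_card, Fintype.card_subtype]
    calc _ = ∑ ψ : IrrCharacter G with ψ ∈ principalBlock M G, 1 := by simp
      _ ≤ _ := Finset.sum_le_sum fun ψ _ => Nat.one_le_two_pow
  have hd := (blockDefect_le_and_degree hM hB).1
  have h2 : 2 ^ (2 * blockDefect 2 (principalBlock M G)) ≤ 2 ^ (2 * (Nat.card G).factorization 2) :=
    Nat.pow_le_pow_right (by norm_num) (by omega)
  have h3 : 1 ≤ 2 ^ (2 * blockDefect 2 (principalBlock M G)) := Nat.one_le_two_pow
  omega

end CfsgLib.Blocks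

namespace CfsgLib.Blocks

open Cfsg
open scoped ComplexConjugate CfsgLib.Char

variable {M : Ideal AlgInt} {G : Type*} [Group G] [Fintype G]

theorem sameBlock_conj {χ η : IrrCharacter G}
    (h : SameBlock M (χ : G → ℂ) (η : G → ℂ)) :
    SameBlock M (fun g => conj ((χ : G → ℂ) g)) (fun g => conj ((η : G → ℂ) g)) := by
  intro g
  have h := h g⁻¹
  simp only [centralChar, centralizer_singleton_inv] at h
  simp only [centralChar, ← irr_value_inv χ.2, ← irr_value_inv η.2, inv_one]
  exact h

/-- A character of odd degree sharing its 2-block with its conjugate is in the principal block. -/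
theorem mem_principalBlock_of_conj_sameBlock [M.IsPrime] (hM : IsPModular 2 M) {χ : IrrCharacter G}
    (hodd : Odd (charDegree (χ : G → ℂ)))
    (hsame : SameBlock M (χ : G → ℂ) (fun g => conj ((χ : G → ℂ) g))) :
    χ ∈ principalBlock M G := by
  have hn : 0 < Nat.card G := Nat.card_pos
  have hpow : ∀ g : G, g ^ (2 * Nat.card G - 1) = g⁻¹ := fun g => by
    refine eq_inv_of_mul_eq_one_left ?_
    rw [← pow_succ, Nat.sub_add_cancel (by omega), mul_comm, pow_mul, pow_card_eq_one', one_pow]
  have hk : Nat.Coprime (2 * Nat.card G - 1) (Nat.card G) := by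
    refine Nat.coprime_of_dvd' fun q hq h1 h2 => ?_
    have h3 := Nat.dvd_sub (h2.mul_left 2) h1
    rwa [Nat.sub_sub_self (by omega)] at h3
  have hB := isPBlock_blockOf (M := M) χ
  have h := eq_principalBlock_of_stable hM hB hk (fun g _ => hpow g) (mem_blockOf_self χ) hodd
    fun η hη => by
      refine ⟨⟨fun g => conj ((η : G → ℂ) g), Char.isIrrCharacter_conj η.2⟩,
        IsPBlock.mem_of_sameBlock hB (mem_blockOf_self χ)
          (SameBlock.trans hsame (sameBlock_conj (IsPBlock.sameBlock hB (mem_blockOf_self χ) hη))),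
        fun g => ?_⟩
      rw [hpow, irr_value_inv η.2]
  exact h ▸ mem_blockOf_self χ

theorem exists_extension_mem_principalBlock [M.IsPrime] (hM : IsPModular 2 M) (N : Subgroup G)
    [N.Normal] [Fintype N] {θ : IrrCharacter N} (hreal : ∀ n : N, ((θ : N → ℂ) n).im = 0)
    (hodd : Odd (charDegree (θ : N → ℂ))) {η : IrrCharacter G}
    (hext : ∀ n : N, (η : G → ℂ) n = (θ : N → ℂ) n) :
    ∃ η' : IrrCharacter G, (∀ n : N, (η' : G → ℂ) n = (θ : N → ℂ) n) ∧
      η' ∈ principalBlock M G := by
  classical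
  have hη := η.2
  have hθinv : ∀ g, Char.conjBy N (θ : N → ℂ) g = (θ : N → ℂ) := fun g => funext fun n => by
    show (θ : N → ℂ) _ = (θ : N → ℂ) n
    rw [← hext, ← hext]
    exact irr_classFunction η (n : G) g
  set one : N → ℂ := fun _ => 1
  have honeirr : IsIrrCharacter N one := Char.isIrrCharacter_one
  have honeinv : ∀ g, Char.conjBy N one g = one := fun g => rfl
  have hprod : one * (θ : N → ℂ) = (θ : N → ℂ) := funext fun n => one_mul _
  have hG := Char.gallagher N honeirr honeinv hθinv (hprod.symm ▸ θ.2) hη hext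
  have hbar : (fun g => conj ((η : G → ℂ) g)) ∈
      {ψ : G → ℂ | IsIrrCharacter G ψ ∧ classInner (indFun N (one * (θ : N → ℂ))) ψ ≠ 0} := by
    refine ⟨Char.isIrrCharacter_conj hη, ?_⟩
    rw [hprod, Char.frobenius_reciprocity N _
      (Char.isClassFunction_of_isCharacter
        (Char.isCharacter_of_isIrr (Char.isIrrCharacter_conj hη)))]
    rw [show (fun n : N => conj ((η : G → ℂ) n)) = (θ : N → ℂ) from funext fun n => by
      rw [hext, Complex.conj_eq_iff_im.mpr (hreal n)], Char.classInner_irr_self θ.2]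
    exact one_ne_zero
  obtain ⟨β, ⟨hβ, hβN⟩, hβη⟩ := hG.surjOn hbar
  have hval : ∀ g, β g * (η : G → ℂ) g = conj ((η : G → ℂ) g) := fun g => congrFun hβη g
  have hη1 : (η : G → ℂ) 1 ≠ 0 := Char.irr_degree_ne_zero hη
  have hβ1 : β 1 = 1 := by
    have h := hval 1
    rw [(irr_degree_eq η).1, Complex.conj_natCast] at h
    exact (mul_eq_right₀ ((irr_degree_eq η).1 ▸ hη1)).mp h
  set f := Char.linearHom (Char.isCharacter_of_isIrr hβ) hβ1
  have hf : ∀ g, ((f g : ℂˣ) : ℂ) = β g := fun g => rfl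
  have hres : ∀ n : N, β n = 1 := by
    rw [Char.frobenius_reciprocity N _
      (Char.isClassFunction_of_isCharacter (Char.isCharacter_of_isIrr hβ))] at hβN
    by_contra hc
    push Not at hc
    obtain ⟨m, hm⟩ := hc
    refine hβN ?_
    have hs : ∑ n : N, conj (β n) = 0 := by
      have h1 : conj (β m) * ∑ n : N, conj (β n) = ∑ n : N, conj (β n) := by
        rw [Finset.mul_sum]
        refine Fintype.sum_equiv (Equiv.mulLeft m) _ _ fun n => ?_
        rw [← map_mul, ← hf, ← hf, ← Units.val_mul, ← map_mul]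
        rfl
      have hne : conj (β m) ≠ 1 := fun h => hm (by
        have := congrArg conj h
        rwa [Complex.conj_conj, map_one] at this)
      rcases mul_left_eq_self₀.mp h1 with h2 | h2
      · exact absurd h2 hne
      · exact h2
    simp [classInner, one, hs]
  set n := Nat.card G
  set r := n / 2 ^ n.factorization 2
  have hr : 2 ^ n.factorization 2 * r = n := Nat.ordProj_mul_ordCompl_eq_self n 2
  obtain ⟨i, hi⟩ : Odd r :=
    Nat.odd_iff.mpr (Nat.two_dvd_ne_zero.mp (Nat.not_dvd_ordCompl Nat.prime_two Nat.card_pos.ne'))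
  set j := i + 1
  set ψ : G → ℂ := (fun g => ((f ^ j) g : ℂˣ) : G → ℂ) * (η : G → ℂ)
  have hpowN : ∀ m : N, (((f ^ j) (m : G) : ℂˣ) : ℂ) = 1 := fun m => by
    rw [MonoidHom.pow_apply, Units.val_pow_eq_pow_val, hf, hres, one_pow]
  have hψ : IsIrrCharacter G ψ := by
    refine (hG.mapsTo (x := fun g => (((f ^ j) g : ℂˣ) : ℂ))
      ⟨Char.isIrrCharacter_monoidHom _, ?_⟩).1
    rw [Char.frobenius_reciprocity N _ (Char.isClassFunction_of_isCharacter
      (Char.isCharacter_monoidHom _))]
    rw [show (fun m : N => (((f ^ j) (m : G) : ℂˣ) : ℂ)) = one from funext hpowN,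
      Char.classInner_irr_self honeirr]
    exact one_ne_zero
  have hψN : ∀ m : N, ψ m = (θ : N → ℂ) m := fun m => by
    show (((f ^ j) (m : G) : ℂˣ) : ℂ) * (η : G → ℂ) m = _
    rw [hpowN, one_mul, hext]
  refine ⟨⟨ψ, hψ⟩, hψN, mem_principalBlock_of_conj_sameBlock hM ?_ ?_⟩
  · have : ψ 1 = (θ : N → ℂ) 1 := hψN 1
    show Odd (charDegree ψ)
    rwa [charDegree, this]
  · intro g
    set b : ℂˣ := f g
    have hb : ((b : ℂ)) = β g := hf g
    have hconjb : conj (b : ℂ) = ((b⁻¹ : ℂˣ) : ℂ) := by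
      have := irr_value_inv hβ g
      rw [← hf, ← hf, map_inv] at this
      exact this.symm
    set ρ : ℂˣ := b * ((b ^ j) ^ 2)⁻¹
    have hρ : conj (ψ g) = (ρ : ℂ) * ψ g := by
      show conj ((((f ^ j) g : ℂˣ) : ℂ) * (η : G → ℂ) g) = _ * ((((f ^ j) g : ℂˣ) : ℂ) * _)
      rw [map_mul, MonoidHom.pow_apply, Units.val_pow_eq_pow_val, map_pow, hconjb, ← hval g, ← hb]
      have e : ((b⁻¹ : ℂˣ) : ℂ) ^ j * (b : ℂ) = (ρ : ℂ) * ((b : ℂ) ^ j) := by
        simp only [← Units.val_pow_eq_pow_val, ← Units.val_mul]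
        congr 1
        simp only [ρ, inv_pow]
        group
      rw [← mul_assoc, e, mul_assoc]
    have hbn : b ^ n = 1 := by rw [← map_pow, pow_card_eq_one', map_one]
    have hρpow : ((ρ : ℂ)) ^ 2 ^ n.factorization 2 = 1 := by
      rw [← Units.val_pow_eq_pow_val, show ρ ^ 2 ^ n.factorization 2 = 1 from ?_, Units.val_one]
      have e : ρ = (b ^ r)⁻¹ := by
        simp only [ρ, j, hi]
        group
      rw [e, inv_pow, ← pow_mul, mul_comm r, hr, hbn, inv_one]
    have hρ1 := memLocalIdeal_root_sub_one hM hρpow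
    have hone : conj (ψ 1) = ψ 1 := by
      rw [show ψ 1 = (θ : N → ℂ) 1 from hψN 1]
      exact Complex.conj_eq_iff_im.mpr (hreal 1)
    have key : centralChar ψ g - centralChar (fun x => conj (ψ x)) g =
        -((ρ : ℂ) - 1) * centralChar ψ g := by
      simp only [centralChar, hρ, hone]
      ring
    rw [key]
    exact memLocalIdeal_mul_right (memLocalIdeal_neg hρ1)
      (memLocalRing_centralChar (⟨ψ, hψ⟩ : IrrCharacter G) g)

end CfsgLib.Blocks
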