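import Cfsg.Agent.Lib.Blocks.Defect
import Cfsg.Agent.Lib.Blocks.RegPart

/-!
# The sum of all `p`-elements against the radical of the centre

Convolution with the indicator of the `p`-elements sends a central element whose central
characters all lie in the local ideal to a function with values in the local ideal.
-/

set_option autoImplicit false
set_option linter.unusedSectionVars false

namespace CfsgLib.Blocks

open Cfsg
open scoped ComplexConjugate CfsgLib.Char

variable {G : Type*} [Group G]

/-- The indicator of the `p`-elements. -/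
noncomputable def pInd (p : ℕ) : G → ℂ :=
  fun x => open Classical in if ∃ k : ℕ, orderOf x = p ^ k then 1 else 0

theorem pInd_of_pElement {p : ℕ} {x : G} (h : ∃ k : ℕ, orderOf x = p ^ k) : pInd p x = 1 :=
  if_pos h

theorem pInd_of_not {p : ℕ} {x : G} (h : ¬ ∃ k : ℕ, orderOf x = p ^ k) : pInd p x = 0 :=
  if_neg h

theorem isClassFunction_pInd (p : ℕ) : IsClassFunction G (pInd (G := G) p) := fun x b => by
  classical
  have : orderOf (b * x * b⁻¹) = orderOf x :=
    orderOf_injective (MulAut.conj b).toMonoidHom (MulAut.conj b).injective x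
  simp only [pInd, this]

/-- The permutation character on the cosets of `P`. -/
noncomputable def cosetChar (P : Subgroup G) : G → ℂ :=
  fun y => (Nat.card {q : G ⧸ P // y • q = q} : ℂ)

theorem isClassFunction_cosetChar (P : Subgroup G) : IsClassFunction G (cosetChar P) :=
  fun x b => by
  show (Nat.card {q : G ⧸ P // (b * x * b⁻¹) • q = q} : ℂ) = Nat.card {q : G ⧸ P // x • q = q}
  rw [Nat.card_congr (Equiv.subtypeEquiv (MulAction.toPerm b⁻¹) fun q => ?_)]
  rw [MulAction.toPerm_apply, mul_smul, mul_smul]
  exact ⟨fun h => by rw [← smul_left_cancel_iff b, h, smul_inv_smul],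
    fun h => by rw [h, smul_inv_smul]⟩

variable [Fintype G]

theorem sum_cosetChar_mul (P : Subgroup G) [Fintype P] {f : G → ℂ} (hf : IsClassFunction G f) :
    ∑ y, cosetChar P y * f y = (P.index : ℂ) * ∑ v : P, f v := by
  classical
  have hfib : ∀ q : G ⧸ P, (∑ y, if y • q = q then f y else 0) = ∑ v : P, f v := by
    intro q
    induction q using QuotientGroup.induction_on with
    | H h =>
      calc (∑ y, if y • (h : G ⧸ P) = (h : G ⧸ P) then f y else 0)
          = ∑ y, if y ∈ P then f y else 0 := by
            refine Fintype.sum_equiv (MulAut.conj h⁻¹).toEquiv _ _ fun y => ?_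
            rw [MulEquiv.toEquiv_eq_coe, MulEquiv.coe_toEquiv, MulAut.conj_apply, inv_inv]
            refine if_congr ?_ ?_ rfl
            · rw [MulAction.Quotient.smul_coe, eq_comm, QuotientGroup.eq, smul_eq_mul, mul_assoc]
            · simpa using (hf y h⁻¹).symm
        _ = ∑ v : P, f v := by
            rw [← Finset.sum_filter]
            exact Finset.sum_subtype _ (by simp) f
  calc ∑ y, cosetChar P y * f y = ∑ y, ∑ q : G ⧸ P, if y • q = q then f y else 0 := by
        refine Finset.sum_congr rfl fun y _ => ?_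
        rw [← Finset.sum_filter, Finset.sum_const, nsmul_eq_mul, cosetChar,
          Nat.card_eq_fintype_card, Fintype.card_subtype]
    _ = ∑ q : G ⧸ P, ∑ v : P, f v := by
        rw [Finset.sum_comm]
        exact Finset.sum_congr rfl fun q _ => hfib q
    _ = (P.index : ℂ) * ∑ v : P, f v := by
        rw [Finset.sum_const, nsmul_eq_mul, Finset.card_univ, Subgroup.index,
          Nat.card_eq_fintype_card]

variable {p : ℕ} {M : Ideal AlgInt}

theorem memLocalIdeal_cosetChar_sub (hM : IsPModular p M) (P : Sylow p G) (y : G) :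
    MemLocalIdeal M
      (cosetChar (P : Subgroup G) y - ((P : Subgroup G).index : ℂ) * pInd p y) := by
  classical
  haveI : M.IsPrime := isPrime_of_isPModular hM
  haveI : Fact p.Prime := ⟨hM.1⟩
  by_cases hy : ∃ k : ℕ, orderOf y = p ^ k
  · rw [pInd_of_pElement hy, mul_one]
    obtain ⟨k, hk⟩ := hy
    have hQ : IsPGroup p (Subgroup.zpowers y) :=
      IsPGroup.of_card (n := k) (by rw [Nat.card_zpowers, hk])
    have hmod : ((P : Subgroup G).index : ℤ) ≡
        (Nat.card {q : G ⧸ (P : Subgroup G) // y • q = q} : ℤ) [ZMOD p] := by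
      have h := hQ.card_modEq_card_fixedPoints (G ⧸ (P : Subgroup G))
      rw [← Subgroup.index] at h
      refine (Int.natCast_modEq_iff.mpr h).trans ?_
      rw [show Nat.card ↥(MulAction.fixedPoints (Subgroup.zpowers y) (G ⧸ (P : Subgroup G))) =
        Nat.card {q : G ⧸ (P : Subgroup G) // y • q = q} from
          Nat.card_congr (Equiv.subtypeEquivRight fun q => ?_)]
      constructor
      · exact fun h => h ⟨y, Subgroup.mem_zpowers y⟩
      · rintro h ⟨z, hz⟩
        obtain ⟨i, rfl⟩ := Subgroup.mem_zpowers_iff.mp hz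
        exact Subgroup.zpow_mem (MulAction.stabilizer G q) h i
    obtain ⟨c, hc⟩ := hmod.dvd
    have he : cosetChar (P : Subgroup G) y - ((P : Subgroup G).index : ℂ) = (p : ℂ) * (c : ℂ) := by
      have := congrArg (fun t : ℤ => (t : ℂ)) hc
      push_cast at this
      simpa [cosetChar] using this
    rw [he]
    exact memLocalIdeal_mul_right (memLocalIdeal_p hM) (memLocalRing_intCast c)
  · rw [pInd_of_not hy, mul_zero, sub_zero, cosetChar]
    have : IsEmpty {q : G ⧸ (P : Subgroup G) // y • q = q} := by
      refine ⟨fun ⟨q, hq⟩ => hy ?_⟩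
      induction q using QuotientGroup.induction_on with
      | H h =>
        rw [MulAction.Quotient.smul_coe, eq_comm, QuotientGroup.eq, smul_eq_mul] at hq
        obtain ⟨k, hk⟩ := IsPGroup.iff_orderOf.mp P.2 ⟨_, hq⟩
        rw [Subgroup.orderOf_mk] at hk
        refine ⟨k, hk ▸ ?_⟩
        rw [← mul_assoc]
        have := orderOf_injective (MulAut.conj h⁻¹).toMonoidHom (MulAut.conj h⁻¹).injective y
        simpa using this.symm
    rw [Nat.card_of_isEmpty, Nat.cast_zero]
    exact memLocalIdeal_zero

/-- A central element all of whose central characters lie in the ideal is annihilated modulo the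
ideal by the sum of the `p`-elements. -/
theorem memLocalIdeal_conv_pInd (hM : IsPModular p M) {z : G → ℂ} (hz : IsClassFunction G z)
    (hzl : ∀ g, MemLocalRing M (z g))
    (hω : ∀ χ : IrrCharacter G, MemLocalIdeal M (omega (χ : G → ℂ) z)) (g : G) :
    MemLocalIdeal M (conv (pInd p) z g) := by
  classical
  haveI : M.IsPrime := isPrime_of_isPModular hM
  haveI : Fact p.Prime := ⟨hM.1⟩
  obtain ⟨P⟩ : Nonempty (Sylow p G) := inferInstance
  obtain ⟨H, hH⟩ : ∃ H : Subgroup G, H = (P : Subgroup G) := ⟨_, rfl⟩
  have hm : ∀ χ : IrrCharacter G, ∃ n : ℕ,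
      (Nat.card H : ℂ)⁻¹ * ∑ v : H, (χ : G → ℂ) v = n := fun χ => by
    obtain ⟨n, hn⟩ := Char.exists_nat_classInner
      (Char.isCharacter_restrict H (Char.isCharacter_of_isIrr χ.2)) Char.isCharacter_one
    exact ⟨n, by rw [← hn]; simp [classInner]⟩
  choose m hm using hm
  have hπ := isClassFunction_cosetChar H
  have hconv : MemLocalIdeal M (conv (cosetChar H) z g) := by
    have h1 : conv (cosetChar H) z = ofOmega ((fun χ : IrrCharacter G =>
        omega (χ : G → ℂ) (cosetChar H)) * fun χ : IrrCharacter G => omega (χ : G → ℂ) z) := by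
      rw [ofOmega_mul, ofOmega_omega hπ, ofOmega_omega hz]
    have hterm : ∀ χ : IrrCharacter G, (Nat.card G : ℂ)⁻¹ *
        (omega (χ : G → ℂ) (cosetChar H) * omega (χ : G → ℂ) z * (χ : G → ℂ) 1 *
          conj ((χ : G → ℂ) g)) = omega (χ : G → ℂ) z * ((m χ : ℂ) * conj ((χ : G → ℂ) g)) := by
      intro χ
      have hd := Char.irr_degree_ne_zero χ.2
      have hcard : (Nat.card G : ℂ) = Nat.card H * H.index := by
        rw [← H.card_mul_index, Nat.cast_mul]
      have hH0 : (Nat.card H : ℂ) ≠ 0 := Nat.cast_ne_zero.mpr Nat.card_pos.ne'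
      have hi0 : (H.index : ℂ) ≠ 0 := Nat.cast_ne_zero.mpr H.index_ne_zero_of_finite
      rw [omega, sum_cosetChar_mul H (irr_classFunction χ), ← hm χ, hcard]
      field_simp
    rw [h1, ofOmega, Finset.mul_sum]
    refine memLocalIdeal_sum _ _ fun χ _ => ?_
    rw [Pi.mul_apply, hterm]
    exact memLocalIdeal_mul_right (hω χ) (memLocalRing_mul (memLocalRing_natCast _)
      (memLocalRing_of_isIntegral (irr_conj_isIntegral χ.2 g)))
  have hdiff : MemLocalIdeal M
      ((H.index : ℂ) * conv (pInd p) z g - conv (cosetChar H) z g) := by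
    simp only [conv, Finset.mul_sum, ← Finset.sum_sub_distrib]
    refine memLocalIdeal_sum _ _ fun x _ => ?_
    rw [← mul_assoc, ← sub_mul]
    exact memLocalIdeal_mul_right (memLocalIdeal_sub_comm
      (hH ▸ memLocalIdeal_cosetChar_sub hM P x)) (hzl _)
  have h2 := memLocalIdeal_add hdiff hconv
  rw [sub_add_cancel] at h2
  have hi0 : (H.index : ℂ) ≠ 0 := Nat.cast_ne_zero.mpr H.index_ne_zero_of_finite
  have hinv : MemLocalRing M (H.index : ℂ)⁻¹ :=
    memLocalRing_natCast_inv hM (hH ▸ P.not_dvd_index)
  have h3 := memLocalIdeal_mul_left hinv h2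
  rwa [inv_mul_cancel_left₀ hi0] at h3

/-- Convolution of the sum of `p`-elements with a block idempotent fixes the regular values. -/
theorem conv_pInd_blockCoeff (hM : IsPModular p M) {B : Set (IrrCharacter G)}
    (hB : IsBlockUnion M B) {g : G} (hg : IsPRegular p g) :
    conv (pInd p) (blockCoeff B) g = blockCoeff B g := by
  classical
  haveI : M.IsPrime := isPrime_of_isPModular hM
  have h1 : conv (pInd p) (blockCoeff B) = ofOmega ((fun χ : IrrCharacter G =>
      omega (χ : G → ℂ) (pInd p)) * indVec B) := by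
    rw [ofOmega_mul, ofOmega_omega (isClassFunction_pInd p), ofOmega_indVec]
  obtain ⟨S, hS⟩ : ∃ S : Finset (IrrCharacter G), S = ({χ | χ ∈ B} : Finset (IrrCharacter G)) :=
    ⟨_, rfl⟩
  have hSB : IsBlockUnion M (S : Set (IrrCharacter G)) := by simpa [hS] using hB
  rw [h1, blockCoeff, sum_mem_eq_filter, ← hS, ofOmega]
  congr 1
  calc ∑ χ : IrrCharacter G, (((fun χ : IrrCharacter G => omega (χ : G → ℂ) (pInd p)) * indVec B)
        χ * (χ : G → ℂ) 1 * conj ((χ : G → ℂ) g))
      = ∑ χ ∈ S, ∑ x, pInd p x * ((χ : G → ℂ) x * conj ((χ : G → ℂ) g)) := by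
        rw [hS, Finset.sum_filter]
        refine Finset.sum_congr rfl fun χ _ => ?_
        by_cases h : χ ∈ B
        · rw [if_pos h, Pi.mul_apply, indVec_of_mem h, mul_one, omega,
            div_mul_cancel₀ _ (Char.irr_degree_ne_zero χ.2), Finset.sum_mul]
          exact Finset.sum_congr rfl fun x _ => mul_assoc _ _ _
        · rw [if_neg h, Pi.mul_apply, indVec_of_notMem h, mul_zero, zero_mul, zero_mul]
    _ = ∑ x, pInd p x * ∑ χ ∈ S, (χ : G → ℂ) x * conj ((χ : G → ℂ) g) := by
        rw [Finset.sum_comm]
        exact Finset.sum_congr rfl fun x _ => (Finset.mul_sum _ _ _).symm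
    _ = _ := by
        rw [Finset.sum_eq_single_of_mem (1 : G) (Finset.mem_univ _)]
        · rw [pInd_of_pElement ⟨0, by simp⟩, one_mul]
        · intro x _ hx
          by_cases hxp : ∃ k : ℕ, orderOf x = p ^ k
          · obtain ⟨k, hk⟩ := hxp
            have hxs : ¬ IsPRegular p x := by
              rw [IsPRegular, not_not, hk]
              exact dvd_pow_self p fun h0 => hx (orderOf_eq_one_iff.mp (by rw [hk, h0, pow_zero]))
            have h := congrArg conj (sum_block_mul_conj_eq_zero hM hSB hg hxs)
            rw [map_sum, map_zero] at h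
            rw [show ∑ χ ∈ S, (χ : G → ℂ) x * conj ((χ : G → ℂ) g) = 0 by
              simpa [mul_comm] using h, mul_zero]
          · rw [pInd_of_not hxp, zero_mul]

end CfsgLib.Blocks
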