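import Cfsg.Agent.Lib.Blocks.MainThird

/-!
# Groups with a single block

A group with a normal `p`-subgroup containing its centralizer has a single block.  If this holds
for the centralizers of all elements of order `p` and no irreducible degree is divisible by the
full `p`-part of the order, the whole group has a single block.
-/

set_option autoImplicit false
set_option linter.unusedSectionVars false

namespace CfsgLib.Blocks.SingleBlock

open Cfsg CfsgLib.Blocks CfsgLib.Char
open scoped CfsgLib.Char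

variable {p : ℕ} {M : Ideal AlgInt} {G : Type*} [Group G] [Finite G]

/-- `C` has a normal `p`-subgroup containing its centralizer in `C`. -/
def Constrained (p : ℕ) (C : Subgroup G) : Prop :=
  ∃ E : Subgroup G, E ≤ C ∧ IsPGroup p E ∧ (∀ c ∈ C, ∀ e ∈ E, c * e * c⁻¹ ∈ E) ∧
    ∀ c ∈ C, (∀ e ∈ E, c * e = e * c) → c ∈ E

theorem Constrained.conj {C : Subgroup G} (h : Constrained p C) (x : G) :
    Constrained p (C.map (MulAut.conj x).toMonoidHom) := by
  obtain ⟨E, hle, hp, hn, hc⟩ := h
  refine ⟨E.map (MulAut.conj x).toMonoidHom, Subgroup.map_mono hle, hp.map _, ?_, ?_⟩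
  · rintro _ ⟨c, hcC, rfl⟩ _ ⟨e, he, rfl⟩
    exact ⟨c * e * c⁻¹, hn c hcC e he, by simp [mul_assoc]⟩
  · rintro _ ⟨c, hcC, rfl⟩ hcom
    refine ⟨c, hc c hcC fun e he => (MulAut.conj x).injective ?_, rfl⟩
    rw [map_mul, map_mul]
    exact hcom _ ⟨e, he, rfl⟩

/-- In a constrained group every character lies in the principal block. -/
theorem mem_principalBlock_of_normal (hM : IsPModular p M) (E : Subgroup G) [E.Normal]
    (hE : IsPGroup p E) (hcE : Subgroup.centralizer (E : Set G) ≤ E) (χ : IrrCharacter G) :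
    χ ∈ principalBlock M G := by
  haveI := Fintype.ofFinite G
  haveI := isPrime_of_isPModular hM
  obtain ⟨ψ, hψ, hψE⟩ :=
    exists_mem_trivial_on_normal_pgroup hM (isPBlock_blockOf (M := M) χ) E hE
  rw [mem_principalBlock_iff]
  intro g
  by_cases hg : g ∈ Subgroup.centralizer (E : Set G)
  · have h := SameBlock.symm (mem_blockOf_iff.mp hψ) g
    have he : centralChar (ψ : G → ℂ) g = ((Subgroup.centralizer ({g} : Set G)).index : ℂ) := by
      rw [centralChar, hψE g (hcE hg), mul_div_assoc, div_self (irr_degree_ne_zero ψ.2), mul_one]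
    rw [← he]
    exact memLocalIdeal_sub_comm h
  · refine memLocalIdeal_sub (memLocalIdeal_centralChar_of_not_centralizing hM E hE χ hg) ?_
    have := memLocalIdeal_centralChar_of_not_centralizing hM E hE (trivIrr G) hg
    rwa [show ((trivIrr G : IrrCharacter G) : G → ℂ) = fun _ => (1 : ℂ) from rfl,
      centralChar_one_fun] at this

/-- Criterion for a single block. -/
theorem sameBlock_all (hM : IsPModular p M)
    (hloc : ∀ u : G, orderOf u = p → Constrained p (Subgroup.centralizer ({u} : Set G)))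
    (hdeg : ∀ χ : IrrCharacter G,
      ¬ p ^ (Nat.card G).factorization p ∣ charDegree (χ : G → ℂ))
    (χ ψ : IrrCharacter G) : SameBlock M (χ : G → ℂ) (ψ : G → ℂ) := by
  classical
  haveI := isPrime_of_isPModular hM
  suffices h : ∀ η : IrrCharacter G, η ∈ principalBlock M G from
    IsPBlock.sameBlock isPBlock_principalBlock (h χ) (h ψ)
  intro η
  haveI := Fintype.ofFinite G
  haveI : Fact p.Prime := ⟨hM.1⟩
  set B := blockOf M (η : G → ℂ)
  have hB : IsPBlock M B := isPBlock_blockOf η
  obtain ⟨D, hD⟩ := exists_isDefectGroup hM hB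
  have hcard := IsDefectGroup.card_eq hM hB hD
  have hd : blockDefect p B ≠ 0 := by
    intro h0
    obtain ⟨-, -, -, θ, -, hθ⟩ := blockDefect_le_and_degree hM hB
    refine hdeg θ ?_
    rw [h0, Nat.sub_zero] at hθ
    rw [← hθ]
    exact Nat.ordProj_dvd _ _
  obtain ⟨u, hu⟩ := exists_prime_orderOf_dvd_card' (G := D) p (hcard ▸ dvd_pow_self p hd)
  set P := Subgroup.zpowers (u : G)
  have hP : IsPGroup p P := IsPGroup.of_card (n := 1)
    (by rw [Nat.card_zpowers, Subgroup.orderOf_coe, hu, pow_one])
  set H := Subgroup.centralizer (P : Set G)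
  have hPH : P ≤ H := Subgroup.zpowers_le.mpr <| Subgroup.mem_centralizer_iff.mpr fun y hy => by
    obtain ⟨k, rfl⟩ := Subgroup.mem_zpowers_iff.mp hy
    exact (Commute.refl (u : G)).zpow_left k
  have hHN : H ≤ Subgroup.normalizer (P : Set G) := Subgroup.centralizer_le_normalizer _
  have hHeq : H = Subgroup.centralizer ({(u : G)} : Set G) := by
    refine le_antisymm (Subgroup.centralizer_le (by simp [P])) fun c hc => ?_
    rw [Subgroup.mem_centralizer_singleton_iff] at hc
    refine Subgroup.mem_centralizer_iff.mpr fun y hy => ?_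
    obtain ⟨k, rfl⟩ := Subgroup.mem_zpowers_iff.mp hy
    exact (Commute.symm (show Commute c (u : G) from hc)).zpow_left k
  haveI : Fintype H := Fintype.ofFinite _
  obtain ⟨b, hb⟩ := (exists_isInducedBlock_iff hM hP hPH le_rfl hHN hB hD).mpr
    ⟨1, fun y => by
      rintro ⟨q, hq, rfl⟩
      obtain ⟨k, rfl⟩ := Subgroup.mem_zpowers_iff.mp hq
      simpa using zpow_mem u.2 k⟩
  obtain ⟨E, hEH, hEp, hn, hc⟩ := hHeq ▸ hloc (u : G) (by rw [Subgroup.orderOf_coe, hu])
  haveI : (E.subgroupOf H).Normal := ⟨fun e he c => hn _ c.2 _ he⟩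
  have hEp' : IsPGroup p (E.subgroupOf H) := hEp.of_equiv (Subgroup.subgroupOfEquivOfLe hEH).symm
  have hcE : Subgroup.centralizer (E.subgroupOf H : Set H) ≤ E.subgroupOf H := fun c hcc =>
    hc _ c.2 fun e he =>
      (congrArg Subtype.val (Subgroup.mem_centralizer_iff.mp hcc ⟨e, hEH he⟩ he)).symm
  obtain ⟨ξ, hξ⟩ := IsPBlock.nonempty hb.1
  have hbp : b = principalBlock M H := IsPBlock.eq_of_mem_of_mem hb.1 isPBlock_principalBlock hξ
    (mem_principalBlock_of_normal hM (E.subgroupOf H) hEp' hcE ξ)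
  have h0 := isInducedBlock_principal hM (G := G) (H := H)
    ⟨B, hbp ▸ hb⟩
  have hBp : B = principalBlock M G := IsInducedBlock.unique (hbp ▸ hb) h0
  exact hBp ▸ mem_blockOf_self η

end CfsgLib.Blocks.SingleBlock
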