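import Cfsg.Agent.Lib.Blocks.HeightCount
import Cfsg.Agent.S4491

/-!
# Congruences for the height zero degrees of a block

The sum of the squares of the degrees of a block of defect `d` has exact `p`-part `2a - d`; only
the height zero characters contribute modulo `p ^ (2(a - d) + 2)`.  The linear characters of the
defect group trivial on the focal subgroup act freely and preserving degrees on the height zero
characters, so the number of height zero characters of each degree is a multiple of the index of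
the focal subgroup.
-/

set_option autoImplicit false
set_option linter.unusedSectionVars false

namespace CfsgLib.Blocks

open Cfsg
open CfsgLib.GrpRing
open scoped ComplexConjugate CfsgLib.Char

variable {p : ℕ} {M : Ideal AlgInt} [M.IsPrime] {G : Type*} [Group G] [Fintype G] {P : Subgroup G}
  {e : Set (IrrCharacter (Subgroup.centralizer (P : Set G)))} {B : Set (IrrCharacter G)}
  {F : FusionSystem P}

/-- The focal index divides the number of height zero characters of each degree. -/
theorem focal_index_dvd_card_height_zero_degree (hM : IsPModular p M)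
    (hF : IsBlockFusionSystemOn p M B P e F) (n : ℕ) :
    (F.focalSubgroup.subgroupOf P).index ∣ Nat.card {χ : IrrCharacter G //
      (χ ∈ B ∧ blockHeight p B (χ : G → ℂ) = 0) ∧ charDegree (χ : G → ℂ) = n} := by
  classical
  set N := F.focalSubgroup.subgroupOf P
  set S := {χ : IrrCharacter G //
      (χ ∈ B ∧ blockHeight p B (χ : G → ℂ) = 0) ∧ charDegree (χ : G → ℂ) = n}
  set A := linSub N
  have hst : ∀ (a : A) (χ : S), ∃ ψ : S, ((ψ.1 : IrrCharacter G) : G → ℂ) =
      starChar p M (χ.1 : G → ℂ) (starW p M e (a : ↥P →* ℂˣ)) := fun a χ => by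
    obtain ⟨ψ, h1, h2, h3⟩ := exists_starIrr hM hF a.2 χ.2.1.1
    have hdeg : charDegree (ψ : G → ℂ) = charDegree ((χ.1 : IrrCharacter G) : G → ℂ) := by
      have h := starChar_of_regular hM hF.1 (a : ↥P →* ℂˣ) χ.2.1.1 (g := 1)
        (by simp [IsPRegular, hM.1.ne_one])
      rw [← h1, (irr_degree_eq ψ).1, (irr_degree_eq χ.1).1] at h
      exact Nat.cast_injective h
    exact ⟨⟨ψ, ⟨h2, h3.trans χ.2.1.2⟩, hdeg.trans χ.2.2⟩, h1⟩
  choose act hact using hst
  let _ : MulAction A S :=
    { smul := act
      one_smul := fun χ => Subtype.ext (Subtype.ext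
        ((hact 1 χ).trans (starChar_one hM hF.1 χ.2.1.1)))
      mul_smul := fun a b χ => Subtype.ext (Subtype.ext ((hact (a * b) χ).trans
        ((starChar_comp hM (irr_classFunction χ.1) (irr_classFunction (act b χ).1) _ _
          (hact b χ)).symm.trans (hact a (act b χ)).symm))) }
  have hfree : ∀ χ : S, MulAction.stabilizer A χ = ⊥ := fun χ => (Subgroup.eq_bot_iff_forall _).2
    fun a ha => by
    have hfix : starChar p M (χ.1 : G → ℂ) (starW p M e (a : ↥P →* ℂˣ)) = (χ.1 : G → ℂ) := by
      have h1 : act a χ = χ := ha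
      rw [← hact a χ, h1]
    refine Subtype.ext (MonoidHom.ext fun y => ?_)
    obtain ⟨b, hb⟩ := exists_le_top hM hF.1.1.1 (Subgroup.zpowers_le.mpr y.2)
    exact lam_eq_one_of_fixed hM hF a.2 hfix hb
      (exists_part_ne_zero_of_height_zero hM hF.1 χ.2.1.1 χ.2.1.2 hb)
  have : Finite S := inferInstance
  have : Finite (↥P →* ℂˣ) := Finite.of_equiv _ (Char.linearEquiv (G := ↥P))
  have := Fintype.ofFinite (MulAction.orbitRel.Quotient A S)
  rw [← card_linSub N (focal_comm F), Nat.card_congr (MulAction.selfEquivSigmaOrbits A S),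
    Nat.card_sigma]
  refine Finset.dvd_sum fun ω _ => ?_
  rw [Nat.card_congr (MulAction.orbitEquivQuotientStabilizer A ω.out), ← Subgroup.index_eq_card,
    hfree, Subgroup.index_bot]

open Classical in
/-- Only the height zero degrees count in the sum of squares modulo small powers of `p`. -/
theorem pow_dvd_sum_height_zero_sq [Fact p.Prime] (hM : IsPModular p M) (hB : IsPBlock M B)
    {i : ℕ} (hi : i ≤ blockDefect p B) (hi2 : i ≤ 2) :
    p ^ i ∣ ∑ χ : IrrCharacter G with χ ∈ B ∧ blockHeight p B (χ : G → ℂ) = 0,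
      (charDegree (χ : G → ℂ) / p ^ ((Nat.card G).factorization p - blockDefect p B)) ^ 2 := by
  obtain ⟨hda, -, hall, -⟩ := blockDefect_le_and_degree hM hB
  have hv := Cfsg.Agent.S4491.result p M hM B hB
  rw [show (∑ᶠ χ ∈ B, charDegree (χ : G → ℂ) ^ 2) =
    ∑ χ : IrrCharacter G with χ ∈ B, charDegree (χ : G → ℂ) ^ 2 from
    finsum_mem_eq_sum_of_inter_support_eq _ (by simp)] at hv
  set a := (Nat.card G).factorization p
  set d := blockDefect p B
  have hp : p.Prime := Fact.out
  have hd : ∀ χ ∈ B, p ^ (a - d) ∣ charDegree ((χ : IrrCharacter G) : G → ℂ) := fun χ hχ =>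
    (pow_dvd_pow p (hall χ hχ)).trans (Nat.ordProj_dvd _ _)
  have hsum : p ^ (2 * (a - d) + i) ∣
      ∑ χ : IrrCharacter G with χ ∈ B, charDegree (χ : G → ℂ) ^ 2 :=
    (pow_dvd_pow p (by omega)).trans (hv ▸ Nat.ordProj_dvd _ _)
  rw [← Finset.sum_filter_add_sum_filter_not _
    (fun χ : IrrCharacter G => blockHeight p B (χ : G → ℂ) = 0), Finset.filter_filter,
    Finset.filter_filter] at hsum
  have hrest : p ^ (2 * (a - d) + i) ∣ ∑ χ : IrrCharacter G with
      χ ∈ B ∧ ¬ blockHeight p B (χ : G → ℂ) = 0, charDegree (χ : G → ℂ) ^ 2 := by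
    refine Finset.dvd_sum fun χ hχ => ?_
    obtain ⟨-, hχB, hne⟩ := Finset.mem_filter.mp hχ
    have h1 : a - d + 1 ≤ (charDegree (χ : G → ℂ)).factorization p := by
      have h2 := hall χ hχB
      have h3 : ¬ (charDegree (χ : G → ℂ)).factorization p = a - d := fun h =>
        hne ((blockHeight_eq_zero_iff hM hB hχB).mpr h)
      omega
    refine (pow_dvd_pow p (show 2 * (a - d) + i ≤ (a - d + 1) * 2 by omega)).trans ?_
    rw [pow_mul]
    exact pow_dvd_pow_of_dvd ((pow_dvd_pow p h1).trans (Nat.ordProj_dvd _ _)) 2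
  have h0 := (Nat.dvd_add_left hrest).mp hsum
  rw [show (∑ χ : IrrCharacter G with χ ∈ B ∧ blockHeight p B (χ : G → ℂ) = 0,
      charDegree (χ : G → ℂ) ^ 2) = p ^ (2 * (a - d)) *
        ∑ χ : IrrCharacter G with χ ∈ B ∧ blockHeight p B (χ : G → ℂ) = 0,
          (charDegree (χ : G → ℂ) / p ^ (a - d)) ^ 2 from ?_, pow_add] at h0
  · exact Nat.dvd_of_mul_dvd_mul_left (pow_pos hp.pos _) h0
  · rw [Finset.mul_sum]
    refine Finset.sum_congr rfl fun χ hχ => ?_
    obtain ⟨u, hu⟩ := hd χ (Finset.mem_filter.mp hχ).2.1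
    rw [hu, Nat.mul_div_cancel_left _ (pow_pos hp.pos _), mul_pow, ← pow_mul, mul_comm 2]

/-- The reduced degree of a height zero character is prime to `p`. -/
theorem not_dvd_height_zero_reduced [Fact p.Prime] (hM : IsPModular p M) (hB : IsPBlock M B)
    {χ : IrrCharacter G} (hχ : χ ∈ B) (h0 : blockHeight p B (χ : G → ℂ) = 0) :
    ¬ p ∣ charDegree (χ : G → ℂ) / p ^ ((Nat.card G).factorization p - blockDefect p B) := by
  have hp : p.Prime := Fact.out
  rw [← (blockHeight_eq_zero_iff hM hB hχ).mp h0]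
  exact Nat.not_dvd_ordCompl hp (irr_degree_eq χ).2.ne'

end CfsgLib.Blocks
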