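import Cfsg.Agent.Lib.Blocks.PairConj
import Cfsg.Agent.Lib.Blocks.PairTransport
import Cfsg.Agent.Lib.Blocks.BlockNilpotent
import Cfsg.Agent.Lib.Blocks.OverCharacter

/-!
# Brauer pairs under an extension by a `p`-group

`N` is a normal subgroup of `p`-power index and the blocks `c` of `N` and `B` of `G` have the same
idempotent.  For a `p`-subgroup `R ≤ N` the pairs of `B` on `R` are those lying above the pairs of
`c` on `R`, and nilpotency passes between `c` and `B`.
-/

set_option autoImplicit false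
set_option linter.unusedSectionVars false

namespace CfsgLib.Blocks

open Cfsg
open scoped ComplexConjugate CfsgLib.Char

namespace PExtension

variable {p : ℕ} {M : Ideal AlgInt} {G : Type*} [Group G] [Fintype G] (N : Subgroup G) [N.Normal]
  (R' : Subgroup N)

/-- The image in `G` of a subgroup of `N`. -/
abbrev upR : Subgroup G := R'.map N.subtype

/-- The centralizer in `G`. -/
abbrev upC : Subgroup G := Subgroup.centralizer ((upR N R' : Subgroup G) : Set G)

/-- The centralizer in `N`. -/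
abbrev lowC : Subgroup N := Subgroup.centralizer (R' : Set N)

theorem mem_lowC_iff (n : N) : n ∈ lowC N R' ↔ (n : G) ∈ upC N R' := by
  constructor
  · rintro h _ ⟨a, ha, rfl⟩
    exact congrArg Subtype.val (h a ha)
  · exact fun h a ha => Subtype.ext (h _ ⟨a, ha, rfl⟩)

/-- The centralizer in `N` as a normal subgroup of the centralizer in `G`. -/
def lowEquiv : lowC N R' ≃* N.subgroupOf (upC N R') where
  toFun e := ⟨⟨((e : N) : G), (mem_lowC_iff N R' _).mp e.2⟩, (e : N).2⟩
  invFun d := ⟨⟨((d : upC N R') : G), d.2⟩, (mem_lowC_iff N R' _).mpr (d : upC N R').2⟩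
  left_inv _ := rfl
  right_inv _ := rfl
  map_mul' _ _ := rfl

theorem coe_lowEquiv (e : lowC N R') :
    (((lowEquiv N R' e : N.subgroupOf (upC N R')) : upC N R') : G) = ((e : N) : G) := rfl

variable {N R'}

/-- A character of the centralizer in `G` lies above one of the centralizer in `N`. -/
def Above (η : IrrCharacter (upC N R')) (ξ : IrrCharacter (lowC N R')) : Prop :=
  letI := Fintype.ofFinite (N.subgroupOf (upC N R'))
  classInner (fun d : N.subgroupOf (upC N R') => (η : upC N R' → ℂ) d)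
    (irrEquiv (lowEquiv N R') ξ : N.subgroupOf (upC N R') → ℂ) ≠ 0

theorem exists_above (ξ : IrrCharacter (lowC N R')) : ∃ η, Above (N := N) (R' := R') η ξ := by
  classical
  let := Fintype.ofFinite (N.subgroupOf (upC N R'))
  exact exists_irr_above (irrEquiv (lowEquiv N R') ξ)

theorem exists_below (η : IrrCharacter (upC N R')) : ∃ ξ, Above (N := N) (R' := R') η ξ := by
  classical
  let := Fintype.ofFinite (N.subgroupOf (upC N R'))
  obtain ⟨ψ, hψ⟩ := Char.exists_constituent (N.subgroupOf (upC N R'))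
    (Char.isCharacter_of_isIrr η.2) (Char.irr_degree_ne_zero η.2)
  exact ⟨(irrEquiv (lowEquiv N R')).symm ψ, by
    show classInner _ _ ≠ 0
    rw [Equiv.apply_symm_apply]; exact hψ⟩

/-- An element normalizing `R` acts on the centralizer in `N`. -/
def lowConj {y : G} (hy : y ∈ Subgroup.normalizer ((upR N R' : Subgroup G) : Set G)) :
    lowC N R' ≃* lowC N R' where
  toFun e := ⟨⟨y * ((e : N) : G) * y⁻¹, ‹N.Normal›.conj_mem _ (e : N).2 y⟩,
    (mem_lowC_iff N R' _).mpr ((conj_mem_iff_of_mem_normalizer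
      (mem_normalizer_centralizer hy) _).mpr ((mem_lowC_iff N R' _).mp e.2))⟩
  invFun e := ⟨⟨y⁻¹ * ((e : N) : G) * y, ‹N.Normal›.conj_mem' _ (e : N).2 y⟩,
    (mem_lowC_iff N R' _).mpr ((conj_mem_iff_of_mem_normalizer
      (mem_normalizer_centralizer hy) _).mp (by
        show y * (y⁻¹ * ((e : N) : G) * y) * y⁻¹ ∈ _
        rw [show y * (y⁻¹ * ((e : N) : G) * y) * y⁻¹ = ((e : N) : G) by group]
        exact (mem_lowC_iff N R' _).mp e.2))⟩
  left_inv e := Subtype.ext (Subtype.ext (by simp [mul_assoc]))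
  right_inv e := Subtype.ext (Subtype.ext (by simp [mul_assoc]))
  map_mul' a b := Subtype.ext (Subtype.ext (by simp [mul_assoc]))

/-- `ξ'` is the conjugate of `ξ` by `y`. -/
def IsConjTo (y : G) (ξ ξ' : IrrCharacter (lowC N R')) : Prop :=
  ∀ a b : lowC N R', ((b : N) : G) = y * ((a : N) : G) * y⁻¹ →
    (ξ' : lowC N R' → ℂ) b = (ξ : lowC N R' → ℂ) a

/-- The conjugate character. -/
noncomputable def lowConjIrr {y : G}
    (hy : y ∈ Subgroup.normalizer ((upR N R' : Subgroup G) : Set G))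
    (ξ : IrrCharacter (lowC N R')) : IrrCharacter (lowC N R') :=
  inflate (lowConj hy).symm.toMonoidHom (lowConj hy).symm.surjective ξ

theorem isConjTo_lowConjIrr {y : G}
    (hy : y ∈ Subgroup.normalizer ((upR N R' : Subgroup G) : Set G))
    (ξ : IrrCharacter (lowC N R')) : IsConjTo y ξ (lowConjIrr hy ξ) := fun a b h => by
  show (ξ : lowC N R' → ℂ) ((lowConj hy).symm b) = _
  rw [show b = lowConj hy a from Subtype.ext (Subtype.ext h), MulEquiv.symm_apply_apply]

theorem IsConjTo.eq {y : G} (hy : y ∈ Subgroup.normalizer ((upR N R' : Subgroup G) : Set G))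
    {ξ ξ' : IrrCharacter (lowC N R')} (h : IsConjTo y ξ ξ') : ξ' = lowConjIrr hy ξ :=
  Subtype.ext (funext fun b => by
    refine h ((lowConj hy).symm b) b ?_
    exact (congrArg (fun e : lowC N R' => ((e : N) : G)) ((lowConj hy).apply_symm_apply b)).symm)

theorem sameBlock_lowConjIrr [M.IsPrime] {y : G}
    (hy : y ∈ Subgroup.normalizer ((upR N R' : Subgroup G) : Set G))
    {ξ ξ' : IrrCharacter (lowC N R')}
    (h : ξ' ∈ blockOf M (ξ : lowC N R' → ℂ)) :
    lowConjIrr hy ξ' ∈ blockOf M (lowConjIrr hy ξ : lowC N R' → ℂ) := by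
  classical
  rw [mem_blockOf_iff] at h ⊢
  exact sameBlock_inflate _ _ h

/-- Powers of an element fixing a block of the centralizer in `N` fix it. -/
theorem exists_isConjTo_pow [M.IsPrime] {y : G}
    (hy : y ∈ Subgroup.normalizer ((upR N R' : Subgroup G) : Set G))
    {ξ : IrrCharacter (lowC N R')} (hfix : lowConjIrr hy ξ ∈ blockOf M (ξ : lowC N R' → ℂ))
    (n : ℕ) : ∃ ξ', ξ' ∈ blockOf M (ξ : lowC N R' → ℂ) ∧ IsConjTo (y ^ n) ξ ξ' := by
  classical
  induction n with
  | zero =>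
    refine ⟨ξ, mem_blockOf_self ξ, fun a b h => ?_⟩
    rw [show b = a from Subtype.ext (Subtype.ext (by simpa using h))]
  | succ n ih =>
    obtain ⟨ξ', hmem, hconj⟩ := ih
    refine ⟨lowConjIrr hy ξ', IsPBlock.mem_of_sameBlock (isPBlock_blockOf ξ) hfix
      (mem_blockOf_iff.mp (sameBlock_lowConjIrr hy hmem)), fun a b h => ?_⟩
    obtain ⟨c, rfl⟩ := (lowConj hy).surjective b
    rw [isConjTo_lowConjIrr hy ξ' c _ rfl, hconj a c]
    have h' : y * ((c : N) : G) * y⁻¹ = y * (y ^ n * ((a : N) : G) * (y ^ n)⁻¹) * y⁻¹ := by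
      refine h.trans ?_
      rw [pow_succ']
      group
    exact mul_left_cancel (mul_right_cancel h')

theorem Above.conj {y : G} (hy : y ∈ Subgroup.normalizer ((upR N R' : Subgroup G) : Set G))
    {η : IrrCharacter (upC N R')} {ξ : IrrCharacter (lowC N R')} (h : Above η ξ) :
    Above (conjIrr (conj_mem_iff_of_mem_normalizer (mem_normalizer_centralizer hy)) η)
      (lowConjIrr hy ξ) := by
  classical
  let := Fintype.ofFinite (N.subgroupOf (upC N R'))
  unfold Above at h ⊢
  refine fun h0 => h (Eq.trans ?_ h0)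
  simp only [classInner]
  congr 1
  refine Fintype.sum_equiv (((lowEquiv N R').symm.trans (lowConj hy)).trans (lowEquiv N R')).toEquiv
    _ _ fun d => ?_
  obtain ⟨a, rfl⟩ := (lowEquiv N R').surjective d
  simp only [MulEquiv.toEquiv_eq_coe, EquivLike.coe_coe, MulEquiv.trans_apply,
    MulEquiv.symm_apply_apply]
  rw [irrEquiv_apply, irrEquiv_apply, isConjTo_lowConjIrr hy ξ a _ rfl,
    conjIrr_apply _ η (c := ((lowEquiv N R' a : N.subgroupOf (upC N R')) : upC N R'))
      (c' := ((lowEquiv N R' (lowConj hy a) : N.subgroupOf (upC N R')) : upC N R')) rfl]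

/-- Characters above characters of one block lie in one block. -/
theorem Above.mem_blockOf [M.IsPrime] (hM : IsPModular p M) (hN : ∃ k : ℕ, N.index = p ^ k)
    {η η' : IrrCharacter (upC N R')} {ξ ξ' : IrrCharacter (lowC N R')} (h : Above η ξ)
    (h' : Above η' ξ') (hs : ξ' ∈ Cfsg.blockOf M (ξ : lowC N R' → ℂ)) :
    η' ∈ Cfsg.blockOf M (η : upC N R' → ℂ) := by
  classical
  let := Fintype.ofFinite (N.subgroupOf (upC N R'))
  obtain ⟨k, hk⟩ := hN
  set v := blockCoeff (Cfsg.blockOf M (η : upC N R' → ℂ)) with hv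
  have hU : IsBlockUnion M (Cfsg.blockOf M (η : upC N R' → ℂ)) :=
    IsPBlock.isBlockUnion (isPBlock_blockOf η)
  have hcls : IsClassFunction (upC N R') v := isClassFunction_blockCoeff _
  have hsupp : ∀ g, g ∉ N.subgroupOf (upC N R') → v g = 0 := fun g hg =>
    blockCoeff_eq_zero_of_not_regular hM hU fun hr => hg
      (mem_of_pow_mem_of_isPRegular hM.1 hr (k := k) (by
        rw [Subgroup.mem_subgroupOf, Subgroup.coe_pow, ← hk]
        exact N.pow_index_mem (g : G)))
  have hs' : irrEquiv (lowEquiv N R') ξ' ∈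
      Cfsg.blockOf M (irrEquiv (lowEquiv N R') ξ : N.subgroupOf (upC N R') → ℂ) := by
    rw [mem_blockOf_iff] at hs ⊢
    exact sameBlock_inflate (lowEquiv N R').symm.toMonoidHom (lowEquiv N R').symm.surjective hs
  have hcl : IsClassFunction (N.subgroupOf (upC N R'))
      (fun d : N.subgroupOf (upC N R') => v d) := fun a x => hcls (a : upC N R') (x : upC N R')
  have h1 := sub_mem_localIdeal_of_sameBlock (mem_blockOf_iff.mp hs') hcl
    (fun d => memLocalRing_blockCoeff hU _)
  rw [← omega_eq_of_constituent h hcls hsupp, ← omega_eq_of_constituent h' hcls hsupp, hv,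
    omega_blockCoeff, omega_blockCoeff, indVec_of_mem (mem_blockOf_self η)] at h1
  by_contra hne
  rw [indVec_of_notMem hne] at h1
  exact not_memLocalIdeal_one (M := M) (by simpa using h1)

variable {c : Set (IrrCharacter N)} {B : Set (IrrCharacter G)}

theorem Above.brauerOmega_eq (hBc : ∀ g : G, blockCoeff B g = subgroupBlockCoeff N c g)
    {η : IrrCharacter (upC N R')} {ξ : IrrCharacter (lowC N R')} (h : Above η ξ) :
    brauerOmega (upR N R') (blockCoeff B) (η : upC N R' → ℂ) =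
      brauerOmega R' (blockCoeff c) (ξ : lowC N R' → ℂ) := by
  classical
  let := Fintype.ofFinite (N.subgroupOf (upC N R'))
  let := Fintype.ofFinite (lowC N R')
  let := Fintype.ofFinite (upC N R')
  have h0 := omega_eq_of_constituent h (v := fun x : upC N R' => blockCoeff B (x : G))
    (fun a x => isClassFunction_blockCoeff B (a : G) (x : G)) fun g hg => by
      rw [hBc, subgroupBlockCoeff, dif_neg (fun h => hg (Subgroup.mem_subgroupOf.mpr h))]
  rw [brauerOmega, finsum_eq_sum_of_fintype, ← Finset.sum_div]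
  refine Eq.trans ?_ (h0.trans ?_)
  · rfl
  rw [brauerOmega, finsum_eq_sum_of_fintype, omega, Finset.sum_div]
  refine (Fintype.sum_equiv (lowEquiv N R').toEquiv _ _ fun a => ?_).symm
  have h1 := irrEquiv_apply (lowEquiv N R') ξ 1
  rw [map_one] at h1
  simp only [MulEquiv.toEquiv_eq_coe, EquivLike.coe_coe]
  rw [h1, irrEquiv_apply, coe_lowEquiv, hBc, subgroupBlockCoeff, dif_pos (a : N).2]

variable [M.IsPrime] (hM : IsPModular p M) (hN : ∃ k : ℕ, N.index = p ^ k)
  (hB : IsPBlock M B) (hc : IsPBlock M c)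
  (hBc : ∀ g : G, blockCoeff B g = subgroupBlockCoeff N c g)
include hM hN hB hc hBc

omit hM hN hB hc hBc in
theorem mem_normalizer_upR {x : N} (hx : x ∈ Subgroup.normalizer (R' : Set N)) :
    (x : G) ∈ Subgroup.normalizer ((upR N R' : Subgroup G) : Set G) := by
  refine Subgroup.mem_normalizer_iff.mpr fun g => ⟨?_, ?_⟩
  · rintro ⟨a, ha, rfl⟩
    exact ⟨x * a * x⁻¹, (Subgroup.mem_normalizer_iff.mp hx a).mp ha, by simp⟩
  · rintro ⟨a, ha, he⟩
    exact ⟨x⁻¹ * a * x, (Subgroup.mem_normalizer_iff.mp hx _).mpr (by simpa [mul_assoc] using ha),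
      by simp only [map_mul, map_inv, he]; simp [mul_assoc]⟩

omit hM hN hB hc hBc in
theorem mem_normalizer_of_upR {x : N}
    (hx : (x : G) ∈ Subgroup.normalizer ((upR N R' : Subgroup G) : Set G)) :
    x ∈ Subgroup.normalizer (R' : Set N) := by
  refine Subgroup.mem_normalizer_iff.mpr fun a => ?_
  rw [← Subgroup.mem_map_iff_mem N.subtype_injective (K := R'),
    ← Subgroup.mem_map_iff_mem N.subtype_injective (K := R') (x := x * a * x⁻¹)]
  simpa using Subgroup.mem_normalizer_iff.mp hx (a : G)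

theorem nilpotent_low_of_nilpotent (hnil : IsNilpotentBlock p M B) : IsNilpotentBlock p M c := by
  classical
  refine ⟨hc, fun R' f hf x hx hst hreg => ?_⟩
  obtain ⟨ξ, hξ⟩ := IsPBlock.nonempty hf.1.2
  obtain ⟨η, hη⟩ := exists_above (N := N) (R' := R') ξ
  have hpair : IsBrauerPairOf p M B (upR N R') (Cfsg.blockOf M (η : upC N R' → ℂ)) := by
    refine isBrauerPairOf_of_res hB ⟨hf.1.1.map _, isPBlock_blockOf η⟩ (mem_blockOf_self η) ?_
    rw [hη.brauerOmega_eq hBc]
    exact IsBrauerPairOf.res_eq_one hf hξ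
  have hy := mem_normalizer_upR hx
  have hC := mem_normalizer_centralizer hy
  obtain ⟨ξ', hξ', hval⟩ := hst.2 ξ hξ
  have hconj : ξ' = lowConjIrr hy ξ :=
    IsConjTo.eq hy fun a b h => hval a b (Subtype.ext h)
  have hmem := Above.mem_blockOf (M := M) hM hN hη (hη.conj hy)
    (mem_blockOf_iff.mpr (IsPBlock.sameBlock hf.1.2 hξ (hconj ▸ hξ')))
  have hstab : StabilizesBlock (upC N R') (Cfsg.blockOf M (η : upC N R' → ℂ)) (x : G) := by
    refine stabilizesBlock_iff.mpr ⟨hC, ?_⟩
    exact IsPBlock.eq_of_mem_of_mem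
      (isPBlock_conjSet (conj_mem_iff_of_mem_normalizer hC) (isPBlock_blockOf η))
      (isPBlock_blockOf η)
      (conjIrr_mem_conjSet (conj_mem_iff_of_mem_normalizer hC) (mem_blockOf_self η)) hmem
  exact (mem_lowC_iff N R' x).mpr (hnil.2 _ _ hpair (x : G) hy hstab (by
    show ¬ p ∣ orderOf (x : G)
    rw [Subgroup.orderOf_coe]; exact hreg))

theorem nilpotent_of_nilpotent_low (hnil : IsNilpotentBlock p M c) : IsNilpotentBlock p M B := by
  classical
  have hp := hM.1
  haveI := Fact.mk hp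
  obtain ⟨k₀, hk₀⟩ := hN
  refine ⟨hB, fun Q g hg x hxQ hst hreg => ?_⟩
  have hxN : x ∈ N := mem_of_pow_mem_of_isPRegular hp hreg (k := k₀) (hk₀ ▸ N.pow_index_mem x)
  set R' : Subgroup N := Q.subgroupOf N with hR'
  have hRmem : ∀ r : G, r ∈ upR N R' ↔ r ∈ Q ∧ r ∈ N := fun r => by
    rw [upR, hR', Subgroup.subgroupOf_map_subtype, Subgroup.mem_inf]
  have hRQ : upR N R' ≤ Q := fun r hr => ((hRmem r).mp hr).1
  have hxR : x ∈ Subgroup.normalizer ((upR N R' : Subgroup G) : Set G) :=
    Subgroup.mem_normalizer_iff.mpr fun r => by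
      rw [hRmem, hRmem, ← conj_mem_iff_of_mem_normalizer hxQ r, ← conj_mem_iff_of_mem hxN r]
  obtain ⟨h, hle, huniq⟩ := existsUnique_subpair hM hg.1 hRQ
  have hh : IsBrauerPairOf p M B (upR N R') h := (SubpairLE.isBrauerPairOf_iff hM hle hB).mp hg
  have hfixh : conjSet x (upC N R') (upC N R') h = h := by
    apply huniq
    have h1 := subpairLE_conjPair x hle
    rw [conjPair_of_mem_normalizer hxQ, conjPair_of_mem_normalizer hxR,
      (stabilizesBlock_iff.mp hst).2] at h1
    exact h1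
  obtain ⟨η, hη⟩ := IsPBlock.nonempty hh.1.2
  obtain ⟨ξ, hξ⟩ := exists_below (N := N) (R' := R') η
  have hR'p : IsPGroup p R' := hg.1.1.comap_subtype
  have hf : IsBrauerPairOf p M c R' (Cfsg.blockOf M (ξ : lowC N R' → ℂ)) := by
    refine isBrauerPairOf_of_res hc ⟨hR'p, isPBlock_blockOf ξ⟩ (mem_blockOf_self ξ) ?_
    rw [← hξ.brauerOmega_eq hBc]
    exact IsBrauerPairOf.res_eq_one hh hη
  -- move the conjugate block back by an element of the centralizer
  let := Fintype.ofFinite (N.subgroupOf (upC N R'))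
  have hC := conj_mem_iff_of_mem_normalizer (mem_normalizer_centralizer hxR)
  have hη'' : conjIrr hC η ∈ h := hfixh ▸ conjIrr_mem_conjSet hC hη
  obtain ⟨k, hk⟩ := exists_conjI_mem_of_congr (M := M) (χ := conjIrr hC η)
    (isPBlock_blockOf (irrEquiv (lowEquiv N R') ξ)) (mem_blockOf_self _)
    (fun v hv hl hsupp => by
      rw [← omega_eq_of_constituent hξ hv hsupp]
      exact sub_mem_localIdeal_of_sameBlock (IsPBlock.sameBlock hh.1.2 hη'' hη) hv hl)
    (hξ.conj hxR)
  set y : G := (k : G)⁻¹ * x with hy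
  have hkR : ∀ r ∈ upR N R', (k : G)⁻¹ * r * k = r := fun r hr => by
    rw [mul_assoc, k.2 r hr, inv_mul_cancel_left]
  have hyR : y ∈ Subgroup.normalizer ((upR N R' : Subgroup G) : Set G) :=
    mul_mem (inv_mem (Subgroup.centralizer_le_normalizer _ k.2)) hxR
  have hfix : lowConjIrr hyR ξ ∈ Cfsg.blockOf M (ξ : lowC N R' → ℂ) := by
    have heq : conjI k (irrEquiv (lowEquiv N R') (lowConjIrr hxR ξ)) =
        irrEquiv (lowEquiv N R') (lowConjIrr hyR ξ) := Subtype.ext (funext fun d => by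
      obtain ⟨b, rfl⟩ := (lowEquiv N R').surjective d
      obtain ⟨a, rfl⟩ := (lowConj hyR).surjective b
      rw [irrEquiv_apply, isConjTo_lowConjIrr hyR ξ a _ rfl, coe_conjI]
      rw [Char.conjBy_apply,
        show (⟨k * ((lowEquiv N R' (lowConj hyR a) : N.subgroupOf (upC N R')) : upC N R') * k⁻¹,
            (inferInstance : (N.subgroupOf (upC N R')).Normal).conj_mem _
              (lowEquiv N R' (lowConj hyR a)).2 k⟩ : N.subgroupOf (upC N R')) =
          lowEquiv N R' (lowConj hxR a) from Subtype.ext (Subtype.ext (by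
            show (k : G) * (y * ((a : N) : G) * y⁻¹) * (k : G)⁻¹ = x * ((a : N) : G) * x⁻¹
            rw [hy]; group)),
        irrEquiv_apply]
      exact isConjTo_lowConjIrr hxR ξ a _ rfl)
    rw [heq] at hk
    rw [mem_blockOf_iff] at hk ⊢
    have h' := sameBlock_inflate (lowEquiv N R').toMonoidHom (lowEquiv N R').surjective hk
    convert h' using 1
    · exact funext fun a => (irrEquiv_apply _ ξ a).symm
    · exact funext fun a => (irrEquiv_apply _ _ a).symm
  -- the regular part of `y`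
  set m := (orderOf y).factorization p
  set z : G := y ^ p ^ m with hz
  have hzreg : IsPRegular p z := by
    show ¬ p ∣ orderOf z
    rw [hz, orderOf_pow_of_dvd (pow_ne_zero _ hp.ne_zero) (Nat.ordProj_dvd _ p)]
    exact Nat.not_dvd_ordCompl hp (orderOf_pos y).ne'
  have hzN : z ∈ N := mem_of_pow_mem_of_isPRegular hp hzreg (k := k₀) (hk₀ ▸ N.pow_index_mem z)
  have hzR : z ∈ Subgroup.normalizer ((upR N R' : Subgroup G) : Set G) := pow_mem hyR _
  obtain ⟨ξ₁, hξ₁, hconj₁⟩ := exists_isConjTo_pow (M := M) hyR hfix (p ^ m)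
  have hzR' : (⟨z, hzN⟩ : N) ∈ Subgroup.normalizer (R' : Set N) :=
    mem_normalizer_of_upR (x := ⟨z, hzN⟩) hzR
  have hzst : StabilizesBlock (lowC N R') (Cfsg.blockOf M (ξ : lowC N R' → ℂ)) (⟨z, hzN⟩ : N) := by
    refine ⟨mem_normalizer_centralizer hzR', fun χ hχ => ⟨lowConjIrr hzR χ, ?_, fun a b h =>
      isConjTo_lowConjIrr hzR χ a b (congrArg Subtype.val h)⟩⟩
    exact IsPBlock.mem_of_sameBlock (isPBlock_blockOf ξ) (IsConjTo.eq hzR hconj₁ ▸ hξ₁)
      (mem_blockOf_iff.mp (sameBlock_lowConjIrr hzR hχ))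
  have hzC : z ∈ upC N R' := (mem_lowC_iff N R' ⟨z, hzN⟩).mp (hnil.2 _ _ hf ⟨z, hzN⟩ hzR' hzst (by
    show ¬ p ∣ orderOf (⟨z, hzN⟩ : N)
    rw [Subgroup.orderOf_mk]; exact hzreg))
  have hxy : ∀ n : ℕ, ∀ r ∈ upR N R', y ^ n * r * (y ^ n)⁻¹ = x ^ n * r * (x ^ n)⁻¹ := by
    intro n
    induction n with
    | zero => simp
    | succ n ih =>
      intro r hr
      have hmem : x ^ n * r * (x ^ n)⁻¹ ∈ upR N R' :=
        (conj_mem_iff_of_mem_normalizer (pow_mem hxR n) r).mpr hr
      calc y ^ (n + 1) * r * (y ^ (n + 1))⁻¹ = y * (y ^ n * r * (y ^ n)⁻¹) * y⁻¹ := by group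
        _ = (k : G)⁻¹ * (x * (x ^ n * r * (x ^ n)⁻¹) * x⁻¹) * k := by rw [ih r hr, hy]; group
        _ = x * (x ^ n * r * (x ^ n)⁻¹) * x⁻¹ :=
          hkR _ ((conj_mem_iff_of_mem_normalizer hxR _).mpr hmem)
        _ = x ^ (n + 1) * r * (x ^ (n + 1))⁻¹ := by group
  have hxC : x ∈ upC N R' := mem_of_pow_mem_of_isPRegular hp hreg (k := m) fun r hr => by
    have h1 := hxy (p ^ m) r hr
    rw [← hz, ← hzC r hr, mul_inv_cancel_right] at h1
    conv_lhs => rw [h1]
    rw [inv_mul_cancel_right]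
  intro q hq
  set r : G := x * q * x⁻¹ * q⁻¹ with hr
  have hrQ : r ∈ Q := mul_mem ((conj_mem_iff_of_mem_normalizer hxQ q).mpr hq) (inv_mem hq)
  have hrN : r ∈ N := by
    rw [hr, show x * q * x⁻¹ * q⁻¹ = x * (q * x⁻¹ * q⁻¹) by group]
    exact mul_mem hxN (‹N.Normal›.conj_mem _ (inv_mem hxN) q)
  have hrx : r * x = x * r := hxC r ((hRmem r).mpr ⟨hrQ, hrN⟩)
  have hpow : ∀ n : ℕ, x ^ n * q * (x ^ n)⁻¹ = r ^ n * q := by
    intro n
    induction n with
    | zero => simp
    | succ n ih =>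
      have hc' : x * r ^ n = r ^ n * x := ((Commute.pow_left (show Commute r x from hrx) n).eq).symm
      calc x ^ (n + 1) * q * (x ^ (n + 1))⁻¹ = x * (x ^ n * q * (x ^ n)⁻¹) * x⁻¹ := by group
        _ = (x * r ^ n) * q * x⁻¹ := by rw [ih]; group
        _ = r ^ n * (r * q) := by rw [hc', hr]; group
        _ = r ^ (n + 1) * q := by rw [hr, pow_succ]; group
  have hr1 : r ^ orderOf x = 1 := by
    have h1 := hpow (orderOf x)
    rw [pow_orderOf_eq_one, inv_one, mul_one, one_mul] at h1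
    exact right_eq_mul.mp h1
  obtain ⟨j, hj⟩ := IsPGroup.iff_orderOf.mp hg.1.1 ⟨r, hrQ⟩
  rw [Subgroup.orderOf_mk] at hj
  have hr0 : r = 1 := by
    rw [← orderOf_eq_one_iff]
    refine Nat.eq_one_of_dvd_coprimes ((hp.coprime_iff_not_dvd.mpr hreg).pow_left j) (hj ▸ dvd_rfl)
      (orderOf_dvd_of_pow_eq_one hr1)
  show q * x = x * q
  rw [hr, mul_inv_eq_one, mul_inv_eq_iff_eq_mul] at hr0
  exact hr0.symm

end PExtension

end CfsgLib.Blocks
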