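import Cfsg.Agent.Lib.Blocks.StarGeneralized
import Cfsg.Agent.Lib.Blocks.BlockFusion
import Cfsg.Agent.Lib.Blocks.SectionContribution

/-!
# Weights on pairs from linear characters of the defect group, and the parts of sections

A linear character of `P` trivial on the focal subgroup of the block gives a weight on the pairs
`(⟨u⟩, b)` of the block, invariant under conjugation and linear below every pair.  The part of a
character at a section `u`, block by block of `C_G(⟨u⟩)`, is the trace on the block idempotent and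
vanishes for the blocks which do not give pairs of the block of the character.
-/

set_option autoImplicit false
set_option linter.unusedSectionVars false

namespace CfsgLib.Blocks

open Cfsg
open CfsgLib.GrpRing
open scoped ComplexConjugate CfsgLib.Char

variable {p : ℕ} {M : Ideal AlgInt} [M.IsPrime] {G : Type*} [Group G] [Fintype G] {P : Subgroup G}
  {e : Set (IrrCharacter (Subgroup.centralizer (P : Set G)))} {B : Set (IrrCharacter G)}
  {F : FusionSystem P}

/-! ### The focal subgroup -/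

theorem commutator_mem_focal {x y : G} (hx : x ∈ P) (hy : y ∈ P) :
    x * y * x⁻¹ * y⁻¹ ∈ F.focalSubgroup := by
  have h : y⁻¹⁻¹ * conjHom P x ⟨y⁻¹, inv_mem hy⟩ ∈ F.focalSubgroup :=
    Subgroup.subset_closure ⟨P, conjHom P x, ⟨y⁻¹, inv_mem hy⟩, F.conj_mem le_rfl hx, rfl⟩
  simpa [conjHom, mul_assoc] using F.focalSubgroup.inv_mem h

variable (F) in
theorem focal_comm (x y : ↥P) : x * y * x⁻¹ * y⁻¹ ∈ F.focalSubgroup.subgroupOf P := by
  rw [Subgroup.mem_subgroupOf]
  exact commutator_mem_focal x.2 y.2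

variable (F) in
theorem focal_normal : (F.focalSubgroup.subgroupOf P).Normal :=
  ⟨fun n hn g => by
    have h := mul_mem (focal_comm F g n) hn
    rwa [inv_mul_cancel_right] at h⟩

/-! ### Weights -/

/-- A linear character of `P`, extended by zero. -/
noncomputable def lamExt (lam : ↥P →* ℂˣ) (g : G) : ℂ :=
  open Classical in if h : g ∈ P then (lam ⟨g, h⟩ : ℂ) else 0

theorem lamExt_of_mem (lam : ↥P →* ℂˣ) {g : G} (h : g ∈ P) :
    lamExt lam g = (lam ⟨g, h⟩ : ℂ) := by
  rw [lamExt, dif_pos h]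

theorem lamExt_mul_conj (lam : ↥P →* ℂˣ) {g : G} (hg : g ∈ P) :
    lamExt lam g * conj (lamExt lam g) = 1 := by
  rw [lamExt_of_mem lam hg]
  obtain ⟨n, hn0, hn⟩ := isOfFinOrder_iff_pow_eq_one.mp
    (lam.isOfFinOrder (isOfFinOrder_of_finite (⟨g, hg⟩ : ↥P)))
  have h1 : ‖(lam ⟨g, hg⟩ : ℂ)‖ = 1 := Complex.norm_eq_one_of_pow_eq_one (n := n)
    (by rw [← Units.val_pow_eq_pow_val, hn, Units.val_one]) hn0.ne'
  rw [Complex.mul_conj, Complex.normSq_eq_norm_sq, h1]
  norm_num

variable (p M e) in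
/-- The weight of the pair `a` at `u`: the value at a conjugate below `(P, e)`. -/
noncomputable def starW (lam : ↥P →* ℂˣ) (u : G) (a : BrauerPairIdx G) : ℂ :=
  open Classical in
    if h : ∃ x : G, PairLE p M (conjPair x a) ⟨P, e⟩ then
      lamExt lam (h.choose * u * h.choose⁻¹) else 0

theorem lamExt_eq_of_carries (hF : IsBlockFusionSystemOn p M B P e F) {lam : ↥P →* ℂˣ}
    (hlam : ∀ n ∈ F.focalSubgroup.subgroupOf P, lam n = 1) {g : G} {Q : Subgroup G}
    (hc : Carries p M P e g Q) {y : G} (hy : y ∈ Q) :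
    lamExt lam (g * y * g⁻¹) = lamExt lam y := by
  obtain ⟨φ, hφ, hv⟩ :=
    (isMap_block_iff hF (f := fun z => g * z * g⁻¹)).mpr ⟨g, hc, fun _ _ => rfl⟩
  have hyP : y ∈ P := hc.le hy
  have hgyP : g * y * g⁻¹ ∈ P := hc.map_le ⟨y, hy, rfl⟩
  have hmem : y⁻¹ * (g * y * g⁻¹) ∈ F.focalSubgroup :=
    Subgroup.subset_closure ⟨Q, φ, ⟨y, hy⟩, hφ, by rw [hv ⟨y, hy⟩]⟩
  have h1 := hlam ((⟨y, hyP⟩ : ↥P)⁻¹ * ⟨g * y * g⁻¹, hgyP⟩) (Subgroup.mem_subgroupOf.mpr hmem)
  rw [map_mul, map_inv, inv_mul_eq_one] at h1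
  rw [lamExt_of_mem lam hgyP, lamExt_of_mem lam hyP, h1]

theorem starW_of_le (hF : IsBlockFusionSystemOn p M B P e F) {lam : ↥P →* ℂˣ}
    (hlam : ∀ n ∈ F.focalSubgroup.subgroupOf P, lam n = 1) {u x : G} {a : BrauerPairIdx G}
    (hu : u ∈ a.1) (hx : PairLE p M (conjPair x a) ⟨P, e⟩) :
    starW p M e lam u a = lamExt lam (x * u * x⁻¹) := by
  have h : ∃ y : G, PairLE p M (conjPair y a) ⟨P, e⟩ := ⟨x, hx⟩
  rw [starW, dif_pos h]
  have hc : Carries p M P e (h.choose * x⁻¹) (conjPair x a).1 :=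
    ⟨(conjPair x a).2, hx, by
      show PairLE p M (conjPair (h.choose * x⁻¹) (conjPair x a)) _
      rw [conjPair_conjPair, inv_mul_cancel_right]
      exact h.choose_spec⟩
  rw [← lamExt_eq_of_carries hF hlam hc
    (show x * u * x⁻¹ ∈ (conjPair x a).1 from ⟨u, hu, rfl⟩)]
  congr 1
  group

theorem starW_of_none (lam : ↥P →* ℂˣ) (u : G) {a : BrauerPairIdx G}
    (h : ¬ ∃ x : G, PairLE p M (conjPair x a) ⟨P, e⟩) : starW p M e lam u a = 0 := by
  rw [starW, dif_neg h]

theorem starW_mul (lam mu : ↥P →* ℂˣ) (u : G) (a : BrauerPairIdx G) :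
    starW p M e (lam * mu) u a = starW p M e lam u a * starW p M e mu u a := by
  unfold starW lamExt
  split_ifs <;> simp

/-- A pair is conjugate below the maximal pair exactly if it is a pair of the block. -/
theorem exists_conj_le_top_iff (hM : IsPModular p M) (hmax : IsMaximalBrauerPair p M B P e)
    {a : BrauerPairIdx G} :
    (∃ x : G, PairLE p M (conjPair x a) ⟨P, e⟩) ↔ IsBrauerPairOf p M B a.1 a.2 := by
  refine ⟨fun ⟨x, hx⟩ => ?_, fun h => exists_conjPair_le_maximal hM hmax h⟩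
  have h := isBrauerPairOf_conjPair x⁻¹
    ((SubpairLE.isBrauerPairOf_iff hM (Q := (conjPair x a).1) (f := (conjPair x a).2) hx
      hmax.1.2.1).mp hmax.1)
  rwa [conjPair_conjPair, inv_mul_cancel, conjPair_one] at h

theorem starW_mul_conj (hM : IsPModular p M) (hF : IsBlockFusionSystemOn p M B P e F)
    {lam : ↥P →* ℂˣ} (hlam : ∀ n ∈ F.focalSubgroup.subgroupOf P, lam n = 1) {u : G}
    {a : BrauerPairIdx G} (hu : u ∈ a.1) (ha : IsBrauerPairOf p M B a.1 a.2) :
    starW p M e lam u a * conj (starW p M e lam u a) = 1 := by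
  obtain ⟨x, hx⟩ := (exists_conj_le_top_iff hM hF.1).mpr ha
  rw [starW_of_le hF hlam hu hx]
  exact lamExt_mul_conj lam (PairLE.fst_le hx ⟨u, hu, rfl⟩)

theorem starW_one (hM : IsPModular p M) (hmax : IsMaximalBrauerPair p M B P e) {u : G}
    {a : BrauerPairIdx G} (hu : u ∈ a.1) (ha : IsBrauerPairOf p M B a.1 a.2) :
    starW p M e (1 : ↥P →* ℂˣ) u a = 1 := by
  have h := (exists_conj_le_top_iff hM hmax).mpr ha
  rw [starW, dif_pos h, lamExt_of_mem _ (show h.choose * u * h.choose⁻¹ ∈ P from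
    PairLE.fst_le h.choose_spec ⟨u, hu, rfl⟩)]
  simp

theorem starW_at_one (hM : IsPModular p M) (hmax : IsMaximalBrauerPair p M B P e)
    (lam : ↥P →* ℂˣ) {a : BrauerPairIdx G} (ha : IsBrauerPairOf p M B a.1 a.2) :
    starW p M e lam 1 a = 1 := by
  rw [starW, dif_pos ((exists_conj_le_top_iff hM hmax).mpr ha), mul_one, mul_inv_cancel,
    lamExt_of_mem _ (one_mem P)]
  exact congrArg Units.val (map_one lam)

theorem isPairWeight_starW (hM : IsPModular p M) (hF : IsBlockFusionSystemOn p M B P e F)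
    {lam : ↥P →* ℂˣ} (hlam : ∀ n ∈ F.focalSubgroup.subgroupOf P, lam n = 1) :
    IsPairWeight p M (starW p M e lam) := by
  refine ⟨fun x u a hu => ?_, fun Q f hQf => ?_⟩
  · by_cases h : ∃ y : G, PairLE p M (conjPair y a) ⟨P, e⟩
    · obtain ⟨y, hy⟩ := h
      have hy' : PairLE p M (conjPair (y * x⁻¹) (conjPair x a)) ⟨P, e⟩ := by
        rwa [conjPair_conjPair, inv_mul_cancel_right]
      rw [starW_of_le hF hlam hu hy, starW_of_le hF hlam
        (show x * u * x⁻¹ ∈ (conjPair x a).1 from ⟨u, hu, rfl⟩) hy']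
      congr 1
      group
    · rw [starW_of_none lam u h, starW_of_none]
      rintro ⟨y, hy⟩
      exact h ⟨y * x, by rwa [← conjPair_conjPair]⟩
  · by_cases h : ∃ x : G, PairLE p M (conjPair x ⟨Q, f⟩) ⟨P, e⟩
    · obtain ⟨x, hx⟩ := h
      right
      have hQP : ∀ u : Q, x * (u : G) * x⁻¹ ∈ P := fun u => PairLE.fst_le hx ⟨u, u.2, rfl⟩
      refine ⟨fun u => (lam.comp
          (((MulAut.conj x).toMonoidHom.comp Q.subtype).codRestrict P fun u => hQP u) u : ℂ),
        Char.isGeneralized_of_isCharacter (Char.isCharacter_monoidHom _), fun u g hg => ?_⟩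
      rw [starW_of_le hF hlam (Subgroup.mem_zpowers (u : G))
        ((subpairLE_conjPair x hg).trans hx), lamExt_of_mem lam (hQP u)]
      rfl
    · left
      intro u hu g hg
      refine starW_of_none lam u fun hg' => h ?_
      refine (exists_conj_le_top_iff hM hF.1).mpr ?_
      exact (SubpairLE.isBrauerPairOf_iff hM hg hF.1.1.2.1).mpr
        ((exists_conj_le_top_iff hM hF.1).mp hg')

/-! ### Centralizers of cyclic subgroups -/

/-- The centralizer of the cyclic subgroup of `u`. -/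
abbrev cz (u : G) : Subgroup G := Subgroup.centralizer (Subgroup.zpowers u : Set G)

theorem cz_eq (u : G) : cz u = Subgroup.centralizer ({u} : Set G) := by
  rw [cz, Subgroup.zpowers_eq_closure, Subgroup.centralizer_closure]

theorem isBrauerPairOf_iff_induced (hM : IsPModular p M) {B : Set (IrrCharacter G)} {u : G}
    (hu : ∃ k : ℕ, orderOf u = p ^ k) {b : Set (IrrCharacter (cz u))} (hb : IsPBlock M b) :
    IsBrauerPairOf p M B (Subgroup.zpowers u) b ↔ IsInducedBlock M (cz u) b B := by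
  classical
  have : Fact p.Prime := ⟨hM.1⟩
  obtain ⟨k, hk⟩ := hu
  have hU : IsPGroup p (Subgroup.zpowers u) :=
    IsPGroup.of_card (n := k) (by rw [Nat.card_zpowers, hk])
  have hmp : ∀ B' : Set (IrrCharacter G), IsInducedBlock M (cz u) b B' →
      IsBrauerPairOf p M B' (Subgroup.zpowers u) b := fun B' hind => by
    refine ⟨⟨hU, hb⟩, hind.2.1, fun ξ hξ => ?_⟩
    obtain ⟨χ, hχ⟩ := IsPBlock.nonempty hind.2.1
    have h := IsInducedBlock.omega_congr hind hξ hχ (isClassFunction_blockCoeff B')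
      fun g => IsPBlock.memLocalRing_blockCoeff hind.2.1 g
    rw [omega_blockCoeff, indVec_of_mem hχ] at h
    convert h using 3
    rw [brauerOmega, finsum_eq_sum_of_fintype, omega, Finset.sum_div]
  refine ⟨fun h => ?_, fun h => hmp B h⟩
  obtain ⟨B', hB'⟩ := inducedBlockDefined_of_le_normalizer hM hU
    (fun q hq => Subgroup.mem_centralizer_iff.mpr fun t ht => by
      obtain ⟨m, rfl⟩ := Subgroup.mem_zpowers_iff.mp hq
      obtain ⟨n, rfl⟩ := Subgroup.mem_zpowers_iff.mp ht
      exact (Commute.zpow_zpow_self u n m).eq) le_rfl (Subgroup.centralizer_le_normalizer _) hb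
  obtain rfl : B = B' := (existsUnique_isBrauerPairOf hM ⟨hU, hb⟩).unique h (hmp B' hB')
  exact hB'

/-- The function `c ↦ χ (u c)` on the centralizer of `u`. -/
noncomputable def sect (χ : G → ℂ) (u : G) : cz u → ℂ := fun c => χ (u * (c : G))

theorem commute_of_mem_cz {u : G} (c : cz u) : Commute u (c : G) :=
  Subgroup.mem_centralizer_iff.mp c.2 u (Subgroup.mem_zpowers u)

theorem isClassFunction_sect {χ : G → ℂ} (hχ : IsClassFunction G χ) (u : G) :
    IsClassFunction (cz u) (sect χ u) := fun c a => by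
  simp only [sect, Subgroup.coe_mul, Subgroup.coe_inv]
  rw [← hχ (u * (c : G)) (a : G)]
  congr 1
  simp only [← mul_assoc, (commute_of_mem_cz a).eq]

theorem blockPart_sect_eq_zero (hM : IsPModular p M) {B : Set (IrrCharacter G)} (hB : IsPBlock M B)
    {χ : IrrCharacter G} (hχ : χ ∈ B) {u : G} (hu : ∃ k : ℕ, orderOf u = p ^ k)
    {b : Set (IrrCharacter (cz u))} (hb : IsPBlock M b)
    (hnot : ¬ IsBrauerPairOf p M B (Subgroup.zpowers u) b) {y : cz u} (hy : ¬ p ∣ orderOf y) :
    blockPart b (sect (χ : G → ℂ) u) y = 0 := by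
  rw [isBrauerPairOf_iff_induced hM hu hb] at hnot
  have key : ∀ (K : Subgroup G), K = Subgroup.centralizer ({u} : Set G) →
      ∀ (b : Set (IrrCharacter K)), IsPBlock M b → ¬ IsInducedBlock M K b B → ∀ y : K,
        ¬ p ∣ orderOf y → blockPart b (fun c : K => (χ : G → ℂ) (u * (c : G))) y = 0 := by
    rintro K rfl b hb hnot y hy
    classical
    exact blockPart_eq_zero_of_not_induced hM hu hB hχ hb hnot hy
  exact key _ (cz_eq u) b hb hnot y hy

theorem blkO_mem_fixAlg {H : Subgroup G} {b : Set (IrrCharacter H)} (hb : IsPBlock M b) :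
    blkO hb ∈ fixAlg (locRing M) (H : Set G) :=
  mem_fixAlg_iff.mpr fun s hs g => Subtype.ext (by
    rw [coe_coeff_blkO, coe_coeff_blkO,
      ← subgroupBlockCoeff_conjSet (conj_mem_iff_of_mem_normalizer (Subgroup.le_normalizer hs)) b g,
      conjSet_of_mem hs b])

/-- The trace on a block idempotent is the block part. -/
theorem blkTrace_blkK {χ : G → ℂ} (hχ : IsClassFunction G χ) {u r : G} (hr : r ∈ cz u)
    (hu : u ∈ cz u) {b : Set (IrrCharacter (cz u))} (hb : IsPBlock M b) :
    blkTrace χ (u * r) (blkK M (cz u) b) = blockPart b (sect χ u) ⟨r, hr⟩ := by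
  classical
  rw [← red_blkO hb, blkTrace_red hχ (isIdempotentElem_blkO hb)
    (fixAlg_anti (T := (cz u : Set G)) (Set.singleton_subset_iff.mpr (mul_mem hu hr))
      (blkO_mem_fixAlg hb)), chiSum_mul_dlt, blockPart_eq_sum b (isClassFunction_sect hχ u)]
  simp only [coe_coeff_blkO]
  refine (Fintype.sum_of_injective Subtype.val Subtype.val_injective _ _ (fun z hz => ?_)
    fun c => ?_).symm
  · rw [subgroupBlockCoeff_eq, extendByZero_eq_zero _ _ fun h => hz ⟨⟨z, h⟩, rfl⟩, zero_mul]
  · rw [subgroupBlockCoeff_eq, extendByZero_apply, sect, Subgroup.coe_mul, ← mul_assoc,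
      (commute_of_mem_cz c).eq, mul_assoc]

theorem starPart_one {χ : G → ℂ} (hχ : IsClassFunction G χ) (w : G → BrauerPairIdx G → ℂ)
    {u r : G} (h : IsSectionPoint p u r) :
    starPart (M := M) χ w 1 u r = ∑ b ∈ subBlocks M (cz u),
      w u ⟨Subgroup.zpowers u, b⟩ *
        blockPart b (sect χ u) ⟨r, mem_centralizer_zpowers h.comm⟩ := by
  rw [starPart, starTerm]
  refine Finset.sum_congr rfl fun b hb => ?_
  rw [trunc_one, one_mul, blkTrace_blkK hχ (mem_centralizer_zpowers h.comm)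
    (mem_centralizer_zpowers (Commute.refl u)) (mem_subBlocks.mp hb)]

end CfsgLib.Blocks
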