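import Cfsg.Agent.Lib.Blocks.BrauerFeit
import Cfsg.Agent.Lib.Blocks.MainThird
import Cfsg.Agent.Lib.Char.MeanValueVirtual
import Cfsg.Agent.Lib.Char.AbelianQuotient

/-!
# Contributions of a subsection

For a `p`-element `x`, a block `b` of `C = C_G(x)` inducing `B` and `χ, ψ ∈ B`, the number
`p^d ⟨(χ^{(x,b)})°, ψ^{(x,b)}⟩`, `d` the defect of `b`, is the value at `x` of a generalized
character of `⟨x⟩`. The squares of their absolute values over `χ, ψ ∈ B` sum to `p^{2d} l(b)`, and
they do not vanish when `b` has full defect and both characters have height zero.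
-/

set_option autoImplicit false
set_option linter.unusedSectionVars false

namespace CfsgLib.Blocks

open Cfsg
open scoped ComplexConjugate CfsgLib.Char

/-- The squares of the inner products of the rows are those of the columns. -/
theorem sum_gram_sq {ι κ : Type*} (s : Finset ι) (t : Finset κ) (P : ι → κ → ℂ) :
    ∑ i ∈ s, ∑ j ∈ s, (∑ u ∈ t, P i u * conj (P j u)) * conj (∑ u ∈ t, P i u * conj (P j u)) =
      ∑ u ∈ t, ∑ v ∈ t, (∑ i ∈ s, P i u * conj (P i v)) * conj (∑ i ∈ s, P i u * conj (P i v)) := by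
  simp only [map_sum, map_mul, Complex.conj_conj, Finset.sum_mul_sum]
  conv_lhs => enter [2, i]; rw [Finset.sum_comm]
  rw [Finset.sum_comm]
  refine Finset.sum_congr rfl fun u _ => ?_
  conv_lhs => enter [2, i]; rw [Finset.sum_comm]
  rw [Finset.sum_comm]
  exact Finset.sum_congr rfl fun v _ => Finset.sum_congr rfl fun i _ =>
    Finset.sum_congr rfl fun j _ => by ring

variable {p : ℕ} {M : Ideal AlgInt} {G : Type*} [Group G] [Fintype G] {x : G}

/-- The powers of `x` in its centralizer. -/
def zpowersToCentralizer (x : G) :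
    Subgroup.zpowers x →* Subgroup.centralizer ({x} : Set G) :=
  Subgroup.inclusion (Subgroup.zpowers_le.mpr (Subgroup.mem_centralizer_singleton_iff.mpr rfl))

theorem zpowersToCentralizer_mem_center (v : Subgroup.zpowers x) :
    zpowersToCentralizer x v ∈ Subgroup.center (Subgroup.centralizer ({x} : Set G)) := by
  refine Subgroup.mem_center_iff.mpr fun c => Subtype.ext ?_
  obtain ⟨k, hk⟩ := Subgroup.mem_zpowers_iff.mp v.2
  show (c : G) * (v : G) = (v : G) * (c : G)
  rw [← hk]
  exact ((show Commute (c : G) x from Subgroup.mem_centralizer_singleton_iff.mp c.2).zpow_right k).eq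

variable [Fintype (Subgroup.centralizer ({x} : Set G))]

/-- The scalar by which the powers of `x` act in an irreducible character of the centralizer. -/
noncomputable def centralScalar (x : G) [Fintype (Subgroup.centralizer ({x} : Set G))]
    (ξ : IrrCharacter (Subgroup.centralizer ({x} : Set G))) : Subgroup.zpowers x →* ℂˣ :=
  MonoidHom.toHomUnits
    { toFun := fun v => (ξ : Subgroup.centralizer ({x} : Set G) → ℂ) (zpowersToCentralizer x v) /
        (ξ : Subgroup.centralizer ({x} : Set G) → ℂ) 1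
      map_one' := by rw [map_one, div_self (Char.irr_degree_ne_zero ξ.2)]
      map_mul' := fun u v => by
        rw [map_mul]
        have h := Char.central_mul ξ.2 (zpowersToCentralizer_mem_center v) (zpowersToCentralizer x u)
        have := Char.irr_degree_ne_zero ξ.2
        field_simp
        linear_combination h }

theorem centralScalar_apply (ξ : IrrCharacter (Subgroup.centralizer ({x} : Set G)))
    (v : Subgroup.zpowers x) :
    (centralScalar x ξ v : ℂ) = (ξ : Subgroup.centralizer ({x} : Set G) → ℂ) (zpowersToCentralizer x v) /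
        (ξ : Subgroup.centralizer ({x} : Set G) → ℂ) 1 := rfl

theorem centralScalar_mul (ξ : IrrCharacter (Subgroup.centralizer ({x} : Set G)))
    (v : Subgroup.zpowers x) (c : Subgroup.centralizer ({x} : Set G)) :
    (ξ : Subgroup.centralizer ({x} : Set G) → ℂ) (c * zpowersToCentralizer x v) =
      (centralScalar x ξ v : ℂ) * (ξ : Subgroup.centralizer ({x} : Set G) → ℂ) c := by
  have h := Char.central_mul ξ.2 (zpowersToCentralizer_mem_center v) c
  rw [centralScalar_apply, div_mul_eq_mul_div, eq_div_iff (Char.irr_degree_ne_zero ξ.2), h]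
  ring

theorem isCharacter_units_hom {H : Type*} [Group H] [Finite H] (f : H →* ℂˣ) :
    IsCharacter H (fun v => (f v : ℂ)) := by
  have : Fintype H := Fintype.ofFinite H
  have h := Char.isIrrCharacter_linear_mul (trivIrr H).2 f
  have := Char.isCharacter_of_isIrr h
  simpa [trivIrr, Pi.mul_def] using this

/-- Scalars of `p`-elements are congruent to one. -/
theorem res_centralScalar [M.IsPrime] (hM : IsPModular p M) (hx : ∃ k : ℕ, orderOf x = p ^ k)
    (ξ : IrrCharacter (Subgroup.centralizer ({x} : Set G))) (v : Subgroup.zpowers x) :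
    MemLocalRing M (centralScalar x ξ v : ℂ) ∧ res M (centralScalar x ξ v : ℂ) = 1 := by
  have : Fact p.Prime := ⟨hM.1⟩
  haveI := charP_resField hM
  obtain ⟨k, hk⟩ := hx
  have hpow : (centralScalar x ξ v : ℂ) ^ (p ^ k) = 1 := by
    rw [← Units.val_pow_eq_pow_val, ← map_pow]
    have h : v ^ (p ^ k) = 1 := by
      rw [← hk, ← Nat.card_zpowers]
      exact pow_card_eq_one'
    rw [h, map_one, Units.val_one]
  have hl : MemLocalRing M (centralScalar x ξ v : ℂ) := memLocalRing_of_isIntegral
    (IsIntegral.of_pow (pow_pos hM.1.pos k) (by rw [hpow]; exact isIntegral_one))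
  refine ⟨hl, sub_eq_zero.mp (eq_zero_of_pow_eq_zero (n := p ^ k) ?_)⟩
  rw [sub_pow_char_pow, one_pow, ← res_pow hl, hpow, res_one, sub_self]

variable (hM : IsPModular p M) (hx : ∃ k : ℕ, orderOf x = p ^ k) {B : Set (IrrCharacter G)}
  (hB : IsPBlock M B) {b : Set (IrrCharacter (Subgroup.centralizer ({x} : Set G)))}
  (hb : IsInducedBlock M (Subgroup.centralizer ({x} : Set G)) b B)
include hM hx hB hb

/-- The regular part of a local block part as a squared sum over the regular elements. -/
theorem sum_sq_columns [DecidablePred (· ∈ B)] [DecidablePred (· ∈ b)]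
    [DecidablePred fun s : Subgroup.centralizer ({x} : Set G) => IsPRegular p s] :
    ∑ χ : IrrCharacter G with χ ∈ B, ∑ ψ : IrrCharacter G with ψ ∈ B,
      (∑ s : Subgroup.centralizer ({x} : Set G) with IsPRegular p s,
        blockPart b (fun c : Subgroup.centralizer ({x} : Set G) => (χ : G → ℂ) (x * (c : G))) s *
          conj (blockPart b (fun c : Subgroup.centralizer ({x} : Set G) => (ψ : G → ℂ) (x * (c : G))) s)) *
      conj (∑ s : Subgroup.centralizer ({x} : Set G) with IsPRegular p s,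
        blockPart b (fun c : Subgroup.centralizer ({x} : Set G) => (χ : G → ℂ) (x * (c : G))) s *
          conj (blockPart b (fun c : Subgroup.centralizer ({x} : Set G) => (ψ : G → ℂ) (x * (c : G))) s)) =
      (Nat.card (Subgroup.centralizer ({x} : Set G)) : ℂ) ^ 2 * (blockRank p b : ℂ) := by
  classical
  have := isPrime_of_isPModular hM
  have hU := IsPBlock.isBlockUnion hb.1
  have hcard : (Nat.card (Subgroup.centralizer ({x} : Set G)) : ℂ) ≠ 0 := Nat.cast_ne_zero.mpr Nat.card_pos.ne'
  have hinner : ∀ ξ η : IrrCharacter (Subgroup.centralizer ({x} : Set G)),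
      (∑ s : (Subgroup.centralizer ({x} : Set G)) with IsPRegular p s, (ξ : (Subgroup.centralizer ({x} : Set G)) → ℂ) s * conj ((η : (Subgroup.centralizer ({x} : Set G)) → ℂ) s)) =
        (Nat.card (Subgroup.centralizer ({x} : Set G)) : ℂ) * classInner (regPart p (ξ : (Subgroup.centralizer ({x} : Set G)) → ℂ)) (η : (Subgroup.centralizer ({x} : Set G)) → ℂ) := fun ξ η => by
    rw [classInner, mul_inv_cancel_left₀ hcard, Finset.sum_filter]
    refine Finset.sum_congr rfl fun s _ => ?_
    split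
    next h => rw [regPart_of_regular h]
    next h => rw [regPart_of_singular h, zero_mul]
  rw [sum_gram_sq, Finset.sum_congr rfl fun s hs => Finset.sum_congr rfl fun t ht => by
      rw [sum_blockPart_mul_conj_blockPart hM hx hB hb hb.1 (Finset.mem_filter.mp hs).2
        (Finset.mem_filter.mp ht).2],
    ← sum_gram_sq, blockRank_eq_sum_classInner hM hU, Finset.mul_sum]
  simp only [and_self]
  refine Finset.sum_congr rfl fun ξ hξ => ?_
  simp only [hinner, map_mul, map_natCast]
  have hnorm : classInner (regPart p (ξ : (Subgroup.centralizer ({x} : Set G)) → ℂ)) (ξ : (Subgroup.centralizer ({x} : Set G)) → ℂ) =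
      ∑ η : IrrCharacter (Subgroup.centralizer ({x} : Set G)) with η ∈ b, classInner (regPart p (ξ : (Subgroup.centralizer ({x} : Set G)) → ℂ)) (η : (Subgroup.centralizer ({x} : Set G)) → ℂ) *
        conj (classInner (regPart p (ξ : (Subgroup.centralizer ({x} : Set G)) → ℂ)) (η : (Subgroup.centralizer ({x} : Set G)) → ℂ)) := by
    rw [← classInner_regPart_regPart]
    show classInner (regPart p (ξ : (Subgroup.centralizer ({x} : Set G)) → ℂ)) (regPart p (ξ : (Subgroup.centralizer ({x} : Set G)) → ℂ)) = _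
    conv_lhs => arg 2; rw [regPart_eq_sum hM hU (Finset.mem_filter.mp hξ).2]
    rw [Char.classInner_sum_right]
    exact Finset.sum_congr rfl fun η _ => by rw [Char.classInner_smul_right, mul_comm]
  rw [hnorm, Finset.mul_sum]
  refine Finset.sum_congr rfl fun η _ => ?_
  ring

/-- The contributions are the values at `x` of generalized characters of the powers of `x`, and
those of two height zero characters are units. -/
theorem exists_contribution_unit [DecidablePred fun s : Subgroup.centralizer ({x} : Set G) => IsPRegular p s]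
    (χ ψ : IrrCharacter G) :
    ∃ F : Subgroup.zpowers x → ℂ, IsGeneralizedCharacter (Subgroup.zpowers x) F ∧
      (Nat.card (Subgroup.centralizer ({x} : Set G)) : ℂ) * F ⟨x, Subgroup.mem_zpowers x⟩ =
        (p : ℂ) ^ blockDefect p b * ∑ s : Subgroup.centralizer ({x} : Set G) with IsPRegular p s,
          blockPart b (fun c : Subgroup.centralizer ({x} : Set G) => (χ : G → ℂ) (x * (c : G))) s *
          conj (blockPart b (fun c : Subgroup.centralizer ({x} : Set G) => (ψ : G → ℂ) (x * (c : G))) s) ∧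
      (χ = ψ → ∀ v, conj (F v) = F v) ∧
      (χ ∈ B → ψ ∈ B → blockHeight p B (χ : G → ℂ) = 0 → blockHeight p B (ψ : G → ℂ) = 0 →
        ∀ v, ¬ MemLocalIdeal M (F v)) := by
  classical
  have := isPrime_of_isPModular hM
  have hbb := hb.1
  have hcard : (Nat.card (Subgroup.centralizer ({x} : Set G)) : ℂ) ≠ 0 := Nat.cast_ne_zero.mpr Nat.card_pos.ne'
  choose mult hmult using fun η : IrrCharacter G =>
    Char.exists_multiplicities (Char.isCharacter_restrict (Subgroup.centralizer ({x} : Set G)) (Char.isCharacter_of_isIrr η.2))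
  set x₀ : Subgroup.zpowers x := ⟨x, Subgroup.mem_zpowers x⟩
  set lam : IrrCharacter (Subgroup.centralizer ({x} : Set G)) → Subgroup.zpowers x → ℂ := fun ξ v => (centralScalar x ξ v : ℂ)
  -- the local block parts
  have hpart : ∀ (η : IrrCharacter G) (s : (Subgroup.centralizer ({x} : Set G))),
      blockPart b (fun c : (Subgroup.centralizer ({x} : Set G)) => (η : G → ℂ) (x * (c : G))) s =
        ∑ ξ : IrrCharacter (Subgroup.centralizer ({x} : Set G)) with ξ ∈ b, (mult η ξ : ℂ) * lam ξ x₀ * (ξ : (Subgroup.centralizer ({x} : Set G)) → ℂ) s := by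
    intro η s
    have hθ : (fun c : (Subgroup.centralizer ({x} : Set G)) => (η : G → ℂ) (x * (c : G))) =
        ∑ ξ : IrrCharacter (Subgroup.centralizer ({x} : Set G)), ((mult η ξ : ℂ) * lam ξ x₀) • (ξ : (Subgroup.centralizer ({x} : Set G)) → ℂ) := by
      funext c
      have e : x * (c : G) = ((c * zpowersToCentralizer x x₀ : (Subgroup.centralizer ({x} : Set G))) : G) :=
        (Subgroup.mem_centralizer_singleton_iff.mp c.2).symm
      rw [e, show (η : G → ℂ) ((c * zpowersToCentralizer x x₀ : (Subgroup.centralizer ({x} : Set G))) : G) =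
        (fun h : (Subgroup.centralizer ({x} : Set G)) => (η : G → ℂ) h) (c * zpowersToCentralizer x x₀) from rfl, hmult η]
      simp only [Finset.sum_apply, Pi.smul_apply, smul_eq_mul]
      refine Finset.sum_congr rfl fun ξ _ => ?_
      rw [centralScalar_mul]
      ring
    rw [blockPart_eq_filter, hθ]
    refine Finset.sum_congr rfl fun ξ _ => ?_
    rw [Char.classInner_sum_smul_irr]
  -- the integral inner products
  have hν : ∀ ξ η : IrrCharacter (Subgroup.centralizer ({x} : Set G)), ∃ n : ℤ, ξ ∈ b →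
      (p : ℂ) ^ blockDefect p b * classInner (regPart p (ξ : (Subgroup.centralizer ({x} : Set G)) → ℂ)) (η : (Subgroup.centralizer ({x} : Set G)) → ℂ) = (n : ℂ) := fun ξ η => by
    by_cases hξ : ξ ∈ b
    · obtain ⟨n, hn, -⟩ := exists_row hM hbb hξ
      exact ⟨n η, fun _ => hn η⟩
    · exact ⟨0, fun h => absurd h hξ⟩
  choose ν hν using hν
  set F : Subgroup.zpowers x → ℂ := ∑ ξ : IrrCharacter (Subgroup.centralizer ({x} : Set G)) with ξ ∈ b, ∑ ξ' : IrrCharacter (Subgroup.centralizer ({x} : Set G)) with ξ' ∈ b,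
    ((((mult χ ξ * mult ψ ξ' : ℕ) : ℤ) * ν ξ ξ' : ℤ) : ℂ) • (lam ξ * fun v => conj (lam ξ' v)) with hF
  have hFv : ∀ v, F v = ∑ ξ : IrrCharacter (Subgroup.centralizer ({x} : Set G)) with ξ ∈ b, ∑ ξ' : IrrCharacter (Subgroup.centralizer ({x} : Set G)) with ξ' ∈ b,
      (mult χ ξ : ℂ) * (mult ψ ξ' : ℂ) * (ν ξ ξ' : ℂ) * (lam ξ v * conj (lam ξ' v)) := fun v => by
    simp only [hF, Finset.sum_apply, Pi.smul_apply, Pi.mul_apply, smul_eq_mul]
    push_cast
    rfl
  refine ⟨F, ?_, ?_, fun he v => ?_, fun hχ hψ hχ0 hψ0 v hv => ?_⟩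
  · refine Char.isGeneralized_sum _ _ fun ξ _ => Char.isGeneralized_sum _ _ fun ξ' _ => ?_
    exact Char.isGeneralized_intCast_smul (Char.isGeneralized_mul
      (Char.isGeneralized_of_isCharacter (isCharacter_units_hom _))
      (Char.isGeneralized_of_isCharacter (Char.isCharacter_conj (isCharacter_units_hom _)))) _
  · rw [hFv, Finset.mul_sum]
    simp only [hpart, map_sum, map_mul, map_natCast, Finset.sum_mul, Finset.mul_sum]
    conv_lhs => rw [Finset.sum_comm]
    conv_rhs => rw [Finset.sum_comm]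
    refine Finset.sum_congr rfl fun ξ' _ => ?_
    conv_rhs => rw [Finset.sum_comm]
    refine Finset.sum_congr rfl fun ξ hξ => ?_
    have h := hν ξ ξ' (Finset.mem_filter.mp hξ).2
    rw [classInner] at h
    have h1 : ∑ s : (Subgroup.centralizer ({x} : Set G)), regPart p (ξ : (Subgroup.centralizer ({x} : Set G)) → ℂ) s * conj ((ξ' : (Subgroup.centralizer ({x} : Set G)) → ℂ) s) =
        ∑ s : (Subgroup.centralizer ({x} : Set G)) with IsPRegular p s, (ξ : (Subgroup.centralizer ({x} : Set G)) → ℂ) s * conj ((ξ' : (Subgroup.centralizer ({x} : Set G)) → ℂ) s) := by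
      rw [Finset.sum_filter]
      refine Finset.sum_congr rfl fun s _ => ?_
      split
      next h => rw [regPart_of_regular h]
      next h => rw [regPart_of_singular h, zero_mul]
    rw [h1] at h
    rw [← h]
    simp only [Finset.mul_sum, Finset.sum_mul]
    refine Finset.sum_congr rfl fun s _ => ?_
    field_simp
  · subst he
    simp only [hFv, map_sum, map_mul, map_natCast, map_intCast, Complex.conj_conj]
    rw [Finset.sum_comm]
    refine Finset.sum_congr rfl fun ξ hξ => Finset.sum_congr rfl fun ξ' hξ' => ?_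
    have e : (ν ξ' ξ : ℂ) = (ν ξ ξ' : ℂ) := by
      rw [← hν ξ' ξ (Finset.mem_filter.mp hξ').2, ← hν ξ ξ' (Finset.mem_filter.mp hξ).2,
        classInner_regPart_comm]
    rw [e]
    ring
  -- a height zero character of `b`
  obtain ⟨η₀, hη₀, hη00⟩ := exists_blockHeight_eq_zero hM hbb
  have hl := fun ξ : IrrCharacter (Subgroup.centralizer ({x} : Set G)) => isClassFunction_dualReg (p := p) (irr_classFunction ξ)
  have hlr := fun ξ : IrrCharacter (Subgroup.centralizer ({x} : Set G)) => memLocalRing_dualReg (p := p) (M := M) ξ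
  set w := omega (η₀ : (Subgroup.centralizer ({x} : Set G)) → ℂ) (dualReg p (η₀ : (Subgroup.centralizer ({x} : Set G)) → ℂ))
  set u : IrrCharacter (Subgroup.centralizer ({x} : Set G)) → ℂ := fun ξ => omega (η₀ : (Subgroup.centralizer ({x} : Set G)) → ℂ) (dualReg p (ξ : (Subgroup.centralizer ({x} : Set G)) → ℂ))
  set r : IrrCharacter (Subgroup.centralizer ({x} : Set G)) → ℂ := fun ξ => (ξ : (Subgroup.centralizer ({x} : Set G)) → ℂ) 1 / (η₀ : (Subgroup.centralizer ({x} : Set G)) → ℂ) 1
  have hul : ∀ ξ, MemLocalRing M (u ξ) := fun ξ => memLocalRing_omega η₀ (hl ξ) (hlr ξ)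
  have hwl : MemLocalRing M w := hul η₀
  have hrl : ∀ ξ ∈ b, MemLocalRing M (r ξ) := fun ξ hξ => memLocalRing_degree_div hM hbb hη₀ hη00 hξ
  have hur : ∀ ξ ∈ b, res M (u ξ) = res M w * res M (r ξ) := fun ξ hξ => by
    rw [← res_mul hwl (hrl ξ hξ)]
    refine (res_eq_iff (hul ξ) (memLocalRing_mul hwl (hrl ξ hξ))).mpr ?_
    have e : u ξ = omega (ξ : (Subgroup.centralizer ({x} : Set G)) → ℂ) (dualReg p (η₀ : (Subgroup.centralizer ({x} : Set G)) → ℂ)) * r ξ := by
      simp only [u, r, omega_dualReg, classInner_regPart_comm η₀ ξ]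
      have := Char.irr_degree_ne_zero ξ.2
      field_simp
    rw [e, ← sub_mul]
    exact memLocalIdeal_mul_right (sub_mem_localIdeal_of_sameBlock
      (IsPBlock.sameBlock hbb hξ hη₀) (hl η₀) (hlr η₀)) (hrl ξ hξ)
  have hU : ∀ η : IrrCharacter G, η ∈ B → blockHeight p B (η : G → ℂ) = 0 →
      ¬ MemLocalIdeal M (∑ ξ : IrrCharacter (Subgroup.centralizer ({x} : Set G)) with ξ ∈ b, (mult η ξ : ℂ) * u ξ) := by
    intro η hη hη0 hcon
    refine not_memLocalIdeal_omega_dualReg hM hb.2.1 hη hη0 hη ?_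
    have hc := IsInducedBlock.omega_congr hb hη₀ hη (f := dualReg p (η : G → ℂ))
      (isClassFunction_dualReg (irr_classFunction η)) (memLocalRing_dualReg η)
    rw [dualReg_comp_subtype, hmult η] at hc
    have hlin : dualReg p (∑ ξ : IrrCharacter (Subgroup.centralizer ({x} : Set G)), (mult η ξ : ℂ) • (ξ : (Subgroup.centralizer ({x} : Set G)) → ℂ)) =
        ∑ ξ : IrrCharacter (Subgroup.centralizer ({x} : Set G)), (mult η ξ : ℂ) • dualReg p (ξ : (Subgroup.centralizer ({x} : Set G)) → ℂ) := by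
      funext h
      by_cases hh : IsPRegular p h
      · simp [dualReg, regPart_of_regular hh, Finset.sum_apply]
      · simp [dualReg, regPart_of_singular hh, Finset.sum_apply]
    rw [hlin, omega_sum] at hc
    refine (memLocalIdeal_iff_of_sub hc).mp ?_
    simp only [omega_smul]
    rw [← Finset.sum_subset (Finset.subset_univ (Finset.univ.filter (· ∈ b))) fun ξ _ hξ => by
      rw [omega_dualReg_eq_zero hM fun hs => hξ (Finset.mem_filter.mpr ⟨Finset.mem_univ _,
        IsPBlock.mem_of_sameBlock hbb hη₀ (SameBlock.symm hs)⟩), mul_zero]]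
    exact hcon
  -- the congruence
  set κ : ℂ := (Nat.card (Subgroup.centralizer ({x} : Set G)) : ℂ) / ((p : ℂ) ^ blockDefect p b * (η₀ : (Subgroup.centralizer ({x} : Set G)) → ℂ) 1) with hκ
  have hκW : ∀ ξ ∈ b, ∀ ξ' ∈ b, κ * (ν ξ ξ' : ℂ) =
      omega (ξ' : (Subgroup.centralizer ({x} : Set G)) → ℂ) (dualReg p (ξ : (Subgroup.centralizer ({x} : Set G)) → ℂ)) * r ξ' := fun ξ hξ ξ' _ => by
    rw [hκ, ← hν ξ ξ' hξ, omega_dualReg, classInner_regPart_comm ξ' ξ]
    simp only [r]
    have := Char.irr_degree_ne_zero ξ'.2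
    have := Char.irr_degree_ne_zero η₀.2
    have hp : (p : ℂ) ^ blockDefect p b ≠ 0 := pow_ne_zero _ (Nat.cast_ne_zero.mpr hM.1.ne_zero)
    field_simp
  have hterm : ∀ ξ ∈ b, ∀ ξ' ∈ b,
      MemLocalRing M ((mult χ ξ : ℂ) * (mult ψ ξ' : ℂ) * (κ * (ν ξ ξ' : ℂ)) *
        (lam ξ v * conj (lam ξ' v))) ∧
      res M ((mult χ ξ : ℂ) * (mult ψ ξ' : ℂ) * (κ * (ν ξ ξ' : ℂ)) * (lam ξ v * conj (lam ξ' v))) =
        res M ((mult χ ξ : ℂ) * u ξ) * res M ((mult ψ ξ' : ℂ) * r ξ') := by
    intro ξ hξ ξ' hξ'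
    obtain ⟨hl1, hr1⟩ := res_centralScalar hM hx ξ v
    have hl2' : conj (lam ξ' v) = lam ξ' v⁻¹ := by
      show conj (centralScalar x ξ' v : ℂ) = (centralScalar x ξ' v⁻¹ : ℂ)
      have hn : ‖(centralScalar x ξ' v : ℂ)‖ = 1 := Complex.norm_eq_one_of_pow_eq_one
        (n := Nat.card (Subgroup.zpowers x)) (by
          rw [← Units.val_pow_eq_pow_val, ← map_pow, pow_card_eq_one', map_one, Units.val_one])
        Nat.card_pos.ne'
      rw [map_inv, Units.val_inv_eq_inv_val, Complex.inv_eq_conj hn]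
    obtain ⟨hl2, hr2⟩ := res_centralScalar hM hx ξ' v⁻¹
    have hω := memLocalRing_omega (M := M) ξ' (hl ξ) (hlr ξ)
    have hml := memLocalRing_natCast (M := M) (mult χ ξ)
    have hml' := memLocalRing_natCast (M := M) (mult ψ ξ')
    have hA : MemLocalRing M ((mult χ ξ : ℂ) * omega (ξ' : (Subgroup.centralizer ({x} : Set G)) → ℂ) (dualReg p (ξ : (Subgroup.centralizer ({x} : Set G)) → ℂ))) :=
      memLocalRing_mul hml hω
    have hB' : MemLocalRing M ((mult ψ ξ' : ℂ) * r ξ') := memLocalRing_mul hml' (hrl ξ' hξ')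
    have e : (mult χ ξ : ℂ) * (mult ψ ξ' : ℂ) * (κ * (ν ξ ξ' : ℂ)) * (lam ξ v * conj (lam ξ' v)) =
        ((mult χ ξ : ℂ) * omega (ξ' : (Subgroup.centralizer ({x} : Set G)) → ℂ) (dualReg p (ξ : (Subgroup.centralizer ({x} : Set G)) → ℂ))) * ((mult ψ ξ' : ℂ) * r ξ') *
          (lam ξ v * lam ξ' v⁻¹) := by
      rw [hκW ξ hξ ξ' hξ', hl2']; ring
    rw [e]
    refine ⟨memLocalRing_mul (memLocalRing_mul hA hB') (memLocalRing_mul hl1 hl2), ?_⟩
    rw [res_mul (memLocalRing_mul hA hB') (memLocalRing_mul hl1 hl2), res_mul hl1 hl2, hr1, hr2,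
      one_mul, mul_one, res_mul hA hB', res_mul hml hω, res_mul hml (hul ξ)]
    congr 2
    exact (res_eq_iff hω (hul ξ)).mpr (sub_mem_localIdeal_of_sameBlock
      (IsPBlock.sameBlock hbb hξ' hη₀) (hl ξ) (hlr ξ))
  have hκl : MemLocalRing M κ := by
    obtain ⟨hle, -, -, -⟩ := blockDefect_le_and_degree hM hbb
    have he := (blockHeight_eq_zero_iff hM hbb hη₀).mp hη00
    have hd0 := (irr_degree_eq η₀).2.ne'
    have h := (unit_natCast_div hM (Nat.card_pos (α := Subgroup.centralizer ({x} : Set G))).ne'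
      (mul_ne_zero (pow_ne_zero (blockDefect p b) hM.1.ne_zero) hd0) (by
        rw [Nat.factorization_mul (pow_ne_zero _ hM.1.ne_zero) hd0, Finsupp.add_apply,
          Nat.Prime.factorization_pow hM.1, Finsupp.single_eq_same, he]
        omega)).1
    rw [hκ, (irr_degree_eq η₀).1]
    simpa using h
  have h0 : res M (κ * F v) = 0 := res_eq_zero (memLocalIdeal_mul_left hκl hv)
  rw [hFv, Finset.mul_sum] at h0
  simp only [Finset.mul_sum] at h0
  have hmv : ∀ ξ ξ' : IrrCharacter (Subgroup.centralizer ({x} : Set G)), κ * ((mult χ ξ : ℂ) * (mult ψ ξ' : ℂ) * (ν ξ ξ' : ℂ) *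
      (lam ξ v * conj (lam ξ' v))) =
      (mult χ ξ : ℂ) * (mult ψ ξ' : ℂ) * (κ * (ν ξ ξ' : ℂ)) * (lam ξ v * conj (lam ξ' v)) :=
    fun ξ ξ' => by ring
  simp only [hmv] at h0
  rw [res_sum _ _ fun ξ hξ => memLocalRing_sum _ _ fun ξ' hξ' =>
      (hterm ξ (Finset.mem_filter.mp hξ).2 ξ' (Finset.mem_filter.mp hξ').2).1,
    Finset.sum_congr rfl fun ξ hξ => by
      rw [res_sum _ _ fun ξ' hξ' =>
          (hterm ξ (Finset.mem_filter.mp hξ).2 ξ' (Finset.mem_filter.mp hξ').2).1,
        Finset.sum_congr rfl fun ξ' hξ' =>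
          (hterm ξ (Finset.mem_filter.mp hξ).2 ξ' (Finset.mem_filter.mp hξ').2).2,
        ← Finset.mul_sum],
    ← Finset.sum_mul, mul_eq_zero] at h0
  rcases h0 with h0 | h0
  · refine hU χ hχ hχ0 ((res_eq_zero_iff (memLocalRing_sum _ _ fun ξ _ =>
      memLocalRing_mul (memLocalRing_natCast _) (hul ξ))).mp ?_)
    rw [res_sum _ _ fun ξ _ => memLocalRing_mul (memLocalRing_natCast _) (hul ξ)]
    exact h0
  · refine hU ψ hψ hψ0 ((res_eq_zero_iff (memLocalRing_sum _ _ fun ξ _ =>
      memLocalRing_mul (memLocalRing_natCast _) (hul ξ))).mp ?_)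
    rw [res_sum _ _ fun ξ _ => memLocalRing_mul (memLocalRing_natCast _) (hul ξ),
      Finset.sum_congr rfl fun ξ hξ => by
        rw [res_mul (memLocalRing_natCast _) (hul ξ), hur ξ (Finset.mem_filter.mp hξ).2,
          mul_left_comm, ← res_mul (memLocalRing_natCast _) (hrl ξ (Finset.mem_filter.mp hξ).2)],
      ← Finset.mul_sum, h0, mul_zero]

/-- The contributions of two height zero characters do not vanish. -/
theorem exists_contribution [DecidablePred fun s : Subgroup.centralizer ({x} : Set G) => IsPRegular p s]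
    (χ ψ : IrrCharacter G) :
    ∃ F : Subgroup.zpowers x → ℂ, IsGeneralizedCharacter (Subgroup.zpowers x) F ∧
      (Nat.card (Subgroup.centralizer ({x} : Set G)) : ℂ) * F ⟨x, Subgroup.mem_zpowers x⟩ =
        (p : ℂ) ^ blockDefect p b * ∑ s : Subgroup.centralizer ({x} : Set G) with IsPRegular p s,
          blockPart b (fun c : Subgroup.centralizer ({x} : Set G) => (χ : G → ℂ) (x * (c : G))) s *
          conj (blockPart b (fun c : Subgroup.centralizer ({x} : Set G) => (ψ : G → ℂ) (x * (c : G))) s) ∧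
      (χ ∈ B → ψ ∈ B → blockHeight p B (χ : G → ℂ) = 0 → blockHeight p B (ψ : G → ℂ) = 0 →
        ∀ v, F v ≠ 0) := by
  have := isPrime_of_isPModular hM
  obtain ⟨F, h1, h2, -, h4⟩ := exists_contribution_unit hM hx hB hb χ ψ
  exact ⟨F, h1, h2, fun hχ hψ hχ0 hψ0 v hv => h4 hχ hψ hχ0 hψ0 v (by rw [hv]; exact memLocalIdeal_zero)⟩

end CfsgLib.Blocks
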