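import Cfsg.Agent.Lib.Blocks.DefectClasses
import Mathlib.LinearAlgebra.Matrix.Rank

/-!
# Pairs of class elements in one coset of a Sylow subgroup, and ranks under field extensions
-/

set_option autoImplicit false
set_option linter.unusedSectionVars false

namespace CfsgLib.Blocks

open Cfsg
open scoped ComplexConjugate CfsgLib.Char

/-- The rank of a square matrix does not change under a field extension. -/
theorem rank_map_of_field {K L ι : Type*} [Field K] [Field L] [Fintype ι] [DecidableEq ι]
    (f : K →+* L) (A : Matrix ι ι K) : (A.map f).rank = A.rank := by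
  classical
  obtain ⟨V, U, e, hV, hU, h⟩ := A.exists_rank_normal_form
  have hV' : IsUnit (V.map f).det := by
    rw [← RingHom.mapMatrix_apply, ← RingHom.map_det]
    exact ((Matrix.isUnit_iff_isUnit_det _).mp hV).map f
  have hU' : IsUnit (U.map f).det := by
    rw [← RingHom.mapMatrix_apply, ← RingHom.map_det]
    exact ((Matrix.isUnit_iff_isUnit_det _).mp hU).map f
  set w : ι → L := fun i => Sum.elim (fun _ => (1 : L)) (fun _ => 0) (e i)
  have hd : V.map f * A.map f * U.map f = Matrix.diagonal w := by
    rw [← Matrix.map_mul, ← Matrix.map_mul, h]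
    ext i j
    rcases eq_or_ne i j with rfl | hne
    · rcases hi : e i with a | a <;> simp [w, hi]
    · have := e.injective.ne hne
      rcases hi : e i with a | a <;> rcases hj : e j with b | b <;>
        simp_all
  rw [← Matrix.rank_mul_eq_right_of_isUnit_det (V.map f) (A.map f) hV',
    ← Matrix.rank_mul_eq_left_of_isUnit_det (U.map f) (V.map f * A.map f) hU', hd,
    Matrix.rank_diagonal]
  have hfin : {i // w i ≠ 0} ≃ Fin A.rank :=
    { toFun := fun i => match hi : e i.1 with
        | Sum.inl a => a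
        | Sum.inr a => absurd (by simp [w, hi]) i.2
      invFun := fun a => ⟨e.symm (Sum.inl a), by simp [w]⟩
      left_inv := fun i => by
        obtain ⟨i, hi⟩ := i
        apply Subtype.ext
        rcases h' : e i with a | a
        · simp only []
          split
          next b hb => rw [e.symm_apply_eq, hb]
          next b hb => simp [h'] at hb
        · simp [w, h'] at hi
      right_inv := fun a => by
        simp only []
        split
        next b hb => simpa using hb.symm
        next b hb => simp at hb }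
  simpa using Fintype.card_congr hfin

variable {p : ℕ} {M : Ideal AlgInt} {G : Type*} [Group G] [Fintype G]

/-- The idempotent at a regular element as a combination of the values of the characters of the
block, with the multiplicities of the trivial character on the given Sylow subgroup. -/
theorem index_mul_blockCoeff (hM : IsPModular p M) {B : Set (IrrCharacter G)} (hB : IsPBlock M B)
    [DecidablePred (· ∈ B)] (P : Sylow p G) [Fintype (P : Subgroup G)] {y : G} (hy : IsPRegular p y) :
    ((P : Subgroup G).index : ℂ) * blockCoeff B y = ∑ χ : IrrCharacter G with χ ∈ B,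
      classInner (fun v : (P : Subgroup G) => (χ : G → ℂ) v) 1 * conj ((χ : G → ℂ) y) := by
  classical
  have : Fact p.Prime := ⟨hM.1⟩
  have := isPrime_of_isPModular hM
  have hidx : (Nat.card G : ℂ) = Nat.card (P : Subgroup G) * (P : Subgroup G).index := by
    rw [← (P : Subgroup G).card_mul_index, Nat.cast_mul]
  have hH : (Nat.card (P : Subgroup G) : ℂ) ≠ 0 := Nat.cast_ne_zero.mpr Nat.card_pos.ne'
  have hi : ((P : Subgroup G).index : ℂ) ≠ 0 := Nat.cast_ne_zero.mpr (P : Subgroup G).index_ne_zero_of_finite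
  have hreg : ∑ v : (P : Subgroup G), ∑ χ with χ ∈ B, (χ : G → ℂ) v * conj ((χ : G → ℂ) y) =
      ∑ χ with χ ∈ B, (χ : G → ℂ) 1 * conj ((χ : G → ℂ) y) := by
    rw [Finset.sum_eq_single_of_mem (1 : (P : Subgroup G)) (Finset.mem_univ _)]
    · simp
    intro v _ hv
    have hvs : ¬ IsPRegular p (v : G) := by
      rw [IsPRegular, not_not, Subgroup.orderOf_coe]
      obtain ⟨k, hk⟩ := IsPGroup.iff_orderOf.mp P.2 v
      rw [hk]
      exact dvd_pow_self p fun h0 => hv (orderOf_eq_one_iff.mp (by rw [hk, h0, pow_zero]))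
    have h := sum_block_mul_conj_eq_zero hM (S := {χ | χ ∈ B})
      (by simpa using IsPBlock.isBlockUnion hB) hy hvs
    have h' := congrArg conj h
    rw [map_sum, map_zero] at h'
    simpa [mul_comm] using h'
  rw [blockCoeff, sum_mem_eq_filter, ← hreg, Finset.sum_comm, Finset.mul_sum, Finset.mul_sum, hidx]
  refine Finset.sum_congr rfl fun χ _ => ?_
  simp only [classInner, Pi.one_apply, map_one, mul_one, Finset.sum_mul, Finset.mul_sum]
  refine Finset.sum_congr rfl fun v _ => ?_
  field_simp

/-- The pairs `(y, z)` of elements of the classes of `a` and `b` with `z * y⁻¹` in the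
subgroup, counted with characters. -/
theorem card_pairs_subgroup (P : Subgroup G) [Fintype P] (a b : G) :
    (Nat.card {yz : G × G // IsConj a yz.1 ∧ IsConj b yz.2 ∧ yz.2 * yz.1⁻¹ ∈ P} : ℂ) =
      ((Subgroup.centralizer ({a} : Set G)).index : ℂ) / (P.index : ℂ) *
        ∑ χ : IrrCharacter G, centralChar (χ : G → ℂ) b *
          (classInner (fun v : P => (χ : G → ℂ) v) 1 * conj ((χ : G → ℂ) a)) := by
  classical
  set Ca := Subgroup.centralizer ({a} : Set G)
  have hG0 : (Nat.card G : ℂ) ≠ 0 := Nat.cast_ne_zero.mpr Nat.card_pos.ne'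
  have hH0 : (Nat.card P : ℂ) ≠ 0 := Nat.cast_ne_zero.mpr Nat.card_pos.ne'
  have hC0 : (Nat.card Ca : ℂ) ≠ 0 := Nat.cast_ne_zero.mpr Nat.card_pos.ne'
  have hi : (P.index : ℂ) ≠ 0 := Nat.cast_ne_zero.mpr P.index_ne_zero_of_finite
  -- summation over the group instead of the class
  have hclass : ∀ F : G → ℂ, (Nat.card Ca : ℂ) * ∑ y : G with IsConj a y, F y =
      ∑ w : G, F (w * a * w⁻¹) := by
    intro F
    rw [← Finset.sum_fiberwise_of_maps_to (t := Finset.univ.filter (IsConj a))
      (g := fun w : G => w * a * w⁻¹) (s := Finset.univ) (f := fun w : G => F (w * a * w⁻¹))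
      (fun w _ => Finset.mem_filter.mpr ⟨Finset.mem_univ _, isConj_iff.mpr ⟨w, rfl⟩⟩), Finset.mul_sum]
    refine Finset.sum_congr rfl fun y hy => ?_
    obtain ⟨k, rfl⟩ := isConj_iff.mp (Finset.mem_filter.mp hy).2
    rw [Finset.sum_congr rfl (g := fun _ => F (k * a * k⁻¹)) fun w hw =>
      congrArg F (Finset.mem_filter.mp hw).2, Finset.sum_const, nsmul_eq_mul,
      ← Fintype.card_subtype, ← Nat.card_eq_fintype_card]
    congr 2
    refine Nat.card_congr
      { toFun := fun c => ⟨k * (c : G), ?_⟩
        invFun := fun w => ⟨k⁻¹ * w.1, ?_⟩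
        left_inv := fun c => Subtype.ext (inv_mul_cancel_left _ _)
        right_inv := fun w => Subtype.ext (mul_inv_cancel_left _ _) }
    · have hc := Subgroup.mem_centralizer_singleton_iff.mp c.2
      calc k * (c : G) * a * (k * (c : G))⁻¹ = k * ((c : G) * a) * (c : G)⁻¹ * k⁻¹ := by group
        _ = k * a * k⁻¹ := by rw [hc]; group
    · have hw : w.1 * a * w.1⁻¹ = k * a * k⁻¹ := w.2
      refine Subgroup.mem_centralizer_singleton_iff.mpr ?_
      calc k⁻¹ * w.1 * a = k⁻¹ * (w.1 * a * w.1⁻¹) * w.1 := by group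
        _ = a * (k⁻¹ * w.1) := by rw [hw]; group
  have hcount : (Nat.card {yz : G × G // IsConj a yz.1 ∧ IsConj b yz.2 ∧ yz.2 * yz.1⁻¹ ∈ P} : ℂ) =
      ∑ y : G with IsConj a y, ∑ v : P, classInd b ((v : G) * y) := by
    simp only [classInd, Finset.sum_boole]
    rw [← Nat.cast_sum, Nat.cast_inj, Nat.card_eq_fintype_card, Fintype.card_subtype,
      ← Finset.card_sigma]
    refine Finset.card_bij (fun yz h => ⟨yz.1, ⟨yz.2 * yz.1⁻¹, (Finset.mem_filter.mp h).2.2.2⟩⟩)
      (fun yz h => ?_) (fun u hu w hw h => ?_) fun s hs => ?_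
    · simp only [Finset.mem_filter, Finset.mem_univ, true_and] at h
      exact Finset.mem_sigma.mpr ⟨by simpa using h.1, by simpa using h.2.1⟩
    · simp only [Sigma.mk.injEq, heq_eq_eq, Subtype.mk.injEq] at h
      obtain ⟨h1, h2⟩ := h
      rw [h1] at h2
      exact Prod.ext h1 (mul_right_cancel h2)
    · simp only [Finset.mem_sigma, Finset.mem_filter, Finset.mem_univ, true_and] at hs
      exact ⟨(s.1, (s.2 : G) * s.1), Finset.mem_filter.mpr ⟨Finset.mem_univ _, hs.1, hs.2, by simp⟩,
        Sigma.ext rfl (by simp)⟩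
  have hexp : ∀ g, classInd b g = (Nat.card G : ℂ)⁻¹ * ∑ χ : IrrCharacter G,
      centralChar (χ : G → ℂ) b * (χ : G → ℂ) 1 * conj ((χ : G → ℂ) g) := fun g => by
    conv_lhs => rw [← ofOmega_omega (isClassFunction_classInd b)]
    simp only [ofOmega, omega_classInd]
  have hterm : ∀ χ : IrrCharacter G,
      ∑ v : P, ∑ y : G with IsConj a y, conj ((χ : G → ℂ) ((v : G) * y)) =
        (Nat.card G : ℂ) / Nat.card Ca * (Nat.card P : ℂ) *
          classInner (fun v : P => (χ : G → ℂ) v) 1 * conj ((χ : G → ℂ) a) / (χ : G → ℂ) 1 := by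
    intro χ
    obtain ⟨m, hm⟩ := Char.exists_nat_classInner
      (Char.isCharacter_restrict P (Char.isCharacter_of_isIrr χ.2)) Char.isCharacter_one
    have hsum : ∑ v : P, conj ((χ : G → ℂ) v) = (Nat.card P : ℂ) * m := by
      have h := congrArg conj hm
      simp only [classInner, map_one, mul_one, map_mul, map_inv₀, map_natCast, map_sum] at h
      rw [← h, mul_inv_cancel_left₀ hH0]
    rw [show classInner (fun v : P => (χ : G → ℂ) v) 1 = (m : ℂ) from hm,
      mul_assoc ((Nat.card G : ℂ) / Nat.card Ca), ← hsum,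
      Finset.mul_sum, Finset.sum_mul, Finset.sum_div]
    refine Finset.sum_congr rfl fun v _ => mul_left_cancel₀ hC0 ?_
    rw [hclass, ← map_sum, Fintype.sum_congr _ (fun y => (χ : G → ℂ) (y * a * y⁻¹ * (v : G))) fun y => ?_,
      sum_conj_mul_irr, (irr_degree_eq χ).1, map_div₀, map_mul, map_mul, map_natCast, map_natCast]
    · field_simp
    · rw [← irr_classFunction χ ((v : G) * (y * a * y⁻¹)) ((v : G)⁻¹)]
      group
  rw [hcount, Finset.sum_comm]
  simp only [hexp, ← Finset.mul_sum]
  rw [Finset.sum_congr rfl fun v _ => Finset.sum_comm (s := Finset.univ.filter (IsConj a)),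
    Finset.sum_comm, Finset.mul_sum, Finset.mul_sum]
  refine Finset.sum_congr rfl fun χ _ => ?_
  simp only [← Finset.mul_sum]
  rw [hterm χ]
  have hχ := Char.irr_degree_ne_zero χ.2
  have hG : (Nat.card G : ℂ) = Nat.card Ca * Ca.index := by rw [← Ca.card_mul_index, Nat.cast_mul]
  have hG' : (Nat.card G : ℂ) = Nat.card P * P.index := by rw [← P.card_mul_index, Nat.cast_mul]
  field_simp
  linear_combination (centralChar (χ : G → ℂ) b * classInner (fun v : P => (χ : G → ℂ) v) 1 *
    conj ((χ : G → ℂ) a)) * (hG'.symm.trans hG)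

/-- The pairs `(y, z)` of elements of the classes of `a` and `b` with `z * y⁻¹` in the
Sylow subgroup, counted with characters. -/
theorem card_pairs_coset (P : Sylow p G) [Fintype (P : Subgroup G)] (a b : G) :
    (Nat.card {yz : G × G // IsConj a yz.1 ∧ IsConj b yz.2 ∧ yz.2 * yz.1⁻¹ ∈ (P : Subgroup G)} : ℂ) =
      ((Subgroup.centralizer ({a} : Set G)).index : ℂ) / ((P : Subgroup G).index : ℂ) *
        ∑ χ : IrrCharacter G, centralChar (χ : G → ℂ) b *
          (classInner (fun v : (P : Subgroup G) => (χ : G → ℂ) v) 1 * conj ((χ : G → ℂ) a)) :=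
  card_pairs_subgroup (P : Subgroup G) a b

end CfsgLib.Blocks
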